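import Cfsg.Agent.Lib.Recog.SpSixThree.Defs
import Mathlib.GroupTheory.Sylow

/-!
# The local data from the hypotheses of the statement
-/

set_option autoImplicit false

namespace CfsgLib.Recog.SpSixThree

open Subgroup

theorem center_map_equiv {A C : Type*} [Group A] [Group C] (e : A ≃* C) :
    (Subgroup.center A).map e.toMonoidHom = Subgroup.center C := by
  ext x
  constructor
  · rintro ⟨y, hy, rfl⟩
    exact Subgroup.mem_center_iff.2 fun g => e.symm.injective (by
      simp [Subgroup.mem_center_iff.1 hy (e.symm g)])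
  · intro hx
    exact ⟨e.symm x, Subgroup.mem_center_iff.2 fun g => e.injective (by
      simp [Subgroup.mem_center_iff.1 hx (e g)]), e.apply_symm_apply x⟩

theorem special_of_equiv {p : ℕ} {A C : Type*} [Group A] [Group C] (e : A ≃* C)
    (h : Cfsg.IsSpecial p A) : Cfsg.IsSpecial p C := by
  have hF : (frattini A).map e.toMonoidHom = frattini C := by
    refine le_antisymm (Subgroup.map_le_iff_le_comap.2
      (frattini_le_comap_frattini_of_surjective e.surjective)) fun x hx => ?_
    exact ⟨e.symm x, frattini_le_comap_frattini_of_surjective (φ := e.symm.toMonoidHom)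
      e.symm.surjective hx, e.apply_symm_apply x⟩
  refine ⟨h.1.of_equiv e, ?_, ?_⟩
  · rw [← hF, h.2.1, center_map_equiv]
  · rw [← center_map_equiv e, ← h.2.2, commutator_def, commutator_def, Subgroup.map_commutator,
      Subgroup.map_top_of_surjective _ e.surjective]

/-- The hypotheses give the local data. -/
theorem exists_base {G : Type*} [Group G]
    (a : G) (ha : orderOf a = 3) (C : Subgroup G) (hC : C = Subgroup.centralizer ({a} : Set G))
    (hR : Cfsg.IsExtraspecial 3 (Cfsg.pCore 3 C)) (hRcard : Nat.card (Cfsg.pCore 3 C) = 27)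
    (hRexp : ∀ r ∈ Cfsg.pCore 3 C, r ^ 3 = 1) [(Cfsg.pCore 3 C).Normal]
    (e : C ⧸ Cfsg.pCore 3 C ≃* Matrix.SpecialLinearGroup (Fin 2) (ZMod 3))
    (J : Subgroup G) (hJC : J ≤ C) (hJcomm : IsMulCommutative J) (hJexp : ∀ j ∈ J, j ^ 3 = 1)
    (hJcard : Nat.card J = 27)
    (hJsig : ∀ K : Subgroup G, (Nat.card K).Coprime 3 →
      (∀ j ∈ J, K.map (MulAut.conj j).toMonoidHom = K) → K = ⊥) :
    ∃ B : Base G, B.a = a ∧ B.J = J := by
  subst hC
  let Rc := Cfsg.pCore 3 ↥(Subgroup.centralizer ({a} : Set G))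
  let eR : ↥Rc ≃* ↥(Rc.map (Subgroup.centralizer ({a} : Set G)).subtype) :=
    Rc.equivMapOfInjective _ (Subgroup.subtype_injective _)
  let sl : ↥(Subgroup.centralizer ({a} : Set G)) →* Matrix.SpecialLinearGroup (Fin 2) (ZMod 3) :=
    e.toMonoidHom.comp (QuotientGroup.mk' Rc)
  refine ⟨{
    a := a
    ha := ha
    R := Rc.map (Subgroup.centralizer ({a} : Set G)).subtype
    R_ext := ?_
    R_card := (Subgroup.card_map_of_injective (Subgroup.subtype_injective _)).trans hRcard
    R_exp := ?_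
    sl := sl
    sl_surj := e.surjective.comp (QuotientGroup.mk'_surjective _)
    sl_ker := ?_
    J := J
    J_le := hJC
    J_comm := fun x hx y hy => congrArg Subtype.val (hJcomm.is_comm.comm ⟨x, hx⟩ ⟨y, hy⟩)
    J_exp := hJexp
    J_card := hJcard
    sig := fun K hK hJK => hJsig K hK fun j hj => ?_ }, rfl, rfl⟩
  · exact ⟨special_of_equiv eR hR.1, (Nat.card_congr (Subgroup.centerCongr eR).toEquiv).symm.trans hR.2⟩
  · rintro _ ⟨r, hr, rfl⟩
    rw [← map_pow, hRexp r hr, map_one]
  · congr 1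
    ext x
    rw [MonoidHom.mem_ker]
    exact e.map_eq_one_iff.trans (QuotientGroup.eq_one_iff x)
  · refine le_antisymm ?_ fun x hx => ?_
    · rintro _ ⟨k, hk, rfl⟩
      exact (Subgroup.mem_normalizer_iff.1 (hJK hj) k).1 hk
    · exact ⟨j⁻¹ * x * j, (Subgroup.mem_normalizer_iff''.1 (hJK hj) x).1 hx, by simp [mul_assoc]⟩

end CfsgLib.Recog.SpSixThree
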