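import Cfsg.Agent.Lib.Recog.SpSixThree.Sylow

/-!
# The action of `M = N(J)` on `J`
-/

set_option autoImplicit false
set_option linter.unusedSectionVars false

namespace CfsgLib.Recog.SpSixThree

open Subgroup
open scoped commutatorElement

namespace Base

variable {G : Type*} [Group G] [Finite G] (B : Base G)

/-- The action of `M` on `J`. -/
def act : ↥B.M →* MulAut ↥B.J := B.J.normalizerMonoidHom

/-- The group induced on `J`. -/
def X : Subgroup (MulAut ↥B.J) := B.act.range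

/-- `a` as an element of `J`. -/
def aJ : ↥B.J := ⟨B.a, B.a_mem_J⟩

theorem act_apply (g : ↥B.M) (x : ↥B.J) : ((B.act g x : ↥B.J) : G) = (g : G) * x * (g : G)⁻¹ := rfl

theorem act_eq_one {g : ↥B.M} (h : B.act g = 1) : (g : G) ∈ B.J := by
  rw [← B.cent_J]
  intro x hx
  have h1 : (g : G) * x * (g : G)⁻¹ = x := by
    have := B.act_apply g ⟨x, hx⟩
    rw [h] at this
    exact this.symm
  exact (mul_inv_eq_iff_eq_mul.1 h1).symm

theorem act_of_J {g : ↥B.M} (h : (g : G) ∈ B.J) : B.act g = 1 := by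
  refine MulEquiv.ext fun x => Subtype.ext ?_
  rw [B.act_apply, B.J_comm _ h _ x.2, mul_inv_cancel_right]
  rfl

theorem act_ker : B.act.ker = B.J.subgroupOf B.M :=
  Subgroup.ext fun _ => ⟨B.act_eq_one, B.act_of_J⟩

theorem aJ_ne_one : B.aJ ≠ 1 := fun h => B.a_ne_one (congrArg Subtype.val h)

theorem aJ_ne_inv : B.aJ ≠ (B.aJ)⁻¹ := fun h => by
  have h1 : B.a * B.a = 1 := mul_eq_one_iff_eq_inv.2 (congrArg Subtype.val h)
  have h3 := B.a_three
  rw [pow_succ, pow_two, h1, one_mul] at h3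
  exact B.a_ne_one h3

theorem exists_y : ∃ y : ↥B.M, (y : G) ∈ B.R ∧ (y : G) ∉ B.J := by
  have hne : ¬ B.R ≤ B.J := fun h => B.R_not_comm fun x hx z hz => B.J_comm x (h hx) z (h hz)
  obtain ⟨y, hy, hyJ⟩ := SetLike.not_le_iff_exists.1 hne
  exact ⟨⟨y, B.P0_le_M (B.R_le_P0 hy)⟩, hy, hyJ⟩

/-- An element of `C` fixing two independent elements of `R/⟨a⟩` lies in `R`. -/
theorem mem_R_of_fix {g y : G} (hg : g ∈ B.C) (hy : y ∈ B.R) (hyJ : y ∉ B.J)
    (h0 : ∀ v ∈ B.J ⊓ B.R, g * v * g⁻¹ * v⁻¹ ∈ Subgroup.zpowers B.a)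
    (h1 : g * y * g⁻¹ * y⁻¹ ∈ Subgroup.zpowers B.a) : g ∈ B.R := by
  let F : Subgroup G :=
    { carrier := {v | v ∈ B.R ∧ g * v * g⁻¹ * v⁻¹ ∈ Subgroup.zpowers B.a}
      one_mem' := ⟨one_mem _, by simp⟩
      mul_mem' := fun {p q} hp hq => ⟨mul_mem hp.1 hq.1, by
        obtain ⟨n, hn⟩ := mem_zpowers_iff.1 hq.2
        have hcz : p * B.a ^ n = B.a ^ n * p :=
          ((Commute.zpow_left (B.comm_a (B.R_le hp.1)).symm n).eq).symm
        rw [show g * (p * q) * g⁻¹ * (p * q)⁻¹ =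
          (g * p * g⁻¹ * p⁻¹) * (p * (g * q * g⁻¹ * q⁻¹) * p⁻¹) by group, ← hn, hcz,
          mul_inv_cancel_right]
        exact mul_mem hp.2 (zpow_mem_zpowers _ _)⟩
      inv_mem' := fun {p} hp => ⟨inv_mem hp.1, by
        obtain ⟨n, hn⟩ := mem_zpowers_iff.1 hp.2
        have hcz : p⁻¹ * B.a ^ (-n) = B.a ^ (-n) * p⁻¹ :=
          ((Commute.zpow_left (B.comm_a (inv_mem (B.R_le hp.1))).symm (-n)).eq).symm
        rw [show g * p⁻¹ * g⁻¹ * p⁻¹⁻¹ = p⁻¹ * (g * p * g⁻¹ * p⁻¹)⁻¹ * p by group, ← hn,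
          ← zpow_neg, hcz, mul_assoc, inv_mul_cancel, mul_one]
        exact zpow_mem_zpowers _ _⟩ }
  have hJF : B.J ⊓ B.R ≤ F := fun v hv => ⟨hv.2, h0 v hv⟩
  have hyF : y ∈ F := ⟨hy, h1⟩
  have hFR : F = B.R := by
    refine eq_of_le_of_card_ge (fun v hv => hv.1) ?_
    have hlt : 9 < Nat.card F := by
      rw [← B.card_J_inf_R]
      refine lt_of_le_of_ne (Subgroup.card_le_of_le hJF) fun h => hyJ ?_
      exact ((eq_of_le_of_card_ge hJF h.ge).ge hyF).1
    obtain ⟨k, hk, he⟩ := (Nat.dvd_prime_pow Nat.prime_three).1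
      (show Nat.card F ∣ 3 ^ 3 from
        (Subgroup.card_dvd_of_le (fun v hv => hv.1 : F ≤ B.R)).trans (by rw [B.R_card]; norm_num))
    rw [he] at hlt ⊢
    rw [B.R_card]
    interval_cases k <;> omega
  exact B.nat hg fun v hv => (hFR.ge hv).2

/-- The fixed points of `y` on `J` are the powers of `a`. -/
theorem fix_y {x y : G} (hy : y ∈ B.R) (hyJ : y ∉ B.J) (hx : x ∈ B.J) (h : y * x * y⁻¹ = x) :
    x ∈ Subgroup.zpowers B.a := by
  have hxR : x ∈ B.R := by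
    refine B.mem_R_of_fix (B.J_le hx) hy hyJ (fun v hv => ?_) ?_
    · rw [B.J_comm x hx v hv.1, mul_inv_cancel_right, mul_inv_cancel]
      exact one_mem _
    · rw [← mul_inv_eq_iff_eq_mul.1 h, mul_inv_cancel_right, mul_inv_cancel]
      exact one_mem _
  rw [← B.R_center]
  refine ⟨hxR, ?_⟩
  have hle : B.R ≤ Subgroup.centralizer ({x} : Set G) := by
    have hlt : 9 < Nat.card ↥(B.R ⊓ Subgroup.centralizer ({x} : Set G)) := by
      rw [← B.card_J_inf_R]
      have hJ : B.J ⊓ B.R ≤ B.R ⊓ Subgroup.centralizer ({x} : Set G) :=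
        le_inf inf_le_right fun v hv => mem_centralizer_singleton_iff.2 (B.J_comm v hv.1 x hx)
      refine lt_of_le_of_ne (Subgroup.card_le_of_le hJ) fun h9 => hyJ ?_
      exact ((eq_of_le_of_card_ge hJ h9.ge).ge
        ⟨hy, mem_centralizer_singleton_iff.2 (mul_inv_eq_iff_eq_mul.1 h)⟩).1
    obtain ⟨k, hk, he⟩ := (Nat.dvd_prime_pow Nat.prime_three).1
      (show Nat.card ↥(B.R ⊓ Subgroup.centralizer ({x} : Set G)) ∣ 3 ^ 3 from
        (Subgroup.card_dvd_of_le inf_le_left).trans (by rw [B.R_card]; norm_num))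
    refine inf_eq_left.1 (eq_of_le_of_card_ge inf_le_left ?_)
    rw [he] at hlt ⊢
    rw [B.R_card]
    interval_cases k <;> omega
  exact Subgroup.mem_centralizer_iff.2 fun r hr => mem_centralizer_singleton_iff.1 (hle hr)

theorem fix_yJ {y : ↥B.M} (hy : (y : G) ∈ B.R) (hyJ : (y : G) ∉ B.J) {x : ↥B.J}
    (h : B.act y x = x) : x = 1 ∨ x = B.aJ ∨ x = (B.aJ)⁻¹ := by
  have h1 := B.fix_y hy hyJ x.2 ((B.act_apply y x).symm.trans (congrArg Subtype.val h))
  rcases B.mem_zpowers_a h1 with h2 | h2 | h2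
  · exact Or.inl (Subtype.ext h2)
  · exact Or.inr (Or.inl (Subtype.ext h2))
  · exact Or.inr (Or.inr (Subtype.ext h2))

theorem act_y_a {y : ↥B.M} (hy : (y : G) ∈ B.R) : B.act y B.aJ = B.aJ :=
  Subtype.ext (by rw [B.act_apply]; exact mul_inv_eq_iff_eq_mul.2 (B.comm_a (B.R_le hy)))

theorem act_y_three {y : ↥B.M} (hy : (y : G) ∈ B.R) : B.act y ^ 3 = 1 := by
  rw [← map_pow]
  exact B.act_of_J (by rw [SubgroupClass.coe_pow, B.R_exp _ hy]; exact one_mem _)

theorem act_y_ne {y : ↥B.M} (hyJ : (y : G) ∉ B.J) : B.act y ≠ 1 := fun h => hyJ (B.act_eq_one h)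

/-- The stabiliser of `a` in `X`. -/
def X6 : Subgroup (MulAut ↥B.J) := ((B.C ⊓ B.M).subgroupOf B.M).map B.act

theorem X6_le : B.X6 ≤ B.X := fun _ ⟨g, _, e⟩ => ⟨g, e⟩

theorem mem_X6 {φ : MulAut ↥B.J} : φ ∈ B.X6 ↔ φ ∈ B.X ∧ φ B.aJ = B.aJ := by
  constructor
  · rintro ⟨g, hg, rfl⟩
    refine ⟨⟨g, rfl⟩, Subtype.ext ?_⟩
    rw [B.act_apply]
    exact mul_inv_eq_iff_eq_mul.2 (B.comm_a (mem_subgroupOf.1 hg).1)
  · rintro ⟨⟨g, rfl⟩, h⟩
    refine ⟨g, mem_subgroupOf.2 ⟨mem_centralizer_singleton_iff.2 ?_, g.2⟩, rfl⟩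
    exact mul_inv_eq_iff_eq_mul.1 ((B.act_apply g B.aJ).symm.trans (congrArg Subtype.val h))

theorem card_X6 : Nat.card B.X6 = 6 := by
  let K := (B.C ⊓ B.M).subgroupOf B.M
  let ψ : ↥K →* MulAut ↥B.J := B.act.comp K.subtype
  have hr : ψ.range = B.X6 := by
    rw [MonoidHom.range_comp, Subgroup.range_subtype]; rfl
  have hk : ψ.ker = (B.J.subgroupOf B.M).subgroupOf K := by
    rw [← B.act_ker]; rfl
  have hle : B.J.subgroupOf B.M ≤ K := fun g hg =>
    mem_subgroupOf.2 ⟨B.J_le (mem_subgroupOf.1 hg), g.2⟩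
  have h := ψ.ker.card_eq_card_quotient_mul_card_subgroup
  rw [Nat.card_congr (QuotientGroup.quotientKerEquivRange ψ).toEquiv, hr, hk,
    Nat.card_congr (Subgroup.subgroupOfEquivOfLe hle).toEquiv,
    Nat.card_congr (Subgroup.subgroupOfEquivOfLe (B.J_le_P0.trans B.P0_le_M)).toEquiv, B.J_card,
    Nat.card_congr (Subgroup.subgroupOfEquivOfLe (inf_le_right : B.C ⊓ B.M ≤ B.M)).toEquiv,
    B.card_C_inf_M] at h
  omega

/-- An involution of the stabiliser inverting `y` modulo `J`. -/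
theorem exists_tX {y : ↥B.M} (hy : (y : G) ∈ B.R) (hyJ : (y : G) ∉ B.J) :
    ∃ τ ∈ B.X6, τ * τ = 1 ∧ τ * B.act y * τ⁻¹ = (B.act y)⁻¹ ∧ τ * B.act y ≠ B.act y * τ := by
  obtain ⟨t, htC, htM, ht2, hts⟩ := B.exists_t
  obtain ⟨τ, hτ⟩ : ∃ τ, τ = B.act ⟨t, htM⟩ := ⟨_, rfl⟩
  have hτX : τ ∈ B.X6 := ⟨⟨t, htM⟩, mem_subgroupOf.2 ⟨htC, htM⟩, hτ.symm⟩
  have hτ2 : τ * τ = 1 := by
    rw [hτ, ← map_mul, show (⟨t, htM⟩ : ↥B.M) * ⟨t, htM⟩ = 1 from Subtype.ext ht2, map_one]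
  have hnc : τ * B.act y ≠ B.act y * τ := by
    intro hc
    have hJ : t * y * t⁻¹ * (y : G)⁻¹ ∈ B.J := by
      refine B.act_eq_one (g := ⟨t, htM⟩ * y * ⟨t, htM⟩⁻¹ * y⁻¹) ?_
      rw [map_mul, map_mul, map_mul, map_inv, map_inv, ← hτ, hc, mul_inv_cancel_right, mul_inv_cancel]
    have hR : t * y * t⁻¹ * (y : G)⁻¹ ∈ B.R :=
      mul_mem ((Subgroup.mem_normalizer_iff.1 (B.C_le_norm_R htC) y).1 hy) (inv_mem hy)
    obtain ⟨x, hx, hne, -⟩ := B.exists_x0
    have hxR : x ∉ B.R := fun h => hne ((B.mem_R_iff _).1 h)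
    have hxM : x ∈ B.M := B.P0_le_M (B.J_le_P0 hx)
    have hx1 : t * x * t⁻¹ * x⁻¹ ∈ B.J ⊓ B.R := by
      refine Subgroup.mem_inf.2 ⟨mul_mem ((Subgroup.mem_normalizer_iff.1 htM x).1 hx) (inv_mem hx), ?_⟩
      refine (B.mem_R_iff (mul_mem (mul_mem (mul_mem htC (B.J_le hx)) (inv_mem htC))
        (inv_mem (B.J_le hx)))).2 ?_
      show B.sl (⟨t, htC⟩ * ⟨x, B.J_le hx⟩ * ⟨t, htC⟩⁻¹ * ⟨x, B.J_le hx⟩⁻¹) = 1
      rw [map_mul, map_mul, map_mul, map_inv, map_inv, hts, sl_neg_comm, mul_inv_cancel_right,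
        mul_inv_cancel]
    obtain ⟨c, hc'⟩ : ∃ c, c = x * y * x⁻¹ * (y : G)⁻¹ := ⟨_, rfl⟩
    have hcR : c ∈ B.R := hc' ▸
      mul_mem ((Subgroup.mem_normalizer_iff.1 (B.C_le_norm_R (B.J_le hx)) y).1 hy) (inv_mem hy)
    have hcJ : c ∈ B.J := by
      rw [hc', show x * y * x⁻¹ * (y : G)⁻¹ = x * ((y : G) * x⁻¹ * (y : G)⁻¹) by group]
      exact mul_mem hx ((Subgroup.mem_normalizer_iff.1 y.2 _).1 (inv_mem hx))
    have hcZ : c ∉ Subgroup.zpowers B.a := fun hcz => hxR (B.mem_R_of_fix (B.J_le hx) hy hyJ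
      (fun v hv => by rw [B.J_comm x hx v hv.1, mul_inv_cancel_right, mul_inv_cancel]; exact one_mem _)
      (hc' ▸ hcz))
    -- `t` fixes `c` modulo `⟨a⟩`
    obtain ⟨j, hj, hj'⟩ : ∃ j ∈ B.J ⊓ B.R, j = t * x * t⁻¹ * x⁻¹ := ⟨_, hx1, rfl⟩
    obtain ⟨i, hi, hi'⟩ : ∃ i ∈ B.J ⊓ B.R, i = t * y * t⁻¹ * (y : G)⁻¹ := ⟨_, ⟨hJ, hR⟩, rfl⟩
    have htx : t * x * t⁻¹ = j * x := by rw [hj']; group
    have hty : t * y * t⁻¹ = i * y := by rw [hi']; group
    obtain ⟨n, hn⟩ := mem_zpowers_iff.1 (B.comm_R hj.2 hcR)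
    obtain ⟨m, hm⟩ := mem_zpowers_iff.1 (B.comm_R hy (inv_mem hj.2))
    have hcc : ∀ k : ℤ, ∀ g ∈ B.C, g * B.a ^ k = B.a ^ k * g := fun k g hg =>
      ((Commute.zpow_left (B.comm_a hg).symm k).eq).symm
    have hfix : t * c * t⁻¹ * c⁻¹ ∈ Subgroup.zpowers B.a := by
      have h1 : t * c * t⁻¹ = (j * x) * (i * y) * (j * x)⁻¹ * (i * (y : G))⁻¹ := by
        rw [← htx, ← hty, hc']; group
      have h2 : (j * x) * (i * y) * (j * x)⁻¹ * (i * (y : G))⁻¹ =
          j * i * (x * y * x⁻¹) * j⁻¹ * (y : G)⁻¹ * i⁻¹ := by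
        calc _ = j * (x * i) * (y : G) * x⁻¹ * j⁻¹ * (y : G)⁻¹ * i⁻¹ := by group
          _ = _ := by rw [B.J_comm x hx i hi.1]; group
      rw [h1, h2, show x * y * x⁻¹ = c * (y : G) by rw [hc']; group]
      have h3 : j * i * (c * (y : G)) * j⁻¹ * (y : G)⁻¹ * i⁻¹ * c⁻¹ =
          j * i * c * ((y : G) * j⁻¹ * (y : G)⁻¹ * j⁻¹⁻¹) * (j⁻¹ * (i⁻¹ * c⁻¹)) := by group
      rw [h3, ← hm, mul_assoc (j * i * c),
        ← hcc m (j⁻¹ * (i⁻¹ * c⁻¹)) (mul_mem (inv_mem (B.J_le hj.1))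
          (mul_mem (inv_mem (B.J_le hi.1)) (inv_mem (B.J_le hcJ)))), ← mul_assoc (j * i * c),
        show j * i * c * (j⁻¹ * (i⁻¹ * c⁻¹)) = 1 by
          rw [B.J_comm _ (mul_mem hj.1 hi.1) c hcJ, B.J_comm j hj.1 i hi.1]
          group, one_mul]
      exact zpow_mem_zpowers _ _
    have htR : t ∈ B.R := by
      refine B.mem_R_of_fix htC hy hyJ (fun v hv => ?_) ?_
      · -- `J ⊓ R` is generated by `c` modulo `⟨a⟩`
        let F : Subgroup G :=
          { carrier := {v | v ∈ B.J ⊓ B.R ∧ t * v * t⁻¹ * v⁻¹ ∈ Subgroup.zpowers B.a}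
            one_mem' := ⟨one_mem _, by simp⟩
            mul_mem' := fun {p q} hp hq => ⟨mul_mem hp.1 hq.1, by
              obtain ⟨k, hk⟩ := mem_zpowers_iff.1 hq.2
              rw [show t * (p * q) * t⁻¹ * (p * q)⁻¹ =
                (t * p * t⁻¹ * p⁻¹) * (p * (t * q * t⁻¹ * q⁻¹) * p⁻¹) by group, ← hk,
                hcc k p (B.J_le hp.1.1), mul_inv_cancel_right]
              exact mul_mem hp.2 (zpow_mem_zpowers _ _)⟩
            inv_mem' := fun {p} hp => ⟨inv_mem hp.1, by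
              obtain ⟨k, hk⟩ := mem_zpowers_iff.1 hp.2
              rw [show t * p⁻¹ * t⁻¹ * p⁻¹⁻¹ = p⁻¹ * (t * p * t⁻¹ * p⁻¹)⁻¹ * p by group, ← hk,
                ← zpow_neg, hcc (-k) p⁻¹ (inv_mem (B.J_le hp.1.1)), mul_assoc, inv_mul_cancel, mul_one]
              exact zpow_mem_zpowers _ _⟩ }
        have hzF : Subgroup.zpowers B.a ≤ F := zpowers_le.2 ⟨⟨B.a_mem_J, B.a_mem_R⟩, by
          rw [B.comm_a htC, mul_inv_cancel_right, mul_inv_cancel]; exact one_mem _⟩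
        have hF : F = B.J ⊓ B.R := by
          refine eq_of_le_of_card_ge (fun v hv => hv.1) ?_
          have hlt : 3 < Nat.card F := by
            rw [← show Nat.card (Subgroup.zpowers B.a) = 3 by rw [Nat.card_zpowers, B.ha]]
            refine lt_of_le_of_ne (Subgroup.card_le_of_le hzF) fun h => hcZ ?_
            exact (eq_of_le_of_card_ge hzF h.ge).ge ⟨⟨hcJ, hcR⟩, hfix⟩
          obtain ⟨k, hk, he⟩ := (Nat.dvd_prime_pow Nat.prime_three).1
            (show Nat.card F ∣ 3 ^ 2 from (Subgroup.card_dvd_of_le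
              (fun v hv => hv.1 : F ≤ B.J ⊓ B.R)).trans (by rw [B.card_J_inf_R]; norm_num))
          rw [he] at hlt ⊢
          rw [B.card_J_inf_R]
          interval_cases k <;> omega
        exact (hF.ge hv).2
      · -- the commutator with `y` lies in `J ⊓ R`; it is central since `t` is an involution
        rw [← hi']
        have h1 : t * i * t⁻¹ = i⁻¹ := by
          rw [eq_inv_iff_mul_eq_one, hi',
            show t * (t * y * t⁻¹ * (y : G)⁻¹) * t⁻¹ * (t * y * t⁻¹ * (y : G)⁻¹) =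
              (t * t) * y * (t * t)⁻¹ * (y : G)⁻¹ by group, ht2]
          group
        by_contra hiZ
        -- `i` and `a` generate `J ⊓ R`, so `t` inverts `c` modulo `⟨a⟩`
        have hgen : Subgroup.zpowers B.a ⊔ Subgroup.zpowers i = B.J ⊓ B.R := by
          have hle : Subgroup.zpowers B.a ⊔ Subgroup.zpowers i ≤ B.J ⊓ B.R :=
            sup_le (zpowers_le.2 ⟨B.a_mem_J, B.a_mem_R⟩) (zpowers_le.2 hi)
          refine eq_of_le_of_card_ge hle ?_
          have hlt : 3 < Nat.card ↥(Subgroup.zpowers B.a ⊔ Subgroup.zpowers i) := by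
            rw [← show Nat.card (Subgroup.zpowers B.a) = 3 by rw [Nat.card_zpowers, B.ha]]
            refine lt_of_le_of_ne (Subgroup.card_le_of_le le_sup_left) fun h => hiZ ?_
            exact (eq_of_le_of_card_ge le_sup_left h.ge).ge (mem_sup_right (mem_zpowers _))
          obtain ⟨k, hk, he⟩ := (Nat.dvd_prime_pow Nat.prime_three).1
            (show Nat.card ↥(Subgroup.zpowers B.a ⊔ Subgroup.zpowers i) ∣ 3 ^ 2 from
              (Subgroup.card_dvd_of_le hle).trans (by rw [B.card_J_inf_R]; norm_num))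
          rw [he] at hlt ⊢
          rw [B.card_J_inf_R]
          interval_cases k <;> omega
        let F : Subgroup G :=
          { carrier := {v | v ∈ B.J ⊓ B.R ∧ t * v * t⁻¹ * v ∈ Subgroup.zpowers B.a}
            one_mem' := ⟨one_mem _, by simp⟩
            mul_mem' := fun {p q} hp hq => ⟨mul_mem hp.1 hq.1, by
              have : t * (p * q) * t⁻¹ * (p * q) = (t * p * t⁻¹ * p) * (t * q * t⁻¹ * q) := by
                calc t * (p * q) * t⁻¹ * (p * q) = t * p * t⁻¹ * ((t * q * t⁻¹) * p) * q := by group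
                  _ = t * p * t⁻¹ * (p * (t * q * t⁻¹)) * q := by
                    rw [B.J_comm _ ((Subgroup.mem_normalizer_iff.1 htM q).1 hq.1.1) p hp.1.1]
                  _ = _ := by group
              rw [this]
              exact mul_mem hp.2 hq.2⟩
            inv_mem' := fun {p} hp => ⟨inv_mem hp.1, by
              have : t * p⁻¹ * t⁻¹ * p⁻¹ = (t * p * t⁻¹ * p)⁻¹ := by
                rw [B.J_comm _ ((Subgroup.mem_normalizer_iff.1 htM p).1 hp.1.1) p hp.1.1]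
                group
              rw [this]
              exact inv_mem hp.2⟩ }
        have hsub : B.J ⊓ B.R ≤ F := by
          rw [← hgen]
          refine sup_le (zpowers_le.2 ⟨⟨B.a_mem_J, B.a_mem_R⟩, ?_⟩) (zpowers_le.2 ⟨hi, ?_⟩)
          · rw [B.comm_a htC, mul_inv_cancel_right]
            exact mul_mem (mem_zpowers _) (mem_zpowers _)
          · rw [h1, inv_mul_cancel]; exact one_mem _
        have h4 := (hsub ⟨hcJ, hcR⟩).2
        have h5 : c * c ∈ Subgroup.zpowers B.a := by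
          have := mul_mem (inv_mem hfix) h4
          rwa [show (t * c * t⁻¹ * c⁻¹)⁻¹ * (t * c * t⁻¹ * c) = c * c by group] at this
        refine hcZ ?_
        have := inv_mem h5
        rwa [show (c * c)⁻¹ = c from inv_eq_of_mul_eq_one_right (by
          rw [← pow_two, ← pow_succ, B.J_exp c hcJ])] at this
    have h1 := (B.mem_R_iff htC).1 htR
    rw [hts] at h1
    exact sl_neg_ne h1
  refine ⟨τ, hτX, hτ2, ?_, hnc⟩
  have hyX : B.act y ∈ B.X6 := B.mem_X6.2 ⟨⟨y, rfl⟩, B.act_y_a hy⟩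
  obtain ⟨Y, hY⟩ : ∃ Y, Y = Subgroup.zpowers (⟨B.act y, hyX⟩ : ↥B.X6) := ⟨_, rfl⟩
  have hY3 : orderOf (⟨B.act y, hyX⟩ : ↥B.X6) = 3 := by
    haveI : Fact (Nat.Prime 3) := ⟨Nat.prime_three⟩
    exact orderOf_eq_prime (Subtype.ext (B.act_y_three hy))
      fun h => B.act_y_ne hyJ (congrArg Subtype.val h)
  haveI : Y.Normal := Subgroup.normal_of_index_eq_two (by
    have h := Y.card_mul_index
    rw [B.card_X6, hY, Nat.card_zpowers, hY3] at h
    rw [hY]
    omega)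
  have h := Subgroup.Normal.conj_mem (inferInstance : Y.Normal) _ (hY ▸ mem_zpowers _) ⟨τ, hτX⟩
  rw [hY, mem_zpowers_iff] at h
  obtain ⟨k, hk⟩ := h
  have hk' : (B.act y) ^ (k % 3) = τ * B.act y * τ⁻¹ := by
    have := congrArg Subtype.val hk
    simp only [SubgroupClass.coe_zpow, Subgroup.coe_mul, Subgroup.coe_inv] at this
    rw [← this]
    conv_rhs => rw [← Int.emod_add_mul_ediv k 3, zpow_add, zpow_mul,
      show (3 : ℤ) = ((3 : ℕ) : ℤ) from rfl, zpow_natCast, B.act_y_three hy, one_zpow, mul_one]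
    rfl
  rcases (show k % 3 = 0 ∨ k % 3 = 1 ∨ k % 3 = 2 by omega) with h | h | h <;> rw [h] at hk'
  · exfalso
    rw [zpow_zero, eq_comm, conj_eq_one_iff] at hk'
    exact B.act_y_ne hyJ hk'
  · exfalso
    rw [zpow_one] at hk'
    exact hnc (mul_inv_eq_iff_eq_mul.1 hk'.symm)
  · rw [← hk', show (2 : ℤ) = ((2 : ℕ) : ℤ) from rfl, zpow_natCast]
    exact eq_inv_of_mul_eq_one_left (by rw [← pow_succ]; exact B.act_y_three hy)

/-- In the stabiliser of `a`, only the powers of `y` commute with `y`. -/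
theorem X6_cent {y : ↥B.M} (hy : (y : G) ∈ B.R) (hyJ : (y : G) ∉ B.J) {φ : MulAut ↥B.J}
    (hφ : φ ∈ B.X6) (hc : φ * B.act y = B.act y * φ) : φ ∈ Subgroup.zpowers (B.act y) := by
  haveI : Fact (Nat.Prime 3) := ⟨Nat.prime_three⟩
  obtain ⟨τ, hτX, -, -, hnc⟩ := B.exists_tX hy hyJ
  have hyX : B.act y ∈ B.X6 := B.mem_X6.2 ⟨⟨y, rfl⟩, B.act_y_a hy⟩
  let D : Subgroup (MulAut ↥B.J) := B.X6 ⊓ Subgroup.centralizer ({B.act y} : Set (MulAut ↥B.J))
  have hzD : Subgroup.zpowers (B.act y) ≤ D :=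
    zpowers_le.2 ⟨hyX, mem_centralizer_singleton_iff.2 rfl⟩
  have h3 : Nat.card (Subgroup.zpowers (B.act y)) = 3 := by
    rw [Nat.card_zpowers]
    exact orderOf_eq_prime (B.act_y_three hy) (B.act_y_ne hyJ)
  have hd : Nat.card D ∣ 6 := B.card_X6 ▸ Subgroup.card_dvd_of_le inf_le_left
  have h3d : 3 ∣ Nat.card D := h3 ▸ Subgroup.card_dvd_of_le hzD
  have hne : Nat.card D ≠ 6 := fun h => hnc (mem_centralizer_singleton_iff.1
    ((eq_of_le_of_card_ge (inf_le_left : D ≤ B.X6) (by rw [h, B.card_X6])).ge hτX).2)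
  have hD3 : Nat.card D ≤ 3 := by
    have := Nat.le_of_dvd (by norm_num) hd
    interval_cases (Nat.card D) <;> omega
  exact (eq_of_le_of_card_ge hzD (hD3.trans h3.ge)).ge ⟨hφ, mem_centralizer_singleton_iff.2 hc⟩

/-- An element of `X` commuting with `y` maps `a` to itself or its inverse. -/
theorem comm_y_a {y : ↥B.M} (hy : (y : G) ∈ B.R) (hyJ : (y : G) ∉ B.J) {φ : MulAut ↥B.J}
    (hc : φ * B.act y = B.act y * φ) : φ B.aJ = B.aJ ∨ φ B.aJ = (B.aJ)⁻¹ := by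
  have h : B.act y (φ B.aJ) = φ B.aJ := by
    rw [← MulAut.mul_apply, ← hc, MulAut.mul_apply, B.act_y_a hy]
  rcases B.fix_yJ hy hyJ h with h1 | h1 | h1
  · exact absurd ((map_eq_one_iff φ φ.injective).1 h1) B.aJ_ne_one
  · exact Or.inl h1
  · exact Or.inr h1

/-- A 2-element of `X` commuting with `y` is `±1`. -/
theorem comm_y_two {y : ↥B.M} (hy : (y : G) ∈ B.R) (hyJ : (y : G) ∉ B.J) {φ : MulAut ↥B.J}
    (hφ : φ ∈ B.X) (hc : φ * B.act y = B.act y * φ) {n : ℕ} (hn : φ ^ (2 ^ n) = 1) :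
    φ = 1 ∨ ∀ x, φ x = x⁻¹ := by
  have hfix : ∀ ψ : MulAut ↥B.J, ψ ∈ B.X → ψ * B.act y = B.act y * ψ → ψ B.aJ = B.aJ →
      ψ ^ (2 ^ n) = 1 → ψ = 1 := by
    intro ψ hψ hψc hψa hψn
    obtain ⟨k, hk⟩ := mem_zpowers_iff.1 (B.X6_cent hy hyJ (B.mem_X6.2 ⟨hψ, hψa⟩) hψc)
    have h3 : ψ ^ 3 = 1 := by
      rw [← hk, ← zpow_natCast, ← zpow_mul, mul_comm, zpow_mul, zpow_natCast, B.act_y_three hy,
        one_zpow]
    have hg : Nat.gcd (2 ^ n) 3 = 1 := Nat.Coprime.pow_left n (by norm_num)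
    have := pow_gcd_eq_one.2 ⟨hψn, h3⟩
    rwa [hg, pow_one] at this
  rcases B.comm_y_a hy hyJ hc with h | h
  · exact Or.inl (hfix φ hφ hc h hn)
  · have h2 : φ * φ = 1 := by
      refine hfix _ (mul_mem hφ hφ) (by rw [mul_assoc, hc, ← mul_assoc, hc, mul_assoc]) ?_ ?_
      · rw [MulAut.mul_apply, h, map_inv, h, inv_inv]
      · rw [(Commute.refl φ).mul_pow, hn, one_mul]
    refine Or.inr fun x => ?_
    let F : Subgroup ↥B.J :=
      { carrier := {z | φ z = z}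
        one_mem' := map_one φ
        mul_mem' := fun {p q} hp hq => by
          show φ (p * q) = p * q
          rw [map_mul, hp, hq]
        inv_mem' := fun {p} hp => by
          show φ p⁻¹ = p⁻¹
          rw [map_inv, hp] }
    have hyF : ∀ z ∈ F, B.act y z ∈ F := fun z hz => by
      show φ (B.act y z) = B.act y z
      rw [← MulAut.mul_apply, hc, MulAut.mul_apply, show φ z = z from hz]
    have hbot : F = ⊥ := by
      by_contra hne
      haveI : Fact (Nat.Prime 3) := ⟨Nat.prime_three⟩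
      let Y : Subgroup (MulAut ↥B.J) := Subgroup.zpowers (B.act y)
      have hYF : ∀ ψ ∈ Y, ∀ z ∈ F, ψ z ∈ F := by
        intro ψ hψ
        rw [show Y = Subgroup.zpowers (B.act y) from rfl, mem_zpowers_iff] at hψ
        obtain ⟨k, rfl⟩ := hψ
        intro z hz
        have hck : φ * B.act y ^ k = B.act y ^ k * φ :=
          (Commute.zpow_right (hc : Commute φ (B.act y)) k).eq
        show φ ((B.act y ^ k) z) = (B.act y ^ k) z
        rw [← MulAut.mul_apply, hck, MulAut.mul_apply, show φ z = z from hz]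
      letI : SMul ↥Y ↥F := ⟨fun ψ z => ⟨(ψ : MulAut ↥B.J) z, hYF ψ ψ.2 z z.2⟩⟩
      letI : MulAction ↥Y ↥F :=
        { one_smul := fun z => Subtype.ext rfl
          mul_smul := fun ψ χ z => Subtype.ext rfl }
      have hYp : IsPGroup 3 ↥Y := IsPGroup.of_card (n := 1) (by
        rw [pow_one, Nat.card_zpowers]
        exact orderOf_eq_prime (B.act_y_three hy) (B.act_y_ne hyJ))
      have hFd : 3 ∣ Nat.card F := by
        obtain ⟨k, hk, he⟩ := (Nat.dvd_prime_pow Nat.prime_three).1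
          (show Nat.card F ∣ 3 ^ 3 from
            (Subgroup.card_subgroup_dvd_card F).trans (by rw [B.J_card]; norm_num))
        rcases Nat.eq_zero_or_pos k with h0 | h0
        · exact absurd (Subgroup.eq_bot_of_card_eq F (by rw [he, h0, pow_zero])) hne
        · exact he ▸ dvd_pow_self 3 h0.ne'
      obtain ⟨z, hz, hz1⟩ := hYp.exists_fixed_point_of_prime_dvd_card_of_fixed_point (α := ↥F) hFd
        (a := 1) (fun ψ => Subtype.ext (map_one (ψ : MulAut ↥B.J)))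
      have hfz : B.act y (z : ↥B.J) = (z : ↥B.J) :=
        congrArg Subtype.val (hz ⟨B.act y, mem_zpowers _⟩)
      have hzF : φ (z : ↥B.J) = z := z.2
      rcases B.fix_yJ hy hyJ hfz with h1 | h1 | h1
      · exact hz1.symm (Subtype.ext h1)
      · rw [h1, h] at hzF
        exact B.aJ_ne_inv hzF.symm
      · rw [h1, map_inv, h, inv_inv] at hzF
        exact B.aJ_ne_inv hzF
    have hmem : x * φ x ∈ F := by
      show φ (x * φ x) = x * φ x
      rw [map_mul, ← MulAut.mul_apply, h2, MulAut.one_apply]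
      exact Subtype.ext (B.J_comm _ (φ x).2 _ x.2)
    rw [hbot, Subgroup.mem_bot] at hmem
    exact eq_inv_of_mul_eq_one_right hmem

end Base

end CfsgLib.Recog.SpSixThree
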