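import Cfsg.Agent.Lib.Invol.ZStar
import Cfsg.Agent.Lib.Invol.BrauerSuzuki
import Cfsg.Agent.Lib.Comp.Signalizer
import Mathlib.Tactic

/-!
A strongly closed elementary abelian `2`-subgroup whose elements have their centralisers in the normaliser is
normal, as soon as the involution centralisers met by one of its elements lie in the normaliser.
-/

set_option autoImplicit false
set_option linter.style.haveILetI false
set_option linter.unusedSectionVars false

namespace CfsgLib.Recog.SpSixThree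

open Subgroup CfsgLib.Invol

universe u

variable {G : Type u} [Group G] [Finite G]

/-- An elementary abelian subgroup, strongly closed in its normaliser, containing the centralisers of its
elements there. -/
structure Closed (P : Subgroup G) : Prop where
  comm : ∀ a ∈ P, ∀ b ∈ P, a * b = b * a
  exp : ∀ a ∈ P, a * a = 1
  strong : ∀ a ∈ P, ∀ g : G, g * a * g⁻¹ ∈ normalizer (P : Set G) → g * a * g⁻¹ ∈ P
  cent : ∀ a ∈ P, a ≠ 1 → centralizer ({a} : Set G) ≤ normalizer (P : Set G)

theorem mem_cent {a g : G} : g ∈ centralizer ({a} : Set G) ↔ g * a = a * g :=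
  mem_centralizer_singleton_iff

theorem conj_fix {n a : G} (h : n * a * n⁻¹ = a) : n * a = a * n := mul_inv_eq_iff_eq_mul.1 h

theorem odd_of_not_dvd {H : Subgroup G} (h : Odd (Nat.card H)) : ¬ 2 ∣ Nat.card H := fun hd =>
  Nat.not_even_iff_odd.2 h (even_iff_two_dvd.2 hd)

/-- An element of odd order generated inside a subgroup by the centralisers of a four-group. -/
theorem le_of_four {D O M : Subgroup G} (hc : ∀ a ∈ D, ∀ b ∈ D, a * b = b * a) (he : ∀ a ∈ D, a * a = 1)
    (h4 : 4 ≤ Nat.card D) (hO : Odd (Nat.card O)) (hn : D ≤ normalizer (O : Set G))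
    (hcent : ∀ d ∈ D, d ≠ 1 → O ⊓ centralizer ({d} : Set G) ≤ M) : O ≤ M := by
  haveI : Fact (Nat.Prime 2) := ⟨Nat.prime_two⟩
  have hA : Cfsg.IsElementaryAbelian 2 D :=
    ⟨⟨⟨fun a b => Subtype.ext (hc a a.2 b b.2)⟩⟩, fun a ha => by rw [pow_two]; exact he a ha⟩
  have hne : D ≠ ⊥ := fun e => by rw [e, card_bot] at h4; omega
  rw [CfsgLib.Comp.eq_iSup_centralizer_hyperplane hA hne (odd_of_not_dvd hO) hn]
  refine iSup_le fun B => ?_
  obtain ⟨B, hBD, hi⟩ := B
  have hB : B ≠ ⊥ := fun e => by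
    rw [e, relIndex_bot_left] at hi
    omega
  obtain ⟨d, hd, hd1⟩ := CfsgLib.Comp.exists_mem_ne_one hB
  exact (inf_le_inf_left _ (centralizer_le (Set.singleton_subset_iff.2 hd))).trans (hcent d (hBD hd) hd1)

namespace Closed

variable {P : Subgroup G} (h : Closed P)

include h

theorem le_norm : P ≤ normalizer (P : Set G) := le_normalizer

theorem mem_norm {a g : G} (ha : a ∈ P) (ha1 : a ≠ 1) (hg : g * a * g⁻¹ ∈ normalizer (P : Set G)) :
    g ∈ normalizer (P : Set G) := by
  have hb := h.strong a ha g hg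
  have hb1 : g * a * g⁻¹ ≠ 1 := fun e => ha1 (by simpa using e)
  have hle : ∀ p ∈ P, g * p * g⁻¹ ∈ P := by
    intro p hp
    refine h.strong p hp g (h.cent _ hb hb1 (mem_cent.2 ?_))
    rw [show g * p * g⁻¹ * (g * a * g⁻¹) = g * (p * a) * g⁻¹ by group, h.comm p hp a ha]
    group
  have he : P.map (MulAut.conj g).toMonoidHom = P := by
    refine eq_of_le_of_card_ge ?_ (Nat.card_congr (P.equivMapOfInjective _ (MulAut.conj g).injective).toEquiv).le
    rintro _ ⟨p, hp, rfl⟩
    exact hle p hp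
  refine mem_normalizer_iff.2 fun x => ⟨fun hx => hle x hx, fun hx => ?_⟩
  rw [← he] at hx
  obtain ⟨p, hp, e⟩ := hx
  rw [MulEquiv.coe_toMonoidHom, MulAut.conj_apply] at e
  rwa [← mul_left_cancel (mul_right_cancel e)]

/-- An element fixed by the part of the centraliser in the normaliser puts the centraliser there. -/
theorem cent_le {i a : G} (hi : i ∈ normalizer (P : Set G)) (h4 : 4 ≤ Nat.card ↥(P ⊓ centralizer ({i} : Set G)))
    (ha : a ∈ P) (ha1 : a ≠ 1) (hia : a * i = i * a)
    (hfix : ∀ n ∈ normalizer (P : Set G), n * i = i * n → n * a = a * n) :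
    centralizer ({i} : Set G) ≤ normalizer (P : Set G) := by
  intro g hg
  set C := centralizer ({i} : Set G) with hC
  have haC : a ∈ C := mem_cent.2 hia
  have hiso : Cfsg.IsIsolatedInvolution (⟨a, haC⟩ : C) := by
    refine ⟨by rw [Subgroup.orderOf_mk]; exact invol_of_mul_self (h.exp a ha) ha1, fun k hk => ?_⟩
    have hk' : (k : G) * a * (k : G)⁻¹ ∈ normalizer (P : Set G) :=
      h.cent a ha ha1 (mem_cent.2 (congrArg Subtype.val hk.eq).symm)
    have hkN := h.mem_norm ha ha1 hk'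
    refine Subtype.ext ?_
    show (k : G) * a * (k : G)⁻¹ = a
    rw [hfix _ hkN (mem_cent.1 k.2), mul_inv_cancel_right]
  have hz := zstar_of_centralInvol centralInvol C _ hiso ⟨g, hg⟩
  set O := (Cfsg.oddCore C).map C.subtype
  have hOc : Odd (Nat.card O) := by
    rw [card_map_of_injective C.subtype_injective]; exact odd_card_oddCore C
  have hOn : C ≤ normalizer (O : Set G) := by
    intro x hx
    refine mem_normalizer_iff.2 fun y => ⟨?_, ?_⟩
    · rintro ⟨w, hw, rfl⟩
      exact ⟨⟨x, hx⟩ * w * ⟨x, hx⟩⁻¹, (CfsgLib.Solvable.pPrimeCore_normal 2 C).conj_mem w hw _, rfl⟩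
    · rintro ⟨w, hw, e⟩
      refine ⟨⟨x, hx⟩⁻¹ * w * ⟨x, hx⟩⁻¹⁻¹, (CfsgLib.Solvable.pPrimeCore_normal 2 C).conj_mem w hw _, ?_⟩
      rw [map_mul, map_mul, e]
      simp [mul_assoc]
  have hON : O ≤ normalizer (P : Set G) :=
    le_of_four (D := P ⊓ C) (fun x hx y hy => h.comm x hx.1 y hy.1) (fun x hx => h.exp x hx.1) h4 hOc
      (inf_le_right.trans hOn) fun d hd hd1 => inf_le_right.trans (h.cent d hd.1 hd1)
  refine h.mem_norm ha ha1 ?_
  have hm : a * g * a⁻¹ * g⁻¹ ∈ O := ⟨_, hz, rfl⟩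
  have e : g * a * g⁻¹ = (a⁻¹ * (a * g * a⁻¹ * g⁻¹))⁻¹ := by group
  rw [e]
  exact inv_mem (mul_mem (inv_mem (h.le_norm ha)) (hON hm))

/-- The subgroup is normal. -/
theorem normal {k l : G} (hk : k ∈ P) (hk1 : k ≠ 1) (hl : l ∈ P) (hl1 : l ≠ 1) (hkl : ¬ IsConj k l)
    (hD : ∀ i : G, orderOf i = 2 → i * k = k * i → centralizer ({i} : Set G) ≤ normalizer (P : Set G)) :
    normalizer (P : Set G) = ⊤ := by
  rw [eq_top_iff]
  intro g _
  have hko := invol_of_mul_self (h.exp k hk) hk1
  have hlo := invol_of_mul_self (h.exp l hl) hl1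
  have hlo' : orderOf (g * l * g⁻¹) = 2 := by rw [orderOf_conj_eq, hlo]
  have hev : Even (orderOf (k * (g * l * g⁻¹))) :=
    even_of_not_isConj hko hlo' fun e => hkl (e.trans (isConj_iff.2 ⟨g, rfl⟩).symm)
  refine h.mem_norm hl hl1 (hD _ (orderOf_pow_half hev) (commute_pow_half_left hko hlo' hev).eq
    (mem_cent.2 (commute_pow_half_right hko hlo' hev).eq.symm))

end Closed

end CfsgLib.Recog.SpSixThree
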