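import Cfsg.Agent.Lib.Recog.SpSixThree.CloseSep
import Cfsg.Agent.Lib.Recog.SpSixThree.Closed
import Cfsg.Agent.Lib.Recog.Profile.Engine
import Cfsg.Agent.Lib.Classical.ExcIsoPerm

/-!
The image of `Sp(6,2)` is the whole group once it contains the centralizer of the exchange of the first two planes.
-/

set_option autoImplicit false
set_option maxHeartbeats 1000000
set_option linter.unusedSectionVars false
set_option linter.style.haveILetI false

namespace CfsgLib.Recog.SpSixThree.SixChart

open Equiv CfsgLib.Invol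
open CfsgLib.Recog.Profile.SpBits (Sp)
open CfsgLib.Recog.CentTwelve.SpHom (bgen simple_model)

universe u

variable {G : Type u} [Group G] [Finite G] {B : Base G} {F : FullFrame B} (K : SixChart F) {ψ : Sp →* G}
variable (hinj : Function.Injective ψ) (hgen : ∀ i : Fin 7, ψ (bgen i.val) = K.gen i)
  (hz : Subgroup.centralizer ({F.p (swap 0 1)} : Set G) ≤ ψ.range)

include hinj hgen hz

/-- The classes of `z` and `r` differ, and both differ from the two others. -/
theorem separate : ¬ IsConj (ψ Model.zm) (ψ (Model.T 16)) ∧ ¬ IsConj (ψ Model.zm) (ψ Model.xm) ∧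
    ¬ IsConj (ψ Model.zm) (ψ Model.cm) ∧ ¬ IsConj (ψ (Model.T 16)) (ψ Model.xm) ∧
    ¬ IsConj (ψ (Model.T 16)) (ψ Model.cm) := by
  have hx := K.not_nine_x hgen
  have hc := K.not_nine_c hgen
  have ez := (K.psi_reps hgen).1
  have er : ψ (Model.T 16) = F.r 2 := (K.psi_base hgen).2.2.2.1
  have h9z : 9 ∣ Nat.card (Subgroup.centralizer ({ψ Model.zm} : Set G)) := ez ▸ nine_z (F := F)
  have h9r : 9 ∣ Nat.card (Subgroup.centralizer ({ψ (Model.T 16)} : Set G)) := er ▸ nine_r (F := F)
  refine ⟨fun h => ?_, fun h => hx (card_cent_congr h ▸ h9z), fun h => hc (card_cent_congr h ▸ h9z),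
    fun h => hx (card_cent_congr h ▸ h9r), fun h => hc (card_cent_congr h ▸ h9r)⟩
  have h1 : (Subgroup.centralizer ({Model.zm} : Set Sp)).map ψ = Subgroup.centralizer ({ψ Model.zm} : Set G) := by
    refine le_antisymm ?_ fun g hg => ?_
    · rintro _ ⟨u, hu, rfl⟩
      exact Subgroup.mem_centralizer_singleton_iff.2
        ((show Commute u Model.zm from Subgroup.mem_centralizer_singleton_iff.1 hu).map ψ).eq
    · obtain ⟨u, rfl⟩ := hz (ez ▸ hg)
      refine ⟨u, Subgroup.mem_centralizer_singleton_iff.2 (hinj ?_), rfl⟩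
      rw [map_mul, map_mul]
      exact Subgroup.mem_centralizer_singleton_iff.1 hg
  have h2 : (Subgroup.centralizer ({Model.T 16} : Set Sp)).map ψ ≤
      Subgroup.centralizer ({ψ (Model.T 16)} : Set G) := by
    rintro _ ⟨u, hu, rfl⟩
    exact Subgroup.mem_centralizer_singleton_iff.2
      ((show Commute u (Model.T 16) from Subgroup.mem_centralizer_singleton_iff.1 hu).map ψ).eq
  have h3 := Subgroup.card_le_of_le h2
  rw [Subgroup.card_map_of_injective hinj, ← card_cent_congr h, ← h1, Subgroup.card_map_of_injective hinj] at h3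
  exact absurd h3 (not_le.2 Model.card_cent_lt)

/-- The image controls the class of `z`. -/
theorem frame : Profile.Frame G ψ.range (ψ Model.zm) := by
  obtain ⟨s1, s2, s3, -, -⟩ := K.separate hinj hgen hz
  have ho : orderOf (ψ Model.zm) = 2 := invol_of_mul_self
    (by rw [← map_mul, Model.invol_rep.1.1, map_one])
    fun h => Model.invol_rep.1.2 (hinj (h.trans (map_one ψ).symm))
  refine Profile.Frame.of_fusion ho ((K.psi_reps hgen).1 ▸ hz) ?_
  rintro _ ⟨u, rfl⟩ hu
  have h2 : u * u = 1 := hinj (by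
    rw [map_mul, map_one, ← pow_two, ← ho, ← orderOf_eq_of_isConj hu]
    exact pow_orderOf_eq_one _)
  have h1 : u ≠ 1 := fun h => by
    have := orderOf_eq_of_isConj hu
    rw [h, map_one, orderOf_one, ho] at this
    omega
  rcases Model.classify h2 h1 with c | c | c | c
  · obtain ⟨g, rfl⟩ := isConj_iff.1 c
    exact ⟨ψ g, ⟨g, rfl⟩, by rw [map_mul, map_mul, map_inv]⟩
  · exact absurd (hu.trans (ψ.map_isConj c).symm) s1
  · exact absurd (hu.trans (ψ.map_isConj c).symm) s2
  · exact absurd (hu.trans (ψ.map_isConj c).symm) s3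

/-- The centralizers of the two further classes lie in the image. -/
theorem cent_other {m : Sp} (hm : m = Model.xm ∨ m = Model.cm) :
    Subgroup.centralizer ({ψ m} : Set G) ≤ ψ.range := by
  have Φ := K.frame hinj hgen hz
  obtain ⟨p, q, hp2, hq2, hpq, hne, hmp, hmq, kp, kq, kpq, ka⟩ := Model.exists_four hm
  have hform : ∀ v < 64, Profile.SpBits.form v (Profile.SpBits.val m v) = Profile.SpBits.form v 16 := by
    rcases hm with rfl | rfl
    exacts [Model.rep_form.1, Model.rep_form.2]
  have hfix : ∀ u, u * m = m * u → u * Model.T 16 = Model.T 16 * u := fun u hu =>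
    Model.comm_T (by norm_num) (Model.fix_of_comm (by norm_num) hform hu)
  set a := ψ (m * Model.T 16) with hadef
  have hca : IsConj (ψ Model.zm) a := ψ.map_isConj ka
  have haH : a ∈ ψ.range := ⟨_, rfl⟩
  intro g hg
  set C := Subgroup.centralizer ({ψ m} : Set G) with hC
  have haC : a ∈ C := by
    refine Subgroup.mem_centralizer_singleton_iff.2 ?_
    rw [hadef, ← map_mul, ← map_mul, mul_assoc, ← hfix m rfl]
  have hiso : Cfsg.IsIsolatedInvolution (⟨a, haC⟩ : C) := by
    refine ⟨by rw [Subgroup.orderOf_mk, orderOf_eq_of_isConj hca, Φ.invol], fun k hk => ?_⟩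
    have hk' : (k : G) * a * (k : G)⁻¹ ∈ ψ.range := Φ.mem_of_commute haH hca (by
      have := hk.map C.subtype
      simpa using this.symm)
    obtain ⟨u, hu⟩ := Φ.control a haH hca _ hk'
    refine Subtype.ext ?_
    show (k : G) * a * (k : G)⁻¹ = a
    have hum : u * m = m * u := hinj (by
      rw [map_mul, map_mul, hu]
      exact Subgroup.mem_centralizer_singleton_iff.1 k.2)
    have huT := hfix u hum
    have : u * (m * Model.T 16) = m * Model.T 16 * u := by
      rw [← mul_assoc, hum, mul_assoc, huT, mul_assoc]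
    rw [← hu, hadef, ← map_mul, this, map_mul, mul_inv_cancel_right]
  have hzs := zstar_of_centralInvol centralInvol C _ hiso ⟨g, hg⟩
  set O := (Cfsg.oddCore C).map C.subtype
  have hOc : Odd (Nat.card O) := by
    rw [Subgroup.card_map_of_injective C.subtype_injective]; exact odd_card_oddCore C
  have hOn : C ≤ Subgroup.normalizer (O : Set G) := by
    intro x hx
    refine Subgroup.mem_normalizer_iff.2 fun y => ⟨?_, ?_⟩
    · rintro ⟨w, hw, rfl⟩
      exact ⟨⟨x, hx⟩ * w * ⟨x, hx⟩⁻¹, (CfsgLib.Solvable.pPrimeCore_normal 2 C).conj_mem w hw _, rfl⟩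
    · rintro ⟨w, hw, e⟩
      refine ⟨⟨x, hx⟩⁻¹ * w * ⟨x, hx⟩⁻¹⁻¹, (CfsgLib.Solvable.pPrimeCore_normal 2 C).conj_mem w hw _, ?_⟩
      rw [map_mul, map_mul, e]
      simp [mul_assoc]
  let D : Subgroup G := Subgroup.map ψ
    { carrier := {x | x = 1 ∨ x = p ∨ x = q ∨ x = p * q}
      one_mem' := Or.inl rfl
      mul_mem' := by
        have e1 : p * (p * q) = q := by rw [← mul_assoc, hp2, one_mul]
        have e2 : q * (p * q) = p := by rw [hpq, ← mul_assoc, hq2, one_mul]
        have e3 : p * q * p = q := by rw [hpq, mul_assoc, hp2, mul_one]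
        have e4 : p * q * q = p := by rw [mul_assoc, hq2, mul_one]
        have e5 : p * q * (p * q) = 1 := by rw [mul_assoc, e2, hp2]
        rintro x y (rfl | rfl | rfl | rfl) (rfl | rfl | rfl | rfl) <;>
          simp [hp2, hq2, e1, e2, e3, e4, e5, ← hpq]
      inv_mem' := by
        rintro x (rfl | rfl | rfl | rfl)
        · exact Or.inl inv_one
        · exact Or.inr (Or.inl (inv_eq_of_mul_eq_one_right hp2))
        · exact Or.inr (Or.inr (Or.inl (inv_eq_of_mul_eq_one_right hq2)))
        · refine Or.inr (Or.inr (Or.inr ?_))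
          rw [mul_inv_rev, inv_eq_of_mul_eq_one_right hp2, inv_eq_of_mul_eq_one_right hq2, hpq] }
  have hDel : ∀ d ∈ D, d = 1 ∨ d = ψ p ∨ d = ψ q ∨ d = ψ (p * q) := by
    rintro _ ⟨x, (rfl | rfl | rfl | rfl), rfl⟩
    exacts [Or.inl (map_one ψ), Or.inr (Or.inl rfl), Or.inr (Or.inr (Or.inl rfl)), Or.inr (Or.inr (Or.inr rfl))]
  have hDC : D ≤ C := by
    intro d hd
    have cp : ψ p ∈ C := Subgroup.mem_centralizer_singleton_iff.2 ((show Commute p m from hmp.symm).map ψ).eq
    have cq : ψ q ∈ C := Subgroup.mem_centralizer_singleton_iff.2 ((show Commute q m from hmq.symm).map ψ).eq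
    rcases hDel d hd with rfl | rfl | rfl | rfl
    exacts [one_mem _, cp, cq, by rw [map_mul]; exact mul_mem cp cq]
  have hne1 : ∀ {x : Sp}, IsConj Model.zm x → x ≠ 1 := fun {x} h e =>
    Model.invol_rep.1.2 (isConj_one_left.1 (e ▸ h : IsConj Model.zm 1))
  have hOH : O ≤ ψ.range := by
    refine le_of_four (D := D) ?_ ?_ ?_ hOc (hDC.trans hOn) fun d hd hd1 => inf_le_right.trans ?_
    · rintro _ ⟨x, hx, rfl⟩ _ ⟨y, hy, rfl⟩
      rw [← map_mul, ← map_mul]
      refine congrArg ψ ?_
      have e1 : Commute p q := hpq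
      have e2 : Commute p (p * q) := (Commute.refl p).mul_right e1
      have e3 : Commute q (p * q) := e1.symm.mul_right (Commute.refl q)
      rcases hx with rfl | rfl | rfl | rfl <;> rcases hy with rfl | rfl | rfl | rfl
      all_goals first
        | rfl
        | simp
        | exact e1
        | exact e1.symm
        | exact e2
        | exact e2.symm
        | exact e3
        | exact e3.symm
    · rintro _ ⟨x, hx, rfl⟩
      rw [← map_mul]
      have hsq : x * x = 1 := by
        rcases hx with rfl | rfl | rfl | rfl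
        exacts [one_mul 1, hp2, hq2, by
          rw [show p * q * (p * q) = p * (q * p) * q by group, ← hpq,
            show p * (p * q) * q = p * p * (q * q) by group, hp2, hq2, one_mul]]
      rw [hsq, map_one]
    · have hset : ({(1 : Sp), p, q, p * q} : Set Sp).ncard = 4 := by
        have n1 := hne1 kp
        have n2 := hne1 kq
        have n3 := hne1 kpq
        have m1 : p * q ≠ p := fun e => n2 (mul_eq_left.1 e)
        have m2 : p * q ≠ q := fun e => n1 (mul_eq_right.1 e)
        rw [Set.ncard_insert_of_notMem (by simp [n1.symm, n2.symm, n3.symm]),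
          Set.ncard_insert_of_notMem (by simp [hne, m1.symm]),
          Set.ncard_insert_of_notMem (by simp [m2.symm]), Set.ncard_singleton]
      show 4 ≤ Nat.card (Subgroup.map ψ _)
      rw [Subgroup.card_map_of_injective hinj, ← hset, ← Nat.card_coe_set_eq]
      exact (Nat.card_congr (Equiv.subtypeEquivRight fun x => by simp [Set.mem_insert_iff])).le
    · rcases hDel d hd with rfl | rfl | rfl | rfl
      · exact absurd rfl hd1
      all_goals refine Φ.cent_le rfl ⟨_, rfl⟩ (ψ.map_isConj ?_)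
      exacts [kp, kq, kpq]
  refine Φ.control a haH hca g ?_
  have hm' : a * g * a⁻¹ * g⁻¹ ∈ O := ⟨_, hzs, rfl⟩
  have e : g * a * g⁻¹ = (a⁻¹ * (a * g * a⁻¹ * g⁻¹))⁻¹ := by group
  rw [e]
  exact inv_mem (mul_mem (inv_mem haH) (hOH hm'))

/-- The whole class of `r` lies in the image. -/
theorem class_r {l : G} (hl : IsConj (ψ (Model.T 16)) l) : l ∈ ψ.range := by
  obtain ⟨s1, -, -, s4, s5⟩ := K.separate hinj hgen hz
  have Φ := K.frame hinj hgen hz
  have hzo := Φ.invol
  have hlo : orderOf l = 2 := by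
    rw [orderOf_eq_of_isConj hl]
    exact invol_of_mul_self (by rw [← map_mul, Model.invol_rep.2.2.2.1, map_one])
      fun h => Model.invol_rep.2.2.2.2 (hinj (h.trans (map_one ψ).symm))
  have hev := even_of_not_isConj hzo hlo fun h => s1 (h.trans hl.symm)
  set k := orderOf (ψ Model.zm * l) / 2
  set i := (ψ Model.zm * l) ^ k with hi
  have hio : orderOf i = 2 := orderOf_pow_half hev
  have hiz : Commute i (ψ Model.zm) := commute_pow_half_left hzo hlo hev
  have hil : Commute i l := commute_pow_half_right hzo hlo hev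
  obtain ⟨u, hu⟩ := Φ.mem_of_commute Φ.mem (IsConj.refl _) hiz
  have h2 : u * u = 1 := hinj (by rw [map_mul, map_one, hu, ← pow_two, ← hio]; exact pow_orderOf_eq_one _)
  have h1 : u ≠ 1 := fun h => by
    rw [h, map_one] at hu
    rw [← hu, orderOf_one] at hio
    omega
  have hcent : ∀ {m : Sp}, IsConj m u → Subgroup.centralizer ({ψ m} : Set G) ≤ ψ.range → l ∈ ψ.range := by
    intro m hm hle
    obtain ⟨g, hg⟩ := isConj_iff.1 hm
    have hmem : (ψ g)⁻¹ * l * ψ g ∈ ψ.range := hle (Subgroup.mem_centralizer_singleton_iff.2 (by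
      have e : ψ g * ψ m * (ψ g)⁻¹ = i := by rw [← map_inv, ← map_mul, ← map_mul, hg, hu]
      calc (ψ g)⁻¹ * l * ψ g * ψ m = (ψ g)⁻¹ * (l * i) * ψ g := by rw [← e]; group
        _ = (ψ g)⁻¹ * (i * l) * ψ g := by rw [hil.eq]
        _ = ψ m * ((ψ g)⁻¹ * l * ψ g) := by rw [← e]; group))
    have := mul_mem (mul_mem (⟨g, rfl⟩ : ψ g ∈ ψ.range) hmem) (inv_mem ⟨g, rfl⟩)
    simpa [mul_assoc] using this
  rcases Model.classify h2 h1 with c | c | c | c
  · exact hcent c ((K.psi_reps hgen).1 ▸ hz)
  · exfalso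
    obtain ⟨g, hg⟩ := isConj_iff.1 c
    rw [Model.conj_T g (by norm_num)] at hg
    have hd := Profile.SpBits.val_lt g 16
    have hd0 := Model.val_ne_zero g (d := 16) (by norm_num) (by norm_num)
    have hcomm : Model.zm * u = u * Model.zm := hinj (by rw [map_mul, map_mul, hu]; exact hiz.symm.eq)
    have hprod : IsConj (ψ Model.xm) (ψ Model.zm * i) ∨ IsConj (ψ Model.cm) (ψ Model.zm * i) := by
      rw [← hu, ← map_mul, ← hg]
      exact (Model.zm_mul_T hd hd0 (by rw [hg]; exact hcomm)).imp ψ.map_isConj ψ.map_isConj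
    have hcases : IsConj (ψ Model.zm) (ψ Model.zm * i) ∨ IsConj (ψ (Model.T 16)) (ψ Model.zm * i) := by
      rw [show ψ Model.zm * i = i * ψ Model.zm from hiz.symm.eq, hi]
      rcases Profile.half_cases hzo hlo k with ⟨a, -, ha, -⟩ | ⟨a, -, ha, -⟩
      · exact Or.inl (isConj_iff.2 ⟨_, ha⟩)
      · exact Or.inr (hl.trans (isConj_iff.2 ⟨_, ha⟩))
    obtain ⟨-, s2, s3, -, -⟩ := K.separate hinj hgen hz
    rcases hcases with h | h <;> rcases hprod with h' | h'
    exacts [s2 (h.trans h'.symm), s3 (h.trans h'.symm), s4 (h.trans h'.symm), s5 (h.trans h'.symm)]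
  · exact hcent c (K.cent_other hinj hgen hz (Or.inl rfl))
  · exact hcent c (K.cent_other hinj hgen hz (Or.inr rfl))

/-- The image is the whole group. -/
theorem range_eq_top : ψ.range = ⊤ := by
  have Φ := K.frame hinj hgen hz
  set N := Subgroup.normalClosure ({ψ (Model.T 16)} : Set G)
  have hN : N ≤ ψ.range := by
    refine (Subgroup.closure_le _).2 fun x hx => ?_
    obtain ⟨a, rfl, hax⟩ := Group.mem_conjugatesOfSet_iff.1 hx
    exact K.class_r hinj hgen hz hax
  haveI := simple_model
  have htop : N.comap ψ = ⊤ := by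
    refine (inferInstance : (N.comap ψ).Normal).eq_bot_or_eq_top.resolve_left fun h => ?_
    have hm : Model.T 16 ∈ N.comap ψ := Subgroup.subset_normalClosure rfl
    rw [h, Subgroup.mem_bot] at hm
    exact Model.invol_rep.2.2.2.2 hm
  have he : ψ.range = N := by
    refine le_antisymm ?_ hN
    rintro _ ⟨x, rfl⟩
    exact (htop ▸ Subgroup.mem_top x : x ∈ N.comap ψ)
  refine (Subgroup.eq_top_iff' _).2 fun g => Φ.control _ Φ.mem (IsConj.refl _) g ?_
  rw [he]
  exact Subgroup.normalClosure_normal.conj_mem _ (he.le Φ.mem) g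

omit hinj hgen hz in
/-- The group is `Sp(6,2)`. -/
theorem iso_sp (hinj : Function.Injective ψ) (hgen : ∀ i : Fin 7, ψ (bgen i.val) = K.gen i)
    (hz : Subgroup.centralizer ({F.p (swap 0 1)} : Set G) ≤ ψ.range)
    (F₂ : Type*) [Field F₂] [Fintype F₂] (hF₂ : Fintype.card F₂ = 2) :
    Nonempty (G ≃* Matrix.symplecticGroup (Fin 3) F₂) := by
  haveI : Fact (Nat.Prime 2) := ⟨Nat.prime_two⟩
  let e1 : Sp ≃* G := (MonoidHom.ofInjective hinj).trans
    ((MulEquiv.subgroupCongr (K.range_eq_top hinj hgen hz)).trans Subgroup.topEquiv)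
  let e2 : Sp ≃* Matrix.symplecticGroup (Fin 3) (ZMod 2) :=
    (MulEquiv.ofBijective Profile.SpBits.toIsoms Profile.SpBits.toIsoms_bijective).trans
      (CfsgLib.Geom.spEquiv 3 (ZMod 2))
  exact ⟨(e1.symm.trans e2).trans (CfsgLib.Classical.spCongr (ZMod.ringEquivOfPrime F₂ Nat.prime_two hF₂))⟩

end CfsgLib.Recog.SpSixThree.SixChart
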