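import Cfsg.Agent.Lib.Recog.SpSixThree.FrameQuot
import Cfsg.Agent.Lib.Invol.Dihedral
import Cfsg.Agent.S3333
import Cfsg.Agent.S3805

/-!
# The centralizers of a frame element and of a sum of two frame elements
-/

set_option autoImplicit false
set_option linter.style.haveILetI false
set_option linter.unusedSectionVars false

namespace CfsgLib.Recog.SpSixThree

open Subgroup

/-- A generator of order four of the stabilizer of a frame vector. -/
def rcode (k : Fin 3) : Code := (fun j => decide (j = k + 1), Equiv.swap (k + 1) (k + 2))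

/-- An involution of the stabilizer of a frame vector. -/
def scode (k : Fin 3) : Code := cperm (Equiv.swap (k + 1) (k + 2))

theorem code_dih : ∀ k : Fin 3, sact (rcode k) (evec k) = evec k ∧ sact (scode k) (evec k) = evec k ∧
    cmul (rcode k) (rcode k) ≠ ((fun _ => false), 1) ∧
    cmul (cmul (cmul (rcode k) (rcode k)) (rcode k)) (rcode k) = ((fun _ => false), 1) ∧
    cmul (scode k) (scode k) = ((fun _ => false), 1) ∧ scode k ≠ ((fun _ => false), 1) ∧
    cmul (cmul (scode k) (rcode k)) (scode k) = cmul (cmul (rcode k) (rcode k)) (rcode k) := by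
  decide +kernel

theorem card_stab_evec : ∀ k : Fin 3, Fintype.card {w : Code // sact w (evec k) = evec k} = 8 := by
  decide +kernel

theorem card_stab_d : Fintype.card {w : Code // sact w (evec 0 + evec 1) = evec 0 + evec 1} = 4 := by
  decide +kernel

theorem stab_d_sq : ∀ w : Code, sact w (evec 0 + evec 1) = evec 0 + evec 1 →
    cmul w w = ((fun _ => false), 1) := by
  decide +kernel

theorem evec_zero : ∀ k : Fin 3, evec k ≠ 0 ∧ ∃ j, evec k j = 0 := by decide +kernel

theorem d_zero : (evec 0 + evec 1 : Vec) ≠ 0 ∧ ∃ j, (evec 0 + evec 1 : Vec) j = 0 := by decide +kernel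

theorem sact_swap_evec : ∀ k l : Fin 3, sact (cperm (Equiv.swap k l)) (evec k) = evec l := by
  decide +kernel

theorem card_stab {p : Vec} {S : Subgroup (Equiv.Perm Vec)}
    (hS : ∀ σ, σ ∈ S ↔ ∃ w, sact w p = p ∧ cact w = σ) :
    Nat.card S = Fintype.card {w : Code // sact w p = p} := by
  rw [← Nat.card_eq_fintype_card]
  refine (Nat.card_congr (Equiv.ofBijective
    (fun w : {w : Code // sact w p = p} => (⟨cact w.1, (hS _).2 ⟨w.1, w.2, rfl⟩⟩ : S)) ⟨?_, ?_⟩)).symm
  · exact fun u w h => Subtype.ext (cact_inj (congrArg Subtype.val h))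
  · rintro ⟨σ, hσ⟩
    obtain ⟨w, hw, rfl⟩ := (hS σ).1 hσ
    exact ⟨⟨w, hw⟩, rfl⟩

/-- The stabilizer of a frame vector among signed permutations is dihedral of order eight. -/
theorem stab_dihedral {k : Fin 3} {S : Subgroup (Equiv.Perm Vec)}
    (hS : ∀ σ, σ ∈ S ↔ ∃ w, sact w (evec k) = evec k ∧ cact w = σ) :
    Nonempty (S ≃* DihedralGroup 4) := by
  haveI : Fact (Nat.Prime 2) := ⟨Nat.prime_two⟩
  obtain ⟨hr, hs, hr2, hr4, hs2, hs1, hsr⟩ := code_dih k
  let r : S := ⟨cact (rcode k), (hS _).2 ⟨_, hr, rfl⟩⟩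
  let s : S := ⟨cact (scode k), (hS _).2 ⟨_, hs, rfl⟩⟩
  have e2 : r * r ≠ 1 := fun h => hr2 <| cact_inj <|
    ((cact_cmul _ _).symm.trans (congrArg Subtype.val h)).trans cact_one.symm
  have e4 : r * r * r * r = 1 := Subtype.ext (by
    show cact _ * cact _ * cact _ * cact _ = 1
    rw [cact_cmul, cact_cmul, cact_cmul, hr4, cact_one])
  have f2 : s * s = 1 := Subtype.ext (by
    show cact _ * cact _ = 1
    rw [cact_cmul, hs2, cact_one])
  have f1 : s ≠ 1 := fun h => hs1 <| cact_inj <| (congrArg Subtype.val h).trans cact_one.symm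
  have g1 : s * r * s = r * r * r := Subtype.ext (by
    show cact _ * cact _ * cact _ = cact _ * cact _ * cact _
    rw [cact_cmul, cact_cmul, cact_cmul, cact_cmul, hsr])
  have hro : orderOf r = 4 := orderOf_eq_prime_pow (p := 2) (n := 1)
    (by rw [pow_one, pow_two]; exact e2)
    (by rw [show (2 : ℕ) ^ (1 + 1) = 4 from rfl, pow_succ, pow_succ, pow_two]; exact e4)
  have hso : orderOf s = 2 := orderOf_eq_prime (by rw [pow_two]; exact f2) f1
  have hinv : s * r * s⁻¹ = r⁻¹ := by
    rw [inv_eq_of_mul_eq_one_right f2, g1]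
    exact eq_inv_of_mul_eq_one_left e4
  have hnot : s ∉ Subgroup.zpowers r := by
    intro h
    obtain ⟨n, hn⟩ := mem_zpowers_iff.1 h
    have hc : Commute s r := hn ▸ (Commute.refl r).zpow_left n
    rw [hc.eq, mul_inv_cancel_right] at hinv
    exact e2 (mul_eq_one_iff_eq_inv.2 hinv)
  obtain ⟨f⟩ := CfsgLib.Invol.exists_mulEquiv_dihedral hro hso hinv hnot
  have htop : Subgroup.closure ({r, s} : Set S) = ⊤ := Subgroup.eq_top_of_card_eq _ (by
    rw [Nat.card_congr f.toEquiv, DihedralGroup.nat_card, card_stab hS, card_stab_evec k])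
  exact ⟨(Subgroup.topEquiv.symm.trans (MulEquiv.subgroupCongr htop.symm)).trans f⟩

namespace Frame

variable {G : Type*} [Group G] [Finite G] {B : Base G} (F : Frame B)

theorem normal_zpowers_cx (p : Vec) :
    ((Subgroup.zpowers (F.el p)).subgroupOf (F.cx p)).Normal := ⟨fun u hu g => by
  rw [mem_subgroupOf] at hu ⊢
  obtain ⟨n, hn⟩ := mem_zpowers_iff.1 hu
  have hc : Commute (g : G) (F.el p) := mem_centralizer_singleton_iff.1 g.2
  simp only [Subgroup.coe_mul, Subgroup.coe_inv, ← hn, (hc.zpow_right n).eq, mul_inv_cancel_right]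
  exact zpow_mem_zpowers _ _⟩

end Frame

namespace FullFrame

variable {G : Type*} [Group G] [Finite G] {B : Base G} (F : FullFrame B)

theorem acts_r (k : Fin 3) : F.toFrame.Acts (F.r k) (cone k) := fun v => by
  rw [inv_eq_of_mul_eq_one_right (F.r_sq k), sact_cone]
  exact F.r_el k v

theorem acts_p (π : Equiv.Perm (Fin 3)) : F.toFrame.Acts (F.p π) (cperm π) := fun v => by
  rw [show sact (cperm π) v = fun j => v (π.symm j) from funext fun j => by simp [sact, cperm]]
  exact F.p_el π v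

theorem exists_acts (w : Code) : ∃ g, F.toFrame.Acts g w := by
  have h : ∀ (b : Bool) (k : Fin 3),
      ∃ g, F.toFrame.Acts g (if b then cone k else ((fun _ => false), 1)) := by
    intro b k
    cases b
    · exact ⟨1, F.toFrame.acts_one⟩
    · exact ⟨F.r k, F.acts_r k⟩
  obtain ⟨x, hx⟩ := h (w.1 0) 0
  obtain ⟨y, hy⟩ := h (w.1 1) 1
  obtain ⟨z, hz⟩ := h (w.1 2) 2
  have h4 := Frame.Acts.mul _ (Frame.Acts.mul _ (Frame.Acts.mul _ hx hy) hz) (F.acts_p w.2)
  rw [← code_split w] at h4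
  exact ⟨_, h4⟩

theorem cent_e_cases (k : Fin 3) : Subgroup.centralizer ({F.e k} : Set G) ≤ B.M ∨
    ∃ ψ : ↥(Subgroup.centralizer ({F.e k} : Set G)) →* Equiv.Perm (Fin 6), Function.Surjective ψ ∧
      ψ.ker.map (Subgroup.centralizer ({F.e k} : Set G)).subtype = Subgroup.zpowers (F.e k) := by
  haveI := F.toFrame.normal_zpowers_cx (evec k)
  let N := (Subgroup.zpowers (F.el (evec k))).subgroupOf (F.toFrame.cx (evec k))
  let π := QuotientGroup.mk' N
  have hπ : Function.Surjective π := QuotientGroup.mk'_surjective N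
  have hker : ∀ g, π g = 1 ↔ (g : G) ∈ Subgroup.zpowers (F.el (evec k)) :=
    fun g => QuotientGroup.eq_one_iff g
  obtain ⟨hp, h0⟩ := evec_zero k
  obtain ⟨P, hP⟩ := F.toFrame.exists_sylow_img π hker hπ hp h0
  obtain ⟨S, hS, ⟨e⟩⟩ := F.toFrame.quot_stab π hker hπ hp h0 fun w _ => F.exists_acts w
  obtain ⟨f⟩ := stab_dihedral hS
  rcases Cfsg.Agent.S3333.result P (F.toFrame.img π) hP.symm (F.toFrame.card_img π hker hp)
    (F.toFrame.cent_img π hker hπ hp h0) (e.trans f) (F.toFrame.cent_le π hker hπ hp h0) with h | h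
  · left
    intro g hg
    exact (F.toFrame.mem_normalizer_img π hker ⟨g, hg⟩).1
      (by rw [Subgroup.normalizer_eq_top_iff.2 h]; exact mem_top _)
  · right
    obtain ⟨f6⟩ := h
    refine ⟨f6.toMonoidHom.comp π, f6.surjective.comp hπ, ?_⟩
    ext x
    constructor
    · rintro ⟨g, hg, rfl⟩
      exact (hker g).1 (f6.map_eq_one_iff.1 hg)
    · intro hx
      refine ⟨⟨x, (F.toFrame.zpowers_le_J _).trans (F.toFrame.J_le_cx _) hx⟩, ?_, rfl⟩
      exact f6.map_eq_one_iff.2 ((hker _).2 hx)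

/-- The two legs. -/
theorem small_or_six : F.Small ∨ F.Six := by
  by_cases h : F.Six
  · exact Or.inr h
  obtain ⟨k, hk⟩ := not_forall.1 h
  have hk' := (F.cent_e_cases k).resolve_right hk
  refine Or.inl fun l g hg => ?_
  have ht : F.p (Equiv.swap k l) ∈ B.M := F.toFrame.mem_M_of_acts (F.acts_p _)
  obtain ⟨t, ht'⟩ : ∃ t, t = F.p (Equiv.swap k l) := ⟨_, rfl⟩
  have he : t * F.el (evec k) * t⁻¹ = F.el (evec l) := by
    rw [ht', F.acts_p _ (evec k), sact_swap_evec]
  have hc : g * F.el (evec l) = F.el (evec l) * g := mem_centralizer_singleton_iff.1 hg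
  have h1 : t⁻¹ * g * t ∈ B.M := by
    refine hk' (mem_centralizer_singleton_iff.2 ?_)
    show t⁻¹ * g * t * F.el (evec k) = F.el (evec k) * (t⁻¹ * g * t)
    calc t⁻¹ * g * t * F.el (evec k) = t⁻¹ * (g * (t * F.el (evec k) * t⁻¹)) * t := by group
      _ = t⁻¹ * (F.el (evec l) * g) * t := by rw [he, hc]
      _ = F.el (evec k) * (t⁻¹ * g * t) := by rw [← he]; group
  have h2 := mul_mem (mul_mem (ht' ▸ ht) h1) (inv_mem (ht' ▸ ht))
  rwa [show t * (t⁻¹ * g * t) * t⁻¹ = g by group] at h2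

/-- The centralizer of `e₀ e₁` lies in `M`. -/
theorem cent_d : Subgroup.centralizer ({F.e 0 * F.e 1} : Set G) ≤ B.M := by
  classical
  haveI : Fact (Nat.Prime 2) := ⟨Nat.prime_two⟩
  have hd : F.e 0 * F.e 1 = F.el (evec 0 + evec 1) := (F.toFrame.el_add _ _).symm
  rw [hd]
  obtain ⟨p, hpe⟩ : ∃ p : Vec, p = evec 0 + evec 1 := ⟨_, rfl⟩
  rw [← hpe]
  haveI := F.toFrame.normal_zpowers_cx p
  let N := (Subgroup.zpowers (F.el p)).subgroupOf (F.toFrame.cx p)
  let π := QuotientGroup.mk' N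
  have hπ : Function.Surjective π := QuotientGroup.mk'_surjective N
  have hker : ∀ g, π g = 1 ↔ (g : G) ∈ Subgroup.zpowers (F.el p) :=
    fun g => QuotientGroup.eq_one_iff g
  have hp : p ≠ 0 := hpe ▸ d_zero.1
  have h0 : ∃ j, p j = 0 := hpe ▸ d_zero.2
  obtain ⟨P, hP⟩ := F.toFrame.exists_sylow_img π hker hπ hp h0
  obtain ⟨S, hS, hQ⟩ := F.toFrame.quot_stab π hker hπ hp h0 fun w _ => F.exists_acts w
  have hcard := F.toFrame.card_img π hker hp
  have hC := F.toFrame.cent_img π hker hπ hp h0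
  have helem := F.toFrame.img_elem π hker
  have hloc := F.toFrame.cent_le π hker hπ hp h0
  rw [← hP] at hQ hcard hC helem hloc
  obtain ⟨e⟩ := hQ
  have hS4 : Nat.card S = 4 := by
    subst hpe
    rw [card_stab hS, card_stab_d]
  have hsq : ∀ s : S, s * s = 1 := by
    rintro ⟨σ, hσ⟩
    obtain ⟨w, hw, rfl⟩ := (hS σ).1 hσ
    refine Subtype.ext ?_
    show cact w * cact w = 1
    subst hpe
    rw [cact_cmul, stab_d_sq w hw, cact_one]
  haveI : Nontrivial S := Finite.one_lt_card_iff_nontrivial.1 (by rw [hS4]; norm_num)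
  have hk : IsKleinFour S := ⟨hS4, (Monoid.exponent_eq_prime_iff Nat.prime_two).2 fun s hs =>
    orderOf_eq_prime (by rw [pow_two, hsq]) hs⟩
  have htop := Cfsg.Agent.S3805.result P helem hcard hC
    ⟨(Nat.card_congr e.toEquiv).trans hk.card_four,
      (Monoid.exponent_eq_of_mulEquiv e).trans hk.exponent_two⟩ hloc
  intro g hg
  refine (F.toFrame.mem_normalizer_img π hker ⟨g, hg⟩).1 ?_
  rw [← hP, htop]
  exact mem_top _

end FullFrame

end CfsgLib.Recog.SpSixThree
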