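import Cfsg.Agent.S3331
import Cfsg.Agent.Lib.ClassK.Core
import Cfsg.Agent.Lib.Classical.PSLTwoPerm
import Mathlib.GroupTheory.SchurZassenhaus
import Mathlib.GroupTheory.SpecificGroups.Alternating

/-!
# Self-centralising elements of order three in signaliser-free sections

A finite group `X` with a self-centralising element of order three on which a `3`-group `A` acts
without fixing a nontrivial `3'`-subgroup has order three or six.
-/

set_option autoImplicit false
set_option Elab.async false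

namespace CfsgLib.Recog.SpSixThree

open Subgroup
open scoped Pointwise

/-! ## Sylow numbers of the two exceptions -/

/-- The four-group of the alternating group of degree five. -/
def fourFive : Subgroup (alternatingGroup (Fin 5)) where
  carrier := {g | (g : Equiv.Perm (Fin 5)) 4 = 4 ∧ g * g = 1}
  one_mem' := ⟨rfl, one_mul 1⟩
  mul_mem' := by
    have key : ∀ a b : alternatingGroup (Fin 5), (a : Equiv.Perm (Fin 5)) 4 = 4 → a * a = 1 →
        (b : Equiv.Perm (Fin 5)) 4 = 4 → b * b = 1 →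
        ((a * b : alternatingGroup (Fin 5)) : Equiv.Perm (Fin 5)) 4 = 4 ∧ a * b * (a * b) = 1 := by
      decide +kernel
    exact fun {a b} ha hb => key a b ha.1 ha.2 hb.1 hb.2
  inv_mem' := by
    rintro a ⟨ha, h⟩
    rw [inv_eq_of_mul_eq_one_right h]
    exact ⟨ha, h⟩

theorem card_fourFive : Nat.card fourFive = 4 := by
  show Nat.card {g : alternatingGroup (Fin 5) // (g : Equiv.Perm (Fin 5)) 4 = 4 ∧ g * g = 1} = 4
  rw [Nat.card_eq_fintype_card]
  decide +kernel

theorem card_normalizer_fourFive :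
    Nat.card (normalizer (fourFive : Set (alternatingGroup (Fin 5)))) = 12 := by
  have key : ∀ g : alternatingGroup (Fin 5), (g : Equiv.Perm (Fin 5)) 4 = 4 ↔
      ∀ x : alternatingGroup (Fin 5),
        ((x : Equiv.Perm (Fin 5)) 4 = 4 ∧ x * x = 1 ↔
          ((g * x * g⁻¹ : alternatingGroup (Fin 5)) : Equiv.Perm (Fin 5)) 4 = 4 ∧
            g * x * g⁻¹ * (g * x * g⁻¹) = 1) := by decide +kernel
  have h12 : Nat.card {g : alternatingGroup (Fin 5) // (g : Equiv.Perm (Fin 5)) 4 = 4} = 12 := by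
    rw [Nat.card_eq_fintype_card]
    decide +kernel
  rw [← h12]
  exact Nat.card_congr (Equiv.subtypeEquivRight fun g => by
    rw [key]
    exact mem_normalizer_iff)

theorem not_three_dvd_sylow_five {X : Type*} [Group X] [Finite X]
    (e : X ≃* alternatingGroup (Fin 5)) : ¬ 3 ∣ Nat.card (Sylow 2 X) := by
  haveI : Fact (Nat.Prime 2) := ⟨Nat.prime_two⟩
  have hX : Nat.card X = 60 := by
    rw [Nat.card_congr e.toEquiv, nat_card_alternatingGroup, Nat.card_fin]
    rfl
  obtain ⟨V, hV⟩ : ∃ V : Subgroup X, V = fourFive.map e.symm.toMonoidHom := ⟨_, rfl⟩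
  have hV4 : Nat.card V = 4 := by
    rw [hV, card_map_of_injective (f := e.symm.toMonoidHom) e.symm.injective, card_fourFive]
  obtain ⟨P, hP⟩ := (IsPGroup.of_card (p := 2) (n := 2) hV4).exists_le_sylow
  have hPc : Nat.card P = 4 := by
    rw [Sylow.card_eq_multiplicity, hX, show (60 : ℕ) = 2 ^ 2 * 15 by norm_num,
      Nat.factorization_mul (by norm_num) (by norm_num), Finsupp.add_apply,
      Nat.Prime.factorization_pow Nat.prime_two, Finsupp.single_eq_same,
      Nat.factorization_eq_zero_of_not_dvd (by norm_num : ¬ 2 ∣ 15)]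
    norm_num
  have hVP : V = P := eq_of_le_of_card_ge hP (by rw [hPc, hV4])
  have hN : Nat.card (normalizer ((P : Subgroup X) : Set X)) = 12 := by
    rw [← hVP, hV, ← map_equiv_normalizer_eq,
      card_map_of_injective (f := e.symm.toMonoidHom) e.symm.injective, card_normalizer_fourFive]
  have hi := (normalizer ((P : Subgroup X) : Set X)).card_mul_index
  rw [hX, hN] at hi
  rw [P.card_eq_index_normalizer]
  show ¬ 3 ∣ (normalizer ((P : Subgroup X) : Set X)).index
  omega

theorem not_three_dvd_sylow_seven {X : Type*} [Group X] [Finite X] (hX : Nat.card X = 168) :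
    ¬ 3 ∣ Nat.card (Sylow 7 X) := by
  haveI : Fact (Nat.Prime 7) := ⟨by norm_num⟩
  obtain ⟨P⟩ : Nonempty (Sylow 7 X) := inferInstance
  have hP : Nat.card P = 7 := by
    rw [Sylow.card_eq_multiplicity, hX, show (168 : ℕ) = 7 ^ 1 * 24 by norm_num,
      Nat.factorization_mul (by norm_num) (by norm_num), Finsupp.add_apply,
      Nat.Prime.factorization_pow (by norm_num), Finsupp.single_eq_same,
      Nat.factorization_eq_zero_of_not_dvd (by norm_num : ¬ 7 ∣ 24)]
    norm_num
  have hi := (P : Subgroup X).card_mul_index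
  rw [hX, show Nat.card (P : Subgroup X) = 7 from hP] at hi
  have hd := P.card_dvd_index
  rw [show (P : Subgroup X).index = 24 by omega] at hd
  have hm : Nat.card (Sylow 7 X) % 7 = 1 := card_sylow_modEq_one 7 X
  intro h3
  have h24 := Nat.le_of_dvd (by norm_num) hd
  generalize Nat.card (Sylow 7 X) = n at *
  interval_cases n <;> omega

/-! ## The dichotomy -/

theorem self_cent_three {X : Type*} [Group X] [Finite X] {A : Type*} [Group A] [Finite A]
    (hA : IsPGroup 3 A) (φ : A →* MulAut X) {x : X} (hx : orderOf x = 3)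
    (hC : ∀ g : X, g * x = x * g → g ∈ zpowers x)
    (hsig : ∀ N : Subgroup X, (Nat.card N).Coprime 3 →
      (∀ a : A, N.map (φ a).toMonoidHom = N) → N = ⊥) :
    Nat.card X = 3 ∨ (Nat.card X = 6 ∧ ∃ g : X, g * x * g⁻¹ = x⁻¹) := by
  haveI : Fact (Nat.Prime 3) := ⟨Nat.prime_three⟩
  have hXc : Nat.card (zpowers x) = 3 := by rw [Nat.card_zpowers, hx]
  have hCX : centralizer ((zpowers x : Subgroup X) : Set X) = zpowers x :=
    le_antisymm (fun g hg => hC g (hg x (mem_zpowers x)).symm) fun g hg y hy => by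
      obtain ⟨i, rfl⟩ := mem_zpowers_iff.1 hg
      obtain ⟨j, rfl⟩ := mem_zpowers_iff.1 hy
      exact ((Commute.refl x).zpow_zpow j i).eq
  -- a fixed Sylow subgroup would be a signaliser
  have hkill : ∀ p : ℕ, p.Prime → p ≠ 3 → p ∣ Nat.card X → ¬ 3 ∣ Nat.card (Sylow p X) → False := by
    intro p hp hp3 hpX hn
    haveI := Fact.mk hp
    letI : MulDistribMulAction A X := MulDistribMulAction.compHom X φ
    obtain ⟨S, hS⟩ := hA.nonempty_fixed_point_of_prime_not_dvd_card (Sylow p X) hn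
    have hne : (S : Subgroup X) ≠ ⊥ := S.ne_bot_of_dvd_card hpX
    refine hne (hsig S ?_ fun a => ?_)
    · obtain ⟨k, hk⟩ := IsPGroup.iff_card.1 S.2
      rw [hk]
      exact Nat.Coprime.pow_left k ((Nat.coprime_primes hp Nat.prime_three).2 hp3)
    · exact congrArg (fun T : Sylow p X => (T : Subgroup X)) (hS a)
  have hcore : Cfsg.pPrimeCore 3 X = ⊥ := by
    haveI := CfsgLib.ClassK.pPrimeCore_characteristic (p := 3) (G := X)
    exact hsig _ CfsgLib.ClassK.coprime_card_pPrimeCore fun a =>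
      characteristic_iff_map_eq.1 inferInstance (φ a)
  have hNbot : ∀ N : Subgroup X, N.Normal → (Nat.card N).Coprime 3 → N = ⊥ := fun N hN hco =>
    le_bot_iff.1 (hcore ▸ CfsgLib.ClassK.le_pPrimeCore hN hco)
  rcases Cfsg.Agent.S3331.result (zpowers x) hXc hCX with
    ⟨N, hN, -, hco, hq⟩ | ⟨N, hN, -, hsq, ⟨e⟩⟩ | ⟨⟨e⟩⟩
  · have hb := hNbot N hN hco
    have hc : Nat.card X = Nat.card (X ⧸ N) := by
      rw [N.card_eq_card_quotient_mul_card_subgroup, hb, card_bot, mul_one]
    rcases hq with h | ⟨⟨e⟩⟩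
    · exact Or.inl (hc.trans h)
    refine Or.inr ?_
    have h6 : Nat.card X = 6 := by
      rw [hc, Nat.card_congr e.toEquiv, Nat.card_perm, Nat.card_fin]
      rfl
    refine ⟨h6, ?_⟩
    haveI : (zpowers x).Normal := normal_of_index_eq_two (by
      have := (zpowers x).card_mul_index
      rw [hXc, h6] at this
      omega)
    obtain ⟨g, hg⟩ : ∃ g, g ∉ zpowers x := by
      by_contra h
      push Not at h
      rw [(eq_top_iff' _).2 h, card_top, h6] at hXc
      omega
    refine ⟨g, ?_⟩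
    obtain ⟨k, hk⟩ := mem_zpowers_iff.1 (Normal.conj_mem inferInstance x (mem_zpowers x) g)
    have hk3 : x ^ k = x ^ (k % 3) := by
      rw [show ((3 : ℤ)) = (orderOf x : ℤ) by rw [hx]; rfl, zpow_mod_orderOf]
    rw [← hk, hk3]
    rcases (by omega : k % 3 = 0 ∨ k % 3 = 1 ∨ k % 3 = 2) with h | h | h <;> rw [h] at hk3 ⊢
    · rw [zpow_zero] at hk3
      rw [hk3] at hk
      have h1 : x = 1 := conj_eq_one_iff.1 hk.symm
      rw [h1, orderOf_one] at hx
      omega
    · rw [zpow_one] at hk3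
      rw [hk3] at hk
      exact absurd (hC g (mul_inv_eq_iff_eq_mul.1 hk.symm)) hg
    · rw [zpow_ofNat]
      exact (inv_eq_of_mul_eq_one_left (by
        rw [← pow_succ, show 2 + 1 = orderOf x by rw [hx], pow_orderOf_eq_one])).symm
  · have hp : IsPGroup 2 N := fun n => ⟨1, Subtype.ext (by
      rw [SubgroupClass.coe_pow, pow_one]; exact hsq _ n.2)⟩
    haveI : Fact (Nat.Prime 2) := ⟨Nat.prime_two⟩
    obtain ⟨k, hk⟩ := IsPGroup.iff_card.1 hp
    have hb := hNbot N hN (hk ▸ Nat.Coprime.pow_left k (by norm_num))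
    subst hb
    have e' : X ≃* alternatingGroup (Fin 5) := QuotientGroup.quotientBot.symm.trans e
    have hc : Nat.card X = 60 := by
      rw [Nat.card_congr e'.toEquiv, nat_card_alternatingGroup, Nat.card_fin]
      rfl
    exact (hkill 2 Nat.prime_two (by norm_num) (hc ▸ by norm_num) (not_three_dvd_sylow_five e')).elim
  · haveI : Fact (Nat.Prime 7) := ⟨by norm_num⟩
    have hc : Nat.card X = 168 := by
      rw [Nat.card_congr e.toEquiv]
      exact CfsgLib.Classical.card_psl_two_eq (ZMod.card 7) 168 (by norm_num)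
    exact (hkill 7 (by norm_num) (by norm_num) (hc ▸ by norm_num) (not_three_dvd_sylow_seven hc)).elim

/-- The dichotomy inside a group: `U` is central in `K`, and `x` is self-centralising modulo `U`. -/
theorem local_self_cent {G : Type*} [Group G] [Finite G] {J : Subgroup G} (hJ : IsPGroup 3 J)
    (hsig : ∀ N : Subgroup G, (Nat.card N).Coprime 3 → J ≤ normalizer (N : Set G) → N = ⊥)
    {K U : Subgroup G} (hJK : J ≤ normalizer (K : Set G)) (hUK : U ≤ K) (hUJ : U ≤ J)
    (hUc : ∀ k ∈ K, ∀ u ∈ U, k * u = u * k) (hJU : ∀ j ∈ J, ∀ u ∈ U, j * u = u * j)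
    {x : G} (hxK : x ∈ K) (hx : x ∉ U) (hx3 : x ^ 3 = 1)
    (hC : ∀ g ∈ K, g * x * g⁻¹ * x⁻¹ ∈ U → g ∈ U ⊔ zpowers x) :
    Nat.card K = 3 * Nat.card U ∨
      (Nat.card K = 6 * Nat.card U ∧ ∃ g ∈ K, g * x * g⁻¹ * x ∈ U) := by
  haveI : Fact (Nat.Prime 3) := ⟨Nat.prime_three⟩
  haveI hUn : (U.subgroupOf K).Normal := ⟨fun u hu k => by
    have h1 : (k : G) * u * (k : G)⁻¹ = u := by
      rw [hUc k k.2 u (mem_subgroupOf.1 hu), mul_inv_cancel_right]
    exact mem_subgroupOf.2 (by simpa [h1] using mem_subgroupOf.1 hu)⟩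
  have hφU : ∀ a : J, (U.subgroupOf K) ≤
      (U.subgroupOf K).comap (((K.normalizerMonoidHom.comp (inclusion hJK)) a).toMonoidHom) := by
    intro a u hu
    refine mem_comap.2 (mem_subgroupOf.2 ?_)
    show (a : G) * (u : G) * (a : G)⁻¹ ∈ U
    rw [hJU a a.2 u (mem_subgroupOf.1 hu), mul_inv_cancel_right]
    exact mem_subgroupOf.1 hu
  have hmap : ∀ a : J, (U.subgroupOf K).map
      (((K.normalizerMonoidHom.comp (inclusion hJK)) a) : K ≃* K).toMonoidHom = U.subgroupOf K := by
    intro a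
    refine eq_of_le_of_card_ge (map_le_iff_le_comap.2 (hφU a)) ?_
    exact (card_map_of_injective (MulEquiv.injective _)).ge
  let φ : J →* MulAut (↥K ⧸ U.subgroupOf K) :=
    MonoidHom.mk' (fun a => QuotientGroup.congr (U.subgroupOf K) (U.subgroupOf K)
        ((K.normalizerMonoidHom.comp (inclusion hJK)) a : ↥K ≃* ↥K) (hmap a))
      fun a b => by
        refine MulEquiv.ext fun q => ?_
        induction q using QuotientGroup.induction_on with
        | H k =>
          show QuotientGroup.mk ((K.normalizerMonoidHom.comp (inclusion hJK)) (a * b) k) =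
            QuotientGroup.mk ((K.normalizerMonoidHom.comp (inclusion hJK)) a
              ((K.normalizerMonoidHom.comp (inclusion hJK)) b k))
          rw [map_mul]
          rfl
  have hxq : orderOf (QuotientGroup.mk' (U.subgroupOf K) ⟨x, hxK⟩) = 3 := by
    refine orderOf_eq_prime ?_ fun h => hx (mem_subgroupOf.1 ((QuotientGroup.eq_one_iff _).1 h))
    rw [← map_pow, show (⟨x, hxK⟩ : K) ^ 3 = 1 from Subtype.ext (by simpa using hx3), map_one]
  have hCq : ∀ g : ↥K ⧸ U.subgroupOf K, g * QuotientGroup.mk' (U.subgroupOf K) ⟨x, hxK⟩ =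
      QuotientGroup.mk' (U.subgroupOf K) ⟨x, hxK⟩ * g →
      g ∈ zpowers (QuotientGroup.mk' (U.subgroupOf K) ⟨x, hxK⟩) := by
    intro q hq
    induction q using QuotientGroup.induction_on with
    | H k =>
      have h1 : (k : G) * x * (k : G)⁻¹ * x⁻¹ ∈ U := by
        have h2 : QuotientGroup.mk' (U.subgroupOf K) (k * ⟨x, hxK⟩ * k⁻¹ * ⟨x, hxK⟩⁻¹) = 1 := by
          simp only [map_mul, map_inv]
          rw [show QuotientGroup.mk' (U.subgroupOf K) k = (k : ↥K ⧸ U.subgroupOf K) from rfl, hq]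
          group
        exact mem_subgroupOf.1 ((QuotientGroup.eq_one_iff _).1 h2)
      have hle : U ⊔ zpowers x ≤ K := sup_le hUK (zpowers_le.2 hxK)
      have h3 : k ∈ (U ⊔ zpowers x).subgroupOf K := mem_subgroupOf.2 (hC k k.2 h1)
      rw [subgroupOf_sup hUK (zpowers_le.2 hxK)] at h3
      have h4 := mem_map_of_mem (QuotientGroup.mk' (U.subgroupOf K)) h3
      rw [Subgroup.map_sup, QuotientGroup.map_mk'_self, bot_sup_eq] at h4
      obtain ⟨y, hy, hye⟩ := h4
      obtain ⟨n, hn⟩ := mem_zpowers_iff.1 (mem_subgroupOf.1 hy)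
      refine mem_zpowers_iff.2 ⟨n, ?_⟩
      refine ((map_zpow (QuotientGroup.mk' (U.subgroupOf K)) _ n).symm.trans ?_).trans hye
      exact congrArg _ (Subtype.ext (by simpa using hn))
  have hsigq : ∀ N : Subgroup (↥K ⧸ U.subgroupOf K), (Nat.card N).Coprime 3 →
      (∀ a : J, N.map (φ a).toMonoidHom = N) → N = ⊥ := by
    intro N hN hinv
    obtain ⟨M, hM⟩ : ∃ M, M = N.comap (QuotientGroup.mk' (U.subgroupOf K)) := ⟨_, rfl⟩
    have hUM : U.subgroupOf K ≤ M := by
      rw [hM]
      intro u hu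
      show QuotientGroup.mk' (U.subgroupOf K) u ∈ N
      rw [show QuotientGroup.mk' (U.subgroupOf K) u = 1 from (QuotientGroup.eq_one_iff u).2 hu]
      exact one_mem N
    obtain ⟨Z, hZ⟩ : ∃ Z, Z = (U.subgroupOf K).subgroupOf M := ⟨_, rfl⟩
    haveI : Z.Normal := hZ ▸ inferInstance
    have hMc : Nat.card M = Nat.card Z * Nat.card N := by
      rw [Z.card_eq_card_quotient_mul_card_subgroup, mul_comm]
      congr 1
      let f : M →* N := ((QuotientGroup.mk' (U.subgroupOf K)).comp M.subtype).codRestrict N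
        fun m => mem_comap.1 (hM.le m.2)
      have hfk : f.ker = Z := by
        ext m
        rw [hZ, MonoidHom.mem_ker, mem_subgroupOf]
        show (_ : N) = 1 ↔ _
        rw [Subtype.ext_iff]
        exact QuotientGroup.eq_one_iff (m : K)
      have hfs : Function.Surjective f := fun n => by
        obtain ⟨k, hk⟩ := QuotientGroup.mk'_surjective (U.subgroupOf K) (n : ↥K ⧸ U.subgroupOf K)
        exact ⟨⟨k, hM.ge (mem_comap.2 (hk ▸ n.2))⟩, Subtype.ext hk⟩
      rw [← hfk]
      exact Nat.card_congr (QuotientGroup.quotientKerEquivOfSurjective f hfs).toEquiv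
    obtain ⟨j, hj⟩ := IsPGroup.iff_card.1 (hJ.to_le hUJ)
    have hZc : Nat.card Z = 3 ^ j := by
      rw [hZ, Nat.card_congr (subgroupOfEquivOfLe hUM).toEquiv,
        Nat.card_congr (subgroupOfEquivOfLe hUK).toEquiv, hj]
    have hZi : Z.index = Nat.card N := by
      have h := Z.card_mul_index
      rw [hMc] at h
      exact Nat.eq_of_mul_eq_mul_left Nat.card_pos h
    have hco : Nat.Coprime (Nat.card Z) Z.index := by
      rw [hZc, hZi]
      exact Nat.Coprime.pow_left j hN.symm
    obtain ⟨L, hL⟩ := exists_right_complement'_of_coprime hco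
    have hLc : Nat.card L = Nat.card N := hL.symm.index_eq_card.symm.trans hZi
    obtain ⟨L', hL'⟩ : ∃ L', L' = (L.map M.subtype).map K.subtype := ⟨_, rfl⟩
    have hL'c : Nat.card L' = Nat.card N := by
      rw [hL', card_map_of_injective K.subtype_injective, card_map_of_injective M.subtype_injective, hLc]
    -- the elements of order prime to three lie in the complement
    have hmem : ∀ (k : K), k ∈ M → (orderOf k).Coprime 3 → (k : G) ∈ L' := by
      intro k hk ho
      obtain ⟨⟨⟨z, hz⟩, ⟨l, hl⟩⟩, he, -⟩ := hL.existsUnique (⟨k, hk⟩ : M)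
      have hzc : Commute z l := Subtype.ext (Subtype.ext
        (hUc _ (l : K).2 _ (mem_subgroupOf.1 (mem_subgroupOf.1 (hZ.le hz)))).symm)
      have ho' : (orderOf (⟨k, hk⟩ : M)).Coprime 3 := by rwa [← Subgroup.orderOf_coe]
      have hlo : (orderOf l).Coprime 3 := by
        refine Nat.Coprime.of_dvd_left ?_ (hLc ▸ hN)
        exact (show orderOf (⟨l, hl⟩ : L) = orderOf l from (Subgroup.orderOf_coe _).symm) ▸ orderOf_dvd_natCard (⟨l, hl⟩ : L)
      have hz1 : z = 1 := by
        rw [← orderOf_eq_one_iff]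
        refine Nat.eq_one_of_dvd_coprimes (Nat.Coprime.pow_left j
          (Nat.Coprime.mul_left ho' hlo).symm) (hZc ▸ ?_) ?_
        · exact (show orderOf (⟨z, hz⟩ : Z) = orderOf z from (Subgroup.orderOf_coe _).symm) ▸ orderOf_dvd_natCard (⟨z, hz⟩ : Z)
        · have h5 : z = (⟨k, hk⟩ : M) * l⁻¹ := eq_mul_inv_of_mul_eq he
          have hc5 : Commute (⟨k, hk⟩ : M) l⁻¹ :=
            (he ▸ (hzc.mul_left (Commute.refl l))).inv_right
          rw [h5]
          exact (hc5.orderOf_mul_dvd_lcm).trans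
            ((Nat.lcm_dvd_mul _ _).trans (by rw [orderOf_inv]))
      refine hL'.ge ⟨k, ⟨⟨k, hk⟩, ?_, rfl⟩, rfl⟩
      have : z * l = (⟨k, hk⟩ : M) := he
      rw [hz1, one_mul] at this
      exact this ▸ hl
    have hL'0 : L' = ⊥ := by
      refine hsig L' (hL'c ▸ hN) fun a ha => ?_
      refine mem_normalizer_iff_map_conj_eq.2 (eq_of_le_of_card_ge ?_
        (card_map_of_injective (MulAut.conj a).injective).ge)
      rintro _ ⟨_, hl', rfl⟩
      obtain ⟨_, ⟨m, hm, rfl⟩, rfl⟩ := hL'.le hl'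
      obtain ⟨k', hk'⟩ : ∃ k' : K, k' = K.normalizerMonoidHom (⟨a, hJK ha⟩) (M.subtype m) :=
        ⟨_, rfl⟩
      have h6 : (k' : G) = a * ((m : K) : G) * a⁻¹ := by rw [hk']; rfl
      show a * ((m : K) : G) * a⁻¹ ∈ L'
      rw [← h6]
      refine hmem k' ?_ ?_
      · refine hM.ge (mem_comap.2 ?_)
        have h7 : φ ⟨a, ha⟩ (QuotientGroup.mk' (U.subgroupOf K) (m : K)) =
            QuotientGroup.mk' (U.subgroupOf K) k' := by rw [hk']; rfl
        rw [← h7, ← hinv ⟨a, ha⟩]
        exact ⟨_, mem_comap.1 (hM.le m.2), rfl⟩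
      · rw [hk', MulEquiv.orderOf_eq]
        refine Nat.Coprime.of_dvd_left ?_ (hLc ▸ hN)
        show orderOf ((m : K)) ∣ Nat.card L
        rw [Subgroup.orderOf_coe]
        exact (show orderOf (⟨m, hm⟩ : L) = orderOf m from (Subgroup.orderOf_coe _).symm) ▸ orderOf_dvd_natCard (⟨m, hm⟩ : L)
    rw [hL'0, card_bot] at hL'c
    exact card_eq_one.1 hL'c.symm
  have hcard : Nat.card K = Nat.card (↥K ⧸ U.subgroupOf K) * Nat.card U := by
    rw [(U.subgroupOf K).card_eq_card_quotient_mul_card_subgroup,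
      Nat.card_congr (subgroupOfEquivOfLe hUK).toEquiv]
  rcases self_cent_three hJ φ hxq hCq hsigq with h | ⟨h, g, hg⟩
  · exact Or.inl (by rw [hcard, h])
  · refine Or.inr ⟨by rw [hcard, h], ?_⟩
    obtain ⟨k, rfl⟩ := QuotientGroup.mk'_surjective (U.subgroupOf K) g
    refine ⟨k, k.2, ?_⟩
    have h2 : QuotientGroup.mk' (U.subgroupOf K) (k * ⟨x, hxK⟩ * k⁻¹ * ⟨x, hxK⟩) = 1 := by
      rw [map_mul, map_mul, map_mul, map_inv, hg, inv_mul_cancel]
    exact mem_subgroupOf.1 ((QuotientGroup.eq_one_iff _).1 h2)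

end CfsgLib.Recog.SpSixThree
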