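import Cfsg.Agent.Lib.Recog.SpSixThree.Base
import Mathlib.GroupTheory.Nilpotent

/-!
# The Sylow subgroup `P₀ = JR` and weak closure of `J`
-/

set_option autoImplicit false
set_option linter.unusedSectionVars false

namespace CfsgLib.Recog.SpSixThree

open Subgroup
open scoped commutatorElement

theorem sl_norm_iff : ∀ s : SLT, s * s * s = 1 → s ≠ 1 → ∀ x : SLT,
    (x * s * x⁻¹ = s ∨ x * s * x⁻¹ = s⁻¹) → x * (-1) = (-1) * x := by decide +kernel

theorem sl_three_le : ∀ x : SLT, x ^ 27 = 1 → x * x * x = 1 := by decide +kernel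

namespace Base

variable {G : Type*} [Group G] [Finite G] (B : Base G)

theorem R_pgroup : IsPGroup 3 B.R := B.R_ext.1.1

theorem J_pgroup : IsPGroup 3 B.J := IsPGroup.of_card (n := 3) (by rw [B.J_card]; norm_num)

/-- The Sylow subgroup `JR` of `C`. -/
def P0 : Subgroup G := B.J ⊔ B.R

theorem P0_le_C : B.P0 ≤ B.C := sup_le B.J_le B.R_le

theorem J_le_P0 : B.J ≤ B.P0 := le_sup_left

theorem R_le_P0 : B.R ≤ B.P0 := le_sup_right

theorem P0_pgroup : IsPGroup 3 B.P0 :=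
  B.J_pgroup.to_sup_of_normal_right' B.R_pgroup (B.J_le.trans B.C_le_norm_R)

theorem card_le_of_pgroup {Q : Subgroup G} (hQ : IsPGroup 3 Q) (hQC : Q ≤ B.C) :
    Nat.card Q ≤ 81 := by
  obtain ⟨n, hn⟩ := IsPGroup.iff_card.1 hQ
  have h := hn ▸ Subgroup.card_dvd_of_le hQC
  rw [B.card_C] at h
  by_contra hlt
  have h5 : 5 ≤ n := by
    by_contra hn5
    refine hlt ?_
    rw [hn]
    exact (Nat.pow_le_pow_right (by norm_num) (show n ≤ 4 by omega)).trans (by norm_num)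
  have := (pow_dvd_pow 3 h5).trans h
  norm_num at this

theorem card_P0 : Nat.card B.P0 = 81 := by
  obtain ⟨n, hn⟩ := IsPGroup.iff_card.1 B.P0_pgroup
  have hle : Nat.card B.P0 ≤ 81 := B.card_le_of_pgroup B.P0_pgroup B.P0_le_C
  have hlt : 27 < Nat.card B.P0 := by
    rw [← B.R_card]
    refine lt_of_le_of_ne (Subgroup.card_le_of_le B.R_le_P0) fun h => B.not_J_le_R ?_
    exact B.J_le_P0.trans (eq_of_le_of_card_ge B.R_le_P0 h.ge).ge
  rw [hn] at hle hlt ⊢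
  have h4 : n = 4 := by
    by_contra h
    rcases lt_or_gt_of_ne h with h | h
    · exact absurd hlt (not_lt.2 ((Nat.pow_le_pow_right (by norm_num) (show n ≤ 3 by omega)).trans
        (by norm_num)))
    · exact absurd hle (not_le.2 (lt_of_lt_of_le (show 81 < 3 ^ 5 by norm_num)
        (Nat.pow_le_pow_right (by norm_num) (show 5 ≤ n by omega))))
  rw [h4]; norm_num

theorem cent_P0 {g : G} (h : ∀ x ∈ B.P0, g * x = x * g) : g ∈ Subgroup.zpowers B.a := by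
  have hgC : g ∈ B.C := mem_centralizer_singleton_iff.2 (h B.a (B.R_le_P0 B.a_mem_R))
  rw [← B.R_center]
  refine ⟨B.nat hgC fun x hx => ?_, fun x hx => (h x (B.R_le_P0 hx)).symm⟩
  rw [h x (B.R_le_P0 hx), mul_inv_cancel_right, mul_inv_cancel]
  exact one_mem _

theorem mem_zpowers_a {y : G} (hy : y ∈ Subgroup.zpowers B.a) :
    y = 1 ∨ y = B.a ∨ y = B.a⁻¹ := by
  obtain ⟨k, hk⟩ := mem_zpowers_iff.1 hy
  have hk' : B.a ^ (k % 3) = y := by
    rw [← hk]
    conv_rhs => rw [← Int.emod_add_mul_ediv k 3, zpow_add, zpow_mul,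
      show (3 : ℤ) = ((3 : ℕ) : ℤ) from rfl, zpow_natCast, B.a_three, one_zpow, mul_one]
    rfl
  rcases (show k % 3 = 0 ∨ k % 3 = 1 ∨ k % 3 = 2 by omega) with h | h | h <;> rw [h] at hk'
  · exact Or.inl (by rw [← hk', zpow_zero])
  · exact Or.inr (Or.inl (by rw [← hk', zpow_one]))
  · refine Or.inr (Or.inr ?_)
    rw [← hk', show (2 : ℤ) = ((2 : ℕ) : ℤ) from rfl, zpow_natCast]
    exact eq_inv_of_mul_eq_one_left (by rw [← pow_succ]; exact B.a_three)

theorem mem_C_of_odd {g : G} (hg : Odd (orderOf g))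
    (h : g * B.a * g⁻¹ = B.a ∨ g * B.a * g⁻¹ = B.a⁻¹) : g ∈ B.C := by
  rcases h with h | h
  · exact mem_centralizer_singleton_iff.2 (mul_inv_eq_iff_eq_mul.1 h)
  · have h2 : g ^ 2 ∈ B.C := mem_centralizer_singleton_iff.2 (mul_inv_eq_iff_eq_mul.1 (by
      rw [pow_two, show g * g * B.a * (g * g)⁻¹ = g * (g * B.a * g⁻¹) * g⁻¹ by group, h,
        show g * B.a⁻¹ * g⁻¹ = (g * B.a * g⁻¹)⁻¹ by group, h, inv_inv]))
    obtain ⟨k, hk⟩ := hg
    have : g = (g ^ 2) ^ (k + 1) := by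
      rw [← pow_mul, show 2 * (k + 1) = (2 * k + 1) + 1 by ring, pow_succ, ← hk, pow_orderOf_eq_one,
        one_mul]
    rw [this]
    exact pow_mem h2 _

theorem mem_C_of_norm {g : G} (hg : Odd (orderOf g))
    (h : g ∈ Subgroup.normalizer (Subgroup.zpowers B.a : Set G)) : g ∈ B.C := by
  rcases B.mem_zpowers_a ((Subgroup.mem_normalizer_iff.1 h B.a).1 (mem_zpowers _)) with h1 | h1 | h1
  · exact absurd (mul_inv_eq_one.1 h1) (by simpa using B.a_ne_one)
  · exact B.mem_C_of_odd hg (Or.inl h1)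
  · exact B.mem_C_of_odd hg (Or.inr h1)

/-- `P₀` is a Sylow subgroup of `G`. -/
theorem exists_sylow : ∃ P : Sylow 3 G, (P : Subgroup G) = B.P0 := by
  haveI : Fact (Nat.Prime 3) := ⟨Nat.prime_three⟩
  obtain ⟨P, hP⟩ := B.P0_pgroup.exists_le_sylow
  refine ⟨P, (le_antisymm hP ?_).symm⟩
  by_contra hne
  haveI : Group.IsNilpotent ↥(P : Subgroup G) := P.isPGroup'.isNilpotent
  have hlt : B.P0.subgroupOf P < ⊤ := lt_top_iff_ne_top.2 fun h => hne (subgroupOf_eq_top.1 h)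
  obtain ⟨g, hgN, hg⟩ := SetLike.exists_of_lt (normalizerCondition_of_isNilpotent _ hlt)
  have hgN' : (g : G) ∈ Subgroup.normalizer (B.P0 : Set G) :=
    Subgroup.mem_normalizer_iff.2 fun x => by
      constructor
      · intro hx
        exact mem_subgroupOf.1 ((Subgroup.mem_normalizer_iff.1 hgN ⟨x, hP hx⟩).1 (mem_subgroupOf.2 hx))
      · intro hx
        have h1 : (g : G)⁻¹ * ((g : G) * x * (g : G)⁻¹) * g ∈ B.P0 :=
          mem_subgroupOf.1 ((Subgroup.mem_normalizer_iff''.1 hgN ⟨_, hP hx⟩).1 (mem_subgroupOf.2 hx))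
        simpa [mul_assoc] using h1
  have hga : (g : G) * B.a * (g : G)⁻¹ ∈ Subgroup.zpowers B.a := by
    refine B.cent_P0 fun x hx => ?_
    have hy : (g : G)⁻¹ * x * g ∈ B.P0 := (Subgroup.mem_normalizer_iff''.1 hgN' x).1 hx
    have := B.comm_a (B.P0_le_C hy)
    calc (g : G) * B.a * (g : G)⁻¹ * x = (g : G) * (B.a * ((g : G)⁻¹ * x * g)) * (g : G)⁻¹ := by group
      _ = x * ((g : G) * B.a * (g : G)⁻¹) := by rw [← this]; group
  have hodd : Odd (orderOf (g : G)) := by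
    obtain ⟨k, hk⟩ := P.isPGroup' g
    rw [Subgroup.orderOf_coe]
    obtain ⟨j, -, hj⟩ := (Nat.dvd_prime_pow Nat.prime_three).1 (orderOf_dvd_of_pow_eq_one hk)
    rw [hj]
    exact Odd.pow (by decide)
  have hgC : (g : G) ∈ B.C := by
    rcases B.mem_zpowers_a hga with h | h | h
    · exact absurd (mul_inv_eq_one.1 h) (by simpa using B.a_ne_one)
    · exact B.mem_C_of_odd hodd (Or.inl h)
    · exact B.mem_C_of_odd hodd (Or.inr h)
  have hle := B.card_le_of_pgroup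
    (P.isPGroup'.to_le (sup_le hP (zpowers_le.2 g.2) : B.P0 ⊔ Subgroup.zpowers (g : G) ≤ P))
    (sup_le B.P0_le_C (zpowers_le.2 hgC))
  rw [← B.card_P0] at hle
  exact hg (mem_subgroupOf.2 ((eq_of_le_of_card_ge le_sup_left hle).ge
    (mem_sup_right (mem_zpowers _))))

/-- A subgroup of `P₀` has image of order at most three in `SL₂(3)`. -/
theorem card_inf_R {A : Subgroup G} (hA : A ≤ B.P0) (hc : ∀ x ∈ A, ∀ y ∈ A, x * y = y * x)
    (h27 : Nat.card A = 27) : Nat.card ↥(A ⊓ B.R) = 9 := by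
  have hne : ¬ A ≤ B.R := fun h => B.R_not_comm (eq_of_le_of_card_ge h (by rw [h27, B.R_card]) ▸ hc)
  obtain ⟨k, hk, he⟩ := (Nat.dvd_prime_pow Nat.prime_three).1
    (show Nat.card ↥(A ⊓ B.R) ∣ 3 ^ 3 from
      (Subgroup.card_dvd_of_le inf_le_left).trans (by rw [h27]; norm_num))
  have hne3 : k ≠ 3 := fun h => hne (inf_eq_left.1
    (eq_of_le_of_card_ge inf_le_left (by rw [he, h, h27]; norm_num)))
  let ψ : ↥A →* SLT := B.sl.comp (Subgroup.inclusion (hA.trans B.P0_le_C))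
  have hker : ψ.ker = (A ⊓ B.R).subgroupOf A := by
    ext y
    rw [MonoidHom.mem_ker, mem_subgroupOf, mem_inf]
    exact ⟨fun h => ⟨y.2, (B.mem_R_iff ((hA.trans B.P0_le_C) y.2)).2 h⟩,
      fun h => (B.mem_R_iff _).1 h.2⟩
  have h1 : Nat.card ψ.range ∣ 27 := h27 ▸ Subgroup.card_range_dvd ψ
  have h2 : Nat.card ψ.range ∣ 24 := sl_card ▸ Subgroup.card_subgroup_dvd_card _
  have hr : Nat.card ψ.range ∣ 3 := (Nat.dvd_gcd h1 h2)
  have h := ψ.ker.card_eq_card_quotient_mul_card_subgroup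
  rw [Nat.card_congr (QuotientGroup.quotientKerEquivRange ψ).toEquiv, h27, hker,
    Nat.card_congr (Subgroup.subgroupOfEquivOfLe inf_le_left).toEquiv, he] at h
  rw [he]
  generalize Nat.card ψ.range = m at h hr
  have hm3 := Nat.le_of_dvd (by norm_num) hr
  interval_cases k <;> norm_num at h ⊢ <;> omega

theorem comm_R {x y : G} (hx : x ∈ B.R) (hy : y ∈ B.R) :
    x * y * x⁻¹ * y⁻¹ ∈ Subgroup.zpowers B.a := by
  rw [← B.R_center]
  have h : (⁅(⟨x, hx⟩ : B.R), ⟨y, hy⟩⁆ : B.R) ∈ Subgroup.center ↥B.R :=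
    B.R_ext.1.2.2 ▸ Subgroup.commutator_mem_commutator (mem_top _) (mem_top _)
  refine Subgroup.mem_inf.2 ⟨mul_mem (mul_mem (mul_mem hx hy) (inv_mem hx)) (inv_mem hy),
    Subgroup.mem_centralizer_iff.2 fun r hr => ?_⟩
  exact congrArg Subtype.val (Subgroup.mem_center_iff.1 h ⟨r, hr⟩)

/-- Elements of `P₀` are `j r`. -/
theorem exists_JR {x : G} (hx : x ∈ B.P0) : ∃ j ∈ B.J, ∃ r ∈ B.R, x = j * r := by
  rw [P0, ← SetLike.mem_coe, Subgroup.coe_mul_of_left_le_normalizer_right B.J B.R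
    (B.J_le.trans B.C_le_norm_R)] at hx
  obtain ⟨j, hj, r, hr, h⟩ := hx
  exact ⟨j, hj, r, hr, h.symm⟩

/-- `J` is the only abelian subgroup of order 27 of `P₀`. -/
theorem eq_of_le_P0 {A : Subgroup G} (hA : A ≤ B.P0) (hc : ∀ x ∈ A, ∀ y ∈ A, x * y = y * x)
    (h27 : Nat.card A = 27) : A = B.J := by
  have hA0 := B.card_inf_R hA hc h27
  have haA : B.a ∈ A := by
    by_contra ha
    have hAC : A ≤ Subgroup.centralizer (((A ⊔ Subgroup.zpowers B.a : Subgroup G)) : Set G) := by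
      rw [le_centralizer_iff]
      refine sup_le (fun x hx y hy => hc y hy x hx) (zpowers_le.2 fun y hy => ?_)
      exact B.comm_a (B.P0_le_C (hA hy))
    have hsup : A ⊔ Subgroup.zpowers B.a = B.P0 := by
      have hle : A ⊔ Subgroup.zpowers B.a ≤ B.P0 := sup_le hA (zpowers_le.2 (B.R_le_P0 B.a_mem_R))
      refine eq_of_le_of_card_ge hle ?_
      have hlt : 27 < Nat.card ↥(A ⊔ Subgroup.zpowers B.a) := by
        rw [← h27]
        refine lt_of_le_of_ne (Subgroup.card_le_of_le le_sup_left) fun h => ha ?_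
        exact (eq_of_le_of_card_ge (le_sup_left : A ≤ A ⊔ Subgroup.zpowers B.a) h.ge).ge
          (mem_sup_right (mem_zpowers _))
      obtain ⟨k, hk, he⟩ := (Nat.dvd_prime_pow Nat.prime_three).1
        (show Nat.card ↥(A ⊔ Subgroup.zpowers B.a) ∣ 3 ^ 4 from
          (Subgroup.card_dvd_of_le hle).trans (by rw [B.card_P0]; norm_num))
      rw [he] at hlt ⊢
      rw [B.card_P0]
      interval_cases k <;> omega
    have hJ : A ≤ B.J := by
      rw [← B.cent_J]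
      exact fun x hx y hy => (hAC hx) y (hsup.ge (B.J_le_P0 hy))
    exact ha ((eq_of_le_of_card_ge hJ (by rw [h27, B.J_card])).ge B.a_mem_J)
  have hne : ¬ A ≤ B.R := fun h => B.R_not_comm (eq_of_le_of_card_ge h (by rw [h27, B.R_card]) ▸ hc)
  obtain ⟨x, hxA, hxR⟩ := SetLike.not_le_iff_exists.1 hne
  obtain ⟨j, hj, r, hr, hx⟩ := B.exists_JR (hA hxA)
  have h00 : A ⊓ B.R = B.J ⊓ B.R := by
    by_contra hne0
    -- `j` would centralize `R` modulo `⟨a⟩`
    have hjC : j ∈ B.C := B.J_le hj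
    let F : Subgroup G :=
      { carrier := {y | y ∈ B.R ∧ j * y * j⁻¹ * y⁻¹ ∈ Subgroup.zpowers B.a}
        one_mem' := ⟨one_mem _, by simp⟩
        mul_mem' := fun {p q} hp hq => ⟨mul_mem hp.1 hq.1, by
          obtain ⟨n, hn⟩ := mem_zpowers_iff.1 hq.2
          have hcz : p * B.a ^ n = B.a ^ n * p := ((Commute.zpow_left (B.comm_a (B.R_le hp.1)).symm n).eq).symm
          rw [show j * (p * q) * j⁻¹ * (p * q)⁻¹ =
            (j * p * j⁻¹ * p⁻¹) * (p * (j * q * j⁻¹ * q⁻¹) * p⁻¹) by group, ← hn, hcz, mul_inv_cancel_right]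
          exact mul_mem hp.2 (zpow_mem_zpowers _ _)⟩
        inv_mem' := fun {p} hp => ⟨inv_mem hp.1, by
          obtain ⟨n, hn⟩ := mem_zpowers_iff.1 hp.2
          have hcz : p⁻¹ * B.a ^ (-n) = B.a ^ (-n) * p⁻¹ :=
            ((Commute.zpow_left (B.comm_a (inv_mem (B.R_le hp.1))).symm (-n)).eq).symm
          rw [show j * p⁻¹ * j⁻¹ * p⁻¹⁻¹ = p⁻¹ * (j * p * j⁻¹ * p⁻¹)⁻¹ * p by group, ← hn, ← zpow_neg,
            hcz, mul_assoc, inv_mul_cancel, mul_one]
          exact zpow_mem_zpowers _ _⟩ }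
    have hJF : B.J ⊓ B.R ≤ F := fun y hy => ⟨hy.2, by
      rw [B.J_comm j hj y hy.1, mul_inv_cancel_right, mul_inv_cancel]
      exact one_mem _⟩
    have hAF : A ⊓ B.R ≤ F := fun y hy => ⟨hy.2, by
      have h1 : x * y * x⁻¹ * y⁻¹ = 1 := by
        rw [hc x hxA y hy.1, mul_inv_cancel_right, mul_inv_cancel]
      obtain ⟨n, hn⟩ := mem_zpowers_iff.1 (B.comm_R hr hy.2)
      have hcz : j * B.a ^ n = B.a ^ n * j := ((Commute.zpow_left (B.comm_a hjC).symm n).eq).symm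
      rw [hx, show j * r * y * (j * r)⁻¹ * y⁻¹ = (j * (r * y * r⁻¹ * y⁻¹)) * (y * j⁻¹ * y⁻¹) by group,
        ← hn, hcz] at h1
      rw [show j * y * j⁻¹ * y⁻¹ = j * (y * j⁻¹ * y⁻¹) by group,
        show j * (y * j⁻¹ * y⁻¹) = (B.a ^ n)⁻¹ by
          rw [mul_assoc] at h1
          exact eq_inv_of_mul_eq_one_right h1]
      exact inv_mem (zpow_mem_zpowers _ _)⟩
    have hFR : F = B.R := by
      refine eq_of_le_of_card_ge (fun y hy => hy.1) ?_
      have hlt : 9 < Nat.card F := by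
        rw [← B.card_J_inf_R]
        refine lt_of_le_of_ne (Subgroup.card_le_of_le hJF) fun h => hne0 ?_
        exact eq_of_le_of_card_ge (hAF.trans (eq_of_le_of_card_ge hJF h.ge).ge)
          (by rw [hA0, B.card_J_inf_R])
      obtain ⟨k, hk, he⟩ := (Nat.dvd_prime_pow Nat.prime_three).1
        (show Nat.card F ∣ 3 ^ 3 from
          (Subgroup.card_dvd_of_le (fun y hy => hy.1 : F ≤ B.R)).trans (by rw [B.R_card]; norm_num))
      rw [he] at hlt ⊢
      rw [B.R_card]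
      interval_cases k <;> omega
    have hjR : j ∈ B.R := B.nat hjC fun y hy => (hFR.ge hy).2
    exact hxR (hx ▸ mul_mem hjR hr)
  have hAC : A ≤ B.P0 ⊓ Subgroup.centralizer ((B.J ⊓ B.R : Subgroup G) : Set G) :=
    le_inf hA fun y hy z hz => hc z (h00.ge hz).1 y hy
  have hJC : B.J ≤ B.P0 ⊓ Subgroup.centralizer ((B.J ⊓ B.R : Subgroup G) : Set G) :=
    le_inf B.J_le_P0 fun y hy z hz => B.J_comm z hz.1 y hy
  have hsmall : Nat.card ↥(B.P0 ⊓ Subgroup.centralizer ((B.J ⊓ B.R : Subgroup G) : Set G)) ≤ 27 := by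
    by_contra hbig
    obtain ⟨k, hk, he⟩ := (Nat.dvd_prime_pow Nat.prime_three).1
      (show Nat.card ↥(B.P0 ⊓ Subgroup.centralizer ((B.J ⊓ B.R : Subgroup G) : Set G)) ∣ 3 ^ 4 from
        (Subgroup.card_dvd_of_le inf_le_left).trans (by rw [B.card_P0]; norm_num))
    have htop := eq_of_le_of_card_ge (inf_le_left : B.P0 ⊓
      Subgroup.centralizer ((B.J ⊓ B.R : Subgroup G) : Set G) ≤ B.P0) (by
        rw [he] at hbig ⊢
        rw [B.card_P0]
        interval_cases k <;> omega)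
    have hsub : B.J ⊓ B.R ≤ Subgroup.zpowers B.a := fun z hz =>
      B.cent_P0 fun y hy => (htop.ge hy).2 z hz
    have := Subgroup.card_le_of_le hsub
    rw [B.card_J_inf_R, Nat.card_zpowers, B.ha] at this
    omega
  exact (eq_of_le_of_card_ge hAC (by rw [h27]; exact hsmall)).trans
    (eq_of_le_of_card_ge hJC (by rw [B.J_card]; exact hsmall)).symm

theorem abelian_map_conj {A : Subgroup G} (hc : ∀ x ∈ A, ∀ y ∈ A, x * y = y * x) (g : G) :
    ∀ x ∈ A.map (MulAut.conj g).toMonoidHom, ∀ y ∈ A.map (MulAut.conj g).toMonoidHom,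
      x * y = y * x := by
  rintro _ ⟨x, hx, rfl⟩ _ ⟨y, hy, rfl⟩
  rw [← map_mul, ← map_mul, hc x hx y hy]

include B in
/-- In any 3-subgroup there is at most one abelian subgroup of order 27. -/
theorem eq_of_pgroup {Q A D : Subgroup G} (hQ : IsPGroup 3 Q) (hAQ : A ≤ Q) (hDQ : D ≤ Q)
    (hA : ∀ x ∈ A, ∀ y ∈ A, x * y = y * x) (hA27 : Nat.card A = 27)
    (hD : ∀ x ∈ D, ∀ y ∈ D, x * y = y * x) (hD27 : Nat.card D = 27) : A = D := by
  haveI : Fact (Nat.Prime 3) := ⟨Nat.prime_three⟩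
  obtain ⟨P, hP⟩ := B.exists_sylow
  obtain ⟨P', hP'⟩ := hQ.exists_le_sylow
  obtain ⟨g, hg⟩ := MulAction.exists_smul_eq G P' P
  have hmap : ∀ {E : Subgroup G}, E ≤ Q → E.map (MulAut.conj g).toMonoidHom ≤ B.P0 := by
    intro E hE
    rw [← hP, ← hg, Sylow.coe_subgroup_smul]
    exact Subgroup.map_mono (hE.trans hP')
  have hcard : ∀ {E : Subgroup G}, Nat.card (E.map (MulAut.conj g).toMonoidHom) = Nat.card E :=
    fun {E} => Subgroup.card_map_of_injective (MulAut.conj g).injective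
  refine Subgroup.map_injective (f := (MulAut.conj g).toMonoidHom) (MulAut.conj g).injective ?_
  rw [B.eq_of_le_P0 (hmap hAQ) (abelian_map_conj hA g) (hcard.trans hA27),
    B.eq_of_le_P0 (hmap hDQ) (abelian_map_conj hD g) (hcard.trans hD27)]

theorem mem_M_of_map {g : G} (h : B.J.map (MulAut.conj g).toMonoidHom = B.J) : g ∈ B.M := by
  refine Subgroup.mem_normalizer_iff.2 fun x => ⟨fun hx => h.le ⟨x, hx, rfl⟩, fun hx => ?_⟩
  obtain ⟨y, hy, he⟩ := h.ge hx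
  rwa [← mul_left_cancel (mul_right_cancel (show g * y * g⁻¹ = g * x * g⁻¹ from he))]

/-- Fusion in `J` is controlled by its normalizer. -/
theorem fusion {x y g : G} (hx : x ∈ B.J) (hy : y ∈ B.J) (h : g * x * g⁻¹ = y) :
    ∃ m ∈ B.M, m * x * m⁻¹ = y := by
  haveI : Fact (Nat.Prime 3) := ⟨Nat.prime_three⟩
  let D : Subgroup G := Subgroup.centralizer ({y} : Set G)
  have hJD : B.J ≤ D := fun j hj => mem_centralizer_singleton_iff.2 (B.J_comm j hj y hy)
  have hgJD : B.J.map (MulAut.conj g).toMonoidHom ≤ D := by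
    rintro _ ⟨j, hj, rfl⟩
    refine mem_centralizer_singleton_iff.2 ?_
    rw [← h]
    show g * j * g⁻¹ * (g * x * g⁻¹) = g * x * g⁻¹ * (g * j * g⁻¹)
    calc g * j * g⁻¹ * (g * x * g⁻¹) = g * (j * x) * g⁻¹ := by group
      _ = _ := by rw [B.J_comm j hj x hx]; group
  obtain ⟨P1, hP1⟩ := (B.J_pgroup.of_equiv (Subgroup.subgroupOfEquivOfLe hJD).symm).exists_le_sylow
  obtain ⟨P2, hP2⟩ := (((B.J_pgroup.map (MulAut.conj g).toMonoidHom).of_equiv
    (Subgroup.subgroupOfEquivOfLe hgJD).symm)).exists_le_sylow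
  obtain ⟨k, hk⟩ := MulAction.exists_smul_eq D P2 P1
  refine ⟨(k : G) * g, B.mem_M_of_map ?_, ?_⟩
  · refine B.eq_of_pgroup (Q := (P1 : Subgroup D).map D.subtype) (P1.isPGroup'.map _) ?_ ?_
      (abelian_map_conj B.J_comm _) ((Subgroup.card_map_of_injective (MulAut.conj _).injective).trans
        B.J_card) B.J_comm B.J_card
    · rintro _ ⟨j, hj, rfl⟩
      refine ⟨k * ⟨g * j * g⁻¹, hgJD ⟨j, hj, rfl⟩⟩ * k⁻¹, ?_, ?_⟩
      · rw [← hk, Sylow.coe_subgroup_smul]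
        exact ⟨_, hP2 (mem_subgroupOf.2 ⟨j, hj, rfl⟩), rfl⟩
      · show (k : G) * (g * j * g⁻¹) * (k : G)⁻¹ = (k : G) * g * j * ((k : G) * g)⁻¹
        group
    · exact fun j hj => ⟨⟨j, hJD hj⟩, hP1 (mem_subgroupOf.2 hj), rfl⟩
  · have hk' := mem_centralizer_singleton_iff.1 k.2
    calc (k : G) * g * x * ((k : G) * g)⁻¹ = (k : G) * (g * x * g⁻¹) * (k : G)⁻¹ := by group
      _ = y := by rw [h, hk', mul_inv_cancel_right]

theorem inv_in_M (h : B.Inv) : ∃ m ∈ B.M, m * B.a * m⁻¹ = B.a⁻¹ := by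
  obtain ⟨g, hg⟩ := h
  exact B.fusion B.a_mem_J (inv_mem B.a_mem_J) hg

theorem mem_M_of_norm_P0 {g : G} (hg : g ∈ Subgroup.normalizer (B.P0 : Set G)) : g ∈ B.M := by
  refine B.mem_M_of_map (B.eq_of_le_P0 ?_ (abelian_map_conj B.J_comm g)
    ((Subgroup.card_map_of_injective (MulAut.conj g).injective).trans B.J_card))
  rintro _ ⟨j, hj, rfl⟩
  exact (Subgroup.mem_normalizer_iff.1 hg j).1 (B.J_le_P0 hj)

theorem P0_le_M : B.P0 ≤ B.M := fun _ hg =>
  B.mem_M_of_norm_P0 (Subgroup.le_normalizer hg)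

/-- `C ∩ M` is the preimage of the normalizer of the image of `J`. -/
theorem mem_M_iff {x g : G} (hx : x ∈ B.J) (hne : B.sl ⟨x, B.J_le hx⟩ ≠ 1) (hg : g ∈ B.C) :
    g ∈ B.M ↔ (B.sl ⟨g, hg⟩ * B.sl ⟨x, B.J_le hx⟩ * (B.sl ⟨g, hg⟩)⁻¹ = B.sl ⟨x, B.J_le hx⟩ ∨
      B.sl ⟨g, hg⟩ * B.sl ⟨x, B.J_le hx⟩ * (B.sl ⟨g, hg⟩)⁻¹ = (B.sl ⟨x, B.J_le hx⟩)⁻¹) := by
  have hconj : ∀ (j : G) (hj : j ∈ B.C),
      B.sl ⟨g * j * g⁻¹, mul_mem (mul_mem hg hj) (inv_mem hg)⟩ =
        B.sl ⟨g, hg⟩ * B.sl ⟨j, hj⟩ * (B.sl ⟨g, hg⟩)⁻¹ := fun j hj => by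
    rw [← map_inv, ← map_mul, ← map_mul]; rfl
  constructor
  · intro hM
    have hgx : g * x * g⁻¹ ∈ B.J := (Subgroup.mem_normalizer_iff.1 hM x).1 hx
    have := sl_three _ _ (B.sl_cube hx) (B.sl_cube hgx) (B.sl_J_comm hx hgx) hne
    rw [show B.sl ⟨g * x * g⁻¹, B.J_le hgx⟩ = _ from hconj x (B.J_le hx)] at this
    rcases this with h | h | h
    · exact absurd (conj_eq_one_iff.1 h) hne
    · exact Or.inl h
    · exact Or.inr h
  · intro h
    refine B.mem_M_of_norm_P0 ?_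
    have hle : B.P0.map (MulAut.conj g).toMonoidHom ≤ B.P0 := by
      rw [P0, Subgroup.map_sup]
      refine sup_le ?_ ?_
      · rintro _ ⟨j, hj, rfl⟩
        show g * j * g⁻¹ ∈ B.J ⊔ B.R
        obtain ⟨i, hiJ, hi⟩ : ∃ i : G, ∃ hi : i ∈ B.J,
            B.sl ⟨g * j * g⁻¹, mul_mem (mul_mem hg (B.J_le hj)) (inv_mem hg)⟩ =
              B.sl ⟨i, B.J_le hi⟩ := by
          rw [hconj j (B.J_le hj)]
          rcases sl_three _ _ (B.sl_cube hx) (B.sl_cube hj) (B.sl_J_comm hx hj) hne with h1 | h1 | h1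
          · exact ⟨1, one_mem _, by rw [h1, mul_one, mul_inv_cancel]; exact (map_one B.sl).symm⟩
          · rcases h with h | h
            · exact ⟨x, hx, by rw [h1, h]⟩
            · exact ⟨x⁻¹, inv_mem hx, by rw [h1, h, ← map_inv]; rfl⟩
          · rw [h1, ← conj_inv]
            rcases h with h | h
            · exact ⟨x⁻¹, inv_mem hx, by rw [h, ← map_inv]; rfl⟩
            · exact ⟨x, hx, by rw [h, inv_inv]⟩
        have hR : i⁻¹ * (g * j * g⁻¹) ∈ B.R := by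
          refine (B.mem_R_iff (mul_mem (inv_mem (B.J_le hiJ))
            (mul_mem (mul_mem hg (B.J_le hj)) (inv_mem hg)))).2 ?_
          show B.sl (⟨i, B.J_le hiJ⟩⁻¹ *
            ⟨g * j * g⁻¹, mul_mem (mul_mem hg (B.J_le hj)) (inv_mem hg)⟩) = 1
          rw [map_mul, map_inv, hi, inv_mul_cancel]
        have := mul_mem (mem_sup_left hiJ : i ∈ B.J ⊔ B.R) (mem_sup_right hR)
        rwa [mul_inv_cancel_left] at this
      · rintro _ ⟨r, hr, rfl⟩
        exact mem_sup_right ((Subgroup.mem_normalizer_iff.1 (B.C_le_norm_R hg) r).1 hr)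
    have heq := eq_of_le_of_card_ge hle (by
      rw [Subgroup.card_map_of_injective (MulAut.conj g).injective])
    refine Subgroup.mem_normalizer_iff.2 fun y => ⟨fun hy => heq.le ⟨y, hy, rfl⟩, fun hy => ?_⟩
    obtain ⟨z, hz, he⟩ := heq.ge hy
    rwa [← mul_left_cancel (mul_right_cancel (show g * z * g⁻¹ = g * y * g⁻¹ from he))]

theorem card_C_inf_M : Nat.card ↥(B.C ⊓ B.M) = 162 := by
  classical
  obtain ⟨x, hx, hne, -⟩ := B.exists_x0
  let s := B.sl ⟨x, B.J_le hx⟩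
  let ψ : ↥(B.C ⊓ B.M) →* SLT := B.sl.comp (Subgroup.inclusion inf_le_left)
  have hrange : (ψ.range : Set SLT) = {y | y * s * y⁻¹ = s ∨ y * s * y⁻¹ = s⁻¹} := by
    ext y
    constructor
    · rintro ⟨g, rfl⟩
      exact (B.mem_M_iff hx hne g.2.1).1 g.2.2
    · intro hy
      obtain ⟨g, rfl⟩ := B.sl_surj y
      exact ⟨⟨g, g.2, (B.mem_M_iff hx hne g.2).2 hy⟩, rfl⟩
  have hker : ψ.ker = B.R.subgroupOf (B.C ⊓ B.M) := by
    ext y
    rw [MonoidHom.mem_ker, mem_subgroupOf]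
    exact (B.mem_R_iff y.2.1).symm
  have h := ψ.ker.card_eq_card_quotient_mul_card_subgroup
  rw [Nat.card_congr (QuotientGroup.quotientKerEquivRange ψ).toEquiv,
    show Nat.card ψ.range = (ψ.range : Set SLT).ncard from Nat.card_coe_set_eq _, hrange, hker,
    Nat.card_congr (Subgroup.subgroupOfEquivOfLe (le_inf B.R_le (B.R_le_P0.trans B.P0_le_M))).toEquiv,
    B.R_card, show {y : SLT | y * s * y⁻¹ = s ∨ y * s * y⁻¹ = s⁻¹} =
      ↑((Finset.univ : Finset SLT).filter fun y => y * s * y⁻¹ = s ∨ y * s * y⁻¹ = s⁻¹) by simp,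
    Set.ncard_coe_finset, sl_norm_three s (B.sl_cube hx) hne] at h
  exact h

/-- An involution of `C ∩ M` over the central involution of `SL₂(3)`. -/
theorem exists_t : ∃ t : G, ∃ ht : t ∈ B.C, t ∈ B.M ∧ t * t = 1 ∧ B.sl ⟨t, ht⟩ = -1 := by
  obtain ⟨u, hu⟩ := B.sl_surj (-1)
  have h2 : (u : G) * u ∈ B.R := by
    refine (B.mem_R_iff (mul_mem u.2 u.2)).2 ?_
    show B.sl (u * u) = 1
    rw [map_mul, hu, sl_neg_sq]
  have h3 : B.sl (u ^ 3) = -1 := by rw [map_pow, hu, pow_succ, pow_two, sl_neg_sq, one_mul]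
  refine ⟨(u : G) ^ 3, pow_mem u.2 3, ?_, ?_, h3⟩
  · obtain ⟨x, hx, hne, -⟩ := B.exists_x0
    refine (B.mem_M_iff hx hne (pow_mem u.2 3)).2 (Or.inl ?_)
    rw [show B.sl ⟨(u : G) ^ 3, pow_mem u.2 3⟩ = -1 from h3, sl_neg_comm, mul_inv_cancel_right]
  · rw [← pow_add, show 3 + 3 = 2 * 3 from rfl, pow_mul, pow_two, B.R_exp _ h2]

end Base

end CfsgLib.Recog.SpSixThree
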