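import Cfsg.Agent.Lib.Recog.SpSixThree.NormACore
import Cfsg.Agent.Lib.Recog.SpSixThree.LocalThree
import Cfsg.Agent.Lib.Recog.SpSixThree.Sylow
import Cfsg.Agent.Lib.AmalgamSpThree.Extend
import Cfsg.Agent.Lib.Comp.Signalizer
import Cfsg.Agent.Lib.Solvable.Nilpotent
import Cfsg.Agent.S0205
import Cfsg.Agent.S0215

/-!
# `N(J) ≤ N(⟨a⟩)` and `a ~ a⁻¹` force `⟨a⟩` normal

`a` is weakly closed; the centralizers of the elements of a plane `E = C_J(t)` lie in `C(a)`, so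
every `E`-invariant `3'`-group does; the Sylow `2`-subgroup lies in `N(⟨a⟩)`, the involution `t`
is isolated, and the odd core of Glauberman's theorem yields a normal `3`-subgroup.
-/

set_option autoImplicit false
set_option Elab.async false
set_option linter.unusedSectionVars false

namespace CfsgLib.Recog.SpSixThree

open Subgroup

theorem sl_invol_unique : ∀ y y' : Matrix.SpecialLinearGroup (Fin 2) (ZMod 3),
    y * y = 1 → y' * y' = 1 → y ≠ 1 → y' ≠ 1 → y = y' := by decide +kernel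

theorem sl_invol_comm : ∀ y k : Matrix.SpecialLinearGroup (Fin 2) (ZMod 3),
    y * y = 1 → y * k = k * y := by decide +kernel

theorem sl_cent_order_three : ∀ y k : Matrix.SpecialLinearGroup (Fin 2) (ZMod 3),
    y * y * y = 1 → y ≠ 1 → k * y = y * k →
    ∃ s : Matrix.SpecialLinearGroup (Fin 2) (ZMod 3), s * s = 1 ∧
      (k = s ∨ k = s * y ∨ k = s * y * y) := by decide +kernel

theorem sl_four_count :
    (Finset.univ.filter fun y : Matrix.SpecialLinearGroup (Fin 2) (ZMod 3) =>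
      y * y * (y * y) = 1).card = 8 := by decide +kernel

theorem sl_cent_four : ∀ k : Matrix.SpecialLinearGroup (Fin 2) (ZMod 3),
    (∀ q : Matrix.SpecialLinearGroup (Fin 2) (ZMod 3), q * q * (q * q) = 1 → k * q = q * k) →
      k * k = 1 := by decide +kernel

theorem sl_act_four : ∀ w y : Matrix.SpecialLinearGroup (Fin 2) (ZMod 3),
    w * w * w = 1 → y * y * y = 1 →
    (∀ q : Matrix.SpecialLinearGroup (Fin 2) (ZMod 3), q * q * (q * q) = 1 →
      w * q * w⁻¹ = y * q * y⁻¹) → w = y := by decide +kernel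

theorem sl_two_pow : ∀ y : Matrix.SpecialLinearGroup (Fin 2) (ZMod 3),
    y * y * (y * y) * (y * y * (y * y)) = 1 → y * y * (y * y) = 1 := by decide +kernel

theorem sl_neg_sqrt : ∃ y : Matrix.SpecialLinearGroup (Fin 2) (ZMod 3), y * y = -1 := by
  decide +kernel

theorem sl_eight_pow : ∀ y : Matrix.SpecialLinearGroup (Fin 2) (ZMod 3),
    y ^ 3 = 1 → y * y = 1 → y = 1 := by decide +kernel

theorem eight_of_two_pow {H : Subgroup (Matrix.SpecialLinearGroup (Fin 2) (ZMod 3))}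
    (hH : Nat.card H = 8) {y : Matrix.SpecialLinearGroup (Fin 2) (ZMod 3)}
    (hy : y * y * (y * y) = 1) : y ∈ H := by
  classical
  have hle : (H : Set (Matrix.SpecialLinearGroup (Fin 2) (ZMod 3))) ⊆
      {y | y * y * (y * y) = 1} := by
    intro z hz
    refine sl_two_pow z ?_
    have h8 : (⟨z, hz⟩ : H) ^ 8 = 1 := by rw [← hH]; exact pow_card_eq_one'
    have h := congrArg Subtype.val h8
    simpa [pow_succ, mul_assoc] using h
  have heq := Set.eq_of_subset_of_ncard_le hle (by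
    rw [show {y : Matrix.SpecialLinearGroup (Fin 2) (ZMod 3) | y * y * (y * y) = 1} =
      ↑(Finset.univ.filter fun y : Matrix.SpecialLinearGroup (Fin 2) (ZMod 3) =>
        y * y * (y * y) = 1) by simp, Set.ncard_coe_finset, sl_four_count,
      ← Nat.card_coe_set_eq]
    exact hH.ge)
  exact heq.ge hy

namespace Base

variable {G : Type*} [Group G] [Finite G] {B : Base G}

theorem nfacts (B : Base G) : B.NFacts where
  aR := B.a_mem_R
  aJ := B.a_mem_J
  RC := B.R_le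
  Cnorm := B.C_le_norm_R
  Rcen := B.R_center
  nat := fun _ hg h => B.nat hg h
  cardC := B.card_C
  cardCM := B.card_C_inf_M
  centJ := B.cent_J
  syl := by
    obtain ⟨P, hP⟩ := B.exists_sylow
    exact ⟨P, hP.le.trans B.P0_le_C, B.J_le_P0.trans hP.ge, B.R_le_P0.trans hP.ge,
      by rw [hP, B.card_P0]⟩
  fusion := fun _ hx _ hy _ h => B.fusion hx hy h

theorem sl_inv_of_conj {g : G} {ε : G} (hgε : g * B.a * g⁻¹ = ε) (hε : ε = B.a ∨ ε = B.a⁻¹) {c : G}
    (hc : c ∈ B.C) : g * c * g⁻¹ ∈ B.C := by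
  rw [mem_C] at hc ⊢
  have h1 : g * c * g⁻¹ * ε = ε * (g * c * g⁻¹) := by
    rw [← hgε, show g * c * g⁻¹ * (g * B.a * g⁻¹) = g * (c * B.a) * g⁻¹ by group, hc]; group
  rcases hε with rfl | rfl
  · exact h1
  · exact (Commute.inv_right_iff.1 (show Commute _ B.a⁻¹ from h1)).eq

/-- An element of `C(a)` mapping some element of `(J ∩ R) - Z` into `J` normalises `J`. -/
theorem mem_M_of_conj {n v : G} (hn : n ∈ B.C) (hvJ : v ∈ B.J) (hvR : v ∈ B.R) (hvZ : v ∉ B.Za)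
    (h : n * v * n⁻¹ ∈ B.J) : n ∈ B.M := by
  refine mem_normalizer_iff_map_conj_eq.2 (eq_of_le_of_card_ge ?_
    (card_map_of_injective (MulAut.conj n).injective).ge)
  rintro _ ⟨j, hj, rfl⟩
  have hR : n * v * n⁻¹ ∈ B.R := (mem_normalizer_iff.1 ((nfacts B).Cnorm hn) v).1 hvR
  refine cent_x (nfacts B) h hR ?_ (B.C.mul_mem (B.C.mul_mem hn (J_C hj)) (B.C.inv_mem hn)) ?_
  · intro hz
    refine hvZ ?_
    have h1 := za_conj (B.C.inv_mem hn) hz
    rw [inv_inv, show n⁻¹ * (n * v * n⁻¹) * n = v by group] at h1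
    exact h1.symm ▸ hz
  · show n * j * n⁻¹ * (n * v * n⁻¹) = n * v * n⁻¹ * (n * j * n⁻¹)
    calc n * j * n⁻¹ * (n * v * n⁻¹) = n * (j * v) * n⁻¹ := by group
      _ = _ := by rw [B.J_comm j hj v hvJ]; group

/-- An element of `C(a)` centralising an element of `J - R` normalises `J`. -/
theorem mem_M_of_fix {n b : G} (hn : n ∈ B.C) (hb : b ∈ B.J) (hbR : b ∉ B.R)
    (h : n * b = b * n) : n ∈ B.M := by
  obtain ⟨r, hr, hrJ⟩ := exists_r (nfacts B)
  obtain ⟨hvJ, hvR, hvZ⟩ := qc_b_r (nfacts B) hb hbR hr hrJ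
  refine mem_M_of_conj hn hvJ hvR hvZ ?_
  have hu : n * r * n⁻¹ ∈ B.R := (mem_normalizer_iff.1 ((nfacts B).Cnorm hn) r).1 hr
  rw [conj_qc, mul_inv_eq_iff_eq_mul.2 h]
  show b * (n * r * n⁻¹) * b⁻¹ * (n * r * n⁻¹)⁻¹ ∈ B.J
  rw [mul_assoc b, mul_assoc b]
  exact B.J.mul_mem hb
    ((mem_normalizer_iff.1 (R_le_M (nfacts B) hu) b⁻¹).1 (B.J.inv_mem hb))

/-- An element of `R` centralising an element of `J - R` lies in `J`. -/
theorem R_fix {ρ b : G} (hρ : ρ ∈ B.R) (hb : b ∈ B.J) (hbR : b ∉ B.R) (h : ρ * b = b * ρ) :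
    ρ ∈ B.J := by
  by_contra hρJ
  exact (qc_b_r (nfacts B) hb hbR hρ hρJ).2.2 (by rw [qc_eq_one.2 h.symm]; exact one_mem _)

/-- The centralizer in `C(a)` of an element of `J - R` and an involution `t` centralising it. -/
theorem cent_b_cases {n t b : G} (hn : n ∈ B.C) (ht : t ∈ B.C) (ht2 : t * t = 1) (ht1 : t ≠ 1)
    (hb : b ∈ B.J) (hbR : b ∉ B.R) (htb : t * b = b * t) (h : n * b = b * n) :
    n ∈ B.J ∨ ∃ j ∈ B.J, n = t * j := by
  have hbC : b ∈ B.C := J_C hb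
  have hy3 : B.sl ⟨b, hbC⟩ * B.sl ⟨b, hbC⟩ * B.sl ⟨b, hbC⟩ = 1 := by
    rw [← map_mul, ← map_mul]
    convert map_one B.sl
    exact Subtype.ext (by
      show b * b * b = 1
      rw [← B.J_exp b hb]; simp only [pow_succ, pow_zero, one_mul])
  have hy1 : B.sl ⟨b, hbC⟩ ≠ 1 := fun he => hbR ((B.mem_R_iff hbC).2 he)
  have hcomm : B.sl ⟨n, hn⟩ * B.sl ⟨b, hbC⟩ = B.sl ⟨b, hbC⟩ * B.sl ⟨n, hn⟩ := by
    rw [← map_mul, ← map_mul]
    exact congrArg _ (Subtype.ext h)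
  have hts : B.sl ⟨t, ht⟩ ≠ 1 := fun he => by
    have h3 := B.R_exp t ((B.mem_R_iff ht).2 he)
    rw [pow_succ, pow_two, ht2, one_mul] at h3
    exact ht1 h3
  obtain ⟨s, hs, hk⟩ := sl_cent_order_three _ _ hy3 hy1 hcomm
  -- the lift of `s` and the power of `b`
  obtain ⟨σ, hσC, hσ, hσb⟩ : ∃ σ, ∃ hσC : σ ∈ B.C, B.sl ⟨σ, hσC⟩ = s ∧ (σ = 1 ∨ σ = t) := by
    by_cases hs1 : s = 1
    · exact ⟨1, one_mem _, hs1.symm ▸ map_one B.sl, Or.inl rfl⟩
    · refine ⟨t, ht, sl_invol_unique _ _ ?_ hs hts hs1, Or.inr rfl⟩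
      rw [← map_mul]
      convert map_one B.sl
      exact Subtype.ext ht2
  obtain ⟨i, hi⟩ : ∃ i : ℕ, B.sl ⟨n, hn⟩ = s * B.sl ⟨b, hbC⟩ ^ i := by
    rcases hk with hk | hk | hk
    · exact ⟨0, by rw [pow_zero, mul_one]; exact hk⟩
    · exact ⟨1, by rw [pow_one]; exact hk⟩
    · exact ⟨2, by rw [pow_two, ← mul_assoc]; exact hk⟩
  have hm : σ * b ^ i ∈ B.C := B.C.mul_mem hσC (B.C.pow_mem hbC i)
  have hρ : (σ * b ^ i)⁻¹ * n ∈ B.R := by
    refine (B.mem_R_iff (B.C.mul_mem (B.C.inv_mem hm) hn)).2 ?_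
    rw [show (⟨(σ * b ^ i)⁻¹ * n, B.C.mul_mem (B.C.inv_mem hm) hn⟩ : B.C) =
      (⟨σ, hσC⟩ * (⟨b, hbC⟩ : B.C) ^ i)⁻¹ * ⟨n, hn⟩ from Subtype.ext (by simp), map_mul, map_inv,
      map_mul, map_pow, hσ, hi, inv_mul_cancel]
  have hσc : Commute σ b := by
    rcases hσb with rfl | rfl
    · exact Commute.one_left b
    · exact htb
  have hρb : Commute ((σ * b ^ i)⁻¹ * n) b :=
    ((hσc.mul_left ((Commute.refl b).pow_left i)).inv_left).mul_left h
  have hρJ := R_fix hρ hb hbR hρb.eq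
  have hn' : n = σ * (b ^ i * ((σ * b ^ i)⁻¹ * n)) := by group
  rcases hσb with rfl | rfl
  · rw [one_mul] at hn'
    exact Or.inl (hn' ▸ B.J.mul_mem (B.J.pow_mem hb i) hρJ)
  · exact Or.inr ⟨_, B.J.mul_mem (B.J.pow_mem hb i) hρJ, hn'⟩

variable (hM : B.M ≤ Subgroup.normalizer (Subgroup.zpowers B.a : Set G))

theorem norm_za {g : G} (hg : g ∈ Subgroup.normalizer (Subgroup.zpowers B.a : Set G)) :
    g * B.a * g⁻¹ = B.a ∨ g * B.a * g⁻¹ = B.a⁻¹ := by
  rcases za_cases ((mem_normalizer_iff.1 hg B.a).1 (mem_zpowers _)) with h | h | h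
  · rw [conj_eq_one_iff] at h
    exact absurd h (fun h => by simpa [h] using B.ha)
  · exact Or.inl h
  · exact Or.inr h

include hM in
/-- Weak closure of `a`. -/
theorem weak {g : G} (hg : g * B.a * g⁻¹ ∈ B.C) :
    g * B.a * g⁻¹ = B.a ∨ g * B.a * g⁻¹ = B.a⁻¹ := by
  have h3 : (g * B.a * g⁻¹) ^ 3 = 1 := by
    rw [conj_pow, show B.a ^ 3 = 1 from B.ha ▸ pow_orderOf_eq_one B.a, mul_one, mul_inv_cancel]
  obtain ⟨c, hc, hcJ⟩ := three_into_J (nfacts B) hg h3
  obtain ⟨m, hm, hme⟩ := B.fusion B.a_mem_J hcJ (g := c * g) (by group)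
  have hz : c * (g * B.a * g⁻¹) * c⁻¹ ∈ B.Za := by
    rw [← hme]
    exact (mem_normalizer_iff.1 (hM hm) B.a).1 (mem_zpowers _)
  have h := za_conj (B.C.inv_mem hc) hz
  rw [inv_inv, show c⁻¹ * (c * (g * B.a * g⁻¹) * c⁻¹) * c = g * B.a * g⁻¹ by group] at h
  rw [← h] at hz
  rcases za_cases hz with h' | h' | h'
  · rw [conj_eq_one_iff] at h'
    exact absurd h' (fun h => by simpa [h] using B.ha)
  · exact Or.inl h'
  · exact Or.inr h'

theorem a_not_mem_pair {b v : G} (hb : b ∈ B.J) (hbR : b ∉ B.R) (hvJ : v ∈ B.J) (hvR : v ∈ B.R)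
    (hvZ : v ∉ B.Za) : B.a ∉ Subgroup.zpowers b ⊔ Subgroup.zpowers v := by
  intro ha
  have hn : zpowers v ≤ normalizer ((zpowers b : Subgroup G) : Set G) := by
    refine le_trans ?_ (centralizer_le_normalizer _)
    rw [zpowers_le]
    intro y hy
    obtain ⟨i, rfl⟩ := mem_zpowers_iff.1 hy
    exact ((show Commute v b from B.J_comm v hvJ b hb).zpow_right i).eq.symm
  have hset := coe_mul_of_right_le_normalizer_left (zpowers b) (zpowers v) hn
  rw [← SetLike.mem_coe, hset] at ha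
  obtain ⟨p, hp, q, hq, he⟩ := ha
  have hpR : p ∈ B.R := by
    rw [show p = B.a * q⁻¹ by rw [← he]; group]
    exact B.R.mul_mem B.a_mem_R (B.R.inv_mem (zpowers_le.2 hvR hq))
  obtain ⟨k, rfl⟩ := mem_zpowers_iff.1 hp
  have hk : b ^ k = 1 := by
    by_contra hne
    refine hbR ?_
    have h3 : orderOf b = 3 := orderOf_eq_prime (B.J_exp b hb) fun h => hne (by rw [h, one_zpow])
    rw [← zpow_mod_orderOf, h3] at hpR hne
    rcases (by omega : k % ((3 : ℕ) : ℤ) = 0 ∨ k % ((3 : ℕ) : ℤ) = 1 ∨ k % ((3 : ℕ) : ℤ) = 2)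
      with h | h | h <;> rw [h] at hpR hne
    · exact absurd (zpow_zero b) hne
    · simpa using hpR
    · have := B.R.inv_mem hpR
      rw [zpow_ofNat] at this
      rwa [inv_eq_of_mul_eq_one_right (a := b ^ 2) (b := b)
        (by rw [← pow_succ]; exact B.J_exp b hb)] at this
  have hav : B.a ∈ zpowers v := by
    rw [show B.a = q by rw [← he]; show b ^ k * q = q; rw [hk, one_mul]]
    exact hq
  have hc : Nat.card (zpowers v) ≤ Nat.card B.Za := by
    rw [card_za, Nat.card_zpowers]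
    exact orderOf_le_of_pow_eq_one (by norm_num) (B.J_exp v hvJ)
  exact hvZ ((eq_of_le_of_card_ge (zpowers_le.2 hav) hc).ge (mem_zpowers v))

include hM in
/-- The centralizer of a plane of `J` meeting `R` outside `Z`. -/
theorem cent_pair_inv {b v g : G} (hb : b ∈ B.J) (hbR : b ∉ B.R) (hvJ : v ∈ B.J) (hvR : v ∈ B.R)
    (hvZ : v ∉ B.Za) (hgb : g * b = b * g) (hgv : g * v = v * g) : g ∈ B.J := by
  obtain ⟨K, hK⟩ : ∃ K, K = centralizer ({b} : Set G) ⊓ centralizer ({v} : Set G) := ⟨_, rfl⟩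
  obtain ⟨U, hU⟩ : ∃ U, U = zpowers b ⊔ zpowers v := ⟨_, rfl⟩
  have hUJ : U ≤ B.J := hU ▸ sup_le (zpowers_le.2 hb) (zpowers_le.2 hvJ)
  have hJK : B.J ≤ K := hK ▸ fun j hj =>
    ⟨mem_centralizer_singleton_iff.2 (B.J_comm j hj b hb),
      mem_centralizer_singleton_iff.2 (B.J_comm j hj v hvJ)⟩
  have hKC : ∀ k ∈ K, ∀ u ∈ U, k * u = u * k := by
    intro k hk u hu
    have hkb := (mem_centralizer_singleton_iff.1 (hK.le hk).1)
    have hkv := (mem_centralizer_singleton_iff.1 (hK.le hk).2)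
    have hle : U ≤ centralizer ({k} : Set G) := hU ▸ sup_le
      (zpowers_le.2 (mem_centralizer_singleton_iff.2 hkb.symm))
      (zpowers_le.2 (mem_centralizer_singleton_iff.2 hkv.symm))
    exact (mem_centralizer_singleton_iff.1 (hle hu)).symm
  have haU : B.a ∉ U := hU ▸ a_not_mem_pair hb hbR hvJ hvR hvZ
  have hUc : Nat.card U ∣ 9 := by
    have hd : Nat.card U ∣ 3 ^ 3 := by
      have := card_dvd_of_le hUJ
      rwa [B.J_card] at this
    obtain ⟨k, hk, hk'⟩ := (Nat.dvd_prime_pow Nat.prime_three).1 hd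
    have hne : k ≠ 3 := fun h => haU ((eq_of_le_of_card_ge hUJ
      (by rw [hk', B.J_card, h]; norm_num)).ge B.a_mem_J)
    rw [hk']
    exact (pow_dvd_pow 3 (show k ≤ 2 by omega)).trans (by norm_num)
  have hUa : U ⊔ zpowers B.a ≤ B.J := sup_le hUJ (zpowers_le.2 B.a_mem_J)
  have hfix : ∀ k ∈ K, k * B.a * k⁻¹ * B.a⁻¹ ∈ U → k * B.a = B.a * k := by
    intro k hk hkU
    have hJ : k * B.a * k⁻¹ ∈ B.J := by
      have := B.J.mul_mem (hUJ hkU) B.a_mem_J
      rwa [inv_mul_cancel_right] at this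
    rcases weak hM (J_C hJ) with he | he
    · exact mul_inv_eq_iff_eq_mul.1 he
    · exfalso
      rw [he] at hkU
      refine haU ?_
      have h3 : B.a⁻¹ * B.a⁻¹ = B.a := by
        rw [← mul_inv_rev, inv_eq_iff_mul_eq_one, ← pow_two, ← pow_succ]
        exact B.a_three
      rwa [h3] at hkU
  have hJK' : B.J ≤ normalizer (K : Set G) := hJK.trans le_normalizer
  have hsig : ∀ N : Subgroup G, (Nat.card N).Coprime 3 → B.J ≤ normalizer (N : Set G) → N = ⊥ :=
    B.sig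
  have hCJ : ∀ k ∈ K, k * B.a = B.a * k → k ∈ B.J := fun k hk hka =>
    cent_x (nfacts B) hvJ hvR hvZ (mem_C.2 hka) (mem_centralizer_singleton_iff.1 (hK.le hk).2)
  have hcase := local_self_cent (J := B.J) (IsPGroup.of_card (n := 3) (by rw [B.J_card]; norm_num))
    hsig hJK' (hUJ.trans hJK) hUJ hKC (fun j hj u hu => B.J_comm j hj u (hUJ hu))
    (hJK B.a_mem_J) haU (B.J_exp _ B.a_mem_J)
    (fun k hk hkU => by
      have hkJ := hCJ k hk (hfix k hk hkU)
      have hUa3 : U ⊔ zpowers B.a = B.J := by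
        refine eq_of_le_of_card_ge hUa ?_
        have hbU : b ∈ U := hU ▸ mem_sup_left (mem_zpowers b)
        have hvU : v ∈ U := hU ▸ mem_sup_right (mem_zpowers v)
        have hI : B.J ⊓ B.R ≤ U ⊔ zpowers B.a := by
          intro i hi
          obtain ⟨z, hz, l, -, rfl⟩ := I_cases (nfacts B) hvJ hvR hvZ hi.1 hi.2
          exact mul_mem (mem_sup_right hz) (mem_sup_left (U.pow_mem hvU l))
        have hlt : Nat.card ↥(B.J ⊓ B.R) < Nat.card ↥(U ⊔ zpowers B.a) := by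
          refine lt_of_le_of_ne (Nat.card_le_card_of_injective (inclusion hI) (inclusion_injective hI))
            fun he => hbR ((eq_of_le_of_card_ge hI he.ge).ge (mem_sup_left hbU)).2
        rw [card_I (nfacts B)] at hlt
        have hd : Nat.card ↥(U ⊔ zpowers B.a) ∣ 3 ^ 3 := by
          have := card_dvd_of_le hUa
          rwa [B.J_card] at this
        obtain ⟨k, hk, hk'⟩ := (Nat.dvd_prime_pow Nat.prime_three).1 hd
        rw [hk'] at hlt
        rw [B.J_card, hk']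
        interval_cases k <;> omega
      rw [hUa3]
      exact hkJ)
  have hg : g ∈ K := hK.ge ⟨mem_centralizer_singleton_iff.2 hgb, mem_centralizer_singleton_iff.2 hgv⟩
  rcases hcase with hc | ⟨-, k, hk, hkU⟩
  · have hle : Nat.card K ≤ Nat.card B.J := by
      rw [hc, B.J_card]
      have := Nat.le_of_dvd (by norm_num) hUc
      omega
    exact (eq_of_le_of_card_ge hJK hle).ge hg
  · exfalso
    have hJ : k * B.a * k⁻¹ ∈ B.J := by
      have := B.J.mul_mem (hUJ hkU) (B.J.inv_mem B.a_mem_J)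
      rwa [mul_inv_cancel_right] at this
    rcases weak hM (J_C hJ) with he | he
    · rw [he] at hkU
      refine haU ?_
      have h2 := U.inv_mem hkU
      rwa [inv_eq_of_mul_eq_one_right (a := B.a * B.a) (b := B.a) (by
        rw [← pow_two, ← pow_succ]; exact B.a_three)] at h2
    · refine no_invert (nfacts B) he hb hbR ?_
      rw [mul_inv_eq_iff_eq_mul.2 (mem_centralizer_singleton_iff.1 (hK.le hk).1), mul_inv_cancel]
      exact one_mem _

include hM in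
/-- An element of `J - R` centralised by an involution of `C(a)` has its centralizer inside `C(a)`. -/
theorem cent_b {b t : G} (hb : b ∈ B.J) (hbR : b ∉ B.R) (ht : t ∈ B.C) (ht2 : t * t = 1)
    (ht1 : t ≠ 1) (htb : t * b = b * t) : centralizer ({b} : Set G) ≤ B.C := by
  classical
  haveI : Fact (Nat.Prime 3) := ⟨Nat.prime_three⟩
  have htM : t ∈ B.M := mem_M_of_fix ht hb hbR htb
  obtain ⟨H, hH⟩ : ∃ H, H = centralizer ({b} : Set G) := ⟨_, rfl⟩
  rw [← hH]
  have hJH : B.J ≤ H := hH ▸ fun j hj => mem_centralizer_singleton_iff.2 (B.J_comm j hj b hb)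
  have htJ : ∀ j ∈ B.J, t * j * t⁻¹ ∈ B.J := fun j hj => (mem_normalizer_iff.1 htM j).1 hj
  have ht' : t⁻¹ = t := inv_eq_of_mul_eq_one_right ht2
  -- an element of `J ∩ R` inverted by `t`
  obtain ⟨v, hvJ, hvR, hvZ, htv⟩ : ∃ v, v ∈ B.J ∧ v ∈ B.R ∧ v ∉ B.Za ∧ t * v * t⁻¹ = v⁻¹ := by
    obtain ⟨x, hxJ, hxR, hxZ⟩ := exists_x (nfacts B)
    have hxR' : t * x * t⁻¹ ∈ B.R := (mem_normalizer_iff.1 ((nfacts B).Cnorm ht) x).1 hxR
    refine ⟨x * (t * x * t⁻¹)⁻¹, B.J.mul_mem hxJ (B.J.inv_mem (htJ x hxJ)),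
      B.R.mul_mem hxR (B.R.inv_mem hxR'), fun hz => ?_, ?_⟩
    · obtain ⟨z, hz', hze⟩ : ∃ z ∈ B.Za, x * (t * x * t⁻¹)⁻¹ = z := ⟨_, hz, rfl⟩
      have h1 : t * x * t⁻¹ = z⁻¹ * x := by rw [← hze]; group
      have h2 : x = z⁻¹ * (z⁻¹ * x) := by
        calc x = t * (t * x * t⁻¹) * t⁻¹ := by
              rw [show t * (t * x * t⁻¹) * t⁻¹ = (t * t) * x * (t * t)⁻¹ by group, ht2]; group
          _ = t * (z⁻¹ * x) * t⁻¹ := by rw [h1]
          _ = t * z⁻¹ * t⁻¹ * (t * x * t⁻¹) := by group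
          _ = _ := by rw [za_conj ht (B.Za.inv_mem hz'), h1]
      have h3 : z⁻¹ * z⁻¹ = 1 := by
        rw [← mul_assoc] at h2
        exact mul_right_cancel (b := x) (by rw [one_mul]; exact h2.symm)
      have h4 := za_three (B.Za.inv_mem hz')
      rw [pow_succ, pow_two, h3, one_mul] at h4
      rw [h4, one_mul] at h1
      have htJ' : t ∈ B.J := cent_x (nfacts B) hxJ hxR hxZ ht (mul_inv_eq_iff_eq_mul.1 h1)
      have h5 := B.J_exp t htJ'
      rw [pow_succ, pow_two, ht2, one_mul] at h5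
      exact ht1 h5
    · rw [show t * (x * (t * x * t⁻¹)⁻¹) * t⁻¹ = (t * x * t⁻¹) * ((t * t) * x * (t * t)⁻¹)⁻¹ by group,
        ht2, one_mul, inv_one, mul_one, mul_inv_rev, inv_inv]
  -- the norm modulo `⟨b⟩`
  letI : CommGroup B.J :=
    { (inferInstance : Group B.J) with mul_comm := fun p q => Subtype.ext (B.J_comm p p.2 q q.2) }
  let φ₀ : B.J →* B.J ⧸ Subgroup.zpowers (⟨b, hb⟩ : B.J) :=
    (QuotientGroup.mk' _).comp (MonoidHom.mk'
      (fun j => j * ⟨t * j * t⁻¹, htJ j j.2⟩) fun p q => Subtype.ext (by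
        show (p : G) * q * (t * ((p : G) * q) * t⁻¹) = p * (t * p * t⁻¹) * (q * (t * q * t⁻¹))
        calc (p : G) * q * (t * ((p : G) * q) * t⁻¹)
            = p * ((q : G) * (t * p * t⁻¹)) * (t * q * t⁻¹) := by group
          _ = p * ((t * p * t⁻¹) * q) * (t * q * t⁻¹) := by rw [B.J_comm q q.2 _ (htJ p p.2)]
          _ = _ := by group))
  obtain ⟨P, hP⟩ := ((IsPGroup.of_card (p := 3) (n := 3) (by rw [B.J_card]; norm_num) :
    IsPGroup 3 B.J).of_equiv (subgroupOfEquivOfLe hJH).symm).exists_le_sylow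
  have hHC : ∀ n ∈ H, n * b = b * n := fun n hn => mem_centralizer_singleton_iff.1 (hH.le hn)
  have hfixM : ∀ n ∈ H, n ∈ B.M → n ∈ B.C := by
    intro n hn hnM
    rcases norm_za (hM hnM) with he | he
    · exact mem_C.2 (mul_inv_eq_iff_eq_mul.1 he)
    · refine (no_invert (nfacts B) he hb hbR ?_).elim
      rw [mul_inv_eq_iff_eq_mul.2 (hHC n hn), mul_inv_cancel]
      exact one_mem _
  have hPJ : (P : Subgroup H) = B.J.subgroupOf H := by
    by_contra hne
    have hlt : B.J.subgroupOf H < P := lt_of_le_of_ne hP (Ne.symm hne)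
    haveI := P.2.isNilpotent
    have hlt' : (B.J.subgroupOf H).subgroupOf (P : Subgroup H) < ⊤ := by
      refine lt_top_iff_ne_top.2 fun h => hlt.not_ge ?_
      rwa [subgroupOf_eq_top] at h
    obtain ⟨q, hqn, hqJ⟩ := SetLike.exists_of_lt
      (Group.normalizerCondition_of_isNilpotent _ hlt')
    have hqM : ((q : H) : G) ∈ B.M := by
      refine mem_normalizer_iff_map_conj_eq.2 (eq_of_le_of_card_ge ?_
        (card_map_of_injective (MulAut.conj _).injective).ge)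
      rintro _ ⟨j, hj, rfl⟩
      exact mem_subgroupOf.1 (mem_subgroupOf.1
        ((mem_normalizer_iff.1 hqn ⟨⟨j, hJH hj⟩, hP (mem_subgroupOf.2 hj)⟩).1
          (mem_subgroupOf.2 (mem_subgroupOf.2 hj))))
    have hqC := hfixM _ (q : H).2 hqM
    rcases cent_b_cases hqC ht ht2 ht1 hb hbR htb (hHC _ (q : H).2) with hq | ⟨j, hj, hq⟩
    · exact hqJ (mem_subgroupOf.2 (mem_subgroupOf.2 hq))
    · -- an element of three-power order outside `J`
      obtain ⟨k, hk⟩ := P.2 q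
      have hqk : ((q : H) : G) ^ 3 ^ k = 1 := by
        have := congrArg (fun x : (P : Subgroup H) => ((x : H) : G)) hk
        simpa using this
      have hts : B.sl ⟨_, hqC⟩ ^ 3 ^ k = 1 := by
        rw [← map_pow]
        convert map_one B.sl
        exact Subtype.ext hqk
      have hsq : B.sl ⟨_, hqC⟩ = B.sl ⟨t, ht⟩ * B.sl ⟨j, J_C hj⟩ := by
        rw [← map_mul]; exact congrArg _ (Subtype.ext hq)
      have hc : Commute (B.sl ⟨t, ht⟩) (B.sl ⟨j, J_C hj⟩) :=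
        sl_invol_comm _ _ (by rw [← map_mul]; convert map_one B.sl; exact Subtype.ext ht2)
      have hj3 : B.sl ⟨j, J_C hj⟩ ^ 3 ^ (k + 1) = 1 := by
        rw [← map_pow]
        convert map_one B.sl
        exact Subtype.ext (by rw [pow_succ', pow_mul]; simp [B.J_exp j hj])
      have ht3 : B.sl ⟨t, ht⟩ ^ 3 ^ (k + 1) = 1 := by
        have h1 : B.sl ⟨_, hqC⟩ ^ 3 ^ (k + 1) = 1 := by rw [pow_succ, pow_mul, hts, one_pow]
        rwa [hsq, hc.mul_pow, hj3, mul_one] at h1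
      obtain ⟨m, hm⟩ : Odd (3 ^ (k + 1)) := (by decide : Odd 3).pow
      have ht2' : B.sl ⟨t, ht⟩ * B.sl ⟨t, ht⟩ = 1 := by
        rw [← map_mul]; convert map_one B.sl; exact Subtype.ext ht2
      rw [hm, pow_succ, pow_mul, pow_two, ht2', one_pow, one_mul] at ht3
      have := B.R_exp t ((B.mem_R_iff ht).2 ht3)
      rw [pow_succ, pow_two, ht2, one_mul] at this
      exact ht1 this
  have hPc : ∀ p ∈ (P : Subgroup H), ∀ q ∈ (P : Subgroup H), p * q = q * p := fun p hp q hq =>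
    Subtype.ext (B.J_comm p (mem_subgroupOf.1 (hPJ.le hp)) q (mem_subgroupOf.1 (hPJ.le hq)))
  let φ : ↥(P : Subgroup H) →* B.J ⧸ Subgroup.zpowers (⟨b, hb⟩ : B.J) :=
    φ₀.comp (MonoidHom.mk' (fun p => ⟨((p : H) : G), mem_subgroupOf.1 (hPJ.le p.2)⟩)
      fun p q => Subtype.ext rfl)
  obtain ⟨ψ, hψ⟩ := CfsgLib.AmalgamSpThree.exists_extend P hPc φ (by
    intro n hn x hx hx'
    have hnM : ((n : H) : G)⁻¹ ∈ B.M := by
      refine inv_mem (mem_normalizer_iff_map_conj_eq.2 (eq_of_le_of_card_ge ?_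
        (card_map_of_injective (MulAut.conj _).injective).ge))
      rintro _ ⟨j, hj, rfl⟩
      exact mem_subgroupOf.1 (hPJ.le
        ((mem_normalizer_iff.1 hn ⟨j, hJH hj⟩).1 (hPJ.ge (mem_subgroupOf.2 hj))))
    have hnC := hfixM _ (n⁻¹ : H).2 hnM
    have hxJ : (x : G) ∈ B.J := mem_subgroupOf.1 (hPJ.le hx)
    rcases cent_b_cases hnC ht ht2 ht1 hb hbR htb (hHC _ (n⁻¹ : H).2) with hq | ⟨j, hj, hq⟩
    · refine congrArg φ (Subtype.ext (Subtype.ext ?_))
      show (n : G)⁻¹ * x * (n : G) = x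
      have hq' : (n : G)⁻¹ ∈ B.J := hq
      rw [B.J_comm _ hq' _ hxJ, inv_mul_cancel_right]
    · show QuotientGroup.mk' _ _ = QuotientGroup.mk' _ _
      refine congrArg _ (Subtype.ext ?_)
      show (n : G)⁻¹ * x * (n : G) * (t * ((n : G)⁻¹ * x * (n : G)) * t⁻¹) = x * (t * x * t⁻¹)
      have he : (n : G)⁻¹ * x * (n : G) = t * x * t⁻¹ := by
        have hq0 : (n : G)⁻¹ = t * j := hq
        have hq' : (n : G) = j⁻¹ * t⁻¹ := by
          rw [← inv_inv (n : G), hq0, mul_inv_rev]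
        rw [hq0, hq', show t * j * x * (j⁻¹ * t⁻¹) = t * (j * x * j⁻¹) * t⁻¹ by group,
          B.J_comm j hj _ hxJ, mul_inv_cancel_right]
      rw [he, show t * (t * x * t⁻¹) * t⁻¹ = (t * t) * x * (t * t)⁻¹ by group, ht2, one_mul, inv_one,
        mul_one, B.J_comm _ (htJ _ hxJ) _ hxJ])
  obtain ⟨K, hK⟩ : ∃ K, K = ψ.ker.map H.subtype := ⟨_, rfl⟩
  have hKH : K ≤ H := hK ▸ map_subtype_le _
  have hJP : ∀ j (hj : j ∈ B.J), (⟨j, hJH hj⟩ : H) ∈ (P : Subgroup H) := fun j hj =>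
    hP (mem_subgroupOf.2 hj)
  have hmemK : ∀ j (hj : j ∈ B.J), j ∈ K ↔
      (⟨j, hj⟩ : B.J) * ⟨t * j * t⁻¹, htJ j hj⟩ ∈ Subgroup.zpowers (⟨b, hb⟩ : B.J) := by
    intro j hj
    have h1 := hψ ⟨_, hJP j hj⟩
    constructor
    · intro hjK
      obtain ⟨k, hk, hke⟩ := hK.le hjK
      rw [show k = ⟨j, hJH hj⟩ from Subtype.ext hke, SetLike.mem_coe, MonoidHom.mem_ker, h1] at hk
      refine (QuotientGroup.eq_one_iff _).1 ?_
      rw [← orderOf_eq_one_iff]
      refine Nat.eq_one_of_dvd_coprimes (Nat.Coprime.pow_left 3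
        ((Nat.Prime.coprime_iff_not_dvd Nat.prime_three).2 P.not_dvd_index)) ?_
        (orderOf_dvd_of_pow_eq_one hk)
      refine (orderOf_map_dvd (QuotientGroup.mk' _) _).trans ?_
      refine (_root_.orderOf_dvd_natCard _).trans ?_
      rw [B.J_card]
    · intro hz
      refine hK.ge ⟨⟨j, hJH hj⟩, ?_, rfl⟩
      rw [SetLike.mem_coe, MonoidHom.mem_ker, h1]
      show (QuotientGroup.mk' (Subgroup.zpowers (⟨b, hb⟩ : B.J))
        ((⟨j, hj⟩ : B.J) * ⟨t * j * t⁻¹, htJ j hj⟩)) ^ _ = 1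
      rw [show QuotientGroup.mk' (Subgroup.zpowers (⟨b, hb⟩ : B.J))
        ((⟨j, hj⟩ : B.J) * ⟨t * j * t⁻¹, htJ j hj⟩) = 1 from (QuotientGroup.eq_one_iff _).2 hz, one_pow]
  have hbK : b ∈ K := by
    refine (hmemK b hb).2 (mem_zpowers_iff.2 ⟨2, Subtype.ext ?_⟩)
    show (((⟨b, hb⟩ : B.J) ^ (2 : ℤ) : B.J) : G) = b * (t * b * t⁻¹)
    rw [htb, mul_inv_cancel_right, zpow_ofNat]
    exact pow_two b
  have hvK : v ∈ K := by
    refine (hmemK v hvJ).2 ?_
    rw [show (⟨v, hvJ⟩ : B.J) * ⟨t * v * t⁻¹, htJ v hvJ⟩ = 1 from Subtype.ext (by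
      show v * (t * v * t⁻¹) = 1
      rw [htv, mul_inv_cancel])]
    exact one_mem _
  have haK : B.a ∉ K := by
    intro ha
    obtain ⟨k, hk⟩ := mem_zpowers_iff.1 ((hmemK B.a B.a_mem_J).1 ha)
    have hk' : b ^ k = B.a * B.a := by
      have := congrArg Subtype.val hk
      rw [SubgroupClass.coe_zpow] at this
      refine this.trans ?_
      show B.a * (t * B.a * t⁻¹) = B.a * B.a
      rw [za_conj ht (mem_zpowers _)]
    refine a_not_mem_pair hb hbR hvJ hvR hvZ (mem_sup_left ?_)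
    have h3 : B.a = (B.a * B.a)⁻¹ := (inv_eq_of_mul_eq_one_right (by
      rw [← pow_two, ← pow_succ]; exact B.a_three)).symm
    rw [h3, ← hk']
    exact inv_mem (zpow_mem (mem_zpowers b) k)
  -- the pair generates `J ∩ K`
  obtain ⟨U₂, hU₂⟩ : ∃ U, U = zpowers b ⊔ zpowers v := ⟨_, rfl⟩
  have hU₂K : U₂ ≤ K := hU₂ ▸ sup_le (zpowers_le.2 hbK) (zpowers_le.2 hvK)
  have hU₂J : U₂ ≤ B.J := hU₂ ▸ sup_le (zpowers_le.2 hb) (zpowers_le.2 hvJ)
  have hbv : zpowers b < U₂ := by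
    refine lt_of_le_of_ne (hU₂ ▸ le_sup_left) fun he => ?_
    have hv : v ∈ zpowers b := he.ge (hU₂ ▸ mem_sup_right (mem_zpowers v))
    have hne : v ≠ 1 := fun h => hvZ (h ▸ one_mem _)
    have hc : Nat.card (zpowers b) ≤ Nat.card (zpowers v) := by
      rw [Nat.card_zpowers, Nat.card_zpowers, orderOf_eq_prime (B.J_exp v hvJ) hne]
      exact orderOf_le_of_pow_eq_one (by norm_num) (B.J_exp b hb)
    exact hbR (zpowers_le.2 hvR ((eq_of_le_of_card_ge (zpowers_le.2 hv) hc).ge (mem_zpowers b)))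
  have hbc : Nat.card (zpowers b) = 3 := by
    rw [Nat.card_zpowers]
    exact orderOf_eq_prime (B.J_exp b hb) fun h => hbR (h ▸ one_mem _)
  have hU9 : 9 ≤ Nat.card U₂ := by
    have hd : Nat.card U₂ ∣ 3 ^ 3 := by
      have := card_dvd_of_le hU₂J
      rwa [B.J_card] at this
    obtain ⟨k, hk, hk'⟩ := (Nat.dvd_prime_pow Nat.prime_three).1 hd
    have hlt : Nat.card (zpowers b) < Nat.card U₂ := lt_of_le_of_ne
      (Nat.card_le_card_of_injective (inclusion hbv.le) (inclusion_injective hbv.le))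
      fun he => hbv.ne (eq_of_le_of_card_ge hbv.le he.ge)
    rw [hbc, hk'] at hlt
    rw [hk']
    interval_cases k <;> omega
  have hJK9 : ∀ k ∈ K, k ∈ B.J → k ∈ U₂ := by
    intro k hk hkJ
    have hle : U₂ ≤ B.J ⊓ K := le_inf hU₂J hU₂K
    have hd : Nat.card ↥(B.J ⊓ K) ∣ 3 ^ 3 := by
      have := card_dvd_of_le (inf_le_left : B.J ⊓ K ≤ B.J)
      rwa [B.J_card] at this
    obtain ⟨i, hi, hi'⟩ := (Nat.dvd_prime_pow Nat.prime_three).1 hd
    have hne : i ≠ 3 := fun h => haK ((eq_of_le_of_card_ge inf_le_left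
      (by rw [hi', B.J_card, h]; norm_num)).ge B.a_mem_J).2
    refine (eq_of_le_of_card_ge hle ?_).ge ⟨hkJ, hk⟩
    rw [hi']
    have := pow_le_pow_right₀ (a := 3) (by norm_num) (show i ≤ 2 by omega)
    omega
  have hKn : H ≤ normalizer (K : Set G) := by
    intro g hg
    refine mem_normalizer_iff_map_conj_eq.2 (eq_of_le_of_card_ge ?_
      (card_map_of_injective (MulAut.conj g).injective).ge)
    rw [hK]
    rintro _ ⟨_, ⟨k, hk, rfl⟩, rfl⟩
    exact ⟨⟨g, hg⟩ * k * ⟨g, hg⟩⁻¹, Normal.conj_mem (MonoidHom.normal_ker ψ) k hk _, rfl⟩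
  -- normalising the pair
  have hpairM : ∀ k ∈ H, (∀ u ∈ U₂, k * u * k⁻¹ ∈ U₂) → k ∈ B.C := by
    intro k hk hku
    refine hfixM k hk (mem_normalizer_iff_map_conj_eq.2 (eq_of_le_of_card_ge ?_
      (card_map_of_injective (MulAut.conj k).injective).ge))
    rintro _ ⟨j, hj, rfl⟩
    have hmap : U₂.map (MulAut.conj k).toMonoidHom = U₂ := eq_of_le_of_card_ge
      (map_le_iff_le_comap.2 fun u hu => hku u hu)
      (card_map_of_injective (MulAut.conj k).injective).ge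
    have hcom : ∀ u ∈ U₂, Commute (k * j * k⁻¹) u := by
      intro u hu
      obtain ⟨u', hu', rfl⟩ := hmap.ge hu
      show k * j * k⁻¹ * (k * u' * k⁻¹) = k * u' * k⁻¹ * (k * j * k⁻¹)
      calc k * j * k⁻¹ * (k * u' * k⁻¹) = k * (j * u') * k⁻¹ := by group
        _ = _ := by rw [B.J_comm j hj u' (hU₂J hu')]; group
    exact cent_pair_inv hM hb hbR hvJ hvR hvZ (hcom b (hU₂ ▸ mem_sup_left (mem_zpowers b))).eq
      (hcom v (hU₂ ▸ mem_sup_right (mem_zpowers v))).eq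
  have hvU : v ∉ zpowers b := fun h => hbv.not_ge (hU₂ ▸ sup_le le_rfl (zpowers_le.2 h))
  have hcase := local_self_cent (J := B.J) (K := K) (U := zpowers b)
    (IsPGroup.of_card (n := 3) (by rw [B.J_card]; norm_num)) B.sig
    (hJH.trans hKn) (zpowers_le.2 hbK) (zpowers_le.2 hb)
    (fun k hk u hu => by
      obtain ⟨i, rfl⟩ := mem_zpowers_iff.1 hu
      exact ((show Commute k b from hHC k (hKH hk)).zpow_right i).eq)
    (fun j hj u hu => B.J_comm j hj u (zpowers_le.2 hb hu)) hvK hvU (B.J_exp v hvJ)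
    (fun k hk hkv => by
      have hbu : ∀ u ∈ U₂, k * u * k⁻¹ ∈ U₂ := by
        intro u hu
        have hle : U₂ ≤ U₂.comap (MulAut.conj k).toMonoidHom := by
          rw [hU₂]
          refine sup_le (zpowers_le.2 ?_) (zpowers_le.2 ?_)
          · show k * b * k⁻¹ ∈ zpowers b ⊔ zpowers v
            rw [hHC k (hKH hk), mul_inv_cancel_right]
            exact mem_sup_left (mem_zpowers b)
          · show k * v * k⁻¹ ∈ zpowers b ⊔ zpowers v
            have := mul_mem (mem_sup_left (T := zpowers v) hkv) (mem_sup_right (mem_zpowers v))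
            rwa [inv_mul_cancel_right] at this
        exact hle hu
      have hkC := hpairM k (hKH hk) hbu
      have hkvR : k * v * k⁻¹ * v⁻¹ ∈ B.R :=
        B.R.mul_mem ((mem_normalizer_iff.1 ((nfacts B).Cnorm hkC) v).1 hvR) (B.R.inv_mem hvR)
      have h1 : k * v * k⁻¹ * v⁻¹ = 1 := by
        by_contra hne
        have hne1 : orderOf (k * v * k⁻¹ * v⁻¹) = 3 :=
          orderOf_eq_prime (B.J_exp _ (zpowers_le.2 hb hkv)) hne
        have := (eq_of_le_of_card_ge (zpowers_le.2 hkv) (by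
          rw [hbc, Nat.card_zpowers, hne1])).ge (mem_zpowers b)
        exact hbR (zpowers_le.2 hkvR this)
      have hkJ := cent_x (nfacts B) hvJ hvR hvZ hkC
        (mul_inv_eq_iff_eq_mul.1 (mul_inv_eq_one.1 h1))
      exact hU₂ ▸ hJK9 k hk hkJ)
  have hKC : K ≤ B.C := by
    have hK18 : Nat.card K ≤ 18 := by rcases hcase with hc | ⟨hc, -⟩ <;> rw [hc, hbc] <;> norm_num
    haveI : (U₂.subgroupOf K).Normal := by
      have hi := (U₂.subgroupOf K).card_mul_index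
      rw [Nat.card_congr (subgroupOfEquivOfLe hU₂K).toEquiv] at hi
      have hpos : 0 < (U₂.subgroupOf K).index := Nat.pos_of_ne_zero index_ne_zero_of_finite
      rcases (show (U₂.subgroupOf K).index = 1 ∨ (U₂.subgroupOf K).index = 2 by
        have : (U₂.subgroupOf K).index ≤ 2 := by
          by_contra hc
          nlinarith
        omega) with h1 | h2
      · rw [index_eq_one.1 h1]; infer_instance
      · exact normal_of_index_eq_two h2
    intro k hk
    exact hpairM k (hKH hk) fun u hu => mem_subgroupOf.1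
      (Normal.conj_mem inferInstance (⟨u, hU₂K hu⟩ : K) (mem_subgroupOf.2 hu) ⟨k, hk⟩)
  have htop : ψ.ker ⊔ B.J.subgroupOf H = ⊤ := by
    rw [← index_eq_one]
    refine Nat.eq_one_of_dvd_coprimes (?_ : Nat.Coprime ψ.ker.index (B.J.subgroupOf H).index)
      (index_dvd_of_le le_sup_left) (index_dvd_of_le le_sup_right)
    have hdvd : ψ.ker.index ∣ 3 ^ 3 := by
      rw [index_ker]
      refine (card_subgroup_dvd_card _).trans ((card_quotient_dvd_card _).trans ?_)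
      rw [B.J_card]
      norm_num
    refine Nat.Coprime.of_dvd_left hdvd (Nat.Coprime.pow_left 3 ?_)
    rw [← hPJ]
    exact (Nat.Prime.coprime_iff_not_dvd Nat.prime_three).2 P.not_dvd_index
  intro g hg
  have hgT : (⟨g, hg⟩ : H) ∈ ψ.ker ⊔ B.J.subgroupOf H := htop ▸ mem_top _
  have hle : ψ.ker ⊔ B.J.subgroupOf H ≤ B.C.subgroupOf H :=
    sup_le (fun k hk => mem_subgroupOf.2 (hKC (hK.ge ⟨k, hk, rfl⟩)))
      (fun j hj => mem_subgroupOf.2 (J_C (mem_subgroupOf.1 hj)))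
  exact mem_subgroupOf.1 (hle hgT)

include hM in
/-- Groups of order prime to three invariant under `E = J ∩ C(t)` lie in `C(a)`. -/
theorem inv_le_C {t : G} (ht : t ∈ B.C) (ht2 : t * t = 1) (ht1 : t ≠ 1) {b : G} (hb : b ∈ B.J)
    (hbR : b ∉ B.R) (htb : t * b = b * t) {W : Subgroup G} (hW : (Nat.card W).Coprime 3)
    (hWa : B.a ∈ Subgroup.normalizer (W : Set G)) (hWb : b ∈ Subgroup.normalizer (W : Set G)) :
    W ≤ B.C := by
  haveI : Fact (Nat.Prime 3) := ⟨Nat.prime_three⟩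
  obtain ⟨E, hE⟩ : ∃ E, E = zpowers B.a ⊔ zpowers b := ⟨_, rfl⟩
  have haE : B.a ∈ E := hE ▸ mem_sup_left (mem_zpowers _)
  have hbE : b ∈ E := hE ▸ mem_sup_right (mem_zpowers _)
  have hEJ : E ≤ B.J := hE ▸ sup_le (zpowers_le.2 B.a_mem_J) (zpowers_le.2 hb)
  have hEt : E ≤ centralizer ({t} : Set G) := hE ▸ sup_le
    (zpowers_le.2 (mem_centralizer_singleton_iff.2 (mem_C.1 ht).symm))
    (zpowers_le.2 (mem_centralizer_singleton_iff.2 htb.symm))
  have hEa : Cfsg.IsElementaryAbelian 3 E :=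
    ⟨⟨⟨fun p q => Subtype.ext (B.J_comm p (hEJ p.2) q (hEJ q.2))⟩⟩, fun e he => B.J_exp e (hEJ he)⟩
  have hne : E ≠ ⊥ := fun h => by
    have := haE
    rw [h, mem_bot] at this
    exact B.a_ne_one this
  have hEW : E ≤ normalizer (W : Set G) := hE ▸ sup_le (zpowers_le.2 hWa) (zpowers_le.2 hWb)
  rw [CfsgLib.Comp.eq_iSup_centralizer_hyperplane hEa hne
    ((Nat.Prime.coprime_iff_not_dvd Nat.prime_three).1 hW.symm) hEW]
  refine iSup_le fun D => ?_
  obtain ⟨D, hDE, hDi⟩ := D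
  obtain ⟨e, he, he1⟩ : ∃ e ∈ D, e ≠ 1 := by
    by_contra hc
    push Not at hc
    have hbot : D = ⊥ := (Subgroup.eq_bot_iff_forall D).2 hc
    rw [hbot, relIndex_bot_left] at hDi
    have hE' : zpowers B.a = E := eq_of_le_of_card_ge (hE ▸ le_sup_left) (by rw [hDi, card_za])
    exact hbR (za_le_R (nfacts B) (hE'.ge hbE))
  refine (inf_le_right : W ⊓ _ ≤ _).trans ?_
  refine (centralizer_le (Set.singleton_subset_iff.2 he)).trans ?_
  by_cases heR : e ∈ B.R
  · have hez : e ∈ B.Za := by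
      by_contra hez
      have := cent_x (nfacts B) (hEJ (hDE he)) heR hez ht
        (mem_centralizer_singleton_iff.1 (hEt (hDE he))).symm
      have h5 := B.J_exp t this
      rw [pow_succ, pow_two, ht2, one_mul] at h5
      exact ht1 h5
    intro g hg
    have hge := mem_centralizer_singleton_iff.1 hg
    rcases za_cases hez with h | h | h
    · exact absurd h he1
    · exact mem_C.2 (h ▸ hge)
    · rw [h] at hge
      exact mem_C.2 (Commute.inv_right_iff.1 (show Commute g B.a⁻¹ from hge)).eq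
  · exact cent_b hM (hEJ (hDE he)) heR ht ht2 ht1
      (mem_centralizer_singleton_iff.1 (hEt (hDE he))).symm

/-- An involution of `C(a)` fixes only `⟨a⟩` in `R`. -/
theorem cent_t_R {t ρ : G} (ht : t ∈ B.C) (ht2 : t * t = 1) (ht1 : t ≠ 1) (hρ : ρ ∈ B.R)
    (h : t * ρ = ρ * t) : ρ ∈ B.Za := by
  obtain ⟨c, hc, hcJ⟩ := R_into_J (nfacts B) hρ
  have hcR : c * ρ * c⁻¹ ∈ B.R := (mem_normalizer_iff.1 ((nfacts B).Cnorm hc) ρ).1 hρ
  by_contra hz
  have hz' : c * ρ * c⁻¹ ∉ B.Za := fun hz' => hz (by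
    have h1 := za_conj (B.C.inv_mem hc) hz'
    rw [inv_inv, show c⁻¹ * (c * ρ * c⁻¹) * c = ρ by group] at h1
    exact h1.symm ▸ hz')
  have hJ := cent_x (nfacts B) hcJ hcR hz' (B.C.mul_mem (B.C.mul_mem hc ht) (B.C.inv_mem hc)) (by
    calc c * t * c⁻¹ * (c * ρ * c⁻¹) = c * (t * ρ) * c⁻¹ := by group
      _ = c * (ρ * t) * c⁻¹ := by rw [h]
      _ = _ := by group)
  have h5 := B.J_exp _ hJ
  rw [conj_pow, pow_succ, pow_two, ht2, one_mul, conj_eq_one_iff] at h5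
  exact ht1 h5

/-- An involution of `C(a)` inverts `R / Z`. -/
theorem invert_R {t ρ : G} (ht : t ∈ B.C) (ht2 : t * t = 1) (ht1 : t ≠ 1) (hρ : ρ ∈ B.R) :
    t * ρ * t⁻¹ * ρ ∈ B.Za := by
  have ht' : t⁻¹ = t := inv_eq_of_mul_eq_one_right ht2
  obtain ⟨σ, hσ⟩ : ∃ σ, σ = t * ρ * t⁻¹ := ⟨_, rfl⟩
  have hσR : σ ∈ B.R := hσ ▸ (mem_normalizer_iff.1 ((nfacts B).Cnorm ht) ρ).1 hρ
  rw [← hσ]
  obtain ⟨z, hz, hze⟩ : ∃ z ∈ B.Za, ρ * σ = z * (σ * ρ) :=
    ⟨qc ρ σ, qc_mem (nfacts B) hρ hσR, by unfold qc; group⟩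
  have htσ : t * σ * t⁻¹ = ρ := by
    rw [hσ, show t * (t * ρ * t⁻¹) * t⁻¹ = (t * t) * ρ * (t * t)⁻¹ by group, ht2]; group
  have h1 : t * (σ * ρ) * t⁻¹ = z * (σ * ρ) := by
    rw [← hze, show t * (σ * ρ) * t⁻¹ = (t * σ * t⁻¹) * (t * ρ * t⁻¹) by group, htσ, hσ]
  have h2 : σ * ρ = z * (z * (σ * ρ)) := by
    calc σ * ρ = t * (t * (σ * ρ) * t⁻¹) * t⁻¹ := by
          rw [show t * (t * (σ * ρ) * t⁻¹) * t⁻¹ = (t * t) * (σ * ρ) * (t * t)⁻¹ by group, ht2]; group
      _ = t * (z * (σ * ρ)) * t⁻¹ := by rw [h1]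
      _ = (t * z * t⁻¹) * (t * (σ * ρ) * t⁻¹) := by group
      _ = _ := by rw [za_conj ht hz, h1]
  have h3 : z * z = 1 := by
    rw [← mul_assoc] at h2
    exact mul_right_cancel (b := σ * ρ) (by rw [one_mul]; exact h2.symm)
  have h4 := za_three hz
  rw [pow_succ, pow_two, h3, one_mul] at h4
  rw [h4, one_mul] at h1
  exact cent_t_R ht ht2 ht1 (B.R.mul_mem hσR hρ) (mul_inv_eq_iff_eq_mul.1 h1)

/-- No element of order four inverts `a`. -/
theorem four_not_inv {y : G} (hy : y * B.a * y⁻¹ = B.a⁻¹) (hyC : y * y ∈ B.C)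
    (hy4 : y * y * (y * y) = 1) (hy2 : y * y ≠ 1) : False := by
  obtain ⟨x, hxJ, hxR, hxZ⟩ := exists_x (nfacts B)
  obtain ⟨r, hr, hrJ⟩ := exists_r (nfacts B)
  have hyn := mem_normalizer_iff.1 (norm_R (nfacts B) (Or.inr hy))
  -- every element of `R` commutes with its image
  have hcomm : ∀ u ∈ B.R, qc u (y * u * y⁻¹) = 1 := by
    intro u hu
    obtain ⟨u', hu'⟩ : ∃ u', u' = y * u * y⁻¹ := ⟨_, rfl⟩
    have hu'R : u' ∈ B.R := hu' ▸ (hyn u).1 hu
    rw [← hu']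
    obtain ⟨z, hz, hze⟩ : ∃ z ∈ B.Za, y * u' * y⁻¹ = z * u⁻¹ := by
      refine ⟨y * u' * y⁻¹ * u, ?_, by group⟩
      rw [hu', show y * (y * u * y⁻¹) * y⁻¹ = (y * y) * u * (y * y)⁻¹ by group]
      exact invert_R hyC hy4 hy2 hu
    have hc : qc u u' ∈ B.Za := qc_mem (nfacts B) hu hu'R
    have h1 : y * qc u u' * y⁻¹ = qc u u' := by
      have h2 := qc_mem (nfacts B) (B.R.inv_mem hu) hu'R
      rw [conj_qc, ← hu', hze, qc_mul_right (nfacts B) hu'R (za_le_R (nfacts B) hz) (B.R.inv_mem hu),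
        qc_za_right ((nfacts B).RC hu'R) hz, one_mul]
      have h3 : qc u' u⁻¹ * qc u' u = 1 := by
        rw [← qc_mul_right (nfacts B) hu'R (B.R.inv_mem hu) hu, inv_mul_cancel]
        unfold qc; group
      have h4 : qc u' u = (qc u u')⁻¹ := by unfold qc; group
      rw [h4] at h3
      exact mul_inv_eq_one.1 h3
    rcases za_cases hc with h | h | h
    · exact h
    · rw [h, hy] at h1
      have : B.a * B.a = 1 := by
        nth_rewrite 1 [← h1]
        exact inv_mul_cancel _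
      have h3 := B.a_three
      rw [pow_succ, pow_two, this, one_mul] at h3
      exact absurd h3 B.a_ne_one
    · rw [h, show y * B.a⁻¹ * y⁻¹ = (y * B.a * y⁻¹)⁻¹ by group, hy, inv_inv] at h1
      have : B.a * B.a = 1 := by
        nth_rewrite 1 [h1]
        exact inv_mul_cancel _
      have h3 := B.a_three
      rw [pow_succ, pow_two, this, one_mul] at h3
      exact absurd h3 B.a_ne_one
  have h0 := hcomm x hxR
  obtain ⟨i, hi, n, hn, hie⟩ := R_cases (nfacts B) hr hrJ ((hyn x).1 hxR)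
  rw [hie, qc_mul_right (nfacts B) hxR hi.2 (B.R.pow_mem hr n),
    qc_eq_one.2 (B.J_comm x hxJ i hi.1), one_mul, qc_pow_right (nfacts B) hxR hr] at h0
  have hn0 : n = 0 := by
    have hne := nondeg (nfacts B) hxJ hxR hxZ hr hrJ
    interval_cases n
    · rfl
    · exact absurd (pow_one (qc x r) ▸ h0) hne
    · refine absurd ?_ hne
      have h3 := za_three (qc_mem (nfacts B) hxR hr)
      rw [pow_succ, h0, one_mul] at h3
      exact h3
  subst hn0
  rw [pow_zero, mul_one] at hie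
  obtain ⟨z, hz, k, hk, rfl⟩ := I_cases (nfacts B) hxJ hxR hxZ hi.1 hi.2
  have hzy : ∀ w ∈ B.Za, y * w * y⁻¹ ∈ B.Za := by
    intro w hw
    obtain ⟨l, rfl⟩ := mem_zpowers_iff.1 hw
    rw [← conj_zpow, hy]
    exact zpow_mem (inv_mem (mem_zpowers _)) l
  have h2 : ∃ w ∈ B.Za, (y * y) * x * (y * y)⁻¹ = w * x ^ (k * k) := by
    refine ⟨(y * z * y⁻¹) * z ^ k, B.Za.mul_mem (hzy z hz) (B.Za.pow_mem hz k), ?_⟩
    rw [show (y * y) * x * (y * y)⁻¹ = y * (y * x * y⁻¹) * y⁻¹ by group, hie,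
      show y * (z * x ^ k) * y⁻¹ = (y * z * y⁻¹) * (y * x ^ k * y⁻¹) by group, ← conj_pow, hie,
      (show Commute z (x ^ k) from (za_comm ((nfacts B).RC (B.R.pow_mem hxR k)) hz).symm).mul_pow,
      ← pow_mul]
    group
  obtain ⟨w, hw, hwe⟩ := h2
  have h5 := invert_R hyC hy4 hy2 hxR
  rw [hwe] at h5
  have h6 : x ^ (k * k + 1) ∈ B.Za := by
    have := B.Za.mul_mem (B.Za.inv_mem hw) h5
    rwa [← mul_assoc, inv_mul_cancel_left, ← pow_succ] at this
  interval_cases k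
  · exact hxZ (by simpa using h6)
  · refine hxZ ?_
    have := B.Za.inv_mem h6
    rwa [inv_eq_of_mul_eq_one_right (a := x ^ (1 * 1 + 1)) (b := x)
      (by rw [← pow_succ]; exact B.R_exp x hxR)] at this
  · refine hxZ ?_
    have := B.Za.inv_mem h6
    rwa [show x ^ (2 * 2 + 1) = x ^ 2 by
      rw [show 2 * 2 + 1 = 3 + 2 from rfl, pow_add, B.R_exp x hxR, one_mul],
      inv_eq_of_mul_eq_one_right (a := x ^ 2) (b := x)
      (by rw [← pow_succ]; exact B.R_exp x hxR)] at this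

theorem conj_mem_ker {Q CQ : Subgroup G} (hCQ : CQ = centralizer (Q : Set G)) (P : Sylow 3 CQ)
    (hPn : Subgroup.normalizer ((P : Subgroup CQ) : Set CQ) ≤
      Subgroup.centralizer ((P : Subgroup CQ) : Set CQ))
    {N : Subgroup CQ} (hN : N = (MonoidHom.transferSylow P hPn).ker) {n : CQ} (hn : n ∈ N) {e : G}
    (he : e ∈ normalizer (Q : Set G)) : e * (n : G) * e⁻¹ ∈ N.map CQ.subtype := by
  haveI : Fact (Nat.Prime 3) := ⟨Nat.prime_three⟩
  have hm : e * (n : G) * e⁻¹ ∈ CQ := hCQ.ge fun q hq => by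
    have h2 : e⁻¹ * q * e * (n : G) = (n : G) * (e⁻¹ * q * e) :=
      hCQ.le n.2 _ ((mem_normalizer_iff''.1 he q).1 hq)
    calc q * (e * (n : G) * e⁻¹) = e * (e⁻¹ * q * e * (n : G)) * e⁻¹ := by group
      _ = e * ((n : G) * (e⁻¹ * q * e)) * e⁻¹ := by rw [h2]
      _ = _ := by group
  refine ⟨⟨_, hm⟩, hN.ge ?_, rfl⟩
  show MonoidHom.transferSylow P hPn ⟨_, hm⟩ = 1
  obtain ⟨k, hk⟩ := P.isPGroup' (MonoidHom.transferSylow P hPn ⟨_, hm⟩)
  rw [← orderOf_eq_one_iff]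
  refine Nat.eq_one_of_dvd_coprimes (Nat.Coprime.pow_left k
    ((Nat.Prime.coprime_iff_not_dvd Nat.prime_three).2
      (MonoidHom.not_dvd_card_ker_transferSylow P hPn)))
    (orderOf_dvd_of_pow_eq_one hk) ((orderOf_map_dvd _ _).trans ?_)
  rw [← Subgroup.orderOf_coe (⟨_, hm⟩ : CQ)]
  show orderOf (e * (n : G) * e⁻¹) ∣ _
  rw [show e * (n : G) * e⁻¹ = MulAut.conj e (n : G) from rfl, MulEquiv.orderOf_eq, Subgroup.orderOf_coe,
    ← hN]
  exact (show orderOf (⟨n, hn⟩ : N) = orderOf n from (Subgroup.orderOf_coe _).symm) ▸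
    _root_.orderOf_dvd_natCard (⟨n, hn⟩ : N)

/-- A nontrivial solvable normal subgroup in a signaliser-free group gives a normal `3`-subgroup. -/
theorem normal_three {J : Subgroup G}
    (hsig : ∀ K : Subgroup G, (Nat.card K).Coprime 3 → J ≤ normalizer (K : Set G) → K = ⊥)
    {N : Subgroup G} [N.Normal] [Group.IsSolvable N] (hne : N ≠ ⊥) :
    ∃ A : Subgroup G, A ≤ N ∧ A.Normal ∧ A ≠ ⊥ ∧ IsPGroup 3 A := by
  classical
  haveI : Fact (Nat.Prime 3) := ⟨Nat.prime_three⟩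
  haveI : Nontrivial N := (Subgroup.nontrivial_iff_ne_bot N).2 hne
  have hex : ∃ n, derivedSeries N n = ⊥ := Group.IsSolvable.solvable
  have hn0 : Nat.find hex ≠ 0 := fun h => by
    have := Nat.find_spec hex
    rw [h, derivedSeries_zero] at this
    exact top_ne_bot this
  obtain ⟨m, hm⟩ := Nat.exists_eq_succ_of_ne_zero hn0
  have hc := Nat.find_spec hex
  rw [hm, derivedSeries_succ, commutator_eq_bot_iff_le_centralizer] at hc
  haveI := derivedSeries_characteristic N m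
  obtain ⟨D, hD⟩ : ∃ D, D = (derivedSeries N m).map N.subtype := ⟨_, rfl⟩
  haveI hDn : D.Normal := hD ▸ inferInstance
  have hDne : D ≠ ⊥ := by
    rw [hD, Ne, map_eq_bot_iff_of_injective _ N.subtype_injective]
    exact Nat.find_min hex (by omega)
  have hDc : ∀ x ∈ D, ∀ y ∈ D, x * y = y * x := by
    rw [hD]
    rintro _ ⟨x, hx, rfl⟩ _ ⟨y, hy, rfl⟩
    exact (congrArg Subtype.val (hc hx y hy)).symm
  obtain ⟨S⟩ : Nonempty (Sylow 3 D) := inferInstance
  refine ⟨D, hD ▸ map_subtype_le _, hDn, hDne, ?_⟩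
  refine IsPGroup.of_card (n := (Nat.card D).primeFactorsList.length) ?_
  by_contra hne'
  obtain ⟨q, hq, hqD, hq3⟩ : ∃ q, q.Prime ∧ q ∣ Nat.card D ∧ q ≠ 3 := by
    by_contra hall
    push Not at hall
    refine hne' ?_
    exact Nat.eq_prime_pow_of_unique_prime_dvd Nat.card_pos.ne' fun {d} hd hdd => hall d hd hdd
  haveI := Fact.mk hq
  obtain ⟨T⟩ : Nonempty (Sylow q D) := inferInstance
  haveI : (T : Subgroup D).Normal :=
    ⟨fun x hx y => by
      rwa [show y * x * y⁻¹ = x from Subtype.ext (by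
        show (y : G) * x * (y : G)⁻¹ = x
        rw [hDc _ y.2 _ x.2, mul_inv_cancel_right])]⟩
  haveI := T.characteristic_of_normal inferInstance
  refine T.ne_bot_of_dvd_card hqD ?_
  have hb := hsig ((T : Subgroup D).map D.subtype) (by
    obtain ⟨k, hk⟩ := IsPGroup.iff_card.1 T.isPGroup'
    rw [card_map_of_injective D.subtype_injective, hk]
    exact Nat.Coprime.pow_left k ((Nat.coprime_primes hq Nat.prime_three).2 hq3))
    (by
      haveI : ((T : Subgroup D).map D.subtype).Normal := inferInstance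
      rw [Subgroup.normalizer_eq_top]
      exact le_top)
  rwa [map_eq_bot_iff_of_injective _ D.subtype_injective] at hb

theorem exists_central_mem {P : Subgroup G} (hP : IsPGroup 3 P) {A : Subgroup G} (hAP : A ≤ P)
    (hAn : A.Normal) (hA : A ≠ ⊥) : ∃ z ∈ A, (∀ y ∈ P, y * z = z * y) ∧ z ≠ 1 := by
  haveI : Fact (Nat.Prime 3) := ⟨Nat.prime_three⟩
  haveI := hP.isNilpotent
  haveI : (A.subgroupOf P).Normal := Normal.subgroupOf hAn P
  have hne : A.subgroupOf P ≠ ⊥ := by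
    rw [Ne, subgroupOf_eq_bot, disjoint_iff, inf_eq_left.2 hAP]
    exact hA
  obtain ⟨z, ⟨hz, hzc⟩, hz1⟩ := (bot_or_exists_ne_one _).resolve_left
    (CfsgLib.Solvable.normal_inf_center_ne_bot (A.subgroupOf P) hne)
  exact ⟨z, mem_subgroupOf.1 hz, fun y hy => congrArg Subtype.val
    (Subgroup.mem_center_iff.1 hzc ⟨y, hy⟩), fun h => hz1 (Subtype.ext h)⟩

theorem za_conj_comm {u z : G} (hu : u ∈ B.R) (hz : z ∈ B.Za) : z * u * u = u * (z * u) := by
  rw [← mul_assoc u z u, za_comm (B.R_le hu) hz]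

theorem eq_one_of_pow_two_three {g : G} {k : ℕ} (h2 : g ^ 2 ^ k = 1) (h3 : g ^ 3 = 1) : g = 1 := by
  rw [← orderOf_eq_one_iff]
  exact Nat.eq_one_of_dvd_coprimes (Nat.Coprime.pow_left k (by norm_num : Nat.Coprime 2 3))
    (orderOf_dvd_of_pow_eq_one h2) (orderOf_dvd_of_pow_eq_one h3)

include hM in
/-- A `3`-group in `C(t)` containing `a` lies in `C(a)`. -/
theorem three_le_C {S : Subgroup G} (hS : IsPGroup 3 S) (ha : B.a ∈ S) : S ≤ B.C := by
  haveI : Fact (Nat.Prime 3) := ⟨Nat.prime_three⟩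
  by_contra hne
  haveI := hS.isNilpotent
  have hlt : B.C.subgroupOf S < ⊤ := lt_top_iff_ne_top.2 fun h => hne (subgroupOf_eq_top.1 h)
  obtain ⟨q, hqn, hqC⟩ := SetLike.exists_of_lt (Group.normalizerCondition_of_isNilpotent _ hlt)
  refine hqC (mem_subgroupOf.2 ?_)
  have hc : (q : G) * B.a * (q : G)⁻¹ ∈ B.C :=
    mem_subgroupOf.1 ((mem_normalizer_iff.1 hqn ⟨B.a, ha⟩).1 (mem_subgroupOf.2 B.a_mem_C))
  obtain ⟨k, hk⟩ := hS q
  refine B.mem_C_of_odd ?_ (weak hM hc)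
  exact ((by decide : Odd 3).pow).of_dvd_nat (orderOf_dvd_of_pow_eq_one (by
    have := congrArg Subtype.val hk
    simpa using this))

/-- `M ≤ N(⟨a⟩)` and `a ~ a⁻¹`: the subgroup `⟨a⟩` is normal. -/
theorem normal_of_le (B : Base G) (_hI : B.Inv)
    (hM : B.M ≤ Subgroup.normalizer (Subgroup.zpowers B.a : Set G)) :
    Subgroup.normalizer (Subgroup.zpowers B.a : Set G) = ⊤ := by
  classical
  haveI : Fact (Nat.Prime 2) := ⟨Nat.prime_two⟩
  haveI : Fact (Nat.Prime 3) := ⟨Nat.prime_three⟩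
  obtain ⟨Na, hNa⟩ : ∃ Na, Na = Subgroup.normalizer (Subgroup.zpowers B.a : Set G) := ⟨_, rfl⟩
  rw [← hNa]
  have hweak : ∀ g : G, g * B.a * g⁻¹ ∈ B.C → g ∈ Na := by
    intro g hg
    rw [hNa]
    refine mem_normalizer_iff_map_conj_eq.2 (eq_of_le_of_card_ge ?_
      (card_map_of_injective (MulAut.conj g).injective).ge)
    rw [MonoidHom.map_zpowers, zpowers_le]
    show g * B.a * g⁻¹ ∈ zpowers B.a
    rcases weak hM hg with h | h <;> rw [h]
    · exact mem_zpowers _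
    · exact inv_mem (mem_zpowers _)
  -- the involution `t` and the plane `⟨a, b⟩`
  obtain ⟨t, ht, htM, ht2, hts⟩ := B.exists_t
  have ht1 : t ≠ 1 := fun h => by
    subst h
    exact sl_neg_ne (hts.symm.trans (map_one B.sl))
  have ht' : t⁻¹ = t := inv_eq_of_mul_eq_one_right ht2
  obtain ⟨b₀, hb₀, hb₀R⟩ := exists_b (nfacts B)
  have htb₀ : t * b₀ * t⁻¹ ∈ B.J := (mem_normalizer_iff.1 htM b₀).1 hb₀
  obtain ⟨b, hbe⟩ : ∃ b, b = b₀ * (t * b₀ * t⁻¹) := ⟨_, rfl⟩
  have hb : b ∈ B.J := hbe ▸ B.J.mul_mem hb₀ htb₀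
  have hbR : b ∉ B.R := by
    intro hbR
    refine hb₀R ((B.mem_R_iff (J_C hb₀)).2 ?_)
    have h1 : B.sl ⟨b, J_C hb⟩ = 1 := (B.mem_R_iff (J_C hb)).1 hbR
    rw [show (⟨b, J_C hb⟩ : B.C) = ⟨b₀, J_C hb₀⟩ * (⟨t, ht⟩ * ⟨b₀, J_C hb₀⟩ * (⟨t, ht⟩ : B.C)⁻¹) from
      Subtype.ext hbe, map_mul, map_mul, map_mul, map_inv, hts,
      sl_neg_comm (B.sl ⟨b₀, J_C hb₀⟩), mul_inv_cancel_right] at h1
    refine sl_eight_pow _ ?_ h1
    rw [← map_pow]
    convert map_one B.sl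
    exact Subtype.ext (B.J_exp b₀ hb₀)
  have htb : t * b = b * t := by
    rw [← mul_inv_eq_iff_eq_mul, hbe, show t * (b₀ * (t * b₀ * t⁻¹)) * t⁻¹ =
      t * b₀ * t⁻¹ * ((t * t) * b₀ * (t * t)⁻¹) by group, ht2, one_mul, inv_one, mul_one,
      B.J_comm _ htb₀ _ hb₀]
  -- the quaternion group
  have htpow : IsPGroup 2 (zpowers (⟨t, ht⟩ : B.C)) :=
    IsPGroup.of_card (n := 1) (by
      rw [Nat.card_zpowers]
      exact orderOf_eq_prime (Subtype.ext (by simpa [pow_two] using ht2)) fun h =>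
        ht1 (congrArg Subtype.val h))
  obtain ⟨Qc, hQc⟩ := htpow.exists_le_sylow
  obtain ⟨Q, hQ⟩ : ∃ Q, Q = (Qc : Subgroup B.C).map B.C.subtype := ⟨_, rfl⟩
  have hQC : Q ≤ B.C := hQ ▸ map_subtype_le _
  have htQ : t ∈ Q := hQ.ge ⟨⟨t, ht⟩, hQc (mem_zpowers _), rfl⟩
  have hQp : IsPGroup 2 Q := hQ ▸ Qc.isPGroup'.map _
  have hQ8 : Nat.card Qc = 8 := by
    rw [Sylow.card_eq_multiplicity, B.card_C, show (648 : ℕ) = 2 ^ 3 * 81 by norm_num,
      Nat.factorization_mul (by norm_num) (by norm_num), Finsupp.add_apply,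
      Nat.Prime.factorization_pow Nat.prime_two, Finsupp.single_eq_same,
      Nat.factorization_eq_zero_of_not_dvd (by norm_num : ¬ 2 ∣ 81)]
    norm_num
  have hinj : ∀ (p q : G) (hp : p ∈ Q) (hq : q ∈ Q),
      B.sl ⟨p, hQC hp⟩ = B.sl ⟨q, hQC hq⟩ → p = q := by
    intro p q hp hq he
    have hR : p * q⁻¹ ∈ B.R := by
      refine (B.mem_R_iff (B.C.mul_mem (hQC hp) (B.C.inv_mem (hQC hq)))).2 ?_
      rw [show (⟨p * q⁻¹, _⟩ : B.C) = ⟨p, hQC hp⟩ * (⟨q, hQC hq⟩ : B.C)⁻¹ from rfl, map_mul,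
        map_inv, he, mul_inv_cancel]
    obtain ⟨k, hk⟩ := hQp ⟨p * q⁻¹, Q.mul_mem hp (Q.inv_mem hq)⟩
    exact mul_inv_eq_one.1 (eq_one_of_pow_two_three (k := k)
      (by simpa using congrArg Subtype.val hk) (B.R_exp _ hR))
  have himg : ∀ y, y * y * (y * y) = 1 → ∃ q, ∃ hq : q ∈ Q, B.sl ⟨q, hQC hq⟩ = y := by
    intro y hy
    have hc : Nat.card ((Qc : Subgroup B.C).map B.sl) = 8 := by
      rw [← hQ8]
      refine (Nat.card_congr (Equiv.ofBijective
        (fun q : (Qc : Subgroup B.C) => (⟨B.sl q, mem_map_of_mem _ q.2⟩ :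
          (Qc : Subgroup B.C).map B.sl)) ⟨fun p q he => ?_, ?_⟩)).symm
      · refine Subtype.ext (Subtype.ext (hinj _ _ (hQ.ge ⟨_, p.2, rfl⟩) (hQ.ge ⟨_, q.2, rfl⟩) ?_))
        exact congrArg (fun z : (Qc : Subgroup B.C).map B.sl =>
          (z : Matrix.SpecialLinearGroup (Fin 2) (ZMod 3))) he
      · rintro ⟨_, q, hq, rfl⟩
        exact ⟨⟨q, hq⟩, rfl⟩
    obtain ⟨q, hq, rfl⟩ := eight_of_two_pow hc hy
    exact ⟨q, hQ.ge ⟨q, hq, rfl⟩, rfl⟩
  have hq4 : ∀ q ∈ Q, q * q * (q * q) = 1 := by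
    intro q hq
    refine hinj _ 1 (Q.mul_mem (Q.mul_mem hq hq) (Q.mul_mem hq hq)) (one_mem _) ?_
    rw [show (⟨q * q * (q * q), _⟩ : B.C) = ⟨q, hQC hq⟩ * ⟨q, hQC hq⟩ * (⟨q, hQC hq⟩ * ⟨q, hQC hq⟩) from rfl,
      show (⟨1, _⟩ : B.C) = 1 from rfl, map_one, map_mul, map_mul]
    refine sl_two_pow _ ?_
    obtain ⟨k, hk⟩ := hQp ⟨q, hq⟩
    have h8 : (⟨q, hQC hq⟩ : B.C) ^ 8 = 1 := by
      have hd : orderOf (⟨q, hQC hq⟩ : B.C) ∣ 2 ^ k :=
        orderOf_dvd_of_pow_eq_one (Subtype.ext (by simpa using congrArg Subtype.val hk))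
      have hd' : orderOf (⟨q, hQC hq⟩ : B.C) ∣ 648 := B.card_C ▸ _root_.orderOf_dvd_natCard _
      refine orderOf_dvd_iff_pow_eq_one.1 ?_
      rw [show (8 : ℕ) = 2 ^ 3 by norm_num]
      obtain ⟨i, hi, hie⟩ := (Nat.dvd_prime_pow Nat.prime_two).1 hd
      rw [hie] at hd' ⊢
      refine pow_dvd_pow 2 ?_
      by_contra hc
      have := (pow_dvd_pow 2 (show 4 ≤ i by omega)).trans hd'
      norm_num at this
    have := congrArg B.sl h8
    rw [map_one, map_pow] at this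
    simpa [pow_succ, mul_assoc] using this
  have hqt : ∀ q ∈ Q, q * t = t * q := by
    intro q hq
    refine hinj _ _ (Q.mul_mem hq htQ) (Q.mul_mem htQ hq) ?_
    rw [show (⟨q * t, _⟩ : B.C) = ⟨q, hQC hq⟩ * ⟨t, ht⟩ from rfl,
      show (⟨t * q, _⟩ : B.C) = ⟨t, ht⟩ * ⟨q, hQC hq⟩ from rfl, map_mul, map_mul, hts,
      sl_neg_comm (B.sl ⟨q, hQC hq⟩)]
  have hq3 : ∀ w ∈ B.C, w * t = t * w → w * w * (w * w) = 1 → w ∈ Q := by
    intro w hw hwt hw4
    obtain ⟨q, hq, he⟩ := himg (B.sl ⟨w, hw⟩) (by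
      rw [← map_mul, ← map_mul]; convert map_one B.sl; exact Subtype.ext hw4)
    have hR : q⁻¹ * w ∈ B.R := by
      refine (B.mem_R_iff (B.C.mul_mem (B.C.inv_mem (hQC hq)) hw)).2 ?_
      rw [show (⟨q⁻¹ * w, _⟩ : B.C) = (⟨q, hQC hq⟩ : B.C)⁻¹ * ⟨w, hw⟩ from rfl, map_mul, map_inv, he,
        inv_mul_cancel]
    have hz : q⁻¹ * w ∈ B.Za := cent_t_R ht ht2 ht1 hR
      (((show Commute t q from (hqt q hq).symm).inv_right).mul_right hwt.symm).eq
    obtain ⟨z, hzz, rfl⟩ : ∃ z ∈ B.Za, w = q * z := ⟨q⁻¹ * w, hz, by group⟩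
    clear hz
    rename' hzz => hz
    have hqz : Commute q z := za_comm (hQC hq) hz
    have hz4 : z ^ 4 = 1 := by
      have : (q * z) ^ 4 = 1 := by simpa [pow_succ, mul_assoc] using hw4
      rw [hqz.mul_pow, show q ^ 4 = 1 by simpa [pow_succ, mul_assoc] using hq4 q hq, one_mul] at this
      exact this
    rw [pow_succ, za_three hz, one_mul] at hz4
    rwa [hz4, mul_one]
  -- `C(Q) ≤ C(a)`
  have hnQ : ∀ e ∈ B.C, e * t = t * e → e ∈ normalizer (Q : Set G) := by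
    intro e he het
    refine mem_normalizer_iff_map_conj_eq.2 (eq_of_le_of_card_ge ?_
      (card_map_of_injective (MulAut.conj e).injective).ge)
    rintro _ ⟨q, hq, rfl⟩
    refine hq3 _ (B.C.mul_mem (B.C.mul_mem he (hQC hq)) (B.C.inv_mem he)) ?_ ?_
    · exact (((show Commute e t from het).mul_left (hqt q hq)).mul_left
        (show Commute e t from het).inv_left).eq
    · show e * q * e⁻¹ * (e * q * e⁻¹) * (e * q * e⁻¹ * (e * q * e⁻¹)) = 1
      rw [show e * q * e⁻¹ * (e * q * e⁻¹) * (e * q * e⁻¹ * (e * q * e⁻¹)) =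
        e * (q * q * (q * q)) * e⁻¹ by group, hq4 q hq, mul_one, mul_inv_cancel]
  obtain ⟨CQ, hCQ⟩ : ∃ CQ, CQ = centralizer (Q : Set G) := ⟨_, rfl⟩
  have hza : B.Za ≤ CQ := hCQ ▸ zpowers_le.2 fun q hq => (mem_C.1 (hQC hq))
  have hCQim : ∀ g (hg : g ∈ B.C), g ∈ CQ → B.sl ⟨g, hg⟩ * B.sl ⟨g, hg⟩ = 1 := by
    intro g hg hgQ
    refine sl_cent_four _ fun y hy => ?_
    obtain ⟨q, hq, rfl⟩ := himg y hy
    rw [← map_mul, ← map_mul]
    exact congrArg _ (Subtype.ext ((hCQ.le hgQ) q hq).symm)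
  have hZp : IsPGroup 3 (B.Za.subgroupOf CQ) :=
    (IsPGroup.of_card (n := 1) (by rw [card_za]; norm_num) : IsPGroup 3 B.Za).of_equiv
      (subgroupOfEquivOfLe hza).symm
  obtain ⟨P, hP⟩ := hZp.exists_le_sylow
  have hPZ : ∀ p : CQ, p ∈ (P : Subgroup CQ) → (p : G) ∈ B.Za := by
    intro p hp
    have hpC : (p : G) ∈ B.C := three_le_C hM (P.isPGroup'.map CQ.subtype)
      ⟨⟨B.a, hza (mem_zpowers _)⟩, hP (mem_subgroupOf.2 (mem_zpowers _)), rfl⟩ ⟨p, hp, rfl⟩
    have hR : (p : G) ∈ B.R := by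
      refine (B.mem_R_iff hpC).2 ?_
      have h1 := hCQim _ hpC p.2
      obtain ⟨k, hk⟩ := P.isPGroup' ⟨p, hp⟩
      have h3 : B.sl ⟨_, hpC⟩ ^ 3 ^ k = 1 := by
        rw [← map_pow]
        convert map_one B.sl
        refine Subtype.ext ?_
        simpa using congrArg (fun x : (P : Subgroup CQ) => ((x : CQ) : G)) hk
      obtain ⟨m, hm⟩ : Odd (3 ^ k) := (by decide : Odd 3).pow
      rwa [hm, pow_succ, pow_mul, pow_two, h1, one_pow, one_mul] at h3
    exact cent_t_R ht ht2 ht1 hR ((hCQ.le p.2) t htQ)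
  have hPn : Subgroup.normalizer ((P : Subgroup CQ) : Set CQ) ≤
      Subgroup.centralizer ((P : Subgroup CQ) : Set CQ) := by
    intro g hg p hp
    refine Subtype.ext ?_
    show (p : G) * g = g * p
    suffices hgC : (g : G) ∈ B.C from (za_comm hgC (hPZ p hp)).symm
    have h1 : (g : G) * B.a * (g : G)⁻¹ ∈ B.C := J_C (za_le_J (nfacts B) (hPZ _
      ((mem_normalizer_iff.1 hg ⟨B.a, hza (mem_zpowers _)⟩).1
        (hP (mem_subgroupOf.2 (mem_zpowers _))))))
    rcases weak hM h1 with h | h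
    · exact mem_C.2 (mul_inv_eq_iff_eq_mul.1 h)
    exfalso
    refine no_invert (nfacts B) h hb hbR ?_
    have hwC : (g : G) * b * (g : G)⁻¹ ∈ B.C := sl_inv_of_conj h (Or.inr rfl) (J_C hb)
    refine (B.mem_R_iff (B.C.mul_mem hwC (B.C.inv_mem (J_C hb)))).2 ?_
    rw [show (⟨(g : G) * b * (g : G)⁻¹ * b⁻¹, _⟩ : B.C) = ⟨_, hwC⟩ * (⟨b, J_C hb⟩ : B.C)⁻¹ from rfl,
      map_mul, map_inv, mul_inv_eq_one]
    have hcube : ∀ u ∈ B.J, ∀ c, c * u * c⁻¹ * (c * u * c⁻¹) * (c * u * c⁻¹) = (1 : G) := by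
      intro u hu c
      rw [show c * u * c⁻¹ * (c * u * c⁻¹) * (c * u * c⁻¹) = c * u ^ 3 * c⁻¹ by
        simp only [pow_succ, pow_zero, one_mul]; group, B.J_exp u hu, mul_one, mul_inv_cancel]
    refine sl_act_four _ _ ?_ ?_ fun y hy => ?_
    · rw [← map_mul, ← map_mul]; convert map_one B.sl; exact Subtype.ext (hcube b hb g)
    · rw [← map_mul, ← map_mul]; convert map_one B.sl
      exact Subtype.ext (by simpa using hcube b hb 1)
    obtain ⟨q, hq, rfl⟩ := himg y hy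
    rw [← map_inv, ← map_inv, ← map_mul, ← map_mul, ← map_mul, ← map_mul]
    refine congrArg _ (Subtype.ext ?_)
    show (g : G) * b * (g : G)⁻¹ * q * ((g : G) * b * (g : G)⁻¹)⁻¹ = b * q * b⁻¹
    have hbq : b * q * b⁻¹ ∈ Q := (mem_normalizer_iff.1 (hnQ b (J_C hb) htb.symm) q).1 hq
    have e1 : q * (g : G) = g * q := hCQ.le g.2 q hq
    have e2 : b * q * b⁻¹ * (g : G) = g * (b * q * b⁻¹) := hCQ.le g.2 _ hbq
    calc (g : G) * b * (g : G)⁻¹ * q * ((g : G) * b * (g : G)⁻¹)⁻¹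
        = (g : G) * b * ((g : G)⁻¹ * (q * g)) * b⁻¹ * (g : G)⁻¹ := by group
      _ = (g : G) * (b * q * b⁻¹) * (g : G)⁻¹ := by rw [e1]; group
      _ = _ := by rw [← e2, mul_inv_cancel_right]
  obtain ⟨N, hN⟩ : ∃ N, N = (MonoidHom.transferSylow P hPn).ker := ⟨_, rfl⟩
  have hCQC : CQ ≤ B.C := by
    have hNC : N.map CQ.subtype ≤ B.C := by
      refine inv_le_C hM ht ht2 ht1 hb hbR htb ?_ ?_ ?_
      · rw [card_map_of_injective CQ.subtype_injective, hN]
        exact ((Nat.Prime.coprime_iff_not_dvd Nat.prime_three).2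
          (MonoidHom.not_dvd_card_ker_transferSylow P hPn)).symm
      all_goals
        refine mem_normalizer_iff_map_conj_eq.2 (eq_of_le_of_card_ge ?_
          (card_map_of_injective (MulAut.conj _).injective).ge)
        rintro _ ⟨_, ⟨n, hn, rfl⟩, rfl⟩
        refine CfsgLib.Recog.SpSixThree.Base.conj_mem_ker (hCQ := hCQ) P hPn hN hn ?_
      · exact B.a_mem_C |> fun h => hnQ B.a h (mem_C.1 ht).symm
      · exact hnQ b (J_C hb) htb.symm
    intro g hg
    obtain ⟨⟨n, p⟩, he, -⟩ :=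
      (MonoidHom.ker_transferSylow_isComplement' P hPn).existsUnique (⟨g, hg⟩ : CQ)
    have he' : ((n : CQ) : G) * ((p : CQ) : G) = g := congrArg Subtype.val he
    rw [← he']
    exact B.C.mul_mem (hNC ⟨n, hN.ge n.2, rfl⟩) (J_C (za_le_J (nfacts B) (hPZ p p.2)))
  have hNQ : ∀ g ∈ normalizer (Q : Set G), g ∈ Na := by
    intro g hg
    refine hweak g (hCQC (hCQ.ge fun q hq => ?_))
    have h1 : g⁻¹ * q * g ∈ Q := (mem_normalizer_iff''.1 hg q).1 hq
    have h2 := mem_C.1 (hQC h1)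
    calc q * (g * B.a * g⁻¹) = g * (g⁻¹ * q * g * B.a) * g⁻¹ := by group
      _ = g * (B.a * (g⁻¹ * q * g)) * g⁻¹ := by rw [h2]
      _ = _ := by group
  -- the Sylow subgroup
  obtain ⟨T, hT⟩ := hQp.exists_le_sylow
  have hTQ : ∀ x ∈ (T : Subgroup G), x ∈ B.C → x ∈ Q := by
    intro x hx hxC
    have hle : (Qc : Subgroup B.C) ≤ (T : Subgroup G).subgroupOf B.C := fun q hq =>
      mem_subgroupOf.2 (hT (hQ.ge ⟨q, hq, rfl⟩))
    have heq := Qc.is_maximal'
      (T.isPGroup'.comap_of_injective B.C.subtype B.C.subtype_injective) hle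
    exact hQ.ge ⟨⟨x, hxC⟩, heq.le (mem_subgroupOf.2 hx), rfl⟩
  have hQNa : ∀ q ∈ Q, q ∈ Na := fun q hq => hweak q (by
    rw [mul_inv_eq_iff_eq_mul.2 (mem_C.1 (hQC hq))]
    exact B.a_mem_C)
  have hTNa : (T : Subgroup G) ≤ Na := by
    by_contra hne
    haveI := T.isPGroup'.isNilpotent
    have hlt : Na.subgroupOf (T : Subgroup G) < ⊤ :=
      lt_top_iff_ne_top.2 fun h => hne (subgroupOf_eq_top.1 h)
    obtain ⟨g, hgn, hgNa⟩ := SetLike.exists_of_lt (Group.normalizerCondition_of_isNilpotent _ hlt)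
    refine hgNa (mem_subgroupOf.2 (hNQ g (mem_normalizer_iff_map_conj_eq.2 (eq_of_le_of_card_ge ?_
      (card_map_of_injective (MulAut.conj _).injective).ge))))
    have key : ∀ q ∈ Q, q * q ≠ 1 → (g : G) * q * (g : G)⁻¹ ∈ Q := by
      intro q hq hq2
      have hm : (g : G) * q * (g : G)⁻¹ ∈ Na := mem_subgroupOf.1
        ((mem_normalizer_iff.1 hgn ⟨q, hT hq⟩).1 (mem_subgroupOf.2 (hQNa q hq)))
      have hmT : (g : G) * q * (g : G)⁻¹ ∈ (T : Subgroup G) :=
        mul_mem (mul_mem g.2 (hT hq)) (inv_mem g.2)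
      refine hTQ _ hmT ?_
      rcases norm_za (hNa.le hm) with h | h
      · exact mem_C.2 (mul_inv_eq_iff_eq_mul.1 h)
      exfalso
      obtain ⟨y, hy⟩ : ∃ y, y = (g : G) * q * (g : G)⁻¹ := ⟨_, rfl⟩
      rw [← hy] at h
      refine four_not_inv h ?_ ?_ ?_
      · refine mem_C.2 (mul_inv_eq_iff_eq_mul.1 ?_)
        rw [show y * y * B.a * (y * y)⁻¹ = y * (y * B.a * y⁻¹) * y⁻¹ by group, h,
          show y * B.a⁻¹ * y⁻¹ = (y * B.a * y⁻¹)⁻¹ by group, h, inv_inv]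
      · rw [hy, show (g : G) * q * (g : G)⁻¹ * ((g : G) * q * (g : G)⁻¹) *
          ((g : G) * q * (g : G)⁻¹ * ((g : G) * q * (g : G)⁻¹)) =
          (g : G) * (q * q * (q * q)) * (g : G)⁻¹ by group, hq4 q hq, mul_one, mul_inv_cancel]
      · intro h2
        rw [hy, show (g : G) * q * (g : G)⁻¹ * ((g : G) * q * (g : G)⁻¹) =
          (g : G) * (q * q) * (g : G)⁻¹ by group, conj_eq_one_iff] at h2
        exact hq2 h2
    rintro _ ⟨q, hq, rfl⟩
    show (g : G) * q * (g : G)⁻¹ ∈ Q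
    by_cases hq2 : q * q = 1
    · by_cases hq1 : q = 1
      · subst hq1
        rw [mul_one, mul_inv_cancel]
        exact one_mem _
      obtain ⟨y, hy⟩ := sl_neg_sqrt
      obtain ⟨q₀, hq₀, he₀⟩ := himg y (by rw [hy]; exact sl_neg_sq)
      have hqt' : q₀ * q₀ = q := by
        refine hinj _ _ (Q.mul_mem hq₀ hq₀) hq ?_
        rw [show (⟨q₀ * q₀, _⟩ : B.C) = ⟨q₀, hQC hq₀⟩ * ⟨q₀, hQC hq₀⟩ from rfl, map_mul, he₀, hy]
        refine sl_invol_unique _ _ sl_neg_sq ?_ sl_neg_ne ?_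
        · rw [← map_mul]; convert map_one B.sl; exact Subtype.ext hq2
        · intro he
          exact hq1 (hinj _ 1 hq (one_mem _) (he.trans (map_one B.sl).symm))
      have hne : q₀ * q₀ ≠ 1 := hqt' ▸ hq1
      rw [← hqt', show (g : G) * (q₀ * q₀) * (g : G)⁻¹ =
        (g : G) * q₀ * (g : G)⁻¹ * ((g : G) * q₀ * (g : G)⁻¹) by group]
      exact Q.mul_mem (key q₀ hq₀ hne) (key q₀ hq₀ hne)
    · exact key q hq hq2
  -- the isolated involution
  have hiso : ∀ g : G, g * t * g⁻¹ ∈ (T : Subgroup G) → g * t * g⁻¹ = t := by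
    intro g hg
    obtain ⟨s, hs⟩ : ∃ s, s = g * t * g⁻¹ := ⟨_, rfl⟩
    rw [← hs] at hg ⊢
    have hs2 : s * s = 1 := by
      rw [hs, show g * t * g⁻¹ * (g * t * g⁻¹) = g * (t * t) * g⁻¹ by group, ht2, mul_one,
        mul_inv_cancel]
    have hs1 : s ≠ 1 := fun h => ht1 (conj_eq_one_iff.1 (hs ▸ h))
    rcases norm_za (hNa.le (hTNa hg)) with hsa | hsa
    · have hsQ := hTQ s hg (mem_C.2 (mul_inv_eq_iff_eq_mul.1 hsa))
      refine hinj _ _ hsQ htQ (sl_invol_unique _ _ ?_ ?_ ?_ ?_)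
      · rw [← map_mul]; convert map_one B.sl; exact Subtype.ext hs2
      · rw [hts]; exact sl_neg_sq
      · intro he
        exact hs1 (hinj _ 1 hsQ (one_mem _) (he.trans (map_one B.sl).symm))
      · rw [hts]; exact sl_neg_ne
    exfalso
    -- `s` inverts `a` and centralises an element of `R - Z`
    have hs' : s⁻¹ = s := inv_eq_of_mul_eq_one_right hs2
    have hsn := mem_normalizer_iff.1 (norm_R (nfacts B) (Or.inr hsa))
    obtain ⟨r₀, hr₀, hr₀Z⟩ : ∃ r₀ ∈ B.R, r₀ * (s * r₀ * s⁻¹) ∉ B.Za := by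
      by_contra hc
      push Not at hc
      obtain ⟨x, hxJ, hxR, hxZ⟩ := exists_x (nfacts B)
      obtain ⟨r, hr, hrJ⟩ := exists_r (nfacts B)
      obtain ⟨z₁, hz₁, e₁⟩ : ∃ z ∈ B.Za, s * x * s⁻¹ = z * x⁻¹ := by
        refine ⟨x * (s * x * s⁻¹), hc x hxR, ?_⟩
        have h := za_conj (B.R_le (B.R.inv_mem hxR)) (hc x hxR)
        rw [inv_inv, show x⁻¹ * (x * (s * x * s⁻¹)) * x = s * x * s⁻¹ * x by group] at h
        rw [← h]; group
      obtain ⟨z₂, hz₂, e₂⟩ : ∃ z ∈ B.Za, s * r * s⁻¹ = z * r⁻¹ := by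
        refine ⟨r * (s * r * s⁻¹), hc r hr, ?_⟩
        have h := za_conj (B.R_le (B.R.inv_mem hr)) (hc r hr)
        rw [inv_inv, show r⁻¹ * (r * (s * r * s⁻¹)) * r = s * r * s⁻¹ * r by group] at h
        rw [← h]; group
      have hq : qc x r ∈ B.Za := qc_mem (nfacts B) hxR hr
      have h1 : s * qc x r * s⁻¹ = qc x r := by
        rw [conj_qc, e₁, e₂, qc_mul_left (nfacts B) (za_le_R (nfacts B) hz₁) (B.R.inv_mem hxR)
          (B.R.mul_mem (za_le_R (nfacts B) hz₂) (B.R.inv_mem hr)), qc_za_left hz₁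
          (B.R_le (B.R.mul_mem (za_le_R (nfacts B) hz₂) (B.R.inv_mem hr))), one_mul,
          qc_mul_right (nfacts B) (B.R.inv_mem hxR) (za_le_R (nfacts B) hz₂) (B.R.inv_mem hr),
          qc_za_right (B.R_le (B.R.inv_mem hxR)) hz₂, one_mul]
        rw [show r⁻¹ = r ^ 2 from (inv_eq_of_mul_eq_one_left (by
            rw [← pow_succ]; exact B.R_exp r hr)),
          show x⁻¹ = x ^ 2 from (inv_eq_of_mul_eq_one_left (by
            rw [← pow_succ]; exact B.R_exp x hxR)),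
          qc_pow_left (nfacts B) hxR (B.R.pow_mem hr 2), qc_pow_right (nfacts B) hxR hr, ← pow_mul,
          show 2 * 2 = 3 + 1 from rfl, pow_succ, za_three hq, one_mul]
      have hinv : s * qc x r * s⁻¹ = (qc x r)⁻¹ := by
        obtain ⟨k, hk⟩ := mem_zpowers_iff.1 hq
        rw [← hk, ← conj_zpow, hsa, inv_zpow]
      rw [hinv, inv_eq_iff_mul_eq_one] at h1
      have h3 := za_three hq
      rw [pow_succ, pow_two, h1, one_mul] at h3
      exact nondeg (nfacts B) hxJ hxR hxZ hr hrJ h3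
    obtain ⟨u, hu⟩ : ∃ u, u = r₀ * (s * r₀ * s⁻¹) := ⟨_, rfl⟩
    rw [← hu] at hr₀Z
    have hsr : s * r₀ * s⁻¹ ∈ B.R := (hsn r₀).1 hr₀
    have huR : u ∈ B.R := hu ▸ B.R.mul_mem hr₀ hsr
    have hsus : ∃ z ∈ B.Za, s * u * s⁻¹ = z * u := by
      refine ⟨qc (s * r₀ * s⁻¹) r₀, qc_mem (nfacts B) hsr hr₀, ?_⟩
      rw [hu, show s * (r₀ * (s * r₀ * s⁻¹)) * s⁻¹ = s * r₀ * s⁻¹ * ((s * s) * r₀ * (s * s)⁻¹) by group,
        hs2, one_mul, inv_one, mul_one]
      unfold qc; group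
    obtain ⟨z, hz, hze⟩ := hsus
    obtain ⟨x, hx⟩ : ∃ x, x = u * (s * u * s⁻¹) := ⟨_, rfl⟩
    have hxR : x ∈ B.R := hx ▸ B.R.mul_mem huR ((hsn u).1 huR)
    have hsx : s * x * s⁻¹ = x := by
      rw [hx, show s * (u * (s * u * s⁻¹)) * s⁻¹ = s * u * s⁻¹ * ((s * s) * u * (s * s)⁻¹) by group,
        hs2, one_mul, inv_one, mul_one, hze, za_conj_comm huR hz]
    have hxZ : x ∉ B.Za := by
      intro hxz
      refine hr₀Z ?_
      rw [hx, hze, ← mul_assoc, za_comm (B.R_le huR) hz, mul_assoc] at hxz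
      have h2 := B.Za.mul_mem (B.Za.inv_mem hz) hxz
      rw [inv_mul_cancel_left] at h2
      have h3 := B.Za.inv_mem h2
      rwa [inv_eq_of_mul_eq_one_right (a := u * u) (b := u)
        (by rw [← pow_two, ← pow_succ]; exact B.R_exp u huR)] at h3
    -- transport to `C(t)`
    obtain ⟨Ct, hCt⟩ : ∃ Ct, Ct = centralizer ({t} : Set G) := ⟨_, rfl⟩
    have hgs : g⁻¹ * s * g = t := by rw [hs]; group
    have hx' : g⁻¹ * x * g ∈ Ct := by
      refine hCt.ge (mem_centralizer_singleton_iff.2 ?_)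
      rw [← hgs]
      calc g⁻¹ * x * g * (g⁻¹ * s * g) = g⁻¹ * (x * s) * g := by group
        _ = g⁻¹ * (s * x) * g := by rw [mul_inv_eq_iff_eq_mul.1 hsx]
        _ = _ := by group
    have haCt : B.a ∈ Ct := hCt.ge (mem_centralizer_singleton_iff.2 (mem_C.1 ht).symm)
    have hpa : IsPGroup 3 (zpowers (⟨B.a, haCt⟩ : Ct)) := IsPGroup.of_card (n := 1) (by
      rw [Nat.card_zpowers, ← Subgroup.orderOf_coe]; exact B.ha)
    have hpx : IsPGroup 3 (zpowers (⟨g⁻¹ * x * g, hx'⟩ : Ct)) := IsPGroup.of_card (n := 1) (by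
      rw [Nat.card_zpowers, ← Subgroup.orderOf_coe]
      refine orderOf_eq_prime ?_ fun h => hxZ ?_
      · show (g⁻¹ * x * g) ^ 3 = 1
        have h := conj_pow (i := 3) (a := g⁻¹) (b := x)
        rw [inv_inv] at h
        rw [h, B.R_exp x hxR, mul_one, inv_mul_cancel]
      · have : x = g * (g⁻¹ * x * g) * g⁻¹ := by group
        rw [this, show g⁻¹ * x * g = 1 from h, mul_one, mul_inv_cancel]
        exact one_mem _)
    obtain ⟨S₁, hS₁⟩ := hpa.exists_le_sylow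
    obtain ⟨S₂, hS₂⟩ := hpx.exists_le_sylow
    obtain ⟨h, hh⟩ := MulAction.exists_smul_eq Ct S₂ S₁
    have hSC : (S₁ : Subgroup Ct).map Ct.subtype ≤ B.C :=
      three_le_C hM (S₁.isPGroup'.map _) ⟨_, hS₁ (mem_zpowers _), rfl⟩
    have hy : (h : G) * (g⁻¹ * x * g) * (h : G)⁻¹ ∈ B.C := by
      refine hSC ⟨h * ⟨_, hx'⟩ * h⁻¹, ?_, rfl⟩
      rw [← hh, Sylow.coe_subgroup_smul]
      exact ⟨_, hS₂ (mem_zpowers _), rfl⟩
    obtain ⟨c, hc, hcJ⟩ := three_into_J (nfacts B) hy (by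
      rw [conj_pow, show (g⁻¹ * x * g) ^ 3 = 1 by
        have h' := conj_pow (i := 3) (a := g⁻¹) (b := x)
        rw [inv_inv] at h'
        rw [h', B.R_exp x hxR, mul_one, inv_mul_cancel], mul_one, mul_inv_cancel])
    obtain ⟨k, hk⟩ : ∃ k, k = c * h * g⁻¹ := ⟨_, rfl⟩
    have hkx : c * ((h : G) * (g⁻¹ * x * g) * (h : G)⁻¹) * c⁻¹ = k * x * k⁻¹ := by rw [hk]; group
    rw [hkx] at hcJ
    have hks : k * s * k⁻¹ = c * t * c⁻¹ := by
      have hht : (h : G) * t = t * h := mem_centralizer_singleton_iff.1 (hCt.le h.2)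
      rw [hk, show c * (h : G) * g⁻¹ * s * (c * (h : G) * g⁻¹)⁻¹ =
        c * ((h : G) * (g⁻¹ * s * g) * (h : G)⁻¹) * c⁻¹ by group, hgs, hht, mul_inv_cancel_right]
    obtain ⟨t', ht'e⟩ : ∃ t', t' = c * t * c⁻¹ := ⟨_, rfl⟩
    rw [← ht'e] at hks
    have ht'C : t' ∈ B.C := ht'e ▸ B.C.mul_mem (B.C.mul_mem hc ht) (B.C.inv_mem hc)
    have ht'2 : t' * t' = 1 := by
      rw [ht'e, show c * t * c⁻¹ * (c * t * c⁻¹) = c * (t * t) * c⁻¹ by group, ht2, mul_one,
        mul_inv_cancel]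
    have ht'1 : t' ≠ 1 := fun he => ht1 (conj_eq_one_iff.1 (ht'e ▸ he))
    have ht'j : t' * (k * x * k⁻¹) = k * x * k⁻¹ * t' := by
      rw [← hks]
      calc k * s * k⁻¹ * (k * x * k⁻¹) = k * (s * x) * k⁻¹ := by group
        _ = k * (x * s) * k⁻¹ := by rw [mul_inv_eq_iff_eq_mul.1 hsx]
        _ = _ := by group
    by_cases hjR : k * x * k⁻¹ ∈ B.R
    · by_cases hjZ : k * x * k⁻¹ ∈ B.Za
      · -- `x` would be conjugate to a power of `a`
        obtain ⟨i, hi⟩ := mem_zpowers_iff.1 hjZ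
        have hxa : x = (k⁻¹ * B.a * k) ^ i := by
          have h' := conj_zpow (i := i) (a := k⁻¹) (b := B.a)
          rw [inv_inv] at h'
          rw [h', hi]; group
        have hka : k⁻¹ * B.a * k ∈ B.C := by
          have hmod : i % 3 ≠ 0 := by
            intro h0
            refine hxZ ?_
            have hh0 : B.a ^ i = 1 := by
              rw [← zpow_mod_orderOf, B.ha, show i % ((3 : ℕ) : ℤ) = 0 from h0, zpow_zero]
            rw [hh0] at hi
            rw [show x = k⁻¹ * (k * x * k⁻¹) * k by group, ← hi, mul_one, inv_mul_cancel]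
            exact one_mem _
          have hord : (k⁻¹ * B.a * k) ^ (3 : ℤ) = 1 := by
            have h' := conj_zpow (i := (3 : ℤ)) (a := k⁻¹) (b := B.a)
            rw [inv_inv] at h'
            rw [h', zpow_ofNat, B.a_three, mul_one, inv_mul_cancel]
          have : k⁻¹ * B.a * k = x ^ i := by
            rw [hxa, ← zpow_mul]
            have : i * i = 3 * (i * i / 3) + 1 := by
              have h9 : i * i % 3 = 1 := by
                rcases (by omega : i % 3 = 1 ∨ i % 3 = 2) with h' | h' <;>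
                  simp [Int.mul_emod, h']
              omega
            rw [this, zpow_add, zpow_mul, hord, one_zpow, one_mul, zpow_one]
          rw [this]
          exact B.C.zpow_mem (B.R_le hxR) i
        have h1 := hweak k⁻¹ (by rwa [inv_inv])
        rcases norm_za (hNa.le h1) with h' | h' <;> rw [inv_inv] at h' <;> rw [h'] at hxa
        · exact hxZ (hxa ▸ zpow_mem (mem_zpowers _) i)
        · exact hxZ (hxa ▸ zpow_mem (inv_mem (mem_zpowers _)) i)
      · have hJ := cent_x (nfacts B) hcJ hjR hjZ ht'C ht'j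
        have h5 := B.J_exp t' hJ
        rw [pow_succ, pow_two, ht'2, one_mul] at h5
        exact ht'1 h5
    · have hcb := cent_b hM hcJ hjR ht'C ht'2 ht'1 ht'j
      have hka : k * B.a * k⁻¹ ∈ B.C := by
        refine hcb (mem_centralizer_singleton_iff.2 ?_)
        calc k * B.a * k⁻¹ * (k * x * k⁻¹) = k * (B.a * x) * k⁻¹ := by group
          _ = k * (x * B.a) * k⁻¹ := by rw [mem_C.1 (B.R_le hxR)]
          _ = _ := by group
      have h1 := norm_za (hNa.le (hweak k hka))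
      have h2 : k * s * k⁻¹ * (k * B.a * k⁻¹) = k * B.a * k⁻¹ * (k * s * k⁻¹) := by
        rw [hks]
        rcases h1 with h' | h' <;> rw [h']
        · exact mem_C.1 ht'C
        · exact ((show Commute t' B.a from mem_C.1 ht'C).inv_right).eq
      have h3 : s * B.a = B.a * s := by
        have := congrArg (fun w => k⁻¹ * w * k) h2
        simpa [mul_assoc] using this
      rw [mul_inv_eq_iff_eq_mul.2 h3] at hsa
      have h4 : B.a * B.a = 1 := by nth_rewrite 1 [hsa]; exact inv_mul_cancel _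
      have h5 := B.a_three
      rw [pow_succ, pow_two, h4, one_mul] at h5
      exact B.a_ne_one h5
  -- the odd normal subgroup
  obtain ⟨N₀, hN₀, hodd, hcomm⟩ := Cfsg.Agent.S0215.result T t
    (orderOf_eq_prime (by rw [pow_two]; exact ht2) ht1) (hT htQ) hiso
  haveI := hN₀
  haveI hsol : Group.IsSolvable N₀ := Cfsg.Agent.S0205.result hodd
  have hne : N₀ ≠ ⊥ := by
    intro h0
    refine ht1 ?_
    have hcop : (Nat.card (zpowers t)).Coprime 3 := by
      rw [Nat.card_zpowers, orderOf_eq_prime (by rw [pow_two]; exact ht2) ht1]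
      norm_num
    have hb := B.sig (zpowers t) hcop fun j _ => by
      refine mem_normalizer_iff_map_conj_eq.2 ?_
      rw [MonoidHom.map_zpowers]
      congr 1
      show j * t * j⁻¹ = t
      have hh := hcomm j
      rw [h0, mem_bot, mul_inv_eq_one, mul_inv_eq_iff_eq_mul] at hh
      rw [← hh, mul_inv_cancel_right]
    exact zpowers_eq_bot.1 hb
  haveI : Nontrivial N₀ := (Subgroup.nontrivial_iff_ne_bot N₀).2 hne
  obtain ⟨A, hA, hAn, hA1, hAp⟩ := normal_three B.sig hne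
  obtain ⟨P₀, hP₀C, hJP, hRP, hP₀⟩ := (nfacts B).syl
  have hAP : A ≤ (P₀ : Subgroup G) := by
    haveI := hAn
    obtain ⟨P', hP'⟩ := hAp.exists_le_sylow
    obtain ⟨e, rfl⟩ := MulAction.exists_smul_eq G P' P₀
    intro x hx
    rw [Sylow.coe_subgroup_smul]
    exact ⟨e⁻¹ * x * e, hP' ((Normal.conj_mem' hAn x hx e)), by
      show e * (e⁻¹ * x * e) * e⁻¹ = x; group⟩
  haveI := P₀.isPGroup'.isNilpotent
  have haA : B.a ∈ A := by
    haveI : (A.subgroupOf (P₀ : Subgroup G)).Normal := Normal.subgroupOf hAn _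
    obtain ⟨z, hz, hzc, hz1⟩ := exists_central_mem P₀.isPGroup' hAP hAn hA1
    have hzZ : z ∈ B.Za := by
      have hzJ : z ∈ B.J := B.cent_J ▸ fun y hy => hzc y (hJP hy)
      show z ∈ Subgroup.zpowers B.a
      rw [← B.R_center]
      refine ⟨B.nat (J_C hzJ) (fun y hy => ?_), fun y hy => hzc y (hRP hy)⟩
      rw [← hzc y (hRP hy), mul_inv_cancel_right, mul_inv_cancel]
      exact one_mem _
    rcases za_cases hzZ with h | h | h
    · exact absurd h hz1
    · exact h ▸ hz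
    · exact inv_mem_iff.1 (h ▸ hz)
  exact (eq_top_iff' _).2 fun g => hweak g (hP₀C (hAP (hAn.conj_mem _ haA g)))

end Base

end CfsgLib.Recog.SpSixThree
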