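import Cfsg.Agent.Lib.Recog.SpSixThree.First
import Cfsg.Agent.Lib.Recog.SpSixThree.NormA
import Cfsg.Agent.Lib.Recog.SpSixThree.FrameCent
import Cfsg.Agent.Lib.Recog.SpSixThree.Raw
import Cfsg.Agent.Lib.Recog.SpSixThree.Close

/-!
# The case division for a three-centralizer `3^(1+2) : SL₂(3)`
-/

set_option autoImplicit false

namespace CfsgLib.Recog.SpSixThree

open Subgroup

universe u v w

/-- The second conjunct from the two legs of the frame case. -/
theorem second_conjunct {G : Type u} [Group G] [Finite G] (B : Base G)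
    (F : Type v) [Field F] [Fintype F] (F₂ : Type w) [Field F₂] [Fintype F₂]
    (hsmall : ∀ FF : FullFrame B, FF.Small → Nonempty (G ≃* MulAut (Cfsg.PSp 2 F)))
    (hsix : ∀ FF : FullFrame B, FF.Six → Nonempty (G ≃* Matrix.symplecticGroup (Fin 3) F₂))
    (hinv : B.Inv) :
    Subgroup.normalizer (Subgroup.zpowers B.a : Set G) = ⊤ ∨ Nonempty (G ≃* MulAut (Cfsg.PSp 2 F)) ∨
      Nonempty (G ≃* Matrix.symplecticGroup (Fin 3) F₂) := by
  rcases B.M_cases with hM | hF
  · exact Or.inl (B.normal_of_le hinv hM)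
  obtain ⟨FR⟩ := hF
  obtain ⟨FF⟩ := FR.full hinv
  rcases FF.small_or_six with hS | hS
  · exact Or.inr (Or.inl (hsmall FF hS))
  · exact Or.inr (Or.inr (hsix FF hS))

end CfsgLib.Recog.SpSixThree
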