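import Cfsg.Agent.Lib.Recog.SpSixThree.Defs
import Mathlib.GroupTheory.Sylow
import Mathlib.Tactic

/-!
# The centralizer of `a`, the Sylow subgroup and fusion in `J`
-/

set_option autoImplicit false
set_option linter.unusedSectionVars false

namespace CfsgLib.Recog.SpSixThree

open Subgroup

/-- `SL₂(3)` -/
abbrev SLT : Type := Matrix.SpecialLinearGroup (Fin 2) (ZMod 3)

theorem sl_central_three : ∀ x : SLT, x * x * x = 1 → (∀ y, x * y = y * x) → x = 1 := by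
  decide +kernel

theorem sl_neg : ∀ x : SLT, x ≠ 1 → x = -1 ∨ ∃ y : SLT,
    x * y * x⁻¹ * y⁻¹ = -1 ∨ (x * y * x⁻¹ * y⁻¹) * (x * y * x⁻¹ * y⁻¹) = -1 := by
  decide +kernel

theorem sl_neg_comm : ∀ y : SLT, (-1 : SLT) * y = y * (-1) := by decide +kernel

theorem sl_neg_ne : (-1 : SLT) ≠ 1 := by decide +kernel

theorem sl_neg_sq : (-1 : SLT) * (-1) = 1 := by decide +kernel

theorem sl_cent_three : ∀ s : SLT, s * s * s = 1 → s ≠ 1 → ∀ x : SLT, x * s = s * x →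
    x = 1 ∨ x = s ∨ x = s⁻¹ ∨ x = -1 ∨ x = -1 * s ∨ x = -1 * s⁻¹ := by
  decide +kernel

theorem sl_norm_three : ∀ s : SLT, s * s * s = 1 → s ≠ 1 →
    ((Finset.univ : Finset SLT).filter fun x => x * s * x⁻¹ = s ∨ x * s * x⁻¹ = s⁻¹).card = 6 := by
  decide +kernel

theorem sl_card : Nat.card SLT = 24 := by rw [Nat.card_eq_fintype_card]; decide +kernel

theorem sl_three : ∀ x y : SLT, x * x * x = 1 → y * y * y = 1 → x * y = y * x → x ≠ 1 →
    y = 1 ∨ y = x ∨ y = x⁻¹ := by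
  decide +kernel

namespace Base

variable {G : Type*} [Group G] (B : Base G)

theorem a_mem_C : B.a ∈ B.C := mem_centralizer_singleton_iff.2 rfl

theorem a_three : B.a ^ 3 = 1 := B.ha ▸ pow_orderOf_eq_one B.a

theorem a_ne_one : B.a ≠ 1 := fun h => by
  have := B.ha
  rw [h, orderOf_one] at this
  omega

theorem comm_a {g : G} (hg : g ∈ B.C) : g * B.a = B.a * g := mem_centralizer_singleton_iff.1 hg

theorem R_le : B.R ≤ B.C := B.sl_ker ▸ Subgroup.map_subtype_le _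

theorem mem_R_iff {g : G} (hg : g ∈ B.C) : g ∈ B.R ↔ B.sl ⟨g, hg⟩ = 1 := by
  rw [← B.sl_ker]
  constructor
  · rintro ⟨y, hy, rfl⟩
    exact hy
  · exact fun h => ⟨⟨g, hg⟩, h, rfl⟩

theorem C_le_norm_R : B.C ≤ Subgroup.normalizer (B.R : Set G) := by
  rw [← B.sl_ker]
  intro g hg
  refine Subgroup.mem_normalizer_iff.2 fun x => ⟨?_, ?_⟩
  · rintro ⟨y, hy, rfl⟩
    exact ⟨⟨g, hg⟩ * y * ⟨g, hg⟩⁻¹, (MonoidHom.normal_ker B.sl).conj_mem y hy _, rfl⟩
  · rintro ⟨y, hy, he⟩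
    refine ⟨⟨g, hg⟩⁻¹ * y * ⟨g, hg⟩, ?_, ?_⟩
    · simpa using (MonoidHom.normal_ker B.sl).conj_mem y hy (⟨g, hg⟩ : B.C)⁻¹
    · show g⁻¹ * (y : G) * g = x
      rw [show (y : G) = g * x * g⁻¹ from he]
      group

theorem a_mem_R : B.a ∈ B.R := by
  rw [B.mem_R_iff B.a_mem_C]
  refine sl_central_three _ ?_ fun y => ?_
  · rw [← map_mul, ← map_mul, ← map_one B.sl]
    exact congrArg B.sl (Subtype.ext (by
      show B.a * B.a * B.a = 1
      rw [← pow_two, ← pow_succ, B.a_three]))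
  · obtain ⟨x, rfl⟩ := B.sl_surj y
    rw [← map_mul, ← map_mul]
    exact congrArg B.sl (Subtype.ext (B.comm_a x.2).symm)

theorem R_not_comm : ¬ ∀ x ∈ B.R, ∀ y ∈ B.R, x * y = y * x := fun h => by
  have htop : Subgroup.center ↥B.R = ⊤ := top_le_iff.1 fun x _ =>
    Subgroup.mem_center_iff.2 fun g => Subtype.ext (h g g.2 x x.2)
  have h3 := B.R_ext.2
  rw [htop, Subgroup.card_top, B.R_card] at h3
  omega

variable [Finite G]

theorem card_C : Nat.card B.C = 648 := by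
  rw [B.sl.ker.card_eq_card_quotient_mul_card_subgroup,
    Nat.card_congr (QuotientGroup.quotientKerEquivOfSurjective B.sl B.sl_surj).toEquiv, sl_card,
    ← Subgroup.card_map_of_injective (K := B.sl.ker) (Subgroup.subtype_injective B.C), B.sl_ker,
    B.R_card]

theorem R_center : B.R ⊓ Subgroup.centralizer (B.R : Set G) = Subgroup.zpowers B.a := by
  have hle : Subgroup.zpowers B.a ≤ B.R ⊓ Subgroup.centralizer (B.R : Set G) :=
    zpowers_le.2 ⟨B.a_mem_R, fun x hx => B.comm_a (B.R_le hx)⟩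
  refine (eq_of_le_of_card_ge hle ?_).symm
  have hm : B.R ⊓ Subgroup.centralizer (B.R : Set G) = (Subgroup.center ↥B.R).map B.R.subtype := by
    ext x
    constructor
    · rintro ⟨hx, hc⟩
      exact ⟨⟨x, hx⟩, Subgroup.mem_center_iff.2 fun g => Subtype.ext (hc g g.2), rfl⟩
    · rintro ⟨y, hy, rfl⟩
      exact ⟨y.2, fun g hg => congrArg Subtype.val (Subgroup.mem_center_iff.1 hy ⟨g, hg⟩)⟩
  rw [hm, card_map_of_injective B.R.subtype_injective, B.R_ext.2, Nat.card_zpowers, B.ha]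

theorem J_mem_C {x : G} (hx : x ∈ B.J) : x ∈ B.C := B.J_le hx

theorem sl_cube {x : G} (hx : x ∈ B.J) :
    B.sl ⟨x, B.J_le hx⟩ * B.sl ⟨x, B.J_le hx⟩ * B.sl ⟨x, B.J_le hx⟩ = 1 := by
  rw [← map_mul, ← map_mul, ← map_one B.sl]
  exact congrArg B.sl (Subtype.ext (by
    show x * x * x = 1
    rw [← pow_two, ← pow_succ, B.J_exp x hx]))

theorem sl_J_comm {x y : G} (hx : x ∈ B.J) (hy : y ∈ B.J) :
    B.sl ⟨x, B.J_le hx⟩ * B.sl ⟨y, B.J_le hy⟩ = B.sl ⟨y, B.J_le hy⟩ * B.sl ⟨x, B.J_le hx⟩ := by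
  rw [← map_mul, ← map_mul]
  exact congrArg B.sl (Subtype.ext (B.J_comm x hx y hy))

theorem not_J_le_R : ¬ B.J ≤ B.R := fun h => by
  refine B.R_not_comm ?_
  rw [← eq_of_le_of_card_ge h (by rw [B.J_card, B.R_card])]
  exact B.J_comm

/-- The image of `J` in `SL₂(3)` has order three. -/
theorem exists_x0 : ∃ x : G, ∃ hx : x ∈ B.J, B.sl ⟨x, B.J_le hx⟩ ≠ 1 ∧
    ∀ y (hy : y ∈ B.J), B.sl ⟨y, B.J_le hy⟩ = 1 ∨ B.sl ⟨y, B.J_le hy⟩ = B.sl ⟨x, B.J_le hx⟩ ∨
      B.sl ⟨y, B.J_le hy⟩ = (B.sl ⟨x, B.J_le hx⟩)⁻¹ := by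
  obtain ⟨x, hx, hxR⟩ := SetLike.not_le_iff_exists.1 B.not_J_le_R
  have hne : B.sl ⟨x, B.J_le hx⟩ ≠ 1 := fun h => hxR ((B.mem_R_iff _).2 h)
  exact ⟨x, hx, hne, fun y hy =>
    sl_three _ _ (B.sl_cube hx) (B.sl_cube hy) (B.sl_J_comm hx hy) hne⟩

theorem card_J_inf_R : Nat.card ↥(B.J ⊓ B.R) = 9 := by
  have hdvd : Nat.card ↥(B.J ⊓ B.R) ∣ 3 ^ 3 :=
    (Subgroup.card_dvd_of_le inf_le_left).trans (by rw [B.J_card]; norm_num)
  obtain ⟨k, hk, he⟩ := (Nat.dvd_prime_pow Nat.prime_three).1 hdvd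
  have hne : k ≠ 3 := fun h => B.not_J_le_R (inf_eq_left.1
    (eq_of_le_of_card_ge inf_le_left (by rw [he, h, B.J_card]; norm_num)))
  obtain ⟨x, hx, -, hall⟩ := B.exists_x0
  let ψ : ↥B.J →* SLT := B.sl.comp (Subgroup.inclusion B.J_le)
  have hker : ψ.ker = (B.J ⊓ B.R).subgroupOf B.J := by
    ext y
    rw [MonoidHom.mem_ker, mem_subgroupOf, mem_inf]
    exact ⟨fun h => ⟨y.2, (B.mem_R_iff (B.J_le y.2)).2 h⟩, fun h => (B.mem_R_iff _).1 h.2⟩
  have hr : Nat.card ψ.range ≤ 3 := by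
    have hsub : (ψ.range : Set SLT) ⊆
        {1, B.sl ⟨x, B.J_le hx⟩, (B.sl ⟨x, B.J_le hx⟩)⁻¹} := by
      rintro _ ⟨y, rfl⟩
      rcases hall y y.2 with h | h | h
      · exact Or.inl h
      · exact Or.inr (Or.inl h)
      · exact Or.inr (Or.inr h)
    rw [show Nat.card ψ.range = (ψ.range : Set SLT).ncard from Nat.card_coe_set_eq _]
    exact (Set.ncard_le_ncard hsub (Set.toFinite _)).trans
      ((Set.ncard_insert_le _ _).trans (by
        have := Set.ncard_insert_le (B.sl ⟨x, B.J_le hx⟩) {(B.sl ⟨x, B.J_le hx⟩)⁻¹}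
        rw [Set.ncard_singleton] at this
        omega))
  have h := ψ.ker.card_eq_card_quotient_mul_card_subgroup
  rw [Nat.card_congr (QuotientGroup.quotientKerEquivRange ψ).toEquiv, B.J_card, hker,
    Nat.card_congr (Subgroup.subgroupOfEquivOfLe inf_le_left).toEquiv, he] at h
  rw [he]
  generalize Nat.card ψ.range = m at h hr
  interval_cases k <;> norm_num at h ⊢ <;> omega

theorem a_mem_J : B.a ∈ B.J := by
  by_contra ha
  refine B.R_not_comm ?_
  have hc : B.J ⊓ B.R ≤ Subgroup.centralizer {B.a} := fun x hx => B.J_le hx.1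
  have hsup : B.R = (B.J ⊓ B.R) ⊔ Subgroup.zpowers B.a := by
    refine (eq_of_le_of_card_ge (sup_le inf_le_right (zpowers_le.2 B.a_mem_R)) ?_).symm
    have hlt : 9 < Nat.card ↥((B.J ⊓ B.R) ⊔ Subgroup.zpowers B.a) := by
      rw [← B.card_J_inf_R]
      refine lt_of_le_of_ne (Subgroup.card_le_of_le le_sup_left) fun h => ha ?_
      have := eq_of_le_of_card_ge (le_sup_left : B.J ⊓ B.R ≤ _ ⊔ Subgroup.zpowers B.a) h.ge
      exact (this.ge (mem_sup_right (mem_zpowers _))).1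
    have hd : Nat.card ↥((B.J ⊓ B.R) ⊔ Subgroup.zpowers B.a) ∣ 3 ^ 3 :=
      (Subgroup.card_dvd_of_le (sup_le inf_le_right (zpowers_le.2 B.a_mem_R))).trans
        (by rw [B.R_card]; norm_num)
    obtain ⟨k, hk, he⟩ := (Nat.dvd_prime_pow Nat.prime_three).1 hd
    rw [he] at hlt ⊢
    rw [B.R_card]
    interval_cases k <;> omega
  have hle : B.R ≤ Subgroup.centralizer (B.R : Set G) := by
    have h1 : (B.J ⊓ B.R) ⊔ Subgroup.zpowers B.a ≤
        Subgroup.centralizer (((B.J ⊓ B.R) ⊔ Subgroup.zpowers B.a : Subgroup G) : Set G) := by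
      refine sup_le ?_ ?_
      · rw [le_centralizer_iff]
        refine sup_le (fun x hx y hy => B.J_comm y hy.1 x hx.1) ?_
        rw [zpowers_le]
        exact fun y hy => B.comm_a (B.J_le hy.1)
      · rw [le_centralizer_iff]
        refine sup_le (fun x hx y hy => ?_) (zpowers_le.2 fun y hy => ?_)
        · obtain ⟨n, rfl⟩ := mem_zpowers_iff.1 hy
          exact (Commute.zpow_left (B.comm_a (B.J_le hx.1)).symm n).eq
        · obtain ⟨n, rfl⟩ := mem_zpowers_iff.1 hy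
          exact (Commute.zpow_left (Commute.refl B.a) n).eq
    rwa [← hsup] at h1
  exact fun x hx y hy => hle hy x hx

/-- The commutator with `R` modulo `⟨a⟩`, as a subgroup of `C`. -/
def Ker : Subgroup ↥B.C where
  carrier := {g | ∀ x ∈ B.R, (g : G) * x * (g : G)⁻¹ * x⁻¹ ∈ Subgroup.zpowers B.a}
  one_mem' := fun x _ => by simp
  mul_mem' := fun {g h} hg hh x hx => by
    obtain ⟨n, hn⟩ := mem_zpowers_iff.1 (hh x hx)
    have hcz : (g : G) * B.a ^ n = B.a ^ n * (g : G) := ((Commute.zpow_left (B.comm_a g.2).symm n).eq).symm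
    rw [Subgroup.coe_mul, show (g : G) * h * x * ((g : G) * h)⁻¹ * x⁻¹ =
      (g : G) * ((h : G) * x * (h : G)⁻¹ * x⁻¹) * x * (g : G)⁻¹ * x⁻¹ by group, ← hn, hcz,
      show B.a ^ n * (g : G) * x * (g : G)⁻¹ * x⁻¹ = B.a ^ n * ((g : G) * x * (g : G)⁻¹ * x⁻¹) by group]
    exact mul_mem (zpow_mem_zpowers _ _) (hg x hx)
  inv_mem' := fun {g} hg x hx => by
    obtain ⟨n, hn⟩ := mem_zpowers_iff.1 (hg x hx)
    have hcz : B.a ^ (-n) * (g : G) = (g : G) * B.a ^ (-n) :=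
      (Commute.zpow_left (B.comm_a g.2).symm (-n)).eq
    have h1 : (g : G) * x * (g : G)⁻¹ = B.a ^ n * x := by rw [hn]; group
    have h2 : ((g : G))⁻¹ * x * g = B.a ^ (-n) * x := by
      have h3 : (g : G)⁻¹ * (B.a ^ n * x) * g = x := by rw [← h1]; group
      calc (g : G)⁻¹ * x * g
          = ((g : G)⁻¹ * B.a ^ (-n) * g) * ((g : G)⁻¹ * (B.a ^ n * x) * g) := by group
        _ = B.a ^ (-n) * x := by rw [h3, mul_assoc ((g : G)⁻¹), hcz, inv_mul_cancel_left]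
    rw [Subgroup.coe_inv, inv_inv, h2, mul_inv_cancel_right]
    exact zpow_mem_zpowers _ _

instance Ker_normal : B.Ker.Normal := ⟨fun g hg c x hx => by
  have hx' : (c : G)⁻¹ * x * c ∈ B.R := (Subgroup.mem_normalizer_iff''.1 (B.C_le_norm_R c.2) x).1 hx
  obtain ⟨n, hn⟩ := mem_zpowers_iff.1 (hg _ hx')
  have hcz : (c : G) * B.a ^ n = B.a ^ n * (c : G) := ((Commute.zpow_left (B.comm_a c.2).symm n).eq).symm
  have : ((c * g * c⁻¹ : B.C) : G) * x * ((c * g * c⁻¹ : B.C) : G)⁻¹ * x⁻¹ = B.a ^ n := by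
    simp only [Subgroup.coe_mul, Subgroup.coe_inv]
    calc _ = (c : G) * ((g : G) * ((c : G)⁻¹ * x * c) * (g : G)⁻¹ * ((c : G)⁻¹ * x * c)⁻¹) * (c : G)⁻¹ := by
          group
      _ = B.a ^ n := by rw [← hn, hcz, mul_inv_cancel_right]
  rw [this]
  exact zpow_mem_zpowers _ _⟩

/-- No involution centralizes `J`. -/
theorem no_invol_cent_J {t : G} (ht : t * t = 1) (hc : ∀ j ∈ B.J, t * j = j * t) : t = 1 := by
  by_contra hne
  have hcard : Nat.card (Subgroup.zpowers t) = 2 := by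
    rw [Nat.card_zpowers, orderOf_eq_prime_iff]
    exact ⟨by rw [pow_two, ht], hne⟩
  have := B.sig (Subgroup.zpowers t) (by rw [hcard]; norm_num) fun j hj =>
    Subgroup.centralizer_le_normalizer _ fun y hy => by
      obtain ⟨n, rfl⟩ := mem_zpowers_iff.1 hy
      exact (Commute.zpow_left (hc j hj) n).eq
  rw [this, card_bot] at hcard
  omega

/-- The action of `C` on `R/⟨a⟩` is faithful modulo `R`. -/
theorem nat {g : G} (hg : g ∈ B.C)
    (h : ∀ x ∈ B.R, g * x * g⁻¹ * x⁻¹ ∈ Subgroup.zpowers B.a) : g ∈ B.R := by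
  rw [B.mem_R_iff hg]
  by_contra hne
  have hN : B.sl ⟨g, hg⟩ ∈ B.Ker.map B.sl := mem_map_of_mem B.sl h
  haveI : (B.Ker.map B.sl).Normal := B.Ker_normal.map B.sl B.sl_surj
  have hneg : (-1 : SLT) ∈ B.Ker.map B.sl := by
    obtain h1 | ⟨y, h1 | h1⟩ := sl_neg _ hne
    · exact h1 ▸ hN
    · rw [← h1, mul_assoc, mul_assoc]
      exact mul_mem hN (by
        rw [← mul_assoc]
        exact Subgroup.Normal.conj_mem inferInstance _ (inv_mem hN) y)
    · rw [← h1]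
      have hk : ∀ y, B.sl ⟨g, hg⟩ * y * (B.sl ⟨g, hg⟩)⁻¹ * y⁻¹ ∈ B.Ker.map B.sl := fun y => by
        rw [mul_assoc, mul_assoc]
        exact mul_mem hN (by
          rw [← mul_assoc]
          exact Subgroup.Normal.conj_mem inferInstance _ (inv_mem hN) y)
      exact mul_mem (hk y) (hk y)
  obtain ⟨u, hu, hus⟩ := hneg
  have hu2 : (u : G) * u ∈ B.R := by
    refine (B.mem_R_iff (mul_mem u.2 u.2)).2 ?_
    show B.sl (u * u) = 1
    rw [map_mul, hus, sl_neg_sq]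
  obtain ⟨t, ht⟩ : ∃ t, t = u ^ 3 := ⟨_, rfl⟩
  have ht2 : (t : G) * t = 1 := by
    rw [ht, SubgroupClass.coe_pow, ← pow_add, show 3 + 3 = 2 * 3 from rfl, pow_mul, pow_two,
      B.R_exp _ hu2]
  have hts : B.sl t = -1 := by
    rw [ht, map_pow, hus, pow_succ, pow_two, sl_neg_sq, one_mul]
  have htK : t ∈ B.Ker := ht ▸ pow_mem hu 3
  have htc : ∀ x ∈ B.R, (t : G) * x = x * t := by
    intro x hx
    obtain ⟨n, hn⟩ := mem_zpowers_iff.1 (htK x hx)
    have hcz : (t : G) * B.a ^ n = B.a ^ n * (t : G) := ((Commute.zpow_left (B.comm_a t.2).symm n).eq).symm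
    have h1 : (t : G) * x * (t : G)⁻¹ = B.a ^ n * x := by rw [hn]; group
    have h2 : x = B.a ^ n * (B.a ^ n * x) := by
      calc x = (t : G) * ((t : G) * x * (t : G)⁻¹) * (t : G)⁻¹ := by
            rw [show (t : G) * ((t : G) * x * (t : G)⁻¹) * (t : G)⁻¹ =
              ((t : G) * t) * x * ((t : G) * t)⁻¹ by group, ht2]; group
        _ = B.a ^ n * ((t : G) * x * (t : G)⁻¹) := by
          nth_rewrite 1 [h1]
          rw [← mul_assoc (t : G), hcz]
          group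
        _ = _ := by rw [h1]
    have h3 : B.a ^ (2 * n) = 1 := by
      rw [two_mul, zpow_add, ← mul_eq_right (b := x), mul_assoc]
      exact h2.symm
    have h4 : B.a ^ n = 1 := by
      have h5 : B.a ^ (3 * n) = 1 := by
        rw [zpow_mul, show (3 : ℤ) = ((3 : ℕ) : ℤ) from rfl, zpow_natCast, B.a_three, one_zpow]
      rw [show n = 3 * n - 2 * n by ring, zpow_sub, h5, h3]; simp
    rw [h4, one_mul] at h1
    exact mul_inv_eq_iff_eq_mul.1 h1
  have htJ : ∀ j ∈ B.J, (t : G) * j = j * t := by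
    intro j hj
    have hr : (t : G) * j * t * j⁻¹ ∈ B.R := by
      refine (B.mem_R_iff (mul_mem (mul_mem (mul_mem t.2 (B.J_le hj)) t.2) (inv_mem (B.J_le hj)))).2 ?_
      show B.sl (t * ⟨j, B.J_le hj⟩ * t * ⟨j, B.J_le hj⟩⁻¹) = 1
      rw [map_mul, map_mul, map_mul, hts, sl_neg_comm, mul_assoc _ (-1 : SLT) (-1), sl_neg_sq, mul_one,
        map_inv, mul_inv_cancel]
    have hinv : ((t : G) * j * t * j⁻¹) * ((t : G) * j * t * j⁻¹) = 1 := by
      have h1 := htc _ hr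
      calc ((t : G) * j * t * j⁻¹) * ((t : G) * j * t * j⁻¹)
          = (t : G) * j * t * j⁻¹ * ((t : G) * j * t * j⁻¹ * t) * (t : G)⁻¹ := by group
        _ = (t : G) * j * t * j⁻¹ * ((t : G) * ((t : G) * j * t * j⁻¹)) * (t : G)⁻¹ := by rw [h1]
        _ = (t : G) * j * t * j⁻¹ * (((t : G) * t) * j * t * j⁻¹) * (t : G)⁻¹ := by group
        _ = (t : G) * j * ((t : G) * t) * j⁻¹ * (t : G)⁻¹ := by nth_rewrite 1 [ht2]; group
        _ = 1 := by rw [ht2]; group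
    have h3 := B.R_exp _ hr
    rw [pow_succ, pow_two, hinv, one_mul] at h3
    calc (t : G) * j = (t : G) * j * t * j⁻¹ * (j * (t : G)⁻¹) := by group
      _ = j * (t : G)⁻¹ := by rw [h3, one_mul]
      _ = j * t := by rw [inv_eq_of_mul_eq_one_right ht2]
  have := B.no_invol_cent_J ht2 htJ
  apply sl_neg_ne
  rw [← hts, show t = 1 from Subtype.ext this, map_one]

/-- `J ∩ R` is its own centralizer in `R`. -/
theorem cent_J0 {r : G} (hr : r ∈ B.R) (h : ∀ x ∈ B.J ⊓ B.R, r * x = x * r) : r ∈ B.J := by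
  by_contra hrJ
  have hle : B.J ⊓ B.R ≤ B.R ⊓ Subgroup.centralizer ((B.J ⊓ B.R : Subgroup G) : Set G) :=
    le_inf inf_le_right fun x hx y hy => B.J_comm y hy.1 x hx.1
  have hlt : 9 < Nat.card ↥(B.R ⊓ Subgroup.centralizer ((B.J ⊓ B.R : Subgroup G) : Set G)) := by
    rw [← B.card_J_inf_R]
    refine lt_of_le_of_ne (Subgroup.card_le_of_le hle) fun he => hrJ ?_
    exact ((eq_of_le_of_card_ge hle he.ge).ge ⟨hr, fun y hy => (h y hy).symm⟩).1
  obtain ⟨k, hk, he⟩ := (Nat.dvd_prime_pow Nat.prime_three).1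
    (show Nat.card ↥(B.R ⊓ Subgroup.centralizer ((B.J ⊓ B.R : Subgroup G) : Set G)) ∣ 3 ^ 3 from
      (Subgroup.card_dvd_of_le inf_le_left).trans (by rw [B.R_card]; norm_num))
  have htop := eq_of_le_of_card_ge (inf_le_left : B.R ⊓ Subgroup.centralizer
    ((B.J ⊓ B.R : Subgroup G) : Set G) ≤ B.R) (by
      rw [he] at hlt ⊢
      rw [B.R_card]
      interval_cases k <;> omega)
  have hsub : B.J ⊓ B.R ≤ B.R ⊓ Subgroup.centralizer (B.R : Set G) :=
    le_inf inf_le_right fun x hx y hy => ((htop.ge hy).2 x hx).symm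
  have := Subgroup.card_le_of_le hsub
  rw [B.R_center, B.card_J_inf_R, Nat.card_zpowers, B.ha] at this
  omega

/-- `J` is self-centralizing. -/
theorem cent_J : Subgroup.centralizer (B.J : Set G) = B.J := by
  refine le_antisymm (fun g hg => ?_) fun x hx y hy => B.J_comm y hy x hx
  have hgC : g ∈ B.C := mem_centralizer_singleton_iff.2 (hg B.a B.a_mem_J).symm
  obtain ⟨x, hx, hne, -⟩ := B.exists_x0
  have hcomm : B.sl ⟨g, hgC⟩ * B.sl ⟨x, B.J_le hx⟩ = B.sl ⟨x, B.J_le hx⟩ * B.sl ⟨g, hgC⟩ := by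
    rw [← map_mul, ← map_mul]
    exact congrArg B.sl (Subtype.ext (hg x hx).symm)
  obtain ⟨i, hi⟩ : ∃ i : G, ∃ hi : i ∈ B.J,
      B.sl (⟨g, hgC⟩ * ⟨i, B.J_le hi⟩) = 1 ∨ B.sl (⟨g, hgC⟩ * ⟨i, B.J_le hi⟩) = -1 := by
    rcases sl_cent_three _ (B.sl_cube hx) hne _ hcomm with h | h | h | h | h | h
    · exact ⟨1, one_mem _, Or.inl (by rw [map_mul, h, one_mul]; exact map_one B.sl)⟩
    · refine ⟨x⁻¹, inv_mem hx, Or.inl ?_⟩
      rw [map_mul, h, show (⟨x⁻¹, B.J_le (inv_mem hx)⟩ : B.C) = ⟨x, B.J_le hx⟩⁻¹ from rfl, map_inv,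
        mul_inv_cancel]
    · exact ⟨x, hx, Or.inl (by rw [map_mul, h, inv_mul_cancel])⟩
    · exact ⟨1, one_mem _, Or.inr (by
        rw [map_mul, h]
        exact (congrArg ((-1 : SLT) * ·) (map_one B.sl)).trans (mul_one _))⟩
    · refine ⟨x⁻¹, inv_mem hx, Or.inr ?_⟩
      rw [map_mul, h, show (⟨x⁻¹, B.J_le (inv_mem hx)⟩ : B.C) = ⟨x, B.J_le hx⟩⁻¹ from rfl, map_inv,
        mul_inv_cancel_right]
    · exact ⟨x, hx, Or.inr (by rw [map_mul, h, inv_mul_cancel_right])⟩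
  obtain ⟨hiJ, hi⟩ := hi
  have hgi : ∀ j ∈ B.J, g * i * j = j * (g * i) := fun j hj => by
    rw [mul_assoc, B.J_comm i hiJ j hj, ← mul_assoc, ← hg j hj, mul_assoc]
  suffices g * i ∈ B.J by simpa using mul_mem this (inv_mem hiJ)
  rcases hi with h | h
  · exact B.cent_J0 ((B.mem_R_iff (mul_mem hgC (B.J_le hiJ))).2 h) fun y hy => hgi y hy.1
  · exfalso
    have h2 : g * i * (g * i) ∈ B.R := by
      refine (B.mem_R_iff (mul_mem (mul_mem hgC (B.J_le hiJ)) (mul_mem hgC (B.J_le hiJ)))).2 ?_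
      show B.sl ((⟨g, hgC⟩ * ⟨i, B.J_le hiJ⟩) * (⟨g, hgC⟩ * ⟨i, B.J_le hiJ⟩)) = 1
      rw [map_mul, h, sl_neg_sq]
    have h6 : (g * i) ^ 3 * (g * i) ^ 3 = 1 := by
      rw [← pow_add, show 3 + 3 = 2 * 3 from rfl, pow_mul, pow_two, B.R_exp _ h2]
    have h1 := B.no_invol_cent_J h6 fun j hj => (Commute.pow_left (hgi j hj) 3).eq
    apply sl_neg_ne
    have := congrArg B.sl (show (⟨g, hgC⟩ * ⟨i, B.J_le hiJ⟩ : B.C) ^ 3 = 1 from Subtype.ext h1)
    rwa [map_pow, h, map_one, pow_succ, pow_two, sl_neg_sq, one_mul] at this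

end Base

end CfsgLib.Recog.SpSixThree
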