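import Cfsg.Agent.Lib.Recog.SpSixThree.Defs

/-!
# Signed permutations of three coordinates
-/

set_option autoImplicit false

namespace CfsgLib.Recog.SpSixThree

/-- The product of signed permutations. -/
def cmul (u w : Code) : Code := (fun j => (u.1 j).xor (w.1 (u.2.symm j)), u.2 * w.2)

/-- The permutation part alone. -/
def cperm (π : Equiv.Perm (Fin 3)) : Code := (fun _ => false, π)

/-- The sign change fixing one coordinate. -/
def ctwo (k : Fin 3) : Code := (fun j => decide (j ≠ k), 1)

/-- The sign change of one coordinate. -/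
def cone (k : Fin 3) : Code := (fun j => decide (j = k), 1)

/-- The global sign change. -/
def cneg : Code := (fun _ => true, 1)

/-- The cyclic permutation. -/
def cyc : Equiv.Perm (Fin 3) := Equiv.swap 0 1 * Equiv.swap 1 2

theorem sact_cmul (u w : Code) (v : Vec) : sact (cmul u w) v = sact u (sact w v) := by
  funext j
  simp only [sact, cmul]
  rcases Bool.eq_false_or_eq_true (u.1 j) with h | h <;>
    rcases Bool.eq_false_or_eq_true (w.1 (u.2.symm j)) with h' | h' <;>
    simp [h, h', Equiv.Perm.mul_def]

theorem sact_zero (w : Code) : sact w 0 = 0 := funext fun j => by simp [sact]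

theorem sact_add (w : Code) (u v : Vec) : sact w (u + v) = sact w u + sact w v := by
  funext j
  simp only [sact, Pi.add_apply]
  split <;> simp [add_comm]

theorem sact_inj : ∀ u w : Code, (∀ k, sact u (evec k) = sact w (evec k)) → u = w := by
  decide +kernel

theorem sact_lin : ∀ w : Code, ∀ c : Vec,
    (c 0).val • sact w (evec 0) + (c 1).val • sact w (evec 1) + (c 2).val • sact w (evec 2) =
      sact w c := by
  decide +kernel

theorem eigen_line : ∀ c : Vec, c ≠ 0 → (sact (ctwo 0) c = c ∨ sact (ctwo 0) c = -c) →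
    (sact (ctwo 1) c = c ∨ sact (ctwo 1) c = -c) →
    ∃ k : Fin 3, c = evec k ∨ c = -evec k := by
  decide +kernel

theorem eigen_same : ∀ (k : Fin 3) (c : Vec), c ≠ 0 →
    (sact (ctwo 0) c = if k = 0 then c else -c) → (sact (ctwo 1) c = if k = 1 then c else -c) →
    c = evec k ∨ c = -evec k := by
  decide +kernel

theorem eigen_evec : ∀ k l : Fin 3,
    sact (ctwo l) (evec k) = if k = l then evec k else -evec k := by
  decide +kernel

theorem exists_code : ∀ u : Fin 3 → Fin 3 × Bool, (∀ i j, (u i).1 = (u j).1 → i = j) →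
    ∃ w : Code, ∀ k, sact w (evec k) = if (u k).2 then -evec (u k).1 else evec (u k).1 := by
  decide +kernel

theorem code_fix_one : ∀ w : Code, sact w (fun _ => 1) = (fun _ => 1) → w = cperm w.2 := by
  decide +kernel

theorem code_inv_one : ∀ w : Code, sact w (fun _ => 1) = (fun _ => 2) → w = cmul cneg (cperm w.2) := by
  decide +kernel

theorem code_inverting : ∀ π : Equiv.Perm (Fin 3), π * cyc = cyc⁻¹ * π →
    ∀ ρ : Equiv.Perm (Fin 3), ∃ (i : Fin 3) (j : Fin 2), ρ = cyc ^ i.val * π ^ j.val := by
  decide +kernel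

theorem code_even : ∀ w : Code, (((w.1 0) ^^ (w.1 1)) ^^ (w.1 2)) = false →
    w = cperm w.2 ∨ ∃ k : Fin 3, w = cmul (ctwo k) (cperm w.2) := by
  decide +kernel

theorem code_odd : ∀ w : Code, (((w.1 0) ^^ (w.1 1)) ^^ (w.1 2)) = true →
    (((cmul cneg w).1 0 ^^ (cmul cneg w).1 1) ^^ (cmul cneg w).1 2) = false := by
  decide +kernel

theorem cneg_cneg : ∀ w : Code, cmul cneg (cmul cneg w) = w := by decide +kernel

theorem cneg_comm : ∀ w : Code, cmul w cneg = cmul cneg w := by decide +kernel

theorem ctwo_mul : cmul (ctwo 0) (ctwo 1) = ctwo 2 := by decide +kernel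

theorem cperm_mul : ∀ π ρ : Equiv.Perm (Fin 3), cmul (cperm π) (cperm ρ) = cperm (π * ρ) := by
  decide +kernel

theorem cone_cone : ∀ k l : Fin 3, cmul (cone k) (cone l) = cmul (cone l) (cone k) ∧
    cmul (cone k) (cone k) = ((fun _ => false), 1) := by decide +kernel

theorem cperm_cone : ∀ (π : Equiv.Perm (Fin 3)) (k : Fin 3),
    cmul (cperm π) (cone k) = cmul (cone (π k)) (cperm π) := by decide +kernel

theorem one_symm (j : Fin 3) : (1 : Equiv.Perm (Fin 3)).symm j = j := rfl

theorem sact_cone (k : Fin 3) (v : Vec) : sact (cone k) v = Function.update v k (-v k) := by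
  funext j
  by_cases h : j = k
  · subst h; simp [sact, cone, one_symm]
  · simp [sact, cone, h, one_symm]

theorem code_split : ∀ w : Code,
    w = cmul (cmul (cmul (if w.1 0 then cone 0 else ((fun _ => false), 1))
      (if w.1 1 then cone 1 else ((fun _ => false), 1)))
      (if w.1 2 then cone 2 else ((fun _ => false), 1))) (cperm w.2) := by
  decide +kernel

theorem sact_one (v : Vec) : sact ((fun _ => false), 1) v = v := funext fun j => by simp [sact, one_symm]

theorem sact_cneg (v : Vec) : sact cneg v = -v := funext fun j => by simp [sact, cneg, one_symm]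

end CfsgLib.Recog.SpSixThree
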