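import Cfsg.Agent.Lib.Recog.SpSixThree.Four
import Cfsg.Agent.Lib.Recog.SpSixThree.Codes
import Mathlib.Algebra.BigOperators.Fin

/-!
# The cases for `M/J`: the coordinate frame
-/

set_option autoImplicit false
set_option linter.unusedSectionVars false

namespace CfsgLib.Recog.SpSixThree

open Subgroup

namespace Base

variable {G : Type*} [Group G] [Finite G] (B : Base G)

theorem pow_val_add {x : ↥B.J} (a b : ZMod 3) : x ^ (a + b).val = x ^ a.val * x ^ b.val := by
  have h3 : x ^ 3 = 1 := Subtype.ext (B.J_exp x x.2)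
  rw [ZMod.val_add, ← pow_add]
  conv_rhs => rw [← Nat.mod_add_div (a.val + b.val) 3, pow_add, pow_mul, h3, one_pow, mul_one]

theorem pow_val_eq_one {x : ↥B.J} (hx : x ≠ 1) {a : ZMod 3} (h : x ^ a.val = 1) : a = 0 := by
  haveI : Fact (Nat.Prime 3) := ⟨Nat.prime_three⟩
  have ho : orderOf x = 3 := orderOf_eq_prime (Subtype.ext (B.J_exp x x.2)) hx
  have hd : orderOf x ∣ a.val := orderOf_dvd_of_pow_eq_one h
  rw [ho] at hd
  have := ZMod.val_lt a
  exact (ZMod.val_eq_zero a).1 (by omega)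

theorem eq_one_of_inv {x : ↥B.J} (h : x⁻¹ = x) : x = 1 := by
  have h1 : x * x = 1 := mul_eq_one_iff_eq_inv.2 h.symm
  have h3 : x ^ 3 = 1 := Subtype.ext (B.J_exp x x.2)
  rwa [pow_succ, pow_two, h1, one_mul] at h3

theorem J_comm' (x y : ↥B.J) : x * y = y * x := Subtype.ext (B.J_comm x x.2 y y.2)

/-- The action of `M` written on elements. -/
theorem conj_eq {g : G} (hg : g ∈ B.M) (x : ↥B.J) :
    g * (x : G) * g⁻¹ = ((B.act ⟨g, hg⟩ x : ↥B.J) : G) := rfl

/-- A frame exists unless `M` normalizes `⟨a⟩`. -/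
theorem M_cases : B.M ≤ Subgroup.normalizer (Subgroup.zpowers B.a : Set G) ∨ Nonempty (Frame B) := by
  classical
  obtain ⟨y, hy, hyJ⟩ := B.exists_y
  rcases B.fix_or_four hy hyJ with hfix | ⟨V, hVX, hVn, hV2, hVc, v, hv, hvy⟩
  · left
    intro g hg
    refine Subgroup.mem_normalizer_iff.2 fun x => ?_
    have h := hfix _ (B.act_mem_X ⟨g, hg⟩)
    have hga : g * B.a * g⁻¹ = B.a ∨ g * B.a * g⁻¹ = B.a⁻¹ := by
      rcases h with h | h
      · exact Or.inl (congrArg Subtype.val h)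
      · exact Or.inr (congrArg Subtype.val h)
    constructor
    · intro hx
      obtain ⟨k, rfl⟩ := mem_zpowers_iff.1 hx
      rw [← conj_zpow]
      rcases hga with h | h <;> rw [h]
      · exact zpow_mem_zpowers _ _
      · exact zpow_mem (inv_mem (mem_zpowers _)) _
    · intro hx
      obtain ⟨k, hk⟩ := mem_zpowers_iff.1 hx
      have hga' : g⁻¹ * B.a * g ∈ Subgroup.zpowers B.a := by
        rcases hga with h | h
        · have h1 : g⁻¹ * B.a * g = B.a := by
            conv_lhs => rw [← h]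
            group
          rw [h1]
          exact mem_zpowers _
        · have h2 : (g * B.a * g⁻¹)⁻¹ = B.a := by rw [h, inv_inv]
          have h1 : g⁻¹ * B.a * g = B.a⁻¹ := by
            conv_lhs => rw [← h2]
            group
          rw [h1]
          exact inv_mem (mem_zpowers _)
      have hx' : x = (g⁻¹ * B.a * g) ^ k := by
        have := conj_zpow (a := g⁻¹) (b := B.a) (i := k)
        rw [inv_inv] at this
        rw [this, hk]
        group
      rw [hx']
      exact zpow_mem hga' _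
  right
  obtain ⟨Y, hY⟩ : ∃ Y, Y = B.act y := ⟨_, rfl⟩
  have hY3 : Y * Y * Y = 1 := by rw [← pow_two, ← pow_succ, hY, B.act_y_three hy]
  have hYX : Y ∈ B.X := hY ▸ B.act_mem_X y
  have hYa : Y B.aJ = B.aJ := hY ▸ B.act_y_a hy
  rw [← hY] at hvy
  obtain ⟨w, hw⟩ : ∃ w, w = v * (Y * v * Y⁻¹) := ⟨_, rfl⟩
  obtain ⟨w', hw'⟩ : ∃ w', w' = Y * w * Y⁻¹ := ⟨_, rfl⟩
  obtain ⟨w'', hw''⟩ : ∃ w'', w'' = Y * w' * Y⁻¹ := ⟨_, rfl⟩
  have hv' : Y * v * Y⁻¹ ∈ V := hVn Y hYX v hv
  have hwV : w ∈ V := hw ▸ mul_mem hv hv'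
  have hw'V : w' ∈ V := hw' ▸ hVn Y hYX w hwV
  have hw''V : w'' ∈ V := hw'' ▸ hVn Y hYX w' hw'V
  have hYY : Y * Y = Y⁻¹ := eq_inv_of_mul_eq_one_left hY3
  have hprod : w'' = w * w' := by
    have h1 : w * w' * w'' = 1 := by
      rw [hw'', hw', hw]
      have e1 : Y * (v * (Y * v * Y⁻¹)) * Y⁻¹ = (Y * v * Y⁻¹) * ((Y * Y) * v * (Y * Y)⁻¹) := by group
      have e2 : Y * (Y * (v * (Y * v * Y⁻¹)) * Y⁻¹) * Y⁻¹ = ((Y * Y) * v * (Y * Y)⁻¹) * v := by
        calc Y * (Y * (v * (Y * v * Y⁻¹)) * Y⁻¹) * Y⁻¹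
            = ((Y * Y) * v * (Y * Y)⁻¹) * ((Y * Y * Y) * v * (Y * Y * Y)⁻¹) := by group
          _ = _ := by rw [hY3]; group
      rw [e2, e1]
      obtain ⟨p, hp, hp'⟩ : ∃ p ∈ V, p = (Y * Y) * v * (Y * Y)⁻¹ :=
        ⟨_, hVn _ (mul_mem hYX hYX) v hv, rfl⟩
      rw [← hp']
      calc v * (Y * v * Y⁻¹) * (Y * v * Y⁻¹ * p) * (p * v)
          = v * ((Y * v * Y⁻¹) * (Y * v * Y⁻¹)) * (p * p) * v := by group
        _ = 1 := by rw [hV2 _ hv', hV2 _ hp, mul_one, mul_one, hV2 v hv]
    rw [eq_inv_of_mul_eq_one_right h1]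
    exact inv_eq_of_mul_eq_one_right (hV2 _ (mul_mem hwV hw'V))
  have hw1 : w ≠ 1 := by
    intro h
    rw [hw] at h
    have h1 : Y * v * Y⁻¹ = v := by rw [eq_inv_of_mul_eq_one_right h]; exact inv_eq_of_mul_eq_one_right (hV2 v hv)
    exact hvy (mul_inv_eq_iff_eq_mul.1 h1).symm
  have hww' : w' ≠ w := by
    intro h
    have hcY : Y * w = w * Y := by rw [hw'] at h; exact mul_inv_eq_iff_eq_mul.1 h
    have hpm := B.comm_y_two hy hyJ (hVX hwV) (hY ▸ hcY.symm) (n := 1) (by
      rw [pow_one, pow_two]; exact hV2 w hwV)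
    have hv1 : Y * v * Y⁻¹ = v * w := by rw [hw, ← mul_assoc, hV2 v hv, one_mul]
    have hv2 : (Y * Y) * v * (Y * Y)⁻¹ = v := by
      calc (Y * Y) * v * (Y * Y)⁻¹ = Y * (Y * v * Y⁻¹) * Y⁻¹ := by group
        _ = Y * (v * w) * Y⁻¹ := by rw [hv1]
        _ = (Y * v * Y⁻¹) * (Y * w * Y⁻¹) := by group
        _ = v * (w * w) := by rw [hv1, ← hw', h, mul_assoc]
        _ = v := by rw [hV2 w hwV, mul_one]
    refine hvy (Eq.symm ?_)
    have hc : Commute v (Y * Y) := (mul_inv_eq_iff_eq_mul.1 hv2).symm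
    have h4 : (Y * Y) * (Y * Y) = Y := by
      calc (Y * Y) * (Y * Y) = (Y * Y * Y) * Y := by group
        _ = Y := by rw [hY3, one_mul]
    have := hc.mul_right hc
    rw [h4] at this
    exact this.symm.eq
  have hww : ∀ p ∈ V, ∀ x, p (p x) = x := fun p hp x => by
    rw [← MulAut.mul_apply, hV2 p hp, MulAut.one_apply]
  have hcomm : ∀ x, w (w' x) = w' (w x) := fun x => by
    rw [← MulAut.mul_apply, hVc w hwV w' hw'V, MulAut.mul_apply]
  have hYw : ∀ x, w' (Y x) = Y (w x) := fun x => by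
    rw [hw']; simp [MulAut.mul_apply, MulAut.inv_apply_self]
  have hYw' : ∀ x, w'' (Y x) = Y (w' x) := fun x => by
    rw [hw'']; simp [MulAut.mul_apply, MulAut.inv_apply_self]
  obtain ⟨x0, hx0, hx0w, hx0w'⟩ : ∃ x : ↥B.J, x ≠ 1 ∧ w x = x ∧ w' x = x⁻¹ := by
    by_contra hall
    simp only [not_exists, not_and] at hall
    have hsub : ∀ x, w x = x → w' x = x := by
      intro x hx
      have hz : w (x * (w' x)⁻¹) = x * (w' x)⁻¹ := by rw [map_mul, map_inv, hcomm, hx]
      have hz' : w' (x * (w' x)⁻¹) = (x * (w' x)⁻¹)⁻¹ := by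
        rw [map_mul, map_inv, hww w' hw'V, mul_inv_rev, inv_inv, B.J_comm']
      by_contra hne
      exact hall _ (fun h1 => hne (mul_inv_eq_one.1 h1).symm) hz hz'
    have hsub' : ∀ x, w' x = x → w x = x := by
      intro x hx
      obtain ⟨z, rfl⟩ : ∃ z, x = Y z := ⟨Y⁻¹ x, (MulAut.apply_inv_self _ Y x).symm⟩
      rw [hYw] at hx
      have hz := hsub z (Y.injective hx)
      have h2 : w'' (Y z) = Y z := by rw [hYw', hz]
      rw [hprod, MulAut.mul_apply, hYw, Y.injective hx] at h2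
      exact h2
    refine hww' (MulEquiv.ext fun x => ?_)
    have hp : w' (x * w x) = x * w x := hsub _ (by rw [map_mul, hww w hwV, B.J_comm'])
    obtain ⟨q, hq⟩ : ∃ q, q = x * (w x)⁻¹ := ⟨_, rfl⟩
    have hqw : w q = q⁻¹ := by
      rw [hq, map_mul, map_inv, hww w hwV, mul_inv_rev, inv_inv, B.J_comm']
    have hqw' : w' q = q⁻¹ := by
      have h1 : w' (q * w' q) = q * w' q := by rw [map_mul, hww w' hw'V, B.J_comm']
      have h2 := hsub' _ h1
      rw [map_mul, hqw, hcomm, hqw, map_inv, ← mul_inv_rev, B.J_comm' (w' q) q] at h2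
      exact eq_inv_of_mul_eq_one_right (B.eq_one_of_inv h2)
    have h3 : w' (x * x) = w (x * x) := by
      have hxx : x * x = (x * w x) * q := by
        rw [hq, mul_assoc x (w x), ← mul_assoc (w x), B.J_comm' (w x) x, mul_assoc x (w x),
          mul_inv_cancel, mul_one]
      rw [hxx, map_mul w' (x * w x) q, hp, hqw', map_mul w (x * w x) q, map_mul w x (w x), hqw,
        hww w hwV, B.J_comm' (w x) x]
    have h4 : x * x = x⁻¹ := eq_inv_of_mul_eq_one_left (by
      rw [← pow_two, ← pow_succ]; exact Subtype.ext (B.J_exp x x.2))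
    rw [h4, map_inv, map_inv] at h3
    exact inv_injective h3
  have hw''0 : w'' x0 = x0⁻¹ := by rw [hprod, MulAut.mul_apply, hx0w', map_inv, hx0w]
  have h1w : w (Y x0) = (Y x0)⁻¹ := by
    have ha : w' (Y x0) = Y x0 := by rw [hYw, hx0w]
    have hb : w'' (Y x0) = (Y x0)⁻¹ := by rw [hYw', hx0w', map_inv]
    rw [hprod, MulAut.mul_apply, ha] at hb
    exact hb
  have h1w' : w' (Y x0) = Y x0 := by rw [hYw, hx0w]
  have h2w' : w' (Y (Y x0)) = (Y (Y x0))⁻¹ := by rw [hYw, h1w, map_inv]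
  have h2w : w (Y (Y x0)) = (Y (Y x0))⁻¹ := by
    have h := hYw' (Y x0)
    rw [h1w', hprod, MulAut.mul_apply, h2w', map_inv] at h
    exact inv_eq_iff_eq_inv.1 h
  -- the coordinates
  obtain ⟨ee, hee⟩ : ∃ ee : Fin 3 → ↥B.J, ee = ![x0, Y x0, Y (Y x0)] := ⟨_, rfl⟩
  have hee1 : ∀ k, ee k ≠ 1 := by
    intro k
    fin_cases k <;> simp [hee, hx0]
  obtain ⟨F, hFdef⟩ : ∃ F : Vec → ↥B.J,
      ∀ c, F c = ee 0 ^ (c 0).val * ee 1 ^ (c 1).val * ee 2 ^ (c 2).val := ⟨_, fun _ => rfl⟩
  have hFadd : ∀ c d, F (c + d) = F c * F d := by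
    intro c d
    rw [hFdef, hFdef, hFdef, Pi.add_apply, Pi.add_apply, Pi.add_apply, B.pow_val_add, B.pow_val_add,
      B.pow_val_add]
    letI : CommGroup ↥B.J := { (inferInstance : Group ↥B.J) with mul_comm := B.J_comm' }
    ac_rfl
  have hF0 : F 0 = 1 := by simpa using (hFadd 0 0)
  have hFneg : ∀ c, F (-c) = (F c)⁻¹ := fun c =>
    eq_inv_of_mul_eq_one_left (by rw [← hFadd, neg_add_cancel, hF0])
  have hFev : ∀ k, F (evec k) = ee k := by
    intro k
    rw [hFdef]
    fin_cases k <;> simp [evec, ZMod.val_one]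
  have hFsmul : ∀ (n : ℕ) c, F (n • c) = F c ^ n := by
    intro n c
    induction n with
    | zero => rw [zero_smul, pow_zero, hF0]
    | succ n ih => rw [succ_nsmul, pow_succ, hFadd, ih]
  have hlin : ∀ (φ : MulAut ↥B.J) (u : Code), (∀ k, φ (ee k) = F (sact u (evec k))) →
      ∀ c, φ (F c) = F (sact u c) := by
    intro φ u hu c
    conv_lhs => rw [hFdef]
    rw [map_mul, map_mul, map_pow, map_pow, map_pow, hu, hu, hu, ← hFsmul, ← hFsmul, ← hFsmul, ← hFadd,
      ← hFadd, sact_lin]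
  have hws : ∀ k, w (ee k) = F (sact (ctwo 0) (evec k)) ∧ w' (ee k) = F (sact (ctwo 1) (evec k)) := by
    intro k
    rw [eigen_evec, eigen_evec]
    fin_cases k
    · simp [hee, hFneg, hFev, hx0w, hx0w']
    · simp [hee, hFneg, hFev, h1w, h1w']
    · simp [hee, hFneg, hFev, h2w, h2w']
  have hwF : ∀ c, w (F c) = F (sact (ctwo 0) c) := hlin w _ fun k => (hws k).1
  have hw'F : ∀ c, w' (F c) = F (sact (ctwo 1) c) := hlin w' _ fun k => (hws k).2
  have hFinj : ∀ c d, F c = F d → c = d := by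
    intro c d h
    obtain ⟨e, he⟩ : ∃ e, e = c - d := ⟨_, rfl⟩
    have he1 : F e = 1 := by rw [he, sub_eq_add_neg, hFadd, hFneg, h, mul_inv_cancel]
    have hk : ∀ k, (ee k) ^ ((e k + e k)).val = 1 := by
      have h0 : F (e + sact (ctwo 0) e) = 1 := by rw [hFadd, ← hwF, he1, map_one, one_mul]
      have h1 : F (e + sact (ctwo 1) e) = 1 := by rw [hFadd, ← hw'F, he1, map_one, one_mul]
      have h2 : F (e + sact (ctwo 2) e) = 1 := by
        rw [hFadd, ← ctwo_mul, sact_cmul, ← hwF, ← hw'F, he1, map_one, map_one, one_mul]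
      intro k
      fin_cases k
      · rw [hFdef] at h0; simpa [sact, ctwo, one_symm] using h0
      · rw [hFdef] at h1; simpa [sact, ctwo, one_symm] using h1
      · rw [hFdef] at h2; simpa [sact, ctwo, one_symm] using h2
    have hz : ∀ x : ZMod 3, x + x = 0 → x = 0 := by decide
    refine sub_eq_zero.1 (he ▸ funext fun k => hz _ (B.pow_val_eq_one (hee1 k) (hk k)))
  have hFsurj : ∀ x, ∃ c, F c = x := by
    have hinj : Function.Injective F := fun c d => hFinj c d
    have hbij := (Nat.bijective_iff_injective_and_card F).2 ⟨hinj, by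
      rw [B.J_card, Nat.card_eq_fintype_card]; decide +kernel⟩
    exact hbij.2
  -- scale so that `a` has coordinates `(1,1,1)`
  have hYe : ∀ k, Y (ee k) = F (sact (cperm cyc) (evec k)) := by
    intro k
    have hY0 : Y (Y (Y x0)) = x0 := by rw [← MulAut.mul_apply, ← MulAut.mul_apply, hY3, MulAut.one_apply]
    rw [show sact (cperm cyc) (evec k) = evec (cyc k) by revert k; decide +kernel, hFev]
    fin_cases k <;> simp [hee, cyc, hY0, Equiv.swap_apply_def]
  obtain ⟨d, hd, hda⟩ : ∃ d : ZMod 3, d * d = 1 ∧ F (fun _ => d) = B.aJ := by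
    obtain ⟨c, hc⟩ := hFsurj B.aJ
    have h1 : F (sact (cperm cyc) c) = F c := by rw [← hlin Y _ hYe, hc, hYa]
    have hconst : ∀ c : Vec, sact (cperm cyc) c = c → c = fun _ => c 0 := by decide +kernel
    refine ⟨c 0, ?_, by rw [← hconst c (hFinj _ _ h1), hc]⟩
    have hnz : c 0 ≠ 0 := fun h0 => B.aJ_ne_one (by
      rw [← hc, hconst c (hFinj _ _ h1), h0]; exact hF0)
    have : ∀ x : ZMod 3, x ≠ 0 → x * x = 1 := by decide
    exact this _ hnz
  obtain ⟨f, hfdef⟩ : ∃ f : Multiplicative Vec →* G,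
      ∀ c, f (Multiplicative.ofAdd c) = ((F (fun j => d * c j) : ↥B.J) : G) :=
    ⟨MonoidHom.mk' (fun c => ((F (fun j => d * Multiplicative.toAdd c j) : ↥B.J) : G)) fun a b => by
      rw [← Subgroup.coe_mul, ← hFadd]
      congr 2
      funext j
      simp [mul_add], fun _ => rfl⟩
  have hscale : ∀ u : Code, ∀ c : Vec, sact u (fun j => d * c j) = fun j => d * sact u c j := by
    intro u c; funext j; simp only [sact]; split <;> simp
  have hacts : ∀ (g : ↥B.M) (u : Code), (∀ k, B.act g (ee k) = F (sact u (evec k))) →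
      ∀ c, (g : G) * f (Multiplicative.ofAdd c) * (g : G)⁻¹ = f (Multiplicative.ofAdd (sact u c)) := by
    intro g u hu c
    rw [hfdef, hfdef, B.conj_eq g.2, hlin _ u hu, hscale]
  have hdd : ∀ x, d * (d * x) = x := fun x => by rw [← mul_assoc, hd, one_mul]
  have hline : ∀ φ ∈ B.X, ∀ k, ∃ p : Fin 3 × Bool,
      φ (ee k) = F (if p.2 then -evec p.1 else evec p.1) := by
    intro φ hφ k
    obtain ⟨c, hc⟩ := hFsurj (φ (ee k))
    have hsign : ∀ i : Fin 3, ∀ p ∈ V, (∀ c, p (F c) = F (sact (ctwo i) c)) →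
        sact (ctwo i) c = c ∨ sact (ctwo i) c = -c := by
      intro i p hp hpF
      obtain ⟨q, hq, hqe⟩ : ∃ q ∈ V, p * φ = φ * q :=
        ⟨φ⁻¹ * p * φ, by simpa using hVn φ⁻¹ (inv_mem hφ) p hp, by group⟩
      have hqk : q (ee k) = F (evec k) ∨ q (ee k) = F (-evec k) := by
        obtain ⟨e, he⟩ := hFsurj (q (ee k))
        have h0 : sact (ctwo 0) e = if k = 0 then e else -e := hFinj _ _ (by
          rw [← hwF, he, ← MulAut.mul_apply, hVc w hwV q hq, MulAut.mul_apply, (hws k).1, eigen_evec]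
          split
          · rw [hFev, he]
          · rw [hFneg, map_inv, hFev, hFneg, he])
        have h1 : sact (ctwo 1) e = if k = 1 then e else -e := hFinj _ _ (by
          rw [← hw'F, he, ← MulAut.mul_apply, hVc w' hw'V q hq, MulAut.mul_apply, (hws k).2, eigen_evec]
          split
          · rw [hFev, he]
          · rw [hFneg, map_inv, hFev, hFneg, he])
        have hne : e ≠ 0 := fun h => hee1 k ((map_eq_one_iff q q.injective).1 (by rw [← he, h, hF0]))
        rcases eigen_same k e hne h0 h1 with h | h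
        · exact Or.inl (he ▸ h ▸ rfl)
        · exact Or.inr (he ▸ h ▸ rfl)
      have hpc : F (sact (ctwo i) c) = φ (q (ee k)) := by
        rw [← hpF, hc, ← MulAut.mul_apply, hqe, MulAut.mul_apply]
      rcases hqk with h | h
      · exact Or.inl (hFinj _ _ (by rw [hpc, h, hFev, hc]))
      · exact Or.inr (hFinj _ _ (by rw [hpc, h, hFneg, hFev, map_inv, hFneg, hc]))
    have hne : c ≠ 0 := fun h => hee1 k ((map_eq_one_iff φ φ.injective).1 (by rw [← hc, h, hF0]))
    obtain ⟨l, hl | hl⟩ := eigen_line c hne (hsign 0 w hwV hwF) (hsign 1 w' hw'V hw'F)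
    · exact ⟨(l, false), by simp [← hc, hl]⟩
    · exact ⟨(l, true), by simp [← hc, hl]⟩
  have hcode : ∀ g : ↥B.M, ∃ u : Code, ∀ k, B.act g (ee k) = F (sact u (evec k)) := by
    intro g
    choose p hp using hline (B.act g) (B.act_mem_X g)
    have hinj : ∀ i j, (p i).1 = (p j).1 → i = j := by
      intro i j hij
      by_contra hne
      have hev : ∀ i j : Fin 3, evec i = evec j ∨ evec i = -evec j → i = j := by decide +kernel
      refine hne (hev i j ?_)
      rcases Bool.eq_false_or_eq_true (p i).2 with hi | hi <;>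
        rcases Bool.eq_false_or_eq_true (p j).2 with hj | hj
      all_goals
        have e1 := hp i
        have e2 := hp j
        rw [hi, hij] at e1
        rw [hj] at e2
        simp only [Bool.false_eq_true, if_false, if_true] at e1 e2
      · exact Or.inl (hFinj _ _ (by rw [hFev, hFev]; exact (B.act g).injective (e1.trans e2.symm)))
      · refine Or.inr (hFinj _ _ ((B.act g).injective ?_))
        rw [hFev, hFneg, hFev, map_inv, e1, e2, hFneg]
      · refine Or.inr (hFinj _ _ ((B.act g).injective ?_))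
        rw [hFev, hFneg, hFev, map_inv, e1, e2, hFneg, inv_inv]
      · exact Or.inl (hFinj _ _ (by rw [hFev, hFev]; exact (B.act g).injective (e1.trans e2.symm)))
    obtain ⟨u, hu⟩ := exists_code p hinj
    exact ⟨u, fun k => by rw [hu, hp]⟩
  obtain ⟨L, hL⟩ : ∃ L : Set Code, L = {u | ∃ g : ↥B.M, ∀ k, B.act g (ee k) = F (sact u (evec k))} :=
    ⟨_, rfl⟩
  have hLmul : ∀ u v : Code, u ∈ L → v ∈ L → cmul u v ∈ L := by
    intro u v hu hv
    rw [hL] at hu hv ⊢
    obtain ⟨g, hg⟩ := hu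
    obtain ⟨h, hh⟩ := hv
    exact ⟨g * h, fun k => by rw [map_mul, MulAut.mul_apply, hh, hlin _ _ hg, sact_cmul]⟩
  have hLone : ((fun _ => false), 1) ∈ L :=
    hL ▸ ⟨1, fun k => by rw [map_one, MulAut.one_apply, sact_one, hFev]⟩
  have hLc : cperm cyc ∈ L := hL ▸ ⟨y, fun k => by rw [← hY]; exact hYe k⟩
  have hL2 : ∀ i, ctwo i ∈ L := by
    have h0 : ctwo 0 ∈ L := by
      obtain ⟨g, hg⟩ := hVX hwV
      exact hL ▸ ⟨g, fun k => by rw [hg]; exact (hws k).1⟩
    have h1 : ctwo 1 ∈ L := by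
      obtain ⟨g, hg⟩ := hVX hw'V
      exact hL ▸ ⟨g, fun k => by rw [hg]; exact (hws k).2⟩
    intro i
    fin_cases i
    · exact h0
    · exact h1
    · have := hLmul _ _ h0 h1
      rwa [ctwo_mul] at this
  obtain ⟨π, hπL, hπ⟩ : ∃ π : Equiv.Perm (Fin 3), cperm π ∈ L ∧ π * cyc = cyc⁻¹ * π := by
    obtain ⟨τ, hτX, -, hτY, -⟩ := B.exists_tX hy hyJ
    obtain ⟨⟨g, hg⟩, hta⟩ := B.mem_X6.1 hτX
    obtain ⟨u, hu⟩ := hcode g
    have hu1 : sact u (fun _ => 1) = fun _ => (1 : ZMod 3) := by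
      have hτd : F (sact u (fun _ => d)) = F (fun _ => d) := by
        rw [← hlin _ u hu, hg, hda, hta]
      have hh := hFinj _ _ hτd
      have hs := hscale u (fun _ => d)
      funext j
      have := congrFun hs j
      rw [show (fun i : Fin 3 => d * d) = fun _ => (1 : ZMod 3) from funext fun _ => hd, hh, hd] at this
      exact this
    obtain ⟨π, hπu⟩ : ∃ π, u = cperm π := ⟨u.2, code_fix_one u hu1⟩
    subst hπu
    refine ⟨π, hL ▸ ⟨g, hu⟩, ?_⟩
    have h1 : ∀ k, sact (cperm (π * cyc)) (evec k) = sact (cperm (cyc⁻¹ * π)) (evec k) := by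
      intro k
      refine hFinj _ _ ?_
      rw [← cperm_mul, ← cperm_mul, sact_cmul, sact_cmul, ← hlin _ _ hu, ← hYe, hg]
      have hYi : ∀ c, (B.act y)⁻¹ (F c) = F (sact (cperm cyc⁻¹) c) := by
        intro c
        refine (B.act y).injective ?_
        rw [MulAut.apply_inv_self, ← hY, hlin Y _ hYe, ← sact_cmul, cperm_mul, mul_inv_cancel]
        exact congrArg F (sact_one c).symm
      rw [← hYi, ← hu k, hg, ← MulAut.mul_apply, ← hτY, hY]
      simp [MulAut.mul_apply, MulAut.inv_apply_self]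
    exact congrArg Prod.snd (sact_inj _ _ h1)
  have hLp : ∀ ρ : Equiv.Perm (Fin 3), cperm ρ ∈ L := by
    intro ρ
    obtain ⟨i, j, rfl⟩ := code_inverting π hπ ρ
    have hpow : ∀ {σ : Equiv.Perm (Fin 3)}, cperm σ ∈ L → ∀ n : ℕ, cperm (σ ^ n) ∈ L := by
      intro σ hσ n
      induction n with
      | zero => rw [pow_zero]; exact hLone
      | succ n ih => rw [pow_succ, ← cperm_mul]; exact hLmul _ _ ih hσ
    rw [← cperm_mul]
    exact hLmul _ _ (hpow hLc _) (hpow hπL _)
  refine ⟨{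
    f := f
    f_inj := fun c c' h => ?_
    f_range := ?_
    f_a := ?_
    code := fun g hg => ?_
    lift := fun u hu => ?_ }⟩
  · have h1 := hFinj _ _ (Subtype.ext ((hfdef _).symm.trans (h.trans (hfdef _))))
    refine Multiplicative.toAdd.injective (funext fun j => ?_)
    have := congrArg (d * ·) (congrFun h1 j)
    simp only [hdd] at this
    exact this
  · refine le_antisymm ?_ fun x hx => ?_
    · rintro _ ⟨c, rfl⟩
      rw [← ofAdd_toAdd c, hfdef]; exact SetLike.coe_mem _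
    · obtain ⟨c, hc⟩ := hFsurj ⟨x, hx⟩
      exact ⟨Multiplicative.ofAdd fun j => d * c j, by rw [hfdef]; simp [hdd, hc]⟩
  · rw [hfdef]
    simp only [mul_one]
    rw [hda]
    rfl
  · obtain ⟨u, hu⟩ := hcode ⟨g, hg⟩
    exact ⟨u, fun c => hacts ⟨g, hg⟩ u hu c⟩
  · have huL : u ∈ L := by
      rcases code_even u hu with h | ⟨k, h⟩
      · rw [h]; exact hLp _
      · rw [h]; exact hLmul _ _ (hL2 k) (hLp _)
    rw [hL] at huL
    obtain ⟨g, hg⟩ := huL
    exact ⟨g, g.2, fun c => hacts g u hg c⟩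

end Base

namespace Frame

variable {G : Type*} [Group G] [Finite G] {B : Base G} (F : Frame B)

theorem el_mem (v : Vec) : F.el v ∈ B.J := F.f_range.le ⟨_, rfl⟩

theorem exists_el {x : G} (hx : x ∈ B.J) : ∃ v, x = F.el v := by
  obtain ⟨c, rfl⟩ := F.f_range.ge hx
  exact ⟨Multiplicative.toAdd c, rfl⟩

theorem el_add (u v : Vec) : F.el (u + v) = F.el u * F.el v := map_mul F.f _ _

theorem el_zero : F.el 0 = 1 := map_one F.f

theorem el_neg (v : Vec) : F.el (-v) = (F.el v)⁻¹ := map_inv F.f _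

theorem el_inj {u v : Vec} : F.el u = F.el v ↔ u = v :=
  ⟨fun h => Multiplicative.ofAdd.injective (F.f_inj h), fun h => h ▸ rfl⟩

theorem el_a : F.el (fun _ => 1) = B.a := F.f_a

/-- `g` acts on the coordinates as the signed permutation `w`. -/
def Acts (g : G) (w : Code) : Prop := ∀ v : Vec, g * F.el v * g⁻¹ = F.el (sact w v)

theorem Acts.mul {g h : G} {u w : Code} (hg : F.Acts g u) (hh : F.Acts h w) :
    F.Acts (g * h) (cmul u w) := fun v => by
  rw [show g * h * F.el v * (g * h)⁻¹ = g * (h * F.el v * h⁻¹) * g⁻¹ by group, hh, hg, sact_cmul]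

theorem Acts.unique {g : G} {u w : Code} (hg : F.Acts g u) (hg' : F.Acts g w) : u = w :=
  sact_inj u w fun k => F.el_inj.1 ((hg _).symm.trans (hg' _))

theorem acts_one : F.Acts 1 ((fun _ => false), 1) := fun v => by rw [sact_one]; group

theorem acts_el (u : Vec) : F.Acts (F.el u) ((fun _ => false), 1) := fun v => by
  rw [sact_one, ← F.el_add, ← F.el_neg, ← F.el_add]
  congr 1
  abel

theorem mem_J_of_acts {g : G} (hg : F.Acts g ((fun _ => false), 1)) : g ∈ B.J := by
  rw [← B.cent_J]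
  intro x hx
  obtain ⟨v, rfl⟩ := F.exists_el hx
  have := hg v
  rw [sact_one, mul_inv_eq_iff_eq_mul] at this
  exact this.symm

/-- All signed permutations occur as soon as `a` is conjugate to its inverse. -/
theorem exists_neg (h : B.Inv) : ∃ z ∈ B.M, z * z = 1 ∧ F.Acts z cneg := by
  obtain ⟨m, hm, hma⟩ := B.inv_in_M h
  obtain ⟨u, hu⟩ := F.code m hm
  have hu1 : sact u (fun _ => 1) = fun _ => (2 : ZMod 3) := by
    refine F.el_inj.1 ((hu _).symm.trans ?_)
    show m * F.f (Multiplicative.ofAdd fun _ => (1 : ZMod 3)) * m⁻¹ = _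
    rw [F.f_a, hma, ← F.el_a, ← F.el_neg]
    exact congrArg F.el (funext fun _ => (by decide : -(1 : ZMod 3) = 2))
  obtain ⟨n, hn, hnu⟩ := F.lift (cperm u.2⁻¹) (by simp [cperm])
  have hz : F.Acts (m * n) cneg := by
    have h2 : F.Acts (m * n) (cmul u (cperm u.2⁻¹)) := Acts.mul F hu hnu
    have hc : ∀ π : Equiv.Perm (Fin 3), cmul (cmul cneg (cperm π)) (cperm π⁻¹) = cneg := by
      decide +kernel
    have heq : cmul u (cperm u.2⁻¹) = cneg := by
      nth_rewrite 1 [code_inv_one u hu1]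
      exact hc _
    rwa [heq] at h2
  have h2J : (m * n) * (m * n) ∈ B.J := by
    refine F.mem_J_of_acts ?_
    have := Acts.mul F hz hz
    rwa [show cmul cneg cneg = ((fun _ => false), 1) by decide +kernel] at this
  refine ⟨(m * n) ^ 3, pow_mem (mul_mem hm hn) 3, ?_, ?_⟩
  · rw [← pow_add, show 3 + 3 = 2 * 3 from rfl, pow_mul, pow_two]
    exact B.J_exp _ h2J
  · have h3 := Acts.mul F (Acts.mul F hz hz) hz
    rwa [show cmul (cmul cneg cneg) cneg = cneg by decide +kernel, ← pow_two, ← pow_succ] at h3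

theorem lift_all (h : B.Inv) (w : Code) : ∃ g ∈ B.M, F.Acts g w := by
  by_cases hw : (((w.1 0) ^^ (w.1 1)) ^^ (w.1 2)) = false
  · exact F.lift w hw
  · obtain ⟨z, hz, -, hza⟩ := F.exists_neg h
    obtain ⟨g, hg, hga⟩ := F.lift (cmul cneg w) (code_odd w (by simpa using hw))
    refine ⟨z * g, mul_mem hz hg, ?_⟩
    have := Acts.mul F hza (u := cneg) (show F.Acts g (cmul cneg w) from hga)
    rwa [cneg_cneg] at this

include F in
/-- For `a` conjugate to its inverse, `M` is `J` extended by all signed permutations. -/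
theorem full (h : B.Inv) : Nonempty (FullFrame B) := by
  classical
  obtain ⟨z, hzM, hz2, hza⟩ := F.exists_neg h
  have hzinv : ∀ j ∈ B.J, z * j * z⁻¹ = j⁻¹ := by
    intro j hj
    obtain ⟨v, rfl⟩ := F.exists_el hj
    rw [hza, sact_cneg, F.el_neg]
  have hex : ∀ w : Code, ∃ g ∈ B.M, F.Acts g w ∧ g * z = z * g := by
    intro w
    obtain ⟨g, hg, hga⟩ := F.lift_all h w
    obtain ⟨j, hj⟩ : ∃ j, j = z * g * z⁻¹ * g⁻¹ := ⟨_, rfl⟩
    have hzg : F.Acts (z * g) (cmul cneg w) := Acts.mul F hza hga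
    have hgz : F.Acts (g * z) (cmul cneg w) := cneg_comm w ▸ Acts.mul F hga hza
    have hjJ : j ∈ B.J := by
      refine F.mem_J_of_acts fun v => ?_
      obtain ⟨v', rfl⟩ : ∃ v', v = sact (cmul cneg w) v' := by
        refine (Finite.injective_iff_surjective.1 fun p q hpq => ?_) v |>.imp fun _ h => h.symm
        exact F.el_inj.1 (mul_left_cancel (mul_right_cancel
          ((hzg p).trans ((congrArg F.el hpq).trans (hzg q).symm))))
      rw [sact_one, ← hgz v', hj]
      conv_rhs => rw [hgz v', ← hzg v']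
      group
    -- correct `g` by an element of `J`
    refine ⟨j⁻¹ * g, mul_mem (inv_mem (B.J_le_P0.trans B.P0_le_M hjJ)) hg, ?_, ?_⟩
    · obtain ⟨v, hv⟩ := F.exists_el (inv_mem hjJ)
      rw [hv]
      have := Acts.mul F (F.acts_el v) hga
      rwa [show ∀ w : Code, cmul ((fun _ => false), 1) w = w by decide +kernel] at this
    · have h1 : z * g = j * (g * z) := by rw [hj]; group
      have h3 : j * j = j⁻¹ := eq_inv_of_mul_eq_one_left (by
        rw [← pow_two, ← pow_succ, B.J_exp j hjJ])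
      calc j⁻¹ * g * z = j * j * (g * z) := by rw [h3, mul_assoc]
        _ = j * (z * g) := by rw [h1, mul_assoc]
        _ = (z * j⁻¹ * z⁻¹) * (z * g) := by rw [hzinv _ (inv_mem hjJ), inv_inv]
        _ = z * (j⁻¹ * g) := by group
  choose s hsM hsA hsz using hex
  have huniq : ∀ g w, g ∈ B.M → F.Acts g w → g * z = z * g → g = s w := by
    intro g w hg hga hgz
    have hJ : (s w)⁻¹ * g ∈ B.J := by
      refine F.mem_J_of_acts fun v => ?_
      rw [sact_one, show (s w)⁻¹ * g * F.el v * ((s w)⁻¹ * g)⁻¹ =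
        (s w)⁻¹ * (g * F.el v * g⁻¹) * s w by group, hga, ← hsA w v]
      group
    have hc : Commute ((s w)⁻¹ * g) z :=
      (Commute.inv_left (hsz w : Commute (s w) z)).mul_left (hgz : Commute g z)
    have h1 := hzinv _ hJ
    rw [← hc.eq, mul_inv_cancel_right] at h1
    have h3 := B.J_exp _ hJ
    rw [pow_succ, pow_two, mul_eq_one_iff_eq_inv.2 h1, one_mul] at h3
    exact (inv_mul_eq_one.1 h3).symm
  have hmul : ∀ u w, s u * s w = s (cmul u w) := fun u w =>
    huniq _ _ (mul_mem (hsM u) (hsM w)) (Acts.mul F (hsA u) (hsA w))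
      (Commute.mul_left (hsz u) (hsz w)).eq
  have hone : s ((fun _ => false), 1) = 1 :=
    (huniq 1 _ (one_mem _) F.acts_one (by rw [one_mul, mul_one])).symm
  let p : Equiv.Perm (Fin 3) →* G := MonoidHom.mk' (fun π => s (cperm π)) fun π ρ => by
    rw [hmul, cperm_mul]
  refine ⟨{ toFrame := F, r := fun k => s (cone k), p := p, r_sq := fun k => ?_, r_comm := fun k l => ?_,
            r_el := fun k v => ?_, p_el := fun π v => ?_, p_r := fun π k => ?_, norm := fun g hg => ?_ }⟩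
  · show s (cone k) * s (cone k) = 1
    rw [hmul, (cone_cone k k).2, hone]
  · show s (cone k) * s (cone l) = s (cone l) * s (cone k)
    rw [hmul, hmul, (cone_cone k l).1]
  · have h1 : s (cone k) * s (cone k) = 1 := by rw [hmul, (cone_cone k k).2, hone]
    have h2 := hsA (cone k) v
    rw [inv_eq_of_mul_eq_one_right h1, sact_cone] at h2
    exact h2
  · have h2 := hsA (cperm π) v
    rw [show sact (cperm π) v = fun j => v (π.symm j) from funext fun j => by simp [sact, cperm]] at h2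
    exact h2
  · show s (cperm π) * s (cone k) * (s (cperm π))⁻¹ = s (cone (π k))
    rw [mul_inv_eq_iff_eq_mul, hmul, hmul, cperm_cone]
  · obtain ⟨w, hw⟩ := F.code g hg
    have hJ : g * (s w)⁻¹ ∈ B.J := by
      refine F.mem_J_of_acts fun v => ?_
      obtain ⟨v', rfl⟩ : ∃ v', v = sact w v' := by
        refine (Finite.injective_iff_surjective.1 fun p q hpq => ?_) v |>.imp fun _ h => h.symm
        exact F.el_inj.1 (mul_left_cancel (mul_right_cancel
          ((hsA w p).trans ((congrArg F.el hpq).trans (hsA w q).symm))))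
      rw [sact_one]
      conv_lhs => rw [← hsA w v']
      rw [show g * (s w)⁻¹ * (s w * F.el v' * (s w)⁻¹) * (g * (s w)⁻¹)⁻¹ = g * F.el v' * g⁻¹ by group]
      exact hw v'
    obtain ⟨v, hv⟩ := F.exists_el hJ
    refine ⟨v, w.1, w.2, ?_⟩
    have hif : ∀ (b : Bool) k, (if b then s (cone k) else 1) =
        s (if b then cone k else ((fun _ => false), 1)) := by
      intro b k; cases b <;> simp [hone]
    show g = F.el v * _ * s (cperm w.2)
    rw [hif, hif, hif, hmul, hmul, mul_assoc (F.el v), hmul, ← code_split, ← hv, inv_mul_cancel_right]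

/-- For `a` not conjugate to its inverse, `M/J` is `S₄`. -/
theorem code_even_of_not_inv (h : ¬ B.Inv) {g : G} (hg : g ∈ B.M) {w : Code} (hw : F.Acts g w) :
    (((w.1 0) ^^ (w.1 1)) ^^ (w.1 2)) = false := by
  by_contra hne
  obtain ⟨n, hn, hna⟩ := F.lift (cmul cneg w) (code_odd w (by simpa using hne))
  obtain ⟨n', hn', hn'a⟩ : ∃ n' ∈ B.M, F.Acts n' cneg := by
    obtain ⟨w', hw'⟩ := F.code g⁻¹ (inv_mem hg)
    refine ⟨n * g⁻¹, mul_mem hn (inv_mem hg), ?_⟩
    have h1 := Acts.mul F hw (show F.Acts g⁻¹ w' from hw')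
    rw [mul_inv_cancel] at h1
    have h2 : cmul w w' = ((fun _ => false), 1) := Acts.unique F h1 F.acts_one
    have h3 := Acts.mul F (show F.Acts n (cmul cneg w) from hna) (show F.Acts g⁻¹ w' from hw')
    have hassoc : cmul (cmul cneg w) w' = cmul cneg (cmul w w') := by
      refine sact_inj _ _ fun k => ?_
      rw [sact_cmul, sact_cmul, sact_cmul, sact_cmul]
    rwa [hassoc, h2, show cmul cneg ((fun _ => false), 1) = cneg by decide +kernel] at h3
  refine h ⟨n', ?_⟩
  have := hn'a (fun _ => 1)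
  rwa [F.el_a, sact_cneg, F.el_neg, F.el_a] at this

end Frame

theorem FullFrame.r_inv {G : Type*} [Group G] {B : Base G} (F : FullFrame B) (k : Fin 3) : (F.r k)⁻¹ = F.r k :=
  inv_eq_of_mul_eq_one_right (F.r_sq k)

end CfsgLib.Recog.SpSixThree
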