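import Cfsg.Agent.Lib.Recog.SpSixThree.Cases
import Cfsg.Agent.Lib.Recog.SymNine.Emb.Blocks

/-!
The chart `3 × S₆` of the centralizer of the last frame element.
-/

set_option autoImplicit false
set_option linter.unusedSectionVars false

namespace CfsgLib.Recog.SpSixThree

open Equiv

universe u

/-- an element acting on the four inner transpositions as the exchange of the blocks is the exchange -/
theorem exchange_unique : ∀ σ : Perm (Fin 6), σ * swap 0 1 = swap 3 4 * σ → σ * swap 1 2 = swap 4 5 * σ →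
    σ * swap 3 4 = swap 0 1 * σ → σ * swap 4 5 = swap 1 2 * σ →
    σ = swap 0 3 * swap 1 4 * swap 2 5 := by decide +kernel

theorem evec_facts : (∀ k l : Fin 3, k ≠ l → Function.update (evec l) k (-evec l k) = evec l) ∧
    (∀ k : Fin 3, Function.update (evec k) k (-evec k k) = -evec k) ∧
    (∀ (π : Perm (Fin 3)) (k : Fin 3), (fun j => evec k (π.symm j)) = evec (π k)) ∧
    (∀ k l : Fin 3, k ≠ l → evec k ≠ 0 ∧ evec k ≠ evec l ∧ evec k ≠ evec l + evec l) ∧
    (∀ v : Vec, v + v + v = 0) := by decide +kernel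

variable {G : Type u} [Group G] [Finite G] {B : Base G}

theorem Frame.e_cube (F : Frame B) (k : Fin 3) : F.e k * F.e k * F.e k = 1 := by
  rw [Frame.e, ← F.el_add, ← F.el_add, evec_facts.2.2.2.2, F.el_zero]

theorem Frame.e_comm (F : Frame B) (k l : Fin 3) : Commute (F.e k) (F.e l) := by
  show F.e k * F.e l = F.e l * F.e k
  rw [Frame.e, Frame.e, ← F.el_add, ← F.el_add, add_comm]

theorem FullFrame.r_e (F : FullFrame B) {k l : Fin 3} (h : k ≠ l) : Commute (F.r k) (F.e l) := by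
  have h1 : F.r k * F.e l * F.r k = F.e l := by
    have := F.r_el k (evec l)
    rwa [evec_facts.1 k l h] at this
  show F.r k * F.e l = F.e l * F.r k
  conv_rhs => rw [← h1, mul_assoc, F.r_sq, mul_one]

theorem FullFrame.r_e_self (F : FullFrame B) (k : Fin 3) : F.r k * F.e k * F.r k = (F.e k)⁻¹ := by
  have := F.r_el k (evec k)
  rw [evec_facts.2.1 k, ofAdd_neg, map_inv] at this
  exact this

theorem FullFrame.p_e (F : FullFrame B) (π : Perm (Fin 3)) (k : Fin 3) :
    F.p π * F.e k * (F.p π)⁻¹ = F.e (π k) := by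
  have := F.p_el π (evec k)
  rwa [evec_facts.2.2.1 π k] at this

theorem Frame.e_not_mem (F : Frame B) {k l : Fin 3} (h : k ≠ l) :
    F.e k ∉ Subgroup.zpowers (F.e l) := by
  intro hm
  obtain ⟨t, ht⟩ := Subgroup.mem_zpowers_iff.1 hm
  have h3 : F.e l ^ (3 : ℤ) = 1 := by
    rw [show (3 : ℤ) = ((3 : ℕ) : ℤ) by rfl, zpow_natCast, pow_succ, pow_two, F.e_cube]
  have ht' : F.e l ^ (t % 3) = F.e k := by
    rw [← ht]
    conv_rhs => rw [← Int.emod_add_ediv_mul t 3, zpow_add, mul_comm, zpow_mul, h3, one_zpow, mul_one]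
  obtain ⟨f1, f2, f3⟩ := evec_facts.2.2.2.1 k l h
  rcases (by omega : t % 3 = 0 ∨ t % 3 = 1 ∨ t % 3 = 2) with e | e | e <;> rw [e] at ht'
  · rw [zpow_zero, ← F.el_zero] at ht'
    exact f1 (F.el_inj.1 ht'.symm)
  · rw [zpow_one] at ht'
    exact f2 (F.el_inj.1 ht'.symm)
  · rw [show (2 : ℤ) = ((2 : ℕ) : ℤ) by rfl, zpow_natCast, pow_two, Frame.e, ← F.el_add] at ht'
    exact f3 (F.el_inj.1 ht'.symm)

open SymNine.Emb in
/-- The chart exists. -/
theorem exists_chart {F : FullFrame B} (hS : F.Six) : Nonempty (SixChart F) := by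
  classical
  set D := Subgroup.centralizer ({F.e 2} : Set G) with hD
  obtain ⟨π, hπs, hker⟩ := hS 2
  have hπk : ∀ g : D, π g = 1 ↔ (g : G) ∈ Subgroup.zpowers (F.e 2) := fun g => by
    rw [← hker, Subgroup.mem_map]
    exact ⟨fun h => ⟨g, h, rfl⟩, fun ⟨x, hx, hxg⟩ => by rwa [← Subtype.ext hxg]⟩
  have memD : ∀ {g : G}, Commute g (F.e 2) → g ∈ D := fun h =>
    Subgroup.mem_centralizer_singleton_iff.2 h
  have centD : ∀ g : D, Commute (g : G) (F.e 2) := fun g =>
    Subgroup.mem_centralizer_singleton_iff.1 g.2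
  have hzp : ∀ z ∈ Subgroup.zpowers (F.e 2), ∃ n : Fin 3, F.e 2 ^ n.val = z := fun z hz => by
    obtain ⟨t, rfl⟩ := Subgroup.mem_zpowers_iff.1 hz
    refine ⟨⟨(t % 3).toNat, by omega⟩, ?_⟩
    have h3 : F.e 2 ^ (3 : ℤ) = 1 := by
      rw [show (3 : ℤ) = ((3 : ℕ) : ℤ) by rfl, zpow_natCast, pow_succ, pow_two, F.toFrame.e_cube]
    show F.e 2 ^ (t % 3).toNat = F.e 2 ^ t
    rw [← zpow_natCast, Int.toNat_of_nonneg (Int.emod_nonneg _ (by norm_num))]
    conv_rhs => rw [← Int.emod_add_ediv_mul t 3, zpow_add, mul_comm (t / 3), zpow_mul, h3, one_zpow, mul_one]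
  have T : ThreeCover π := by
    refine ⟨hπs, fun z hz d => Subtype.ext ?_, fun z hz => Subtype.ext ?_⟩
    · obtain ⟨n, hn⟩ := hzp _ ((hπk z).1 hz)
      show (z : G) * d = d * z
      rw [← hn]
      exact ((centD d).pow_right n.val).eq.symm
    · obtain ⟨n, hn⟩ := hzp _ ((hπk z).1 hz)
      show (z : G) * z * z = 1
      rw [← hn, ← pow_add, ← pow_add, show n.val + n.val + n.val = 3 * n.val by ring, pow_mul,
        pow_succ (F.e 2) 2, pow_two, F.toFrame.e_cube, one_pow]
  -- the four inner transpositions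
  set A : D := ⟨F.e 0 * F.r 0, memD ((F.toFrame.e_comm 0 2).mul_left (F.r_e (by decide)))⟩ with hA
  set Bt : D := ⟨F.r 0, memD (F.r_e (by decide))⟩ with hB
  set A' : D := ⟨F.e 1 * F.r 1, memD ((F.toFrame.e_comm 1 2).mul_left (F.r_e (by decide)))⟩ with hA'
  set B' : D := ⟨F.r 1, memD (F.r_e (by decide))⟩ with hB'
  have sqe : ∀ k, F.e k * F.r k * (F.e k * F.r k) = 1 := fun k => by
    rw [mul_assoc, ← mul_assoc (F.r k), F.r_e_self, mul_inv_cancel]
  have a2 : A * A = 1 := Subtype.ext (sqe 0)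
  have b2 : Bt * Bt = 1 := Subtype.ext (F.r_sq 0)
  have a2' : A' * A' = 1 := Subtype.ext (sqe 1)
  have b2' : B' * B' = 1 := Subtype.ext (F.r_sq 1)
  have eAB : ((A * Bt : D) : G) = F.e 0 := by
    show F.e 0 * F.r 0 * F.r 0 = _
    rw [mul_assoc, F.r_sq, mul_one]
  have eAB' : ((A' * B' : D) : G) = F.e 1 := by
    show F.e 1 * F.r 1 * F.r 1 = _
    rw [mul_assoc, F.r_sq, mul_one]
  have hne : ∀ (X Y : D) (k : Fin 3), k ≠ 2 → Y * Y = 1 → ((X * Y : D) : G) = F.e k → π X ≠ π Y := by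
    intro X Y k hk hY he hXY
    refine F.toFrame.e_not_mem hk ?_
    have h1 := (hπk (X * Y)).1 (by rw [map_mul, hXY, ← map_mul, hY, map_one])
    rwa [he] at h1
  have cube : ∀ {x y : D}, ((x * y : D) : G) * (x * y : D) * (x * y : D) = 1 → (x * y) ^ 3 = 1 :=
    fun {x y} h => by rw [pow_succ, pow_two]; exact Subtype.ext h
  have braid1 : (A * Bt) ^ 3 = 1 := cube (by rw [eAB]; exact F.toFrame.e_cube 0)
  have braid2 : (A' * B') ^ 3 = 1 := cube (by rw [eAB']; exact F.toFrame.e_cube 1)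
  have c01 : Commute (F.r 0) (F.r 1) := F.r_comm 0 1
  have re01 : Commute (F.r 0) (F.e 1) := F.r_e (by decide)
  have re10 : Commute (F.r 1) (F.e 0) := F.r_e (by decide)
  have hAA' : Commute A A' := Subtype.ext
    (((F.toFrame.e_comm 0 1).mul_right re10.symm).mul_left (re01.mul_right c01)).eq
  have hAB' : Commute A B' := Subtype.ext (re10.symm.mul_left c01).eq
  have hBA' : Commute Bt A' := Subtype.ext (re01.mul_right c01).eq
  have hBB' : Commute Bt B' := Subtype.ext c01.eq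
  have mapc : ∀ {x y : D}, Commute x y → π x * π y = π y * π x := fun {x y} h => (h.map π).eq
  have mapb : ∀ {x y : D}, (x * y) ^ 3 = 1 → π x * π y * (π x * π y) * (π x * π y) = 1 := fun {x y} h => by
    rw [← map_mul, ← map_mul, ← map_mul, ← pow_two, ← pow_succ, h, map_one]
  have q : Quad (π A) (π Bt) (π A') (π B') :=
    ⟨by rw [← map_mul, a2, map_one], by rw [← map_mul, b2, map_one],
      by rw [← map_mul, a2', map_one], by rw [← map_mul, b2', map_one],
      hne A Bt 0 (by decide) b2 eAB, hne A' B' 1 (by decide) b2' eAB', mapb braid1, mapb braid2,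
      mapc hAA', mapc hAB', mapc hBA', mapc hBB'⟩
  obtain ⟨c₀, hc₀, huniq⟩ := exists_link q
  obtain ⟨c, hcπ, hc2⟩ := T.exists_invol hc₀.1
  subst hcπ
  obtain ⟨-, hcA, hcB', hcB, hcA'⟩ := hc₀
  have cA : Commute c A := T.commute hc2 a2 hcA
  have cB' : Commute c B' := T.commute hc2 b2' hcB'
  have cB : (c * Bt) ^ 3 = 1 := T.braid hc2 b2 hcB
  have cA' : (c * A') ^ 3 = 1 := T.braid hc2 a2' hcA'
  have bcB : (Bt * c) ^ 3 = 1 := by
    have e : Bt * c = Bt * (c * Bt) * Bt⁻¹ := by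
      rw [inv_eq_of_mul_eq_one_right b2, mul_assoc, mul_assoc c, b2, mul_one]
    rw [e, conj_pow, cB, mul_one, mul_inv_cancel]
  let s : ℕ → D := fun n => [A, Bt, c, A', B'].getD n 1
  obtain ⟨φ₀, hφ₀, -⟩ := CfsgLib.Recog.SymTwoCentralizers.exists_hom (n := 5) s
    (fun n hn => by interval_cases n <;> assumption)
    (fun n hn => by
      have : n < 4 := by omega
      interval_cases n
      · exact braid1
      · exact bcB
      · exact cA'
      · exact braid2)
    (fun m n hmn hn => by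
      have : m < 3 := by omega
      interval_cases n <;> interval_cases m
      all_goals first | omega | exact cA.symm | exact hAA' | exact hBA' | exact hAB' | exact hBB' |
        exact cB')
  have p01 : φ₀ (swap 0 1) = A := hφ₀ 0
  have p12 : φ₀ (swap 1 2) = Bt := hφ₀ 1
  have p23 : φ₀ (swap 2 3) = c := hφ₀ 2
  have p34 : φ₀ (swap 3 4) = A' := hφ₀ 3
  have p45 : φ₀ (swap 4 5) = B' := hφ₀ 4
  have hinj : Function.Injective (π.comp φ₀) :=
    CfsgLib.Recog.SymTwoCentralizers.injective_of_hom (n := 5) (by norm_num) _ 0 1 rfl (by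
      show π (φ₀ (swap 0 1)) ≠ π (φ₀ (swap 1 2))
      rw [p01, p12]
      exact hne A Bt 0 (by decide) b2 eAB)
  have hsurj : Function.Surjective (π.comp φ₀) := Finite.surjective_of_injective hinj
  -- the exchange of the blocks
  set τ : Perm (Fin 3) := swap 0 1 with hτ
  set P : D := ⟨F.p τ, memD (by
    have h := F.p_e τ 2
    rw [show τ 2 = 2 by decide] at h
    exact mul_inv_eq_iff_eq_mul.1 h)⟩ with hP
  have P2 : P * P = 1 := Subtype.ext (by
    show F.p τ * F.p τ = 1
    rw [← map_mul, show τ * τ = 1 by decide, map_one])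
  have pconj : ∀ k, F.p τ * (F.e k * F.r k) * (F.p τ)⁻¹ = F.e (τ k) * F.r (τ k) := fun k => by
    rw [← F.p_e τ k, ← F.p_r τ k]; group
  have hPA : P * A = A' * P := Subtype.ext (mul_inv_eq_iff_eq_mul.1 (pconj 0))
  have hPA' : P * A' = A * P := Subtype.ext (mul_inv_eq_iff_eq_mul.1 (pconj 1))
  have hPB : P * Bt = B' * P := Subtype.ext (mul_inv_eq_iff_eq_mul.1 (F.p_r τ 0))
  have hPB' : P * B' = Bt * P := Subtype.ext (mul_inv_eq_iff_eq_mul.1 (F.p_r τ 1))
  have hφP : P = φ₀ (swap 0 3 * swap 1 4 * swap 2 5) := by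
    obtain ⟨σ, hσ⟩ := hsurj (π P)
    have hσ' : π (φ₀ σ) = π P := hσ
    have tr : ∀ {x y : Perm (Fin 6)} {X Y : D}, φ₀ x = X → φ₀ y = Y → P * X = Y * P → σ * x = y * σ :=
      fun {x y X Y} hX hY h => hinj (by
        simp only [MonoidHom.comp_apply, map_mul, hσ', hX, hY]
        rw [← map_mul, h, map_mul])
    have := exchange_unique σ (tr p01 p34 hPA) (tr p12 p45 hPB) (tr p34 p01 hPA') (tr p45 p12 hPB')
    subst this
    refine T.invol_eq P2 ?_ hσ'.symm
    rw [← map_mul, show (swap 0 3 * swap 1 4 * swap 2 5 : Perm (Fin 6)) *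
      (swap 0 3 * swap 1 4 * swap 2 5) = 1 by decide +kernel, map_one]
  -- the last sign change fixes the chart
  have h2A : Commute (F.r 2) (A : G) := (F.r_e (by decide)).mul_right (F.r_comm 2 0)
  have h2B : Commute (F.r 2) (Bt : G) := F.r_comm 2 0
  have h2A' : Commute (F.r 2) (A' : G) := (F.r_e (by decide)).mul_right (F.r_comm 2 1)
  have h2B' : Commute (F.r 2) (B' : G) := F.r_comm 2 1
  have h2c : Commute (F.r 2) (c : G) := by
    have hmem : MulAut.conj (F.r 2) (c : G) ∈ D := memD (by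
      have h := (centD c).map (MulAut.conj (F.r 2))
      rw [MulAut.conj_apply, MulAut.conj_apply, F.r_inv, F.r_e_self] at h
      rw [MulAut.conj_apply, F.r_inv]
      exact Commute.inv_right_iff.1 h)
    have fixed : ∀ {X : D}, Commute (F.r 2) (X : G) → MulAut.conj (F.r 2) (X : G) = X := fun {X} h => by
      rw [MulAut.conj_apply, h.eq, mul_inv_cancel_right]
    set c' : D := ⟨_, hmem⟩ with hc'
    have hc'2 : c' * c' = 1 := Subtype.ext (by
      show MulAut.conj (F.r 2) (c : G) * MulAut.conj (F.r 2) (c : G) = 1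
      rw [← map_mul, ← Subgroup.coe_mul, hc2, Subgroup.coe_one, map_one])
    have hcom : ∀ (X : D), Commute (F.r 2) (X : G) → Commute c X → Commute c' X := by
      intro X hX hcX
      refine Subtype.ext ?_
      show MulAut.conj (F.r 2) (c : G) * X = X * MulAut.conj (F.r 2) (c : G)
      conv_lhs => rw [← fixed hX, ← map_mul, ← Subgroup.coe_mul, hcX.eq, Subgroup.coe_mul, map_mul, fixed hX]
    have hbr : ∀ (X : D), Commute (F.r 2) (X : G) → (c * X) ^ 3 = 1 → (c' * X) ^ 3 = 1 := by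
      intro X hX hcX
      refine Subtype.ext ?_
      rw [Subgroup.coe_pow, Subgroup.coe_one]
      show (MulAut.conj (F.r 2) (c : G) * X) ^ 3 = 1
      rw [← fixed hX, ← map_mul, ← map_pow, ← Subgroup.coe_mul, ← Subgroup.coe_pow, hcX, Subgroup.coe_one,
        map_one]
    have hl : Link (π A) (π Bt) (π A') (π B') (π c') :=
      ⟨by rw [← map_mul, hc'2, map_one], mapc (hcom A h2A cA), mapc (hcom B' h2B' cB'),
        mapb (hbr Bt h2B cB), mapb (hbr A' h2A' cA')⟩
    have e : MulAut.conj (F.r 2) (c : G) = c := congrArg Subtype.val (T.invol_eq hc'2 hc2 (huniq _ hl))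
    rw [MulAut.conj_apply] at e
    exact mul_inv_eq_iff_eq_mul.1 e
  refine ⟨{
    φ := D.subtype.comp φ₀
    φ_inj := fun x y h => hinj (congrArg π (Subtype.ext (h : (φ₀ x : G) = φ₀ y)))
    φ_comm := fun σ => (centD (φ₀ σ)).eq
    dec := fun g hg => ?_
    φ_e0 := ?_
    φ_e1 := ?_
    φ_r0 := congrArg Subtype.val p12
    φ_r1 := congrArg Subtype.val p45
    φ_p := congrArg Subtype.val hφP.symm
    φ_r2 := fun σ => ?_ }⟩
  · obtain ⟨σ, hσ⟩ := hsurj (π ⟨g, memD hg⟩)
    have hσ' : π (φ₀ σ) = π ⟨g, memD hg⟩ := hσ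
    obtain ⟨n, hn⟩ := hzp _ ((hπk (⟨g, memD hg⟩ * (φ₀ σ)⁻¹)).1 (by
      rw [map_mul, map_inv, hσ', mul_inv_cancel]))
    exact ⟨n, σ, by rw [hn]; simp⟩
  · show ((φ₀ (swap 0 1 * swap 1 2) : D) : G) = F.e 0
    rw [map_mul, p01, p12, eAB]
  · show ((φ₀ (swap 3 4 * swap 4 5) : D) : G) = F.e 1
    rw [map_mul, p34, p45, eAB']
  · have key : Commute ((D.subtype.comp φ₀) σ) (F.r 2) := by
      refine SymNine.hom_commute ?_ ?_ ?_ ?_ ?_ σ <;> simp only [MonoidHom.comp_apply, Subgroup.coe_subtype]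
      · rw [p01]; exact h2A.symm
      · rw [p12]; exact h2B.symm
      · rw [p23]; exact h2c.symm
      · rw [p34]; exact h2A'.symm
      · rw [p45]; exact h2B'.symm
    rw [← key.eq, mul_assoc, F.r_sq, mul_one]

end CfsgLib.Recog.SpSixThree
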