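import Cfsg.Agent.Lib.Recog.CentTwelve.SpHom
import Cfsg.Agent.Lib.Recog.SpSixThree.ModelData

/-!
Classes of involutions of the coded group `Sp(6,2)`: transvections, the exchange of two planes, two further classes.
-/

set_option autoImplicit false
set_option maxRecDepth 100000
set_option maxHeartbeats 1000000
set_option linter.unusedSectionVars false

namespace CfsgLib.Recog.SpSixThree.Model

open CfsgLib.Recog.Profile (okCode code_ofCode code_inv_ofCode)
open CfsgLib.Recog.Profile.SpBits
open CfsgLib.Recog.CentTwelve.SpHom (bgen bcodes code_bgen)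

theorem code_T {d : ℕ} (hd : d < 64) : code (T d) = tc d :=
  code_ofCode (tc_ok ⟨d, hd⟩).1

theorem val_T {d v : ℕ} (hd : d < 64) (hv : v < 64) : val (T d) v = v ^^^ (if form v d then d else 0) := by
  rw [← app_code _ v hv, code_T hd]
  exact (tc_ok ⟨d, hd⟩).2 ⟨v, hv⟩

theorem val_mul (p q : Sp) {v : ℕ} (hv : v < 64) : val (p * q) v = val p (val q v) := by
  have h := fun w : Fin 64 => val_coe (p * q) w
  rw [h ⟨v, hv⟩, show val q v = _ from val_coe q ⟨v, hv⟩, val_coe]
  rfl

theorem val_one {v : ℕ} (hv : v < 64) : val (1 : Sp) v = v := by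
  rw [show val (1 : Sp) v = _ from val_coe 1 ⟨v, hv⟩]
  rfl

theorem form_val (p : Sp) {v w : ℕ} (hv : v < 64) (hw : w < 64) : form (val p v) (val p w) = form v w := by
  rw [show val p v = _ from val_coe p ⟨v, hv⟩, show val p w = _ from val_coe p ⟨w, hw⟩]
  exact p.2.2 ⟨v, hv⟩ ⟨w, hw⟩

theorem form_comm {v w : ℕ} (hv : v < 64) (hw : w < 64) : form v w = form w v :=
  form_facts.2 ⟨v, hv⟩ ⟨w, hw⟩

theorem form_add {u v w : ℕ} (hu : u < 64) (hv : v < 64) (hw : w < 64) :
    form (u ^^^ v) w = (form u w != form v w) := form_facts.1 ⟨u, hu⟩ ⟨v, hv⟩ ⟨w, hw⟩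

theorem form_add' {u v w : ℕ} (hu : u < 64) (hv : v < 64) (hw : w < 64) :
    form w (u ^^^ v) = (form w u != form w v) := by
  rw [form_comm hw (Nat.xor_lt_two_pow (n := 6) hu hv), form_add hu hv hw, form_comm hu hw, form_comm hv hw]

theorem form_zero {w : ℕ} (hw : w < 64) : form 0 w = false ∧ form w 0 = false := by
  have h : form 0 w = false := by simp [form]
  exact ⟨h, by rw [form_comm hw (by norm_num), h]⟩

theorem eq_of_form {d d' : ℕ} (hd : d < 64) (hd' : d' < 64) (h : ∀ v < 64, form v d = form v d') : d = d' := by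
  refine congrArg Fin.val (form_sep ⟨d, hd⟩ ⟨d', hd'⟩ (List.all_eq_true.2 fun b hb => ?_))
  rw [beq_iff_eq]
  exact h b (by fin_cases hb <;> norm_num)

theorem ext_val {p q : Sp} (h : ∀ v < 64, val p v = val q v) : p = q :=
  code_inj <| by
    simp only [code, enc, h 1 (by norm_num), h 2 (by norm_num), h 4 (by norm_num), h 8 (by norm_num),
      h 16 (by norm_num), h 32 (by norm_num)]

theorem val_inv (p : Sp) {v : ℕ} (hv : v < 64) : val p (val p⁻¹ v) = v := by
  rw [← val_mul p p⁻¹ hv, mul_inv_cancel, val_one hv]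

/-- The conjugate of a transvection. -/
theorem conj_T (h : Sp) {d : ℕ} (hd : d < 64) : h * T d * h⁻¹ = T (val h d) := by
  refine ext_val fun v hv => ?_
  rw [val_mul _ _ hv, val_mul _ _ (val_lt _ _), val_T hd (val_lt _ _), val_T (val_lt _ _) hv,
    show form v (val h d) = form (val h⁻¹ v) d by rw [← form_val h (val_lt _ _) hd, val_inv h hv]]
  cases form (val h⁻¹ v) d
  · simp [val_inv h hv]
  · simp only [if_true]
    rw [val_xor h (val_lt _ _) hd, val_inv h hv]

theorem val_ne_zero (h : Sp) {d : ℕ} (hd : d < 64) (h0 : d ≠ 0) : val h d ≠ 0 := by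
  intro e
  refine h0 ?_
  have := congrArg (val h⁻¹) e
  rwa [← val_mul _ _ hd, inv_mul_cancel, val_one hd, val_zero] at this

/-- An element commuting with `i` fixes the vector of the form of `i`. -/
theorem fix_of_comm {h i : Sp} {d : ℕ} (hd : d < 64) (hi : ∀ v < 64, form v (val i v) = form v d)
    (hc : h * i = i * h) : val h d = d := by
  refine eq_of_form (val_lt _ _) hd fun v hv => ?_
  have hu : val h⁻¹ v < 64 := val_lt _ _
  have h1 : val i v = val h (val i (val h⁻¹ v)) := by
    rw [← val_mul h i hu, hc, val_mul i h hu, val_inv h hv]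
  rw [show form v (val h d) = form (val h⁻¹ v) d by rw [← form_val h hu hd, val_inv h hv], ← hi v hv, h1, ← hi _ hu]
  conv_rhs => arg 1; rw [← val_inv h hv]
  rw [form_val h hu (val_lt _ _)]

theorem comm_T {h : Sp} {d : ℕ} (hd : d < 64) (hh : val h d = d) : h * T d = T d * h := by
  have := conj_T h hd
  rw [hh, mul_inv_eq_iff_eq_mul] at this
  exact this

theorem bgen_T : ∀ i : Fin 7, bgen i.val = T ([4, 8, 20, 32, 17, 2, 16].getD i.val 0) := by
  have h : ∀ i : Fin 7, bcodes.getD i.val (enc id) = tc ([4, 8, 20, 32, 17, 2, 16].getD i.val 0) ∧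
      [4, 8, 20, 32, 17, 2, 16].getD i.val 0 < 64 := by decide +kernel
  intro i
  exact code_inj (by rw [code_bgen, (h i).1, code_T (h i).2])

/-- The image of the outer transposition. -/
def t14 : Sp := T 2 * T 8 * T 5 * T 8 * T 2

theorem zm_word : zm = T 5 * t14 * (T 1 * T 4 * t14 * T 4 * T 1) ∧ xm = T 17 * T 1 ∧ cm = zm * T 16 := by
  obtain ⟨hz, hx, hc, -⟩ := code_facts
  refine ⟨code_inj ?_, code_inj ?_, code_inj ?_⟩
  · simp only [zm, t14, code_mul, code_ofCode hz, code_T (show 1 < 64 by norm_num), code_T (show 2 < 64 by norm_num),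
      code_T (show 4 < 64 by norm_num), code_T (show 5 < 64 by norm_num), code_T (show 8 < 64 by norm_num)]
    decide +kernel
  · simp only [xm, code_mul, code_ofCode hx, code_T (show 1 < 64 by norm_num), code_T (show 17 < 64 by norm_num)]
    decide +kernel
  · simp only [cm, zm, code_mul, code_ofCode hc, code_ofCode hz, code_T (show 16 < 64 by norm_num)]
    decide +kernel

theorem invol_rep : (zm * zm = 1 ∧ zm ≠ 1) ∧ (xm * xm = 1) ∧ (cm * cm = 1) ∧ (T 16 * T 16 = 1 ∧ T 16 ≠ 1) := by
  obtain ⟨hz, hx, hc, -, -, hz1, h16⟩ := code_facts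
  have ht := code_T (show 16 < 64 by norm_num)
  refine ⟨⟨code_inj ?_, fun e => ?_⟩, code_inj ?_, code_inj ?_, code_inj ?_, fun e => ?_⟩
  · rw [zm, code_mul, code_ofCode hz, code_one]; decide +kernel
  · exact hz1 (by rw [← code_ofCode hz, ← code_one]; exact congrArg code e)
  · rw [xm, code_mul, code_ofCode hx, code_one]; decide +kernel
  · rw [cm, code_mul, code_ofCode hc, code_one]; decide +kernel
  · rw [code_mul, ht, code_one]; decide +kernel
  · exact h16 (by rw [← ht, ← code_one]; exact congrArg code e)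

theorem rep_form : (∀ v < 64, form v (val xm v) = form v 16) ∧ (∀ v < 64, form v (val cm v) = form v 16) := by
  obtain ⟨-, hx, hc, -⟩ := code_facts
  constructor <;> intro v hv
  · rw [← app_code _ v hv, xm, code_ofCode hx]; exact (rep_forms ⟨v, hv⟩).1
  · rw [← app_code _ v hv, cm, code_ofCode hc]; exact (rep_forms ⟨v, hv⟩).2.1

theorem isConj_of_K {u : Sp} (hu : code u ∈ K.map fun w => w.1) : IsConj zm u := by
  obtain ⟨w, hw, e⟩ := List.mem_map.1 hu
  obtain ⟨h1, h2, h3⟩ := K_facts w hw
  refine isConj_iff.2 ⟨ofCode w.2.1 w.2.2, code_inj ?_⟩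
  rw [code_mul, code_mul, code_inv_ofCode h1 h2, code_ofCode h1, zm, code_ofCode code_facts.1, h3, e]

theorem isConj_T {d : ℕ} (hd : d < 64) (h0 : d ≠ 0) : IsConj (T 16) (T d) := by
  obtain ⟨hR, hmap⟩ := R_facts
  have hm : d ∈ R.map fun w => w.1 := by
    rw [hmap, List.mem_range'_1]
    omega
  obtain ⟨w, hw, rfl⟩ := List.mem_map.1 hm
  obtain ⟨h1, h2⟩ := hR w hw
  refine isConj_iff.2 ⟨ofCode w.2.1 w.2.2, ?_⟩
  rw [conj_T _ (by norm_num), ← app_code _ 16 (by norm_num), code_ofCode h1, h2]

theorem T_zero : T 0 = 1 := ext_val fun v hv => by rw [val_T (by norm_num) hv, val_one hv]; simp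

theorem T_sq {d : ℕ} (hd : d < 64) : T d * T d = 1 := by
  by_cases h0 : d = 0
  · rw [h0, T_zero, one_mul]
  obtain ⟨g, hg⟩ := isConj_iff.1 (isConj_T hd h0)
  rw [← hg, show g * T 16 * g⁻¹ * (g * T 16 * g⁻¹) = g * (T 16 * T 16) * g⁻¹ by group, invol_rep.2.2.2.1]
  group

/-- The product of the exchange with a commuting transvection. -/
theorem zm_mul_T {d : ℕ} (hd : d < 64) (h0 : d ≠ 0) (hc : zm * T d = T d * zm) :
    IsConj xm (zm * T d) ∨ IsConj cm (zm * T d) := by
  obtain ⟨hz, hx, hcc, -⟩ := code_facts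
  obtain ⟨hZ, hall⟩ := Z_facts
  have hm := hall ⟨d, hd⟩ h0 (by
    have := congrArg code hc
    rwa [code_mul, code_mul, zm, code_ofCode hz, code_T hd] at this)
  obtain ⟨w, hw, e⟩ := List.mem_map.1 hm
  obtain ⟨h1, h2, h3⟩ := hZ w hw
  replace e : w.1 = d := e
  rw [e] at h3
  by_cases hb : w.2.1 = 1
  · refine Or.inl (isConj_iff.2 ⟨ofCode w.2.2.1 w.2.2.2, code_inj ?_⟩)
    rw [if_pos hb] at h3
    rw [code_mul, code_mul, code_mul, code_inv_ofCode h1 h2, code_ofCode h1, zm, xm, code_ofCode hz,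
      code_ofCode hx, code_T hd, h3]
  · refine Or.inr (isConj_iff.2 ⟨ofCode w.2.2.1 w.2.2.2, code_inj ?_⟩)
    rw [if_neg hb] at h3
    rw [code_mul, code_mul, code_mul, code_inv_ofCode h1 h2, code_ofCode h1, zm, cm, code_ofCode hz,
      code_ofCode hcc, code_T hd, h3]

/-- An involution with `form v (u v) = 0` for all `v` is trivial or conjugate to the exchange. -/
theorem alternating {u : Sp} (h2 : u * u = 1) (h : ∀ v < 64, form v (val u v) = false) :
    u = 1 ∨ IsConj zm u := by
  have hs : ∀ v < 64, ∀ w < 64, form v (val u w) = form (val u v) w := fun v hv w hw => by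
    rw [← form_val u hv (val_lt u w), ← val_mul u u hw, h2, val_one hw]
  have hc : ∀ b < 64, val u b ∈ cand b := fun b hb =>
    List.mem_filter.2 ⟨List.mem_range.2 (val_lt _ _), by simp [h b hb]⟩
  have hp : ∀ b < 64, ∀ b' < 64, pairOk b (val u b) b' (val u b') = true := fun b hb b' hb' => by
    simp [pairOk, form_val u hb hb', hs b hb b' hb']
  have hm := search _ (hc 1 (by norm_num)) _ (hc 2 (by norm_num)) (hp 2 (by norm_num) 1 (by norm_num))
    _ (hc 4 (by norm_num)) (hp 4 (by norm_num) 1 (by norm_num)) (hp 4 (by norm_num) 2 (by norm_num))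
    _ (hc 8 (by norm_num)) (hp 8 (by norm_num) 1 (by norm_num)) (hp 8 (by norm_num) 2 (by norm_num))
    (hp 8 (by norm_num) 4 (by norm_num))
    _ (hc 16 (by norm_num)) (hp 16 (by norm_num) 1 (by norm_num)) (hp 16 (by norm_num) 2 (by norm_num))
    (hp 16 (by norm_num) 4 (by norm_num)) (hp 16 (by norm_num) 8 (by norm_num))
    _ (hc 32 (by norm_num)) (hp 32 (by norm_num) 1 (by norm_num)) (hp 32 (by norm_num) 2 (by norm_num))
    (hp 32 (by norm_num) 4 (by norm_num)) (hp 32 (by norm_num) 8 (by norm_num))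
    (hp 32 (by norm_num) 16 (by norm_num))
  rw [List.contains_iff_mem, List.mem_cons] at hm
  rcases hm with hm | hm
  · exact Or.inl (code_inj (hm.trans code_one.symm))
  · exact Or.inr (isConj_of_K hm)

/-- The four classes of involutions. -/
theorem classify {u : Sp} (h2 : u * u = 1) (h1 : u ≠ 1) :
    IsConj zm u ∨ IsConj (T 16) u ∨ IsConj xm u ∨ IsConj cm u := by
  have hs : ∀ v < 64, ∀ w < 64, form v (val u w) = form (val u v) w := fun v hv w hw => by
    rw [← form_val u hv (val_lt u w), ← val_mul u u hw, h2, val_one hw]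
  obtain ⟨d, hd, hq⟩ : ∃ d < 64, ∀ v < 64, form v (val u v) = form v d := by
    have hp := pattern
    simp only [List.all_eq_true, List.any_eq_true, List.mem_range, Bool.and_eq_true, beq_iff_eq] at hp
    have hmem : ∀ b : Bool, b ∈ [true, false] := by decide
    obtain ⟨d, hd, ⟨⟨⟨⟨e1, e2⟩, e4⟩, e8⟩, e16⟩, e32⟩ := hp (form 1 (val u 1)) (hmem _) (form 2 (val u 2)) (hmem _)
      (form 4 (val u 4)) (hmem _) (form 8 (val u 8)) (hmem _) (form 16 (val u 16)) (hmem _)
      (form 32 (val u 32)) (hmem _)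
    refine ⟨d, hd, induction64 ?_ (fun b hb => ?_) fun v hv w hw hv' hw' => ?_⟩
    · rw [(form_zero (val_lt _ _)).1, (form_zero hd).1]
    · fin_cases hb
      exacts [e1.symm, e2.symm, e4.symm, e8.symm, e16.symm, e32.symm]
    · have huv := val_lt u v
      have huw := val_lt u w
      rw [val_xor u hv hw, form_add hv hw (Nat.xor_lt_two_pow (n := 6) huv huw), form_add' huv huw hv,
        form_add' huv huw hw, form_add hv hw hd, hv', hw', hs v hv w hw, form_comm huv hw]
      cases form v d <;> cases form w d <;> cases form w (val u v) <;> rfl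
  have hud : val u d = d := fix_of_comm hd hq rfl
  have hcm := comm_T hd hud
  have hw2 : u * T d * (u * T d) = 1 := by
    rw [show u * T d * (u * T d) = u * (T d * u) * T d by group, ← hcm,
      show u * (u * T d) * T d = u * u * (T d * T d) by group, h2, T_sq hd, one_mul]
  have halt : ∀ v < 64, form v (val (u * T d) v) = false := fun v hv => by
    rw [val_mul _ _ hv, val_T hd hv]
    cases hf : form v d
    · simp only [Bool.false_eq_true, if_false, Nat.xor_zero]
      rw [hq v hv, hf]
    · simp only [if_true]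
      rw [val_xor u hv hd, hud, form_add' (val_lt _ _) hd hv, hq v hv, hf]
      rfl
  have hud' : u = u * T d * T d := by rw [mul_assoc, T_sq hd, mul_one]
  rcases alternating hw2 halt with hw | hw
  · rw [hw, one_mul] at hud'
    refine Or.inr (Or.inl (hud' ▸ isConj_T hd fun h0 => h1 ?_))
    rw [hud', h0, T_zero]
  · by_cases h0 : d = 0
    · rw [h0, T_zero, mul_one] at hw
      exact Or.inl hw
    obtain ⟨g, hg⟩ := isConj_iff.1 hw
    have hd' : val g⁻¹ d < 64 := val_lt _ _
    have e : g * T (val g⁻¹ d) * g⁻¹ = T d := by rw [conj_T g hd', val_inv g hd]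
    have hzc : zm * T (val g⁻¹ d) = T (val g⁻¹ d) * zm := by
      refine mul_left_cancel (a := g) (mul_right_cancel (b := g⁻¹) ?_)
      calc g * (zm * T (val g⁻¹ d)) * g⁻¹ = (g * zm * g⁻¹) * (g * T (val g⁻¹ d) * g⁻¹) := by group
        _ = (g * T (val g⁻¹ d) * g⁻¹) * (g * zm * g⁻¹) := by
          rw [hg, e, ← mul_assoc (T d), ← hcm]
        _ = g * (T (val g⁻¹ d) * zm) * g⁻¹ := by group
    have eu : g * (zm * T (val g⁻¹ d)) * g⁻¹ = u := by
      calc g * (zm * T (val g⁻¹ d)) * g⁻¹ = (g * zm * g⁻¹) * (g * T (val g⁻¹ d) * g⁻¹) := by group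
        _ = u := by rw [hg, e, ← hud']
    have hcu : IsConj (zm * T (val g⁻¹ d)) u := isConj_iff.2 ⟨g, eu⟩
    rcases zm_mul_T hd' (val_ne_zero _ hd h0) hzc with h | h
    · exact Or.inr (Or.inr (Or.inl (h.trans hcu)))
    · exact Or.inr (Or.inr (Or.inr (h.trans hcu)))

/-- The four-groups of conjugates of the exchange inside the centralisers of the two other classes. -/
theorem exists_four {i : Sp} (hi : i = xm ∨ i = cm) : ∃ p q : Sp, p * p = 1 ∧ q * q = 1 ∧ p * q = q * p ∧
    p ≠ q ∧ i * p = p * i ∧ i * q = q * i ∧ IsConj zm p ∧ IsConj zm q ∧ IsConj zm (p * q) ∧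
      IsConj zm (i * T 16) := by
  obtain ⟨hz, hx, hc, -⟩ := code_facts
  obtain ⟨i', hi', hmem⟩ : ∃ i', code i = i' ∧ ∃ w ∈ fours, w.1 = i' := by
    rcases hi with rfl | rfl
    · exact ⟨xc, code_ofCode hx, _, List.mem_cons_self, rfl⟩
    · exact ⟨cc, code_ofCode hc, _, List.mem_cons_of_mem _ List.mem_cons_self, rfl⟩
  obtain ⟨w, hw, rfl⟩ := hmem
  obtain ⟨o1, o2, hpq, hne, hip, hiq, k1, k2, k3, k4⟩ := fours_facts w hw
  have sq : ∀ x : ℕ, okCode x x = true → ofCode x x * ofCode x x = 1 := fun x o => by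
    refine code_inj ?_
    rw [code_mul, code_ofCode o, code_one]
    simp only [okCode, Bool.and_eq_true, okPair, decide_eq_true_eq] at o
    exact o.1.1
  refine ⟨ofCode w.2.1 w.2.1, ofCode w.2.2 w.2.2, sq _ o1, sq _ o2, code_inj ?_, fun e => hne ?_, code_inj ?_,
    code_inj ?_, isConj_of_K (by rwa [code_ofCode o1]), isConj_of_K (by rwa [code_ofCode o2]),
    isConj_of_K (by rwa [code_mul, code_ofCode o1, code_ofCode o2]),
    isConj_of_K (by rwa [code_mul, code_T (by norm_num), hi'])⟩
  · rw [code_mul, code_mul, code_ofCode o1, code_ofCode o2, hpq]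
  · rw [← code_ofCode o1, ← code_ofCode o2, e]
  · rw [code_mul, code_mul, code_ofCode o1, hi', hip]
  · rw [code_mul, code_mul, code_ofCode o2, hi', hiq]

theorem K_nodup : (K.map fun w => w.1).Nodup ∧ (K.map fun w => w.1).length = 315 := by
  decide +kernel

/-- The centraliser of the exchange is smaller than that of a transvection. -/
theorem card_cent_lt :
    Nat.card (Subgroup.centralizer ({zm} : Set Sp)) < Nat.card (Subgroup.centralizer ({T 16} : Set Sp)) := by
  classical
  have key : ∀ s : Sp, Nat.card (Subgroup.centralizer ({s} : Set Sp)) * (MulAction.orbit (ConjAct Sp) s).ncard =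
      Nat.card Sp := fun s => by
    rw [Subgroup.centralizer_eq_comap_stabilizer, ← MulAction.index_stabilizer, ← Subgroup.index_comap_of_surjective
      (MulAction.stabilizer (ConjAct Sp) s) (f := ((ConjAct.toConjAct : Sp ≃* ConjAct Sp) : Sp →* ConjAct Sp)) (ConjAct.toConjAct (G := Sp)).surjective]
    exact Subgroup.card_mul_index _
  have horb : ∀ s t : Sp, t ∈ MulAction.orbit (ConjAct Sp) s ↔ IsConj s t := fun s t => by
    rw [ConjAct.mem_orbit_conjAct]
    exact ⟨IsConj.symm, IsConj.symm⟩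
  have h16 : (MulAction.orbit (ConjAct Sp) (T 16)).ncard ≤ 63 := by
    have hsub : MulAction.orbit (ConjAct Sp) (T 16) ⊆ ((Finset.Icc 1 63).image T : Finset Sp) := by
      intro t ht
      obtain ⟨g, rfl⟩ := isConj_iff.1 ((horb _ _).1 ht)
      rw [conj_T g (by norm_num), Finset.coe_image]
      refine ⟨val g 16, ?_, rfl⟩
      have := val_lt g 16
      have := val_ne_zero g (d := 16) (by norm_num) (by norm_num)
      simp only [Finset.coe_Icc, Set.mem_Icc]
      omega
    refine (Set.ncard_le_ncard hsub (Finset.finite_toSet _)).trans ?_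
    rw [Set.ncard_coe_finset]
    exact Finset.card_image_le.trans (by simp)
  have hz : 315 ≤ (MulAction.orbit (ConjAct Sp) zm).ncard := by
    have hsub : ((K.map fun w => w.1).toFinset : Set ℕ) ⊆ code '' MulAction.orbit (ConjAct Sp) zm := by
      intro k hk
      obtain ⟨w, hw, e⟩ := List.mem_map.1 (List.mem_toFinset.1 hk)
      obtain ⟨h1, h2, h3⟩ := K_facts w hw
      refine ⟨_, (horb _ _).2 (isConj_iff.2 ⟨ofCode w.2.1 w.2.2, rfl⟩), ?_⟩
      rw [code_mul, code_mul, code_inv_ofCode h1 h2, code_ofCode h1, zm, code_ofCode code_facts.1, h3, e]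
    have := Set.ncard_le_ncard hsub ((Set.toFinite _).image _)
    rw [Set.ncard_coe_finset, List.toFinset_card_of_nodup K_nodup.1, K_nodup.2,
      Set.ncard_image_of_injective _ code_inj] at this
    exact this
  have h1 := key zm
  have h2 := key (T 16)
  have hp : 0 < Nat.card (Subgroup.centralizer ({zm} : Set Sp)) := Nat.card_pos
  by_contra hle
  rw [not_lt] at hle
  have := Nat.mul_le_mul hle h16
  rw [h2, ← h1] at this
  have := Nat.le_of_mul_le_mul_left this hp
  omega

end CfsgLib.Recog.SpSixThree.Model
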