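import Cfsg.Agent.Lib.Recog.SpSixThree.CommCount
import Cfsg.Agent.Lib.Recog.SpSixThree.FrameCent
import Cfsg.Agent.Lib.Recog.SpSixThree.Model

/-!
The images of the class representatives of `Sp(6,2)` and the separation of their classes.
-/

set_option autoImplicit false
set_option maxRecDepth 20000
set_option maxHeartbeats 1000000
set_option linter.unusedSectionVars false
set_option linter.style.haveILetI false

namespace CfsgLib.Recog.SpSixThree

open Equiv
open CfsgLib.Recog.Profile.SpBits (Sp)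
open CfsgLib.Recog.CentTwelve.SpHom (bgen)

universe u

/-- An involution commuting with the second plane and braiding the first reflection. -/
theorem r0_cases : ∀ σ : Perm (Fin 6), σ * σ = 1 → σ * swap 3 4 = swap 3 4 * σ → σ * swap 4 5 = swap 4 5 * σ →
    σ * swap 0 1 * σ = swap 0 1 * σ * swap 0 1 → σ = swap 1 2 ∨ σ = swap 0 2 ∨ σ = swap 0 1 := by decide +kernel

theorem r03_unique : ∀ σ : Perm (Fin 6), σ * σ = 1 → σ * swap 1 2 = swap 1 2 * σ → σ * swap 4 5 = swap 4 5 * σ →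
    σ * swap 0 1 * σ = swap 0 1 * σ * swap 0 1 → σ * swap 3 4 * σ = swap 3 4 * σ * swap 3 4 →
    σ = swap 0 3 := by decide +kernel

theorem x_cent : ∀ σ : Perm (Fin 6), σ * (swap 0 3 * swap 1 2) = swap 0 3 * swap 1 2 * σ → σ ^ 9 = 1 → σ = 1 := by
  decide +kernel

theorem pair_line : ∀ v : Vec, v 2 = -v 2 → v 0 = v 1 → ∃ k : ZMod 3, v = k • (evec 0 + evec 1) := by
  decide +kernel

theorem plane_facts : (∀ s t : ZMod 3, (fun j => (s • (evec 0 + evec 1) + t • evec 2 : Vec) ((swap (0 : Fin 3) 1).symm j)) =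
      s • (evec 0 + evec 1) + t • evec 2) ∧
    (∀ s t : ZMod 3, Function.update (s • evec 0 + t • evec 1 : Vec) 2 (-(s • evec 0 + t • evec 1 : Vec) 2) =
      s • evec 0 + t • evec 1) ∧
    (∀ s t s' t' : ZMod 3, (s • (evec 0 + evec 1) + t • evec 2 : Vec) = s' • (evec 0 + evec 1) + t' • evec 2 →
      s = s' ∧ t = t') ∧
    ∀ s t s' t' : ZMod 3, (s • evec 0 + t • evec 1 : Vec) = s' • evec 0 + t' • evec 1 → s = s' ∧ t = t' := by
  decide +kernel

theorem card_cent_congr {G : Type u} [Group G] {a b : G} (h : IsConj a b) :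
    Nat.card (Subgroup.centralizer ({a} : Set G)) = Nat.card (Subgroup.centralizer ({b} : Set G)) := by
  obtain ⟨g, rfl⟩ := isConj_iff.1 h
  refine Nat.card_congr ((MulAut.conj g).toEquiv.subtypeEquiv fun x => ?_)
  rw [Subgroup.mem_centralizer_singleton_iff, Subgroup.mem_centralizer_singleton_iff, MulEquiv.toEquiv_eq_coe,
    MulEquiv.coe_toEquiv, MulAut.conj_apply]
  rw [show g * x * g⁻¹ * (g * a * g⁻¹) = g * (x * a) * g⁻¹ by group,
    show g * a * g⁻¹ * (g * x * g⁻¹) = g * (a * x) * g⁻¹ by group, mul_left_inj, mul_right_inj]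

variable {G : Type u} [Group G] [Finite G] {B : Base G} {F : FullFrame B}

/-- A centraliser meeting the centraliser of an element of order three in its powers has order prime to nine. -/
theorem not_nine {y e : G} (he : Commute e y) (he3 : orderOf e = 3)
    (h : ∀ q, Commute q y → Commute q e → q ^ 9 = 1 → q ∈ Subgroup.zpowers e) :
    ¬ 9 ∣ Nat.card (Subgroup.centralizer ({y} : Set G)) := by
  intro h9
  haveI : Fact (Nat.Prime 3) := ⟨Nat.prime_three⟩
  let C := Subgroup.centralizer ({y} : Set G)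
  let e' : C := ⟨e, Subgroup.mem_centralizer_singleton_iff.2 he.eq⟩
  have hcard : Nat.card (Subgroup.zpowers e') = 3 ^ 1 := by rw [Nat.card_zpowers, Subgroup.orderOf_mk, he3, pow_one]
  obtain ⟨K, hK, hle⟩ := Sylow.exists_subgroup_card_pow_succ (p := 3) (n := 1) (by exact h9) hcard
  have hKc := IsPGroup.commutative_of_card_eq_prime_sq hK
  have hsub : K.map C.subtype ≤ Subgroup.zpowers e := by
    rintro _ ⟨q, hq, rfl⟩
    refine h _ (Subgroup.mem_centralizer_singleton_iff.1 q.2)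
      (congrArg (fun t : K => ((t : C) : G)) (hKc ⟨q, hq⟩ ⟨e', hle (Subgroup.mem_zpowers _)⟩)) ?_
    have h1 : (⟨q, hq⟩ : K) ^ Nat.card K = 1 := pow_card_eq_one'
    rw [hK] at h1
    exact congrArg (fun t : K => ((t : C) : G)) h1
  have := Subgroup.card_le_of_le hsub
  rw [Subgroup.card_map_of_injective C.subtype_injective, hK, Nat.card_zpowers, he3] at this
  omega

/-- Nine divides the order of the centraliser of an element fixing a plane of `J` pointwise. -/
theorem nine_dvd {y : G} (P : ZMod 3 × ZMod 3 → Vec) (hP : Function.Injective P)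
    (hy : ∀ st, y * F.el (P st) * y⁻¹ = F.el (P st)) :
    9 ∣ Nat.card (Subgroup.centralizer ({y} : Set G)) := by
  let L : Subgroup G := B.J ⊓ Subgroup.centralizer ({y} : Set G)
  refine dvd_trans ?_ (Subgroup.card_dvd_of_le (inf_le_right : L ≤ _))
  have hJ : Nat.card L ∣ 3 ^ 3 := by
    have := Subgroup.card_dvd_of_le (inf_le_left : L ≤ B.J)
    rwa [B.J_card] at this
  obtain ⟨k, -, hkc⟩ := (Nat.dvd_prime_pow Nat.prime_three).1 hJ
  have h9 : 9 ≤ Nat.card L := by
    have hinj : Function.Injective fun st => (⟨F.el (P st), F.f_range ▸ ⟨_, rfl⟩,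
        Subgroup.mem_centralizer_singleton_iff.2 (mul_inv_eq_iff_eq_mul.1 (hy st)).symm⟩ : L) :=
      fun a b e => hP (F.toFrame.el_inj.1 (congrArg Subtype.val e))
    have := Nat.card_le_card_of_injective _ hinj
    simpa using this
  rw [hkc] at h9 ⊢
  have hk : 2 ≤ k := by
    by_contra hk
    have : k = 0 ∨ k = 1 := by omega
    rcases this with rfl | rfl <;> norm_num at h9
  exact pow_dvd_pow 3 hk

namespace SixChart

variable (K : SixChart F) {ψ : Sp →* G}

theorem exists_invol_φ {t : G} (ht : t * t = 1) (hc : Commute t (F.e 2)) :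
    ∃ σ, t = K.φ σ ∧ σ * σ = 1 := by
  obtain ⟨n, σ, rfl⟩ := K.dec t hc.eq
  have hcom : Commute (F.e 2 ^ n.val) (K.φ σ) := ((show Commute (K.φ σ) (F.e 2) from K.φ_comm σ).symm).pow_left _
  have hsq : F.e 2 ^ (n.val + n.val) * K.φ (σ * σ) = 1 := by
    rw [map_mul, pow_add, ← ht]
    exact hcom.mul_mul_mul_comm _ _
  have hσ : σ * σ = 1 := K.φ_cap (by
    rw [eq_inv_of_mul_eq_one_right hsq]
    exact inv_mem (pow_mem (Subgroup.mem_zpowers _) _))
  rw [hσ, map_one, mul_one] at hsq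
  have h3 : F.e 2 ^ 3 = 1 := by rw [pow_succ, pow_two, F.toFrame.e_cube]
  refine ⟨σ, ?_, hσ⟩
  rw [show F.e 2 ^ n.val = (F.e 2 ^ (n.val + n.val)) ^ 2 * ((F.e 2 ^ 3) ^ n.val)⁻¹ by group, hsq, h3]
  group

theorem orderOf_e (k : Fin 3) : orderOf (F.e k) = 3 := by
  haveI : Fact (Nat.Prime 3) := ⟨Nat.prime_three⟩
  refine orderOf_eq_prime (by rw [pow_succ, pow_two, F.toFrame.e_cube]) fun h => ?_
  have := F.toFrame.el_inj.1 (h.trans F.toFrame.el_zero.symm)
  exact (evec_zero k).1 this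

variable (hgen : ∀ i : Fin 7, ψ (bgen i.val) = K.gen i)

include hgen

theorem psi_base : ψ (Model.T 2) = K.φ (swap 0 1) ∧ ψ (Model.T 4) = K.φ (swap 4 5) ∧
    ψ (Model.T 8) = K.φ (swap 3 4) ∧ ψ (Model.T 16) = F.r 2 ∧
    ψ (Model.T 17) = K.conjChart cyc1 (swap 0 3) ∧ ψ (Model.T 32) = F.e 2 * F.r 2 := by
  have h : ∀ i : Fin 7, ψ (Model.T ([4, 8, 20, 32, 17, 2, 16].getD i.val 0)) = K.gen i := fun i => by
    rw [← Model.bgen_T, hgen]
  exact ⟨(h 5).trans ((K.gen_in 5).2.2 _ rfl), (h 0).trans ((K.gen_in 0).2.2 _ rfl),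
    (h 1).trans ((K.gen_in 1).2.2 _ rfl), h 6, h 4, h 3⟩

omit hgen in
theorem psi_comm (ψ : Sp →* G) {a b : ℕ} (ha : a < 64) (hb : b < 64) (h : Profile.SpBits.form b a = false) :
    Commute (ψ (Model.T a)) (ψ (Model.T b)) := by
  have h1 := Model.comm_T (h := Model.T a) hb (by rw [Model.val_T ha hb, h]; simp)
  exact (show Commute (Model.T a) (Model.T b) from h1).map ψ

omit hgen in
theorem psi_braid (ψ : Sp →* G) {a b : ℕ} (ha : a < 64) (hb : b < 64) (h : Profile.SpBits.form b a = true) :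
    ψ (Model.T a) * ψ (Model.T b) * ψ (Model.T a) = ψ (Model.T b) * ψ (Model.T a) * ψ (Model.T b) := by
  have inv : ∀ {d}, d < 64 → (Model.T d)⁻¹ = Model.T d := fun hd => inv_eq_of_mul_eq_one_right (Model.T_sq hd)
  have h1 := Model.conj_T (Model.T a) hb
  have h2 := Model.conj_T (Model.T b) ha
  rw [inv ha, Model.val_T ha hb, h] at h1
  rw [inv hb, Model.val_T hb ha, ← Model.form_comm hb ha, h, if_pos rfl, Nat.xor_comm] at h2
  rw [if_pos rfl] at h1
  rw [← map_mul, ← map_mul, ← map_mul, ← map_mul, h1, h2]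

theorem psi_one : ψ (Model.T 1) = F.r 0 ∧ ψ (Model.T 5) = K.φ (swap 0 3) := by
  obtain ⟨g2, g4, g8, g16, g17, g32⟩ := K.psi_base hgen
  have he : ψ (Model.T 32) * ψ (Model.T 16) = F.e 2 := by rw [g32, g16, mul_assoc, F.r_sq, mul_one]
  have hsq : ∀ {d}, d < 64 → ψ (Model.T d) * ψ (Model.T d) = 1 := fun hd => by
    rw [← map_mul, Model.T_sq hd, map_one]
  have hφ : ∀ {a b : Perm (Fin 6)}, Commute (K.φ a) (K.φ b) → a * b = b * a := fun {a b} h =>
    K.φ_inj (by rw [map_mul, map_mul]; exact h.eq)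
  have hcd : ∀ d, d < 64 → Profile.SpBits.form 32 d = false → Profile.SpBits.form 16 d = false →
      Commute (ψ (Model.T d)) (F.e 2) := fun d hd h1 h2 =>
    he ▸ (psi_comm ψ hd (by norm_num) h1).mul_right (psi_comm ψ hd (by norm_num) h2)
  obtain ⟨σ, hσ, hσ2⟩ := K.exists_invol_φ (hsq (show 1 < 64 by norm_num)) (hcd 1 (by norm_num) (by decide) (by decide))
  have c8 := psi_comm ψ (a := 1) (b := 8) (by norm_num) (by norm_num) (by decide)
  have c4 := psi_comm ψ (a := 1) (b := 4) (by norm_num) (by norm_num) (by decide)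
  have c17 := psi_comm ψ (a := 1) (b := 17) (by norm_num) (by norm_num) (by decide)
  have b2 := psi_braid ψ (a := 1) (b := 2) (by norm_num) (by norm_num) (by decide)
  rw [g8, hσ] at c8
  rw [g4, hσ] at c4
  rw [g2, hσ, ← map_mul, ← map_mul, ← map_mul, ← map_mul] at b2
  have v := K.conjChart_vals cyc1
  rw [cyc_facts.2.2.2.1] at v
  have e12 : K.φ (swap 1 2) = K.conjChart cyc1 (swap 1 2) := by rw [K.φ_r0, v.1]
  have e01 : K.φ (swap 0 1) = K.conjChart cyc1 (swap 0 1) := by rw [K.φ_swap01, v.2.1]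
  have hψ1 : ψ (Model.T 1) = F.r 0 := by
    have bad : ∀ τ : Perm (Fin 6), K.φ σ = K.conjChart cyc1 τ → τ * swap 0 3 = swap 0 3 * τ := fun τ hτ => by
      rw [hσ, g17, hτ] at c17
      exact K.conjChart_inj cyc1 (by rw [map_mul, map_mul]; exact c17.eq)
    rcases r0_cases σ hσ2 (hφ c8) (hφ c4) (K.φ_inj b2) with rfl | rfl | rfl
    · rw [hσ, K.φ_r0]
    · have h02 : K.φ (swap 0 2) = K.conjChart cyc1 (swap 0 2) := by
        rw [show swap (0 : Fin 6) 2 = swap 0 1 * swap 1 2 * swap 0 1 by decide +kernel, map_mul, map_mul, map_mul,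
          map_mul, e12, e01]
      exact absurd (bad _ h02) (by decide +kernel)
    · exact absurd (bad _ e01) (by decide +kernel)
  refine ⟨hψ1, ?_⟩
  obtain ⟨τ, hτ, hτ2⟩ := K.exists_invol_φ (hsq (show 5 < 64 by norm_num)) (hcd 5 (by norm_num) (by decide) (by decide))
  have d1 := psi_comm ψ (a := 5) (b := 1) (by norm_num) (by norm_num) (by decide)
  have d4 := psi_comm ψ (a := 5) (b := 4) (by norm_num) (by norm_num) (by decide)
  have d2 := psi_braid ψ (a := 5) (b := 2) (by norm_num) (by norm_num) (by decide)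
  have d8 := psi_braid ψ (a := 5) (b := 8) (by norm_num) (by norm_num) (by decide)
  rw [hτ, hψ1, ← K.φ_r0] at d1
  rw [hτ, g4] at d4
  rw [hτ, g2, ← map_mul, ← map_mul, ← map_mul, ← map_mul] at d2
  rw [hτ, g8, ← map_mul, ← map_mul, ← map_mul, ← map_mul] at d8
  rw [hτ, r03_unique τ hτ2 (hφ d1) (hφ d4) (K.φ_inj d2) (K.φ_inj d8)]

theorem psi_reps : ψ Model.zm = F.p (swap 0 1) ∧
    ψ Model.xm = K.conjChart cyc1 (swap 0 3 * swap 1 2) ∧
    ψ Model.cm = F.p (swap 0 1) * F.r 2 ∧ F.e 0 ∈ ψ.range ∧ F.e 1 ∈ ψ.range := by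
  obtain ⟨g2, g4, g8, g16, g17, -⟩ := K.psi_base hgen
  obtain ⟨g1, g5⟩ := K.psi_one hgen
  obtain ⟨hz, hx, hc⟩ := Model.zm_word
  have ez : ψ Model.zm = F.p (swap 0 1) := by
    rw [hz, Model.t14]
    simp only [map_mul, g2, g4, g5, g8, g1, ← K.φ_r0]
    simp only [← map_mul]
    rw [← K.φ_p]
    exact congrArg K.φ (by decide +kernel)
  refine ⟨ez, ?_, by rw [hc, map_mul, ez, g16], ⟨Model.T 2 * Model.T 1, ?_⟩, ⟨Model.T 8 * Model.T 4, ?_⟩⟩
  · have v := (K.conjChart_vals cyc1).1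
    rw [cyc_facts.2.2.2.1] at v
    rw [hx, map_mul, map_mul, g17, g1, v]
  · rw [map_mul, g2, g1, K.φ_swap01, mul_assoc, F.r_sq, mul_one]
  · rw [map_mul, g8, g4, K.φ_swap34, K.φ_r1, mul_assoc, F.r_sq, mul_one]

omit hgen in
theorem nine_z : 9 ∣ Nat.card (Subgroup.centralizer ({F.p (swap 0 1)} : Set G)) :=
  nine_dvd (F := F) (fun st => st.1 • (evec 0 + evec 1) + st.2 • evec 2)
    (fun a b e => Prod.ext (plane_facts.2.2.1 _ _ _ _ e).1 (plane_facts.2.2.1 _ _ _ _ e).2)
    fun st => (F.p_el _ _).trans (congrArg F.toFrame.el (plane_facts.1 st.1 st.2))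

omit hgen in
theorem nine_r : 9 ∣ Nat.card (Subgroup.centralizer ({F.r 2} : Set G)) :=
  nine_dvd (F := F) (fun st => st.1 • evec 0 + st.2 • evec 1)
    (fun a b e => Prod.ext (plane_facts.2.2.2 _ _ _ _ e).1 (plane_facts.2.2.2 _ _ _ _ e).2)
    fun st => by
      rw [F.r_inv]
      exact (F.r_el _ _).trans (congrArg F.toFrame.el (plane_facts.2.1 st.1 st.2))

theorem not_nine_x : ¬ 9 ∣ Nat.card (Subgroup.centralizer ({ψ Model.xm} : Set G)) := by
  rw [(K.psi_reps hgen).2.1]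
  have c12 : cyc1 2 = 1 := cyc_facts.2.2.2.2.2
  refine not_nine (e := F.e 1) (c12 ▸ (K.conjChart_e cyc1 _).symm) (orderOf_e 1) fun q hy he h9 => ?_
  obtain ⟨n, σ, rfl⟩ := K.conjChart_dec cyc1 (g := q) (by rwa [c12])
  rw [c12] at hy h9 ⊢
  have hcσ : Commute (F.e 1 ^ n.val) (K.conjChart cyc1 σ) := (c12 ▸ (K.conjChart_e cyc1 σ).symm : Commute (F.e 1) _).pow_left _
  have hce : Commute (F.e 1 ^ n.val) (K.conjChart cyc1 (swap 0 3 * swap 1 2)) :=
    (c12 ▸ (K.conjChart_e cyc1 _).symm : Commute (F.e 1) _).pow_left _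
  have h1 : σ * (swap 0 3 * swap 1 2) = swap 0 3 * swap 1 2 * σ := by
    have := hce.inv_left.mul_left hy
    rw [inv_mul_cancel_left] at this
    exact K.conjChart_inj cyc1 (by rw [map_mul _ σ, map_mul _ (swap 0 3 * swap 1 2) σ]; exact this.eq)
  rw [hcσ.mul_pow, ← pow_mul, show n.val * 9 = 3 * (3 * n.val) by ring, pow_mul,
    show F.e 1 ^ 3 = 1 by rw [pow_succ, pow_two, F.toFrame.e_cube], one_pow, one_mul, ← map_pow] at h9
  rw [x_cent σ h1 (K.conjChart_inj cyc1 (h9.trans (map_one _).symm)), map_one, mul_one]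
  exact pow_mem (Subgroup.mem_zpowers _) _

theorem not_nine_c : ¬ 9 ∣ Nat.card (Subgroup.centralizer ({ψ Model.cm} : Set G)) := by
  rw [(K.psi_reps hgen).2.2.1]
  have hd : F.e 0 * F.e 1 = F.el (evec 0 + evec 1) := (F.toFrame.el_add _ _).symm
  have hd3 : orderOf (F.el (evec 0 + evec 1)) = 3 := by
    haveI : Fact (Nat.Prime 3) := ⟨Nat.prime_three⟩
    refine orderOf_eq_prime ?_ fun h => d_zero.1 (F.toFrame.el_inj.1 (h.trans F.toFrame.el_zero.symm))
    rw [pow_succ, pow_two, ← F.toFrame.el_add, ← F.toFrame.el_add, evec_facts.2.2.2.2, F.toFrame.el_zero]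
  have hact : ∀ v : Vec, F.p (swap 0 1) * F.r 2 * F.el v * (F.p (swap 0 1) * F.r 2)⁻¹ =
      F.el (fun j => Function.update v 2 (-v 2) ((swap (0 : Fin 3) 1).symm j)) := fun v => by
    rw [mul_inv_rev, F.r_inv, show F.p (swap 0 1) * F.r 2 * F.el v * (F.r 2 * (F.p (swap 0 1))⁻¹) =
      F.p (swap 0 1) * (F.r 2 * F.el v * F.r 2) * (F.p (swap 0 1))⁻¹ by group]
    rw [show F.r 2 * F.el v * F.r 2 = F.el (Function.update v 2 (-v 2)) from F.r_el 2 v]
    exact F.p_el _ _
  refine not_nine (e := F.el (evec 0 + evec 1)) ?_ hd3 fun q hy he h9 => ?_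
  · have := hact (evec 0 + evec 1)
    rw [show (fun j => Function.update (evec 0 + evec 1 : Vec) 2 (-(evec 0 + evec 1 : Vec) 2)
      ((swap (0 : Fin 3) 1).symm j)) = evec 0 + evec 1 by decide +kernel] at this
    exact (mul_inv_eq_iff_eq_mul.1 this).symm
  have hqM : q ∈ B.M := F.cent_d (Subgroup.mem_centralizer_singleton_iff.2 (hd ▸ he.eq))
  obtain ⟨w, hw⟩ := F.code q hqM
  have hw0 : sact w (evec 0 + evec 1) = evec 0 + evec 1 := by
    have h1 : q * F.el (evec 0 + evec 1) * q⁻¹ = F.el (sact w (evec 0 + evec 1)) := hw _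
    rw [he.eq, mul_inv_cancel_right] at h1
    exact (F.toFrame.el_inj.1 h1).symm
  have hw' : F.toFrame.Acts q w := hw
  have hJ : q ∈ B.J := by
    have h2 : q * q ∈ B.J := by
      rw [← B.cent_J, Subgroup.mem_centralizer_iff]
      intro j hj
      obtain ⟨v, rfl⟩ := F.toFrame.exists_vec hj
      have := Frame.Acts.mul F.toFrame hw' hw' v
      rw [stab_d_sq w hw0, sact_one] at this
      exact (mul_inv_eq_iff_eq_mul.1 this).symm
    have e : (q * q) ^ 5 = q := by rw [← pow_two, ← pow_mul, show 2 * 5 = 9 + 1 by rfl, pow_succ, h9, one_mul]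
    exact e ▸ pow_mem h2 5
  obtain ⟨v, rfl⟩ := F.toFrame.exists_vec hJ
  have hfix := hact v
  rw [← hy.eq, mul_inv_cancel_right] at hfix
  have hv := congrFun (F.toFrame.el_inj.1 hfix)
  have v2 : v 2 = -v 2 := by
    have := hv 2
    simpa [swap_apply_of_ne_of_ne] using this
  have v01 : v 0 = v 1 := by
    have := hv 0
    simpa [Function.update, swap_apply_left] using this
  obtain ⟨k, hk⟩ := pair_line v v2 v01
  rw [hk, F.toFrame.el_smul]
  exact pow_mem (Subgroup.mem_zpowers _) _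

end SixChart

end CfsgLib.Recog.SpSixThree
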