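import Cfsg.Agent.Lib.Recog.SpSixThree.CommLast
import Cfsg.Agent.Lib.Recog.SymNine.Count

/-!
The last relation from a count: if the centralizer of the four-group of the second plane modulo the sign change
has order divisible by 32, the four-groups of the first two planes commute modulo it.
-/

set_option autoImplicit false
set_option linter.unusedSectionVars false
set_option synthInstance.maxSize 20000
set_option maxRecDepth 8000

namespace CfsgLib.Recog.SpSixThree

open Equiv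

universe u

/-- the four-group with the last transposition -/
def vierList : List (Perm (Fin 6)) :=
  [1, dT, cT * dT * cT⁻¹, cT ^ 2 * dT * (cT ^ 2)⁻¹, swap 4 5, dT * swap 4 5, cT * dT * cT⁻¹ * swap 4 5,
    cT ^ 2 * dT * (cT ^ 2)⁻¹ * swap 4 5]

theorem vier_facts :
    (∀ a ∈ vierList, ∀ b ∈ vierList, a * b ∈ vierList) ∧
    (∀ a ∈ vierList, a⁻¹ = a ∧ a * swap 4 5 = swap 4 5 * a ∧ cT * a * cT⁻¹ ∈ vierList) ∧
    vierList.Nodup := by decide +kernel

theorem vier_cent : ∀ σ : Perm (Fin 6), σ * swap 4 5 = swap 4 5 * σ →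
    (∀ v ∈ vierList, σ * v * σ⁻¹ * v⁻¹ ∈ [1, swap 4 5]) → σ ∈ vierList := by decide +kernel

theorem vier_exp : ∀ σ : Perm (Fin 6), σ * swap 4 5 = swap 4 5 * σ → σ ^ 24 = 1 := by decide +kernel

theorem vier_two : ∀ σ : Perm (Fin 6), σ * swap 4 5 = swap 4 5 * σ → σ ^ 8 = 1 →
    (σ * (cT * σ * cT⁻¹)) ^ 8 = 1 → σ ∈ vierList := by decide +kernel

theorem vier_hit : ∀ σ ∈ vierList, σ = 1 ∨ σ = swap 4 5 ∨
    ∃ n : Fin 3, cT ^ n.val * σ * (cT ^ n.val)⁻¹ = dT ∨ cT ^ n.val * σ * (cT ^ n.val)⁻¹ = dT * swap 4 5 := by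
  decide +kernel

/-- the group of eight -/
def vier : Subgroup (Perm (Fin 6)) where
  carrier := {σ | σ ∈ vierList}
  one_mem' := List.mem_cons_self ..
  mul_mem' := fun ha hb => vier_facts.1 _ ha _ hb
  inv_mem' := fun ha => by rw [Set.mem_setOf_eq, (vier_facts.2.1 _ ha).1]; exact ha

theorem card_vier : Nat.card vier = 8 := by
  have e : Nat.card vier = Nat.card vierList.toFinset :=
    Nat.card_congr (Equiv.subtypeEquivRight fun σ => (List.mem_toFinset).symm)
  rw [e, Nat.card_eq_finsetCard, List.toFinset_card_of_nodup vier_facts.2.2]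
  rfl

/-- the sum of two frame vectors in the first two places -/
def pairVec (a b : ZMod 3) : Vec := a • evec 0 + b • evec 1

theorem pair_cases : ∀ a b : ZMod 3, (a ≠ 0 ∨ b ≠ 0) →
    (∃ m : Fin 3, m.val • pairVec a b = evec 0) ∨ (∃ m : Fin 3, m.val • pairVec a b = evec 1) ∨
    (∃ m : Fin 3, m.val • pairVec a b = evec 0 + evec 1) ∨
    (∃ m : Fin 3, Function.update (m.val • pairVec a b) 1 (-(m.val • pairVec a b) 1) = evec 0 + evec 1) := by
  decide +kernel

namespace SixChart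

variable {G : Type u} [Group G] [Finite G] {B : Base G} {F : FullFrame B} (K : SixChart F)

theorem conjChart_dec (π : Perm (Fin 3)) {g : G} (h : Commute g (F.e (π 2))) :
    ∃ (n : Fin 3) (σ : Perm (Fin 6)), g = F.e (π 2) ^ n.val * K.conjChart π σ := by
  have he : MulAut.conj (F.p π) (F.e 2) = F.e (π 2) := by rw [MulAut.conj_apply, F.p_e]
  obtain ⟨g', rfl⟩ := (MulAut.conj (F.p π)).surjective g
  rw [← he] at h
  obtain ⟨n, σ, rfl⟩ := K.dec g' ((MulAut.conj (F.p π)).injective (by rw [map_mul, map_mul, h.eq]))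
  exact ⟨n, σ, by rw [map_mul, map_pow, he]; rfl⟩

theorem conjChart_e (π : Perm (Fin 3)) (σ : Perm (Fin 6)) : Commute (K.conjChart π σ) (F.e (π 2)) := by
  have h := (K.conjChart_cross π σ).2.mul_right (K.conjChart_cross π σ).1
  rwa [mul_assoc, F.r_sq, mul_one] at h

/-- the four-group of the second plane with the sign change -/
def vierG : Subgroup G := vier.map (K.conjChart cyc1)

/-- the centralizer of the four-group modulo the sign change -/
def modCent : Subgroup G where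
  carrier := {x | Commute x (F.r 2) ∧ ∀ v ∈ K.vierG, x * v * x⁻¹ * v⁻¹ ∈ Subgroup.zpowers (F.r 2)}
  one_mem' := ⟨Commute.one_left _, fun v _ => by simp⟩
  mul_mem' := fun {x y} hx hy => ⟨hx.1.mul_left hy.1, fun v hv => by
    have e : x * y * v * (x * y)⁻¹ * v⁻¹ = x * (y * v * y⁻¹ * v⁻¹) * x⁻¹ * (x * v * x⁻¹ * v⁻¹) := by group
    rw [e]
    refine mul_mem ?_ (hx.2 v hv)
    obtain ⟨t, ht⟩ := Subgroup.mem_zpowers_iff.1 (hy.2 v hv)
    rw [← ht, (hx.1.zpow_right t).eq, mul_inv_cancel_right]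
    exact zpow_mem (Subgroup.mem_zpowers _) t⟩
  inv_mem' := fun {x} hx => ⟨hx.1.inv_left, fun v hv => by
    have e : x⁻¹ * v * x⁻¹⁻¹ * v⁻¹ = x⁻¹ * (x * v * x⁻¹ * v⁻¹)⁻¹ * x := by group
    rw [e]
    obtain ⟨t, ht⟩ := Subgroup.mem_zpowers_iff.1 (hx.2 v hv)
    rw [← ht, ← zpow_neg, ((hx.1.zpow_right (-t)).inv_left).eq, inv_mul_cancel_right]
    exact zpow_mem (Subgroup.mem_zpowers _) _⟩

theorem mem_modCent {x : G} : x ∈ K.modCent ↔ Commute x (F.r 2) ∧
    ∀ v ∈ K.vierG, x * v * x⁻¹ * v⁻¹ ∈ Subgroup.zpowers (F.r 2) := Iff.rfl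

theorem r_two_eq : K.conjChart cyc1 (swap 4 5) = F.r 2 ∧ K.conjChart cyc1 cT = F.e 0 ∧
    K.conjChart cyc0 (swap 4 5) = F.r 2 ∧ K.conjChart cyc0 cT = F.e 1 := by
  obtain ⟨c00, c01, -, c10, c11, -⟩ := cyc_facts
  obtain ⟨a0, b0, a0', -⟩ := K.conjChart_vals cyc0
  obtain ⟨a1, b1, a1', -⟩ := K.conjChart_vals cyc1
  rw [c00] at a0 b0
  rw [c01] at a0'
  rw [c10] at a1 b1
  rw [c11] at a1'
  refine ⟨a1', ?_, a0', ?_⟩
  · rw [cT, map_mul, b1, a1, mul_assoc, F.r_sq, mul_one]
  · rw [cT, map_mul, b0, a0, mul_assoc, F.r_sq, mul_one]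

theorem r_two_mem : F.r 2 ∈ K.vierG :=
  ⟨swap 4 5, (by decide +kernel : swap (4 : Fin 6) 5 ∈ vierList), K.r_two_eq.1⟩

theorem vierG_le : K.vierG ≤ K.modCent := by
  rintro _ ⟨σ, hσ, rfl⟩
  refine K.mem_modCent.2 ⟨?_, ?_⟩
  · rw [← K.r_two_eq.1]
    exact (show Commute σ (swap 4 5) from (vier_facts.2.1 σ hσ).2.1).map _
  · rintro _ ⟨τ, hτ, rfl⟩
    have h1 : σ * τ * σ⁻¹ * τ⁻¹ = 1 := by
      have hc : τ * σ = σ * τ := by
        have e := (vier_facts.2.1 _ (vier_facts.1 _ hσ _ hτ)).1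
        rwa [mul_inv_rev, (vier_facts.2.1 σ hσ).1, (vier_facts.2.1 τ hτ).1] at e
      rw [← hc, mul_inv_cancel_right, mul_inv_cancel]
    rw [← map_inv, ← map_inv, ← map_mul, ← map_mul, ← map_mul, h1, map_one]
    exact one_mem _

theorem vierG_conj {x v : G} (hx : x ∈ K.modCent) (hv : v ∈ K.vierG) : x * v * x⁻¹ ∈ K.vierG := by
  have h := mul_mem (Subgroup.zpowers_le.2 K.r_two_mem ((K.mem_modCent.1 hx).2 v hv)) hv
  rwa [inv_mul_cancel_right] at h

/-- the action of the two frame elements -/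
theorem frame_norm {e : G} (he : e = F.e 0 ∨ e = F.e 1) :
    Commute e (F.r 2) ∧ e ∈ Subgroup.normalizer (K.vierG : Set G) := by
  obtain ⟨h45, hcT, -, -⟩ := K.r_two_eq
  rcases he with rfl | rfl
  · refine ⟨(F.r_e (by decide)).symm, ?_⟩
    rw [← hcT]
    have hN : cT ∈ Subgroup.normalizer (vier : Set (Perm (Fin 6))) :=
      Subgroup.mem_normalizer_iff.2 fun σ => ⟨fun hσ => (vier_facts.2.1 σ hσ).2.2, fun h => by
        have := (vier_facts.2.1 _ (vier_facts.2.1 _ h).2.2).2.2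
        rwa [show cT * (cT * (cT * σ * cT⁻¹) * cT⁻¹) * cT⁻¹ = cT ^ 3 * σ * (cT ^ 3)⁻¹ by
            simp [pow_succ, mul_assoc],
          show cT ^ 3 = 1 by decide +kernel, one_mul, inv_one, mul_one] at this⟩
    exact Subgroup.le_normalizer_map (K.conjChart cyc1) ⟨cT, hN, rfl⟩
  · refine ⟨(F.r_e (by decide)).symm, ?_⟩
    refine Subgroup.centralizer_le_normalizer _ fun y hy => ?_
    obtain ⟨σ, -, rfl⟩ := hy
    have := K.conjChart_e cyc1 σ
    rw [cyc_facts.2.2.2.2.2] at this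
    exact this.eq

theorem modCent_stable {e x : G} (hc : Commute e (F.r 2)) (hn : e ∈ Subgroup.normalizer (K.vierG : Set G))
    (hx : x ∈ K.modCent) : e * x * e⁻¹ ∈ K.modCent := by
  obtain ⟨h1, h2⟩ := K.mem_modCent.1 hx
  refine K.mem_modCent.2 ⟨(hc.mul_left h1).mul_left hc.inv_left, fun v hv => ?_⟩
  obtain ⟨t, ht⟩ := Subgroup.mem_zpowers_iff.1 (h2 (e⁻¹ * v * e) ((Subgroup.mem_normalizer_iff''.1 hn v).1 hv))
  have e1 : e * x * e⁻¹ * v * (e * x * e⁻¹)⁻¹ * v⁻¹ =
      e * (x * (e⁻¹ * v * e) * x⁻¹ * (e⁻¹ * v * e)⁻¹) * e⁻¹ := by group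
  rw [e1, ← ht, (hc.zpow_right t).eq, mul_inv_cancel_right]
  exact zpow_mem (Subgroup.mem_zpowers _) t

/-- the subgroup generated by the first two frame elements -/
def plane : Subgroup G := Subgroup.closure {F.e 0, F.e 1}

theorem plane_le_norm {e : G} (he : e ∈ plane (F := F)) :
    Commute e (F.r 2) ∧ e ∈ Subgroup.normalizer (K.vierG : Set G) ∧
      e ∈ Subgroup.normalizer (K.modCent : Set G) := by
  have h : Commute e (F.r 2) ∧ e ∈ Subgroup.normalizer (K.vierG : Set G) := by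
    refine Subgroup.closure_induction (p := fun x _ => Commute x (F.r 2) ∧
      x ∈ Subgroup.normalizer (K.vierG : Set G)) (fun x hx => K.frame_norm (by simpa using hx)) ?_ ?_ ?_ he
    · exact ⟨Commute.one_left _, one_mem _⟩
    · exact fun x y _ _ hx hy => ⟨hx.1.mul_left hy.1, mul_mem hx.2 hy.2⟩
    · exact fun x _ hx => ⟨hx.1.inv_left, inv_mem hx.2⟩
  refine ⟨h.1, h.2, Subgroup.mem_normalizer_iff.2 fun x => ⟨K.modCent_stable h.1 h.2, fun hx => ?_⟩⟩
  have := K.modCent_stable h.1.inv_left (inv_mem h.2) hx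
  rwa [inv_inv, show e⁻¹ * (e * x * e⁻¹) * e = x by group] at this

omit K in
theorem plane_elem {e : G} (he : e ∈ plane (F := F)) :
    ∃ a b : ZMod 3, e = F.toFrame.el (pairVec a b) := by
  refine Subgroup.closure_induction (p := fun x _ => ∃ a b : ZMod 3, x = F.toFrame.el (pairVec a b)) ?_ ?_ ?_ ?_ he
  · rintro x (rfl | rfl)
    · exact ⟨1, 0, by simp [pairVec, Frame.e]⟩
    · exact ⟨0, 1, by simp [pairVec, Frame.e]⟩
  · exact ⟨0, 0, by simp [pairVec, Frame.el_zero]⟩
  · rintro x y _ _ ⟨a, b, rfl⟩ ⟨a', b', rfl⟩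
    exact ⟨a + a', b + b', by
      rw [← Frame.el_add]
      exact congrArg _ (by simp only [pairVec, add_smul]; abel)⟩
  · rintro x _ ⟨a, b, rfl⟩
    exact ⟨-a, -b, by rw [← Frame.el_neg]; exact congrArg _ (by simp only [pairVec, neg_smul]; abel)⟩

/-- **The last relation from the count.** -/
theorem gen_comm_of_count (hd : Subgroup.centralizer ({F.e 0 * F.e 1} : Set G) ≤ B.M)
    (h32 : 32 ∣ Nat.card K.modCent) : Commute (K.gen 2) (K.gen 4) := by
  classical
  obtain ⟨h45, hcT, h45', hcT'⟩ := K.r_two_eq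
  obtain ⟨c00, c01, c02, c10, c11, c12⟩ := cyc_facts
  suffices goal : K.conjChart cyc0 dT ∈ K.modCent by
    refine K.gen_comm_of ?_
    have hv : K.gen 4 * F.r 0 = K.conjChart cyc1 dT := by
      rw [← dT_facts.2.2, map_mul, (K.conjChart_vals cyc1).1, c10]; rfl
    have hu : K.conjChart cyc0 dT = K.gen 2 * F.r 1 := by
      rw [← dT_facts.2.2, map_mul, (K.conjChart_vals cyc0).1, c00]; rfl
    have h1 : Commute (F.r 1) (K.conjChart cyc1 dT) := by
      have := (K.conjChart_cross cyc1 dT).1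
      rw [c12] at this
      exact this.symm
    have h := (K.mem_modCent.1 goal).2 _ ⟨dT, (by decide +kernel : dT ∈ vierList), rfl⟩
    rw [hu] at h
    have e : K.gen 2 * F.r 1 * K.conjChart cyc1 dT * (K.gen 2 * F.r 1)⁻¹ =
        K.gen 2 * K.conjChart cyc1 dT * K.gen 2 := by
      rw [mul_inv_rev, F.r_inv, inv_eq_of_mul_eq_one_right (K.gen_sq 2), mul_assoc (K.gen 2), h1.eq]
      simp only [mul_assoc]
      rw [← mul_assoc (F.r 1) (F.r 1), F.r_sq, one_mul]
    rw [e] at h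
    obtain ⟨t, ht⟩ := Subgroup.mem_zpowers_iff.1 h
    have hr : ∀ t : ℤ, F.r 2 ^ t = 1 ∨ F.r 2 ^ t = F.r 2 := fun t => by
      rcases Int.even_or_odd t with ⟨k, rfl⟩ | ⟨k, rfl⟩
      · left; rw [← two_mul, zpow_mul, zpow_two, F.r_sq, one_zpow]
      · right; rw [zpow_add, zpow_mul, zpow_two, F.r_sq, one_zpow, one_mul, zpow_one]
    rw [hv]
    rcases hr t with h' | h' <;> rw [h'] at ht
    · left; exact mul_inv_eq_one.1 ht.symm
    · right
      have h2 : Commute (F.r 2) (K.conjChart cyc1 dT) := by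
        rw [← h45]
        exact (show Commute (swap 4 5) dT from dT_facts.2.1.1.symm).map _
      rw [← h2.eq]
      exact mul_inv_eq_iff_eq_mul.1 ht.symm
  by_contra hgoal
  set L := K.modCent with hL
  set A := K.vierG with hA
  have hAL : A ≤ L := K.vierG_le
  haveI hnA : (A.subgroupOf L).Normal := ⟨fun v hv x => K.vierG_conj x.2 hv⟩
  let q := QuotientGroup.mk' (A.subgroupOf L)
  have he1L : F.e 1 ∈ L := K.mem_modCent.2 ⟨(F.r_e (by decide)).symm, fun v hv => by
    obtain ⟨σ, -, rfl⟩ := hv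
    have := K.conjChart_e cyc1 σ
    rw [c12] at this
    rw [← this.eq, mul_inv_cancel_right, mul_inv_cancel]
    exact one_mem _⟩
  set X : Subgroup (L ⧸ A.subgroupOf L) := Subgroup.zpowers (q ⟨F.e 1, he1L⟩) with hX
  have he13 : F.e 1 ^ 3 = 1 := by rw [pow_succ, pow_two, F.toFrame.e_cube]
  have e1A : F.e 1 ∉ A := by
    rintro ⟨σ, hσ, he⟩
    have h2 : σ * σ = 1 := by
      conv_lhs => rw [← (vier_facts.2.1 σ hσ).1]
      rw [(vier_facts.2.1 σ hσ).1]
      exact mul_eq_one_iff_eq_inv.2 (vier_facts.2.1 σ hσ).1.symm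
    have h3 : F.e 1 * F.e 1 = 1 := by rw [← he, ← map_mul, h2, map_one]
    have := F.toFrame.e_cube 1
    rw [h3, one_mul] at this
    exact (F.toFrame.e_not_mem (show (1 : Fin 3) ≠ 0 by decide)) (by rw [this]; exact one_mem _)
  have hXc : Nat.card X = 3 := by
    haveI : Fact (Nat.Prime 3) := ⟨Nat.prime_three⟩
    rw [hX, Nat.card_zpowers, orderOf_eq_prime_iff]
    exact ⟨by rw [← map_pow, ← map_one q]; exact congrArg q (Subtype.ext he13),
      fun e => e1A ((QuotientGroup.eq_one_iff (⟨F.e 1, he1L⟩ : L)).1 e)⟩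
  have selfc : ∀ x : L, Commute (x : G) (F.e 1) → ∃ n : Fin 3, (F.e 1 ^ n.val)⁻¹ * (x : G) ∈ A := by
    intro x hx
    rw [← c12] at hx
    obtain ⟨n, σ, hσ⟩ := K.conjChart_dec cyc1 hx
    rw [c12] at hσ
    refine ⟨n, ?_⟩
    rw [hσ, inv_mul_cancel_left]
    obtain ⟨hxr, hxv⟩ := K.mem_modCent.1 x.2
    have hne : ∀ ρ, Commute (F.e 1 ^ n.val) (K.conjChart cyc1 ρ) := fun ρ => by
      have := K.conjChart_e cyc1 ρ
      rw [c12] at this
      exact this.symm.pow_left _
    have h45σ : σ * swap 4 5 = swap 4 5 * σ := by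
      refine K.conjChart_inj cyc1 ?_
      rw [map_mul, map_mul, h45]
      have hσ' : K.conjChart cyc1 σ = (F.e 1 ^ n.val)⁻¹ * (x : G) := by rw [hσ, inv_mul_cancel_left]
      rw [hσ']
      exact ((((F.r_e (by decide) : Commute (F.r 2) (F.e 1)).symm.pow_left _).inv_left).mul_left hxr).eq
    refine ⟨σ, vier_cent σ h45σ fun v hv => ?_, rfl⟩
    have h := hxv _ ⟨v, hv, rfl⟩
    have e : (x : G) * K.conjChart cyc1 v * (x : G)⁻¹ = K.conjChart cyc1 (σ * v * σ⁻¹) := by
      rw [hσ, map_mul, map_mul, map_inv, mul_inv_rev]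
      calc F.e 1 ^ n.val * K.conjChart cyc1 σ * K.conjChart cyc1 v *
            ((K.conjChart cyc1 σ)⁻¹ * (F.e 1 ^ n.val)⁻¹)
          = F.e 1 ^ n.val * (K.conjChart cyc1 σ * K.conjChart cyc1 v * (K.conjChart cyc1 σ)⁻¹) *
            (F.e 1 ^ n.val)⁻¹ := by group
        _ = _ := by rw [← map_inv, ← map_mul, ← map_mul, (hne _).eq, mul_inv_cancel_right]
    rw [e, ← map_inv, ← map_mul] at h
    obtain ⟨t, ht⟩ := Subgroup.mem_zpowers_iff.1 h
    rcases Int.even_or_odd t with ⟨k, rfl⟩ | ⟨k, rfl⟩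
    · rw [← two_mul, zpow_mul, zpow_two, F.r_sq, one_zpow, ← map_one (K.conjChart cyc1)] at ht
      simp [← K.conjChart_inj cyc1 ht]
    · rw [zpow_add, zpow_mul, zpow_two, F.r_sq, one_zpow, one_mul, zpow_one, ← h45] at ht
      simp [← K.conjChart_inj cyc1 ht]
  have hcent : Subgroup.centralizer (X : Set (L ⧸ A.subgroupOf L)) = X := by
    refine le_antisymm (fun y hy => ?_) (Subgroup.le_centralizer X)
    obtain ⟨x, rfl⟩ := QuotientGroup.mk'_surjective _ y
    have he := Subgroup.mem_centralizer_iff.1 hy _ (Subgroup.mem_zpowers (q ⟨F.e 1, he1L⟩))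
    have hz : q (x * ⟨F.e 1, he1L⟩ * x⁻¹ * (⟨F.e 1, he1L⟩ : L)⁻¹) = 1 := by
      simp only [map_mul, map_inv]
      rw [← he, mul_inv_cancel_right, mul_inv_cancel]
    obtain ⟨σ, hσ, hσe⟩ := (QuotientGroup.eq_one_iff _).1 hz
    have hce : Commute (K.conjChart cyc1 σ) (F.e 1) := by
      have := K.conjChart_e cyc1 σ
      rwa [c12] at this
    have hxe : (x : G) * F.e 1 * (x : G)⁻¹ = K.conjChart cyc1 σ * F.e 1 := by
      rw [hσe]; simp
    have h3 : K.conjChart cyc1 σ ^ 3 = 1 := by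
      have h := congrArg (· ^ 3) hxe
      simp only [conj_pow, he13, mul_one, mul_inv_cancel, hce.mul_pow] at h
      exact h.symm
    have hσ2 : σ * σ = 1 := mul_eq_one_iff_eq_inv.2 (vier_facts.2.1 σ hσ).1.symm
    rw [pow_succ, pow_two, ← map_mul, hσ2, map_one, one_mul] at h3
    rw [h3, one_mul] at hxe
    obtain ⟨n, hn⟩ := selfc x (mul_inv_eq_iff_eq_mul.1 hxe)
    refine Subgroup.mem_zpowers_iff.2 ⟨n.val, ?_⟩
    rw [zpow_natCast, ← map_pow]
    refine QuotientGroup.eq.2 ?_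
    rw [Subgroup.mem_subgroupOf]
    simpa using hn
  set E := plane (F := F) with hE
  have hEJ : E ≤ B.J := by
    rw [hE, plane, Subgroup.closure_le, ← F.f_range]
    rintro x (rfl | rfl) <;> exact ⟨_, rfl⟩
  have hEp : IsPGroup 3 E := fun x => ⟨1, Subtype.ext (by simpa using B.J_exp _ (hEJ x.2))⟩
  have hEN : E ≤ Subgroup.normalizer (L : Set G) := fun e he => (K.plane_le_norm he).2.2
  let ψ₀ : E →* MulAut L := L.normalizerMonoidHom.comp (Subgroup.inclusion hEN)
  have hψA : ∀ a : E, (A.subgroupOf L).map (ψ₀ a).toMonoidHom = A.subgroupOf L := fun a => by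
    refine Subgroup.eq_of_le_of_card_ge ?_ (Subgroup.card_map_of_injective (ψ₀ a).injective).ge
    rintro _ ⟨x, hx, rfl⟩
    exact (Subgroup.mem_normalizer_iff.1 (K.plane_le_norm a.2).2.1 x).1 hx
  let ψ : E →* MulAut (L ⧸ A.subgroupOf L) :=
    { toFun := fun a => QuotientGroup.congr _ _ (ψ₀ a) (hψA a)
      map_one' := by
        refine MulEquiv.ext fun y => ?_
        obtain ⟨x, rfl⟩ := QuotientGroup.mk_surjective y
        simp [QuotientGroup.congr_mk]
      map_mul' := fun a b => by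
        refine MulEquiv.ext fun y => ?_
        obtain ⟨x, rfl⟩ := QuotientGroup.mk_surjective y
        simp [QuotientGroup.congr_mk]
        rfl }
  have hA8 : Nat.card (A.subgroupOf L) = 8 := by
    rw [Nat.card_congr (Subgroup.subgroupOfEquivOfLe hAL).toEquiv, hA, vierG,
      Subgroup.card_map_of_injective (K.conjChart_inj cyc1), card_vier]
  have hcardL := Subgroup.card_eq_card_quotient_mul_card_subgroup (A.subgroupOf L)
  rw [hA8] at hcardL
  rcases SymNine.card_dvd_six_or_exists_invariant hEp ψ hXc hcent with hd6 | ⟨p, R, hp, hp3, hRp, hRne, hRinv⟩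
  · exact absurd (h32.trans (hcardL ▸ Nat.mul_dvd_mul_right hd6 8)) (by norm_num)
  haveI := Fact.mk hp
  set T : Subgroup G := (R.comap q).map L.subtype with hT
  have hTL : T ≤ L := Subgroup.map_subtype_le _
  obtain ⟨k, hk⟩ := hRp.exists_card_eq
  have hTcard : Nat.card T = 8 * p ^ k := by
    rw [hT, Subgroup.card_map_of_injective (Subgroup.subtype_injective L)]
    have h1 : Nat.card ((A.subgroupOf L).subgroupOf (R.comap q)) = 8 := by
      rw [Nat.card_congr (Subgroup.subgroupOfEquivOfLe (fun x hx => by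
        show q x ∈ R
        rw [show q x = 1 from (QuotientGroup.eq_one_iff x).2 hx]; exact one_mem _)).toEquiv, hA8]
    have h2 := Subgroup.card_mul_index ((A.subgroupOf L).subgroupOf (R.comap q))
    have h3 : ((A.subgroupOf L).subgroupOf (R.comap q)).index = Nat.card R := by
      have h4 := Subgroup.relIndex_ker q (K := R.comap q)
      rw [Subgroup.map_comap_eq_self_of_surjective (QuotientGroup.mk'_surjective _)] at h4
      exact (congrArg (fun H => Subgroup.relIndex H (R.comap q)) (QuotientGroup.ker_mk' _).symm).trans h4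
    rw [h1, h3, hk] at h2
    exact h2.symm
  have hT3 : (Nat.card T).Coprime 3 := by
    rw [hTcard]
    exact Nat.Coprime.mul_left (by norm_num) (((Nat.coprime_primes hp Nat.prime_three).2 hp3).pow_left k)
  have hAT : A ≤ T := fun x hx => ⟨⟨x, hAL hx⟩, by
    show q _ ∈ R
    rw [show q ⟨x, hAL hx⟩ = 1 from (QuotientGroup.eq_one_iff _).2 hx]
    exact one_mem _, rfl⟩
  have hEnT : E ≤ Subgroup.normalizer (T : Set G) := by
    have key : ∀ a : E, ∀ x ∈ T, (a : G) * x * (a : G)⁻¹ ∈ T := by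
      rintro a _ ⟨x, hx, rfl⟩
      refine ⟨ψ₀ a x, ?_, rfl⟩
      show q (ψ₀ a x) ∈ R
      rw [← hRinv a]
      exact ⟨q x, hx, rfl⟩
    intro e he
    refine Subgroup.mem_normalizer_iff.2 fun x => ⟨key ⟨e, he⟩ x, fun hx => ?_⟩
    have h := key ⟨e⁻¹, inv_mem he⟩ _ hx
    simp only [inv_inv] at h
    rwa [show e⁻¹ * (e * x * e⁻¹) * e = x by group] at h
  have he0E : F.e 0 ∈ E := Subgroup.subset_closure (Set.mem_insert _ _)
  have he1E : F.e 1 ∈ E := Subgroup.subset_closure (Set.mem_insert_of_mem _ rfl)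
  have pow3 : ∀ {y : G}, y ∈ T → y ^ 3 = 1 → y = 1 := fun {y} hy h3 => orderOf_eq_one_iff.1
    (Nat.eq_one_of_dvd_coprimes hT3 (T.orderOf_dvd_natCard hy) (orderOf_dvd_of_pow_eq_one h3))
  -- the centralizer of the second frame element
  have h1T : ∀ x ∈ T, Commute x (F.e 1) → x ∈ A := by
    intro x hx hc
    obtain ⟨n, hn⟩ := selfc ⟨x, hTL hx⟩ hc
    have hmem : F.e 1 ^ n.val ∈ T := by
      have := mul_mem hx (inv_mem (hAT hn))
      rwa [mul_inv_rev, inv_inv, mul_inv_cancel_left] at this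
    have := pow3 hmem (by rw [← pow_mul, mul_comm, pow_mul, he13, one_pow])
    rwa [this, inv_one, one_mul] at hn
  -- elements of the normalizer of `J`
  have hMT : ∀ x ∈ T, x ∈ B.M → x ∈ A := by
    intro x hx hxM
    refine h1T x hx ?_
    have h1 : x * F.e 1 * x⁻¹ * (F.e 1)⁻¹ ∈ B.J :=
      mul_mem ((Subgroup.mem_normalizer_iff.1 hxM _).1 (hEJ he1E)) (inv_mem (hEJ he1E))
    have h2 : x * F.e 1 * x⁻¹ * (F.e 1)⁻¹ ∈ T := by
      rw [mul_assoc, mul_assoc, ← mul_assoc (F.e 1)]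
      exact mul_mem hx ((Subgroup.mem_normalizer_iff.1 (hEnT he1E) _).1 (inv_mem hx))
    have := pow3 h2 (B.J_exp _ h1)
    exact mul_inv_eq_iff_eq_mul.1 (mul_inv_eq_one.1 this)
  -- the centralizer of the first frame element
  have h0T : ∀ x ∈ T, Commute x (F.e 0) → x ∈ A := by
    intro x hx hc
    have he03 : F.e 0 ^ 3 = 1 := by rw [pow_succ, pow_two, F.toFrame.e_cube]
    rw [← c02] at hc
    obtain ⟨n, σ, hσ⟩ := K.conjChart_dec cyc0 hc
    rw [c02] at hσ hc
    have hne : ∀ ρ, Commute (F.e 0 ^ n.val) (K.conjChart cyc0 ρ) := fun ρ => by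
      have := K.conjChart_e cyc0 ρ
      rw [c02] at this
      exact this.symm.pow_left _
    have hσ' : K.conjChart cyc0 σ = (F.e 0 ^ n.val)⁻¹ * x := by rw [hσ, inv_mul_cancel_left]
    have hσ45 : σ * swap 4 5 = swap 4 5 * σ := by
      refine K.conjChart_inj cyc0 ?_
      rw [map_mul, map_mul, h45', hσ']
      exact ((((F.r_e (by decide) : Commute (F.r 2) (F.e 0)).symm.pow_left _).inv_left).mul_left
        (K.mem_modCent.1 (hTL hx)).1).eq
    have h24 : x ^ 24 = 1 := by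
      rw [hσ, (hne σ).mul_pow, ← pow_mul, mul_comm n.val, show (24 : ℕ) * n.val = 3 * (8 * n.val) by ring, pow_mul,
        he03, one_pow, one_mul, ← map_pow, vier_exp σ hσ45, map_one]
    have h8 : ∀ y ∈ T, y ^ 24 = 1 → y ^ 8 = 1 := fun y hy h =>
      pow3 (pow_mem hy 8) (by rw [← pow_mul]; exact h)
    have hx8 := h8 x hx h24
    have hn : F.e 0 ^ n.val = 1 := by
      have h : F.e 0 ^ (n.val * 8) * K.conjChart cyc0 (σ ^ 8) = 1 := by
        rw [map_pow, pow_mul, ← (hne σ).mul_pow, ← hσ]; exact hx8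
      have hcap : F.e 0 ^ (n.val * 8) = 1 := by
        have hcr : F.r 0 * F.e 0 ^ (n.val * 8) * F.r 0 = F.e 0 ^ (n.val * 8) := by
          have hh : Commute (K.conjChart cyc0 (σ ^ 8)) (F.r 0) := by
            have := (K.conjChart_cross cyc0 (σ ^ 8)).1
            rwa [c02] at this
          rw [eq_inv_of_mul_eq_one_left h, ← hh.inv_left.eq, mul_assoc, F.r_sq, mul_one]
        have hinv : F.r 0 * F.e 0 ^ (n.val * 8) * F.r 0 = (F.e 0 ^ (n.val * 8))⁻¹ := by
          have := map_pow (MulAut.conj (F.r 0)) (F.e 0) (n.val * 8)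
          rw [MulAut.conj_apply, MulAut.conj_apply, F.r_inv, F.r_e_self, inv_pow] at this
          exact this
        rw [hcr] at hinv
        have h2 : F.e 0 ^ (n.val * 8) * F.e 0 ^ (n.val * 8) = 1 := by
          nth_rewrite 2 [hinv]; rw [mul_inv_cancel]
        calc F.e 0 ^ (n.val * 8) = (F.e 0 ^ 3) ^ (n.val * 8) * (F.e 0 ^ (n.val * 8) * F.e 0 ^ (n.val * 8))⁻¹ := by
              rw [← pow_mul, ← pow_add, eq_mul_inv_iff_mul_eq, ← pow_add]; ring_nf
          _ = 1 := by rw [he03, one_pow, h2, inv_one, mul_one]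
      calc F.e 0 ^ n.val = (F.e 0 ^ 3) ^ (3 * n.val) * (F.e 0 ^ (n.val * 8))⁻¹ := by
            rw [← pow_mul, eq_mul_inv_iff_mul_eq, ← pow_add]; ring_nf
        _ = 1 := by rw [he03, one_pow, hcap, inv_one, mul_one]
    rw [hn, one_mul] at hσ
    have hσ8 : σ ^ 8 = 1 := K.conjChart_inj cyc0 (by rw [map_pow, ← hσ, hx8, map_one])
    have hy : x * (F.e 1 * x * (F.e 1)⁻¹) ∈ T :=
      mul_mem hx ((Subgroup.mem_normalizer_iff.1 (hEnT he1E) _).1 hx)
    have hy' : x * (F.e 1 * x * (F.e 1)⁻¹) = K.conjChart cyc0 (σ * (cT * σ * cT⁻¹)) := by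
      rw [map_mul, map_mul, map_mul, map_inv, hcT', ← hσ]
    have hy45 : σ * (cT * σ * cT⁻¹) * swap 4 5 = swap 4 5 * (σ * (cT * σ * cT⁻¹)) := by
      have hc45 : Commute cT (swap 4 5) := dT_facts.2.1.2
      exact ((show Commute σ (swap 4 5) from hσ45).mul_left
        ((hc45.mul_left hσ45).mul_left hc45.inv_left)).eq
    have hy8 : (σ * (cT * σ * cT⁻¹)) ^ 8 = 1 := K.conjChart_inj cyc0 (by
      rw [map_pow, ← hy', map_one]
      exact h8 _ hy (by rw [hy', ← map_pow, vier_exp _ hy45, map_one]))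
    rcases vier_hit σ (vier_two σ hσ45 hσ8 hy8) with rfl | rfl | ⟨m, hm⟩
    · rw [hσ, map_one]; exact one_mem _
    · rw [hσ, h45']; exact K.r_two_mem
    exfalso
    refine hgoal ?_
    have hstep : ∀ m : ℕ, K.conjChart cyc0 (cT ^ m * σ * (cT ^ m)⁻¹) ∈ L := fun m => by
      rw [map_mul, map_mul, map_inv, map_pow, hcT', ← hσ]
      exact (Subgroup.mem_normalizer_iff.1 (pow_mem (hEN he1E) m) _).1 (hTL hx)
    rcases hm with hm | hm
    · exact hm ▸ hstep m.val
    · have h := hstep m.val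
      rw [hm, map_mul, h45'] at h
      exact (mul_mem_cancel_right (hAL K.r_two_mem)).1 h
  have hTA : T ≤ A := by
    have hnc : ¬ IsCyclic E := fun hcy => by
      obtain ⟨g, hg⟩ := IsCyclic.exists_generator (α := E)
      obtain ⟨i, hi⟩ := Subgroup.mem_zpowers_iff.1 (hg ⟨F.e 0, he0E⟩)
      obtain ⟨j, hj⟩ := Subgroup.mem_zpowers_iff.1 (hg ⟨F.e 1, he1E⟩)
      have hi' : (g : G) ^ i = F.e 0 := by simpa using congrArg Subtype.val hi
      have hj' : (g : G) ^ j = F.e 1 := by simpa using congrArg Subtype.val hj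
      have hg3 : (g : G) ^ (3 : ℤ) = 1 := by
        rw [show (3 : ℤ) = ((3 : ℕ) : ℤ) from rfl, zpow_natCast]; exact B.J_exp _ (hEJ g.2)
      have hg1 : (g : G) ∈ Subgroup.zpowers (F.e 0) := by
        rcases (by omega : i % 3 = 0 ∨ i % 3 = 1 ∨ i % 3 = 2) with h | h | h
        · exfalso
          rw [← Int.emod_add_ediv_mul i 3, h, zero_add, mul_comm, zpow_mul, hg3, one_zpow] at hi'
          exact F.toFrame.e_not_mem (show (0 : Fin 3) ≠ 1 by decide) (hi' ▸ one_mem _)
        all_goals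
          rw [← Int.emod_add_ediv_mul i 3, h, zpow_add, mul_comm (i / 3), zpow_mul, hg3, one_zpow, mul_one] at hi'
        · rw [← hi', zpow_one]; exact Subgroup.mem_zpowers _
        · refine Subgroup.mem_zpowers_iff.2 ⟨2, ?_⟩
          rw [← hi', ← zpow_mul, show (2 : ℤ) * 2 = 3 + 1 by norm_num, zpow_add, hg3, one_mul, zpow_one]
      exact F.toFrame.e_not_mem (show (1 : Fin 3) ≠ 0 by decide) (hj' ▸ zpow_mem hg1 j)
    have hcop : (Nat.card E).Coprime (Nat.card T) := by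
      obtain ⟨m, hm⟩ := hEp.exists_card_eq
      rw [hm]
      exact Nat.Coprime.pow_left m hT3.symm
    have hEab : IsMulCommutative E := ⟨⟨fun a b => Subtype.ext (B.J_comm _ (hEJ a.2) _ (hEJ b.2))⟩⟩
    rw [← CfsgLib.Coprime.iSup_centralizer_eq hEab hnc hEnT hcop]
    refine iSup_le fun a x hx => ?_
    obtain ⟨hxT, hxc⟩ := Subgroup.mem_inf.1 hx
    have hxa : Commute x (a : G) := Subgroup.mem_centralizer_singleton_iff.1 hxc
    obtain ⟨α, β, hab⟩ := plane_elem a.2.1
    have hne : α ≠ 0 ∨ β ≠ 0 := by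
      by_contra h
      push Not at h
      apply a.2.2
      rw [hab, h.1, h.2]
      simp [pairVec, Frame.el_zero]
    have hmul : ∀ m : ℕ, Commute x (F.toFrame.el (m • pairVec α β)) := fun m => by
      induction m with
      | zero => rw [zero_smul, Frame.el_zero]; exact Commute.one_right _
      | succ m ih => rw [succ_nsmul, Frame.el_add, ← hab]; exact ih.mul_right hxa
    rcases pair_cases α β hne with ⟨m, hm⟩ | ⟨m, hm⟩ | ⟨m, hm⟩ | ⟨m, hm⟩
    · exact h0T x hxT (by have h := hmul m.val; rw [hm] at h; exact h)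
    · exact h1T x hxT (by have h := hmul m.val; rw [hm] at h; exact h)
    · refine hMT x hxT (hd (Subgroup.mem_centralizer_singleton_iff.2 ?_))
      have h := hmul m.val
      rw [hm, Frame.el_add] at h
      exact h.eq
    · have hr1 : F.r 1 ∈ B.M := by
        refine Subgroup.mem_normalizer_iff.2 fun y => ?_
        have key : ∀ y ∈ B.J, F.r 1 * y * (F.r 1)⁻¹ ∈ B.J := by
          intro y hy
          rw [← F.f_range] at hy ⊢
          obtain ⟨v, rfl⟩ := hy
          rw [F.r_inv, ← ofAdd_toAdd v, F.r_el]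
          exact ⟨_, rfl⟩
        refine ⟨key y, fun h => ?_⟩
        have h' := key _ h
        rwa [F.r_inv, ← mul_assoc, ← mul_assoc, F.r_sq, one_mul, mul_assoc, F.r_sq, mul_one] at h'
      have hd' : Commute (F.r 1 * x * F.r 1) (F.e 0 * F.e 1) := by
        have h := (hmul m.val).map (MulAut.conj (F.r 1))
        rw [MulAut.conj_apply, MulAut.conj_apply, F.r_inv, Frame.el, F.r_el, hm] at h
        change Commute _ (F.toFrame.el _) at h
        rwa [Frame.el_add] at h
      have hM := mul_mem (mul_mem hr1 (hd (Subgroup.mem_centralizer_singleton_iff.2 hd'.eq))) hr1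
      rw [← mul_assoc, ← mul_assoc, F.r_sq, one_mul, mul_assoc, F.r_sq, mul_one] at hM
      exact hMT x hxT hM
  refine hRne ((Subgroup.eq_bot_iff_forall R).2 fun y hy => ?_)
  obtain ⟨x, rfl⟩ := QuotientGroup.mk'_surjective _ y
  exact (QuotientGroup.eq_one_iff x).2 (hTA ⟨x, hy, rfl⟩)

end SixChart

end CfsgLib.Recog.SpSixThree
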