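import Cfsg.Agent.Lib.Recog.SpSixThree.HomLocal

/-!
The last relation from commuting four-groups modulo the sign change, by averaging over an element of order three.
-/

set_option autoImplicit false
set_option linter.unusedSectionVars false

namespace CfsgLib.Recog.SpSixThree

open Equiv

universe u

/-- the exchange across the blocks inside the four-group -/
def dT : Perm (Fin 6) := swap 0 3 * swap 1 2

/-- the three cycle of the first block -/
def cT : Perm (Fin 6) := swap 0 1 * swap 1 2

theorem dT_facts : dT * (cT * dT * cT⁻¹) = cT ^ 2 * dT * (cT ^ 2)⁻¹ ∧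
    (dT * swap 4 5 = swap 4 5 * dT ∧ cT * swap 4 5 = swap 4 5 * cT) ∧
    swap 0 3 * swap 1 2 = dT := by decide +kernel

namespace SixChart

variable {G : Type u} [Group G] [Finite G] {B : Base G} {F : FullFrame B} (K : SixChart F)

/-- commuting up to the sign change gives commuting -/
theorem gen_comm_of (h : K.gen 2 * (K.gen 4 * F.r 0) * K.gen 2 = K.gen 4 * F.r 0 ∨
    K.gen 2 * (K.gen 4 * F.r 0) * K.gen 2 = K.gen 4 * F.r 0 * F.r 2) :
    Commute (K.gen 2) (K.gen 4) := by
  obtain ⟨c00, c01, c02, c10, c11, c12⟩ := cyc_facts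
  obtain ⟨a1, b1, a1', -⟩ := K.conjChart_vals cyc1
  rw [c10] at a1 b1
  rw [c11] at a1'
  have h20 : Commute (K.gen 2) (F.r 0) := by
    have x := (K.conjChart_cross cyc0 (swap 0 3)).1
    rwa [c02] at x
  have h2e : Commute (K.gen 2) (F.e 0) := by
    have x := (K.conjChart_cross cyc0 (swap 0 3))
    rw [c02] at x
    have := x.2.mul_right x.1
    rwa [mul_assoc, F.r_sq, mul_one] at this
  have hv : K.gen 4 * F.r 0 = K.conjChart cyc1 dT := by
    rw [← dT_facts.2.2, map_mul, a1]
    rfl
  have he : K.conjChart cyc1 cT = F.e 0 := by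
    rw [cT, map_mul, b1, a1, mul_assoc, F.r_sq, mul_one]
  rw [hv] at h
  obtain ⟨d, hd, hd2⟩ : ∃ d, K.gen 2 * K.conjChart cyc1 dT * K.gen 2 = K.conjChart cyc1 dT * d ∧
      (d = 1 ∨ d = F.r 2) := by
    rcases h with h | h
    · exact ⟨1, by rw [h, mul_one], Or.inl rfl⟩
    · exact ⟨F.r 2, h, Or.inr rfl⟩
  have hr2 : ∀ x, x * swap 4 5 = swap 4 5 * x → Commute (F.r 2) (K.conjChart cyc1 x) := fun x hx => by
    rw [← a1']
    exact (show Commute (swap 4 5) x from hx.symm).map (K.conjChart cyc1)
  have hdsq : d * d = 1 := by rcases hd2 with rfl | rfl; exacts [one_mul 1, F.r_sq 2]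
  have hdc : ∀ x, x * swap 4 5 = swap 4 5 * x → Commute d (K.conjChart cyc1 x) := fun x hx => by
    rcases hd2 with rfl | rfl
    exacts [Commute.one_left _, hr2 x hx]
  have hg2 : K.gen 2 * K.gen 2 = 1 := K.gen_sq 2
  have hcT : Commute (K.gen 2) (K.conjChart cyc1 cT) := he.symm ▸ h2e
  have hdd : Commute d (K.gen 2) := by
    rcases hd2 with rfl | rfl
    · exact Commute.one_left _
    · show Commute (K.gen 6) (K.gen 2)
      rw [(K.gen_in 6).1 _ rfl, (K.gen_in 2).1 _ rfl]
      exact (show Commute (swap (4 : Fin 6) 5) (swap 0 3) from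
        (by decide +kernel : swap (4 : Fin 6) 5 * swap 0 3 = swap 0 3 * swap 4 5)).map _
  have step : ∀ y : G, Commute (K.gen 2) y → Commute d y →
      MulAut.conj y (K.conjChart cyc1 dT) * d =
        K.gen 2 * MulAut.conj y (K.conjChart cyc1 dT) * K.gen 2 := fun y hy hdy => by
    have e1 : MulAut.conj y d = d := by rw [MulAut.conj_apply, ← hdy.eq, mul_inv_cancel_right]
    have e2 : MulAut.conj y (K.gen 2) = K.gen 2 := by rw [MulAut.conj_apply, ← hy.eq, mul_inv_cancel_right]
    have := congrArg (MulAut.conj y) hd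
    rw [map_mul, map_mul, map_mul, e1, e2] at this
    exact this.symm
  have hc1 := hdc cT dT_facts.2.1.2
  have s1 := step _ hcT hc1
  have s2 := step _ (hcT.pow_right 2) (hc1.pow_right 2)
  have hprod : MulAut.conj (K.conjChart cyc1 cT ^ 2) (K.conjChart cyc1 dT) =
      K.conjChart cyc1 dT * MulAut.conj (K.conjChart cyc1 cT) (K.conjChart cyc1 dT) := by
    rw [MulAut.conj_apply, MulAut.conj_apply, ← map_pow, ← map_inv, ← map_inv, ← map_mul, ← map_mul, ← map_mul,
      ← map_mul, ← map_mul, dT_facts.1]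
  rw [hprod] at s2
  have hdv : Commute d (K.conjChart cyc1 dT) := hdc dT dT_facts.2.1.1
  have hw : Commute d (MulAut.conj (K.conjChart cyc1 cT) (K.conjChart cyc1 dT)) := by
    rw [MulAut.conj_apply]
    exact (hc1.mul_right hdv).mul_right hc1.inv_right
  set v := K.conjChart cyc1 dT
  set w := MulAut.conj (K.conjChart cyc1 cT) v
  have e : K.gen 2 * (v * w) * K.gen 2 = v * w := by
    calc K.gen 2 * (v * w) * K.gen 2 = K.gen 2 * v * (K.gen 2 * K.gen 2) * w * K.gen 2 := by
          rw [hg2, mul_one]; group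
      _ = (K.gen 2 * v * K.gen 2) * (K.gen 2 * w * K.gen 2) := by group
      _ = v * d * (w * d) := by rw [hd, ← s1]
      _ = v * (d * w) * d := by group
      _ = v * (w * d) * d := by rw [hw.eq]
      _ = v * w * (d * d) := by group
      _ = v * w := by rw [hdsq, mul_one]
  rw [e, mul_eq_left] at s2
  rw [s2, mul_one] at hd
  have hcv : Commute (K.gen 2) v := by
    show K.gen 2 * v = v * K.gen 2
    conv_rhs => rw [← hd, mul_assoc, hg2, mul_one]
  have h4 : K.gen 4 = v * F.r 0 := by rw [← hv, mul_assoc, F.r_sq, mul_one]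
  rw [h4]
  exact hcv.mul_right h20

end SixChart

end CfsgLib.Recog.SpSixThree
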