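import Cfsg.Agent.S3331
import Cfsg.Agent.Lib.ClassK.Core
import Cfsg.Agent.Lib.Invol.FourGroup
import Cfsg.Agent.Lib.Classical.PSLTwoPerm
import Mathlib.GroupTheory.SpecificGroups.Alternating

/-!
A self-centralising element of order three in a group whose invariant `3'`-subgroups lie in one `2`-group,
and a `2`-group with a self-centralising four-group.
-/

set_option autoImplicit false
set_option linter.style.haveILetI false
set_option linter.unusedSectionVars false

namespace CfsgLib.Recog.SpSixThree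

open Subgroup
open scoped Pointwise

/-- The number of Sylow `2`-subgroups is seen in a quotient by a `2`-group. -/
theorem card_sylow_of_ker {X X' : Type*} [Group X] [Finite X] [Group X'] (f : X →* X')
    (hf : Function.Surjective f) (hk : IsPGroup 2 f.ker) : Nat.card (Sylow 2 X) = Nat.card (Sylow 2 X') := by
  haveI : Fact (Nat.Prime 2) := ⟨Nat.prime_two⟩
  refine Nat.card_congr (Equiv.ofBijective _ ⟨fun P Q e => ?_, Sylow.mapSurjective_surjective hf 2⟩)
  have hle : ∀ P : Sylow 2 X, f.ker ≤ P := fun P => IsPGroup.le_sylow_of_normal hk P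
  have h := congrArg (fun S : Sylow 2 X' => (S : Subgroup X').comap f) e
  simp only [Sylow.coe_mapSurjective] at h
  rw [comap_map_eq, comap_map_eq, sup_eq_left.2 (hle P), sup_eq_left.2 (hle Q)] at h
  exact Sylow.ext h

theorem card_sylow_perm_three : Nat.card (Sylow 2 (Equiv.Perm (Fin 3))) = 3 := by
  haveI : Fact (Nat.Prime 2) := ⟨Nat.prime_two⟩
  obtain ⟨S⟩ : Nonempty (Sylow 2 (Equiv.Perm (Fin 3))) := inferInstance
  have h6 : Nat.card (Equiv.Perm (Fin 3)) = 6 := by rw [Nat.card_perm, Nat.card_fin]; rfl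
  have hS : Nat.card S = 2 := by
    rw [Sylow.card_eq_multiplicity, h6, show (6 : ℕ) = 2 ^ 1 * 3 by norm_num,
      Nat.factorization_mul (by norm_num) (by norm_num), Finsupp.add_apply,
      Nat.Prime.factorization_pow Nat.prime_two, Finsupp.single_eq_same,
      Nat.factorization_eq_zero_of_not_dvd (by norm_num : ¬ 2 ∣ 3)]
    norm_num
  have hd := S.card_dvd_index
  have hi := (S : Subgroup (Equiv.Perm (Fin 3))).card_mul_index
  rw [h6, show Nat.card (S : Subgroup (Equiv.Perm (Fin 3))) = 2 from hS] at hi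
  rw [show (S : Subgroup (Equiv.Perm (Fin 3))).index = 3 by omega] at hd
  rcases (Nat.dvd_prime Nat.prime_three).1 hd with h | h
  · exfalso
    haveI : Subsingleton (Sylow 2 (Equiv.Perm (Fin 3))) := (Nat.card_eq_one_iff_unique.1 h).1
    have key : ∃ a b : Equiv.Perm (Fin 3), a * a = 1 ∧ b * b = 1 ∧ a ≠ 1 ∧ b ≠ 1 ∧ a * b * (a * b) ≠ 1 := by
      decide +kernel
    obtain ⟨a, b, ha, hb, ha1, hb1, hab⟩ := key
    have mem : ∀ c : Equiv.Perm (Fin 3), c * c = 1 → c ∈ (S : Subgroup (Equiv.Perm (Fin 3))) := fun c hc => by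
      obtain ⟨T, hT⟩ := (show IsPGroup 2 (zpowers c) from fun y => ⟨1, Subtype.ext (by
        obtain ⟨k, hk⟩ := mem_zpowers_iff.1 y.2
        rw [pow_one, Subgroup.coe_pow, Subgroup.coe_one, ← hk, pow_two, ← (Commute.refl c).mul_zpow, hc, one_zpow])⟩).exists_le_sylow
      exact Subsingleton.elim T S ▸ hT (mem_zpowers c)
    have h2 := pow_card_eq_one' (G := (S : Subgroup (Equiv.Perm (Fin 3)))) (x := ⟨a * b, mul_mem (mem a ha) (mem b hb)⟩)
    rw [show Nat.card (S : Subgroup (Equiv.Perm (Fin 3))) = 2 from hS, pow_two] at h2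
    exact hab (congrArg Subtype.val h2)
  · exact h

theorem card_sylow_two_five : Nat.card (Sylow 2 (alternatingGroup (Fin 5))) % 3 = 2 := by
  haveI : Fact (Nat.Prime 2) := ⟨Nat.prime_two⟩
  obtain ⟨S⟩ : Nonempty (Sylow 2 (alternatingGroup (Fin 5))) := inferInstance
  have h60 : Nat.card (alternatingGroup (Fin 5)) = 60 := by
    rw [nat_card_alternatingGroup, Nat.card_fin]; rfl
  have hS : Nat.card S = 4 := by
    rw [Sylow.card_eq_multiplicity, h60, show (60 : ℕ) = 2 ^ 2 * 15 by norm_num,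
      Nat.factorization_mul (by norm_num) (by norm_num), Finsupp.add_apply,
      Nat.Prime.factorization_pow Nat.prime_two, Finsupp.single_eq_same,
      Nat.factorization_eq_zero_of_not_dvd (by norm_num : ¬ 2 ∣ 15)]
    norm_num
  have hd := S.card_dvd_index
  have hi := (S : Subgroup (alternatingGroup (Fin 5))).card_mul_index
  rw [h60, show Nat.card (S : Subgroup (alternatingGroup (Fin 5))) = 4 from hS] at hi
  rw [show (S : Subgroup (alternatingGroup (Fin 5))).index = 15 by omega] at hd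
  have hm := card_sylow_modEq_one 2 (alternatingGroup (Fin 5))
  have hle := Nat.le_of_dvd (by norm_num) hd
  have hne : Nat.card (Sylow 2 (alternatingGroup (Fin 5))) ≠ 1 ∧
      Nat.card (Sylow 2 (alternatingGroup (Fin 5))) ≠ 3 ∧
      Nat.card (Sylow 2 (alternatingGroup (Fin 5))) ≠ 15 := by
    haveI : IsSimpleGroup (alternatingGroup (Fin 5)) := alternatingGroup.isSimpleGroup_five
    have hne : (S : Subgroup (alternatingGroup (Fin 5))) ≠ ⊥ := fun e => by
      have h := hS
      rw [show Nat.card S = Nat.card (S : Subgroup (alternatingGroup (Fin 5))) from rfl, e, card_bot] at h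
      omega
    refine ⟨fun h => ?_, fun h => ?_, fun h => ?_⟩
    · haveI : Subsingleton (Sylow 2 (alternatingGroup (Fin 5))) := (Nat.card_eq_one_iff_unique.1 h).1
      rcases (S.normal_of_subsingleton).eq_bot_or_eq_top with e | e
      · exact hne e
      · have := hS
        rw [show Nat.card S = Nat.card (S : Subgroup (alternatingGroup (Fin 5))) from rfl, e, card_top, h60] at this
        omega
    · haveI : Fintype (Sylow 2 (alternatingGroup (Fin 5))) := Fintype.ofFinite _
      let f := MulAction.toPermHom (alternatingGroup (Fin 5)) (Sylow 2 (alternatingGroup (Fin 5)))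
      rcases (f.normal_ker).eq_bot_or_eq_top with e | e
      · have := Nat.card_le_card_of_injective f (f.ker_eq_bot_iff.1 e)
        rw [h60, Nat.card_perm, h] at this
        norm_num [Nat.factorial] at this
      · have h1 : ∀ T U : Sylow 2 (alternatingGroup (Fin 5)), T = U := fun T U => by
          obtain ⟨g, rfl⟩ := MulAction.exists_smul_eq (alternatingGroup (Fin 5)) T U
          have hg : f g = 1 := MonoidHom.mem_ker.1 (e ▸ mem_top g)
          exact (DFunLike.congr_fun hg T).symm
        haveI : Subsingleton (Sylow 2 (alternatingGroup (Fin 5))) := ⟨h1⟩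
        rw [Nat.card_of_subsingleton S] at h
        omega
    · rw [S.card_eq_index_normalizer] at h
      have hN := (normalizer ((S : Subgroup (alternatingGroup (Fin 5))) : Set (alternatingGroup (Fin 5)))).card_mul_index
      change (normalizer ((S : Subgroup (alternatingGroup (Fin 5))) : Set (alternatingGroup (Fin 5)))).index = 15 at h
      rw [h60, h] at hN
      have hNS : normalizer ((S : Subgroup (alternatingGroup (Fin 5))) : Set (alternatingGroup (Fin 5))) = S :=
        (eq_of_le_of_card_ge le_normalizer (by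
          rw [show Nat.card (S : Subgroup (alternatingGroup (Fin 5))) = 4 from hS]; omega)).symm
      -- a self-normalising abelian Sylow `2`-subgroup has a normal complement
      haveI hc : IsMulCommutative (S : Subgroup (alternatingGroup (Fin 5))) := by
        haveI : Fact (Nat.Prime 2) := ⟨Nat.prime_two⟩
        exact IsPGroup.isMulCommutative_of_card_eq_prime_sq (p := 2) (hS.trans (by norm_num))
      have hle : normalizer ((S : Subgroup (alternatingGroup (Fin 5))) : Set (alternatingGroup (Fin 5))) ≤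
          centralizer ((S : Subgroup (alternatingGroup (Fin 5))) : Set (alternatingGroup (Fin 5))) := by
        rw [hNS]; exact le_centralizer _
      have hcompl := MonoidHom.ker_transferSylow_isComplement' S hle
      have hcard := hcompl.card_mul
      rcases (MonoidHom.normal_ker (MonoidHom.transferSylow S hle)).eq_bot_or_eq_top with e | e <;>
        rw [e] at hcard
      · rw [card_bot, one_mul, show Nat.card (S : Subgroup (alternatingGroup (Fin 5))) = 4 from hS, h60] at hcard
        omega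
      · rw [card_top, show Nat.card (S : Subgroup (alternatingGroup (Fin 5))) = 4 from hS, h60] at hcard
        omega
  generalize Nat.card (Sylow 2 (alternatingGroup (Fin 5))) = n at *
  obtain ⟨h1, h3, h15⟩ := hne
  interval_cases n <;> simp_all [Nat.ModEq]

theorem ker_comp_mk {X Q : Type*} [Group X] [Group Q] (N : Subgroup X) [N.Normal] (e : X ⧸ N ≃* Q) :
    (e.toMonoidHom.comp (QuotientGroup.mk' N)).ker = N := by
  ext g
  rw [MonoidHom.mem_ker, MonoidHom.comp_apply, MulEquiv.coe_toMonoidHom, MulEquiv.map_eq_one_iff]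
  exact QuotientGroup.eq_one_iff g

/-- A self-centralising element of order three, the invariant `3'`-subgroups lying in a `2`-group `P₀`. -/
theorem self_cent_cover {X : Type*} [Group X] [Finite X] {A : Type*} [Group A] [Finite A]
    (hA : IsPGroup 3 A) (φ : A →* MulAut X) {x : X} (hx : orderOf x = 3)
    (hC : ∀ g : X, g * x = x * g → g ∈ zpowers x) (P₀ : Subgroup X) (hP : IsPGroup 2 P₀)
    (hP₀ : ∀ a : A, P₀.map (φ a).toMonoidHom = P₀)
    (hcov : ∀ N : Subgroup X, (Nat.card N).Coprime 3 → (∀ a : A, N.map (φ a).toMonoidHom = N) → N ≤ P₀) :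
    P₀.Normal ∧ ∀ g : X, ∃ p ∈ P₀, ∃ n, g = p * n ∧ (n * x * n⁻¹ = x ∨ n * x * n⁻¹ = x⁻¹) := by
  haveI : Fact (Nat.Prime 3) := ⟨Nat.prime_three⟩
  haveI : Fact (Nat.Prime 2) := ⟨Nat.prime_two⟩
  have hXc : Nat.card (zpowers x) = 3 := by rw [Nat.card_zpowers, hx]
  have hCX : centralizer ((zpowers x : Subgroup X) : Set X) = zpowers x :=
    le_antisymm (fun g hg => hC g (hg x (mem_zpowers x)).symm) (le_centralizer _)
  letI : MulDistribMulAction A X := MulDistribMulAction.compHom X φ
  have hfix : ∀ (p : ℕ), Fact p.Prime → ∀ S ∈ MulAction.fixedPoints A (Sylow p X),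
      ∀ a : A, (S : Subgroup X).map (φ a).toMonoidHom = S :=
    fun p _ S hS a => congrArg (fun T : Sylow p X => (T : Subgroup X)) (hS a)
  have hco2 : ∀ {H : Subgroup X}, IsPGroup 2 H → (Nat.card H).Coprime 3 := fun {H} hH => by
    obtain ⟨k, hk⟩ := IsPGroup.iff_card.1 hH
    rw [hk]
    exact Nat.Coprime.pow_left k (by norm_num)
  -- fixed Sylow subgroups
  have hone : ∀ S ∈ MulAction.fixedPoints A (Sylow 2 X), (S : Subgroup X) = P₀ := fun S hS =>
    (S.3 hP (hcov _ (hco2 S.2) (hfix 2 inferInstance S hS))).symm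
  have hle1 : Nat.card (MulAction.fixedPoints A (Sylow 2 X)) ≤ 1 := Finite.card_le_one_iff_subsingleton.2
    ⟨fun S T => Subtype.ext (Sylow.ext ((hone _ S.2).trans (hone _ T.2).symm))⟩
  have hmod := hA.card_modEq_card_fixedPoints (Sylow 2 X)
  -- the normal subgroup
  have hcore : ∀ N : Subgroup X, N.Normal → (Nat.card N).Coprime 3 → N ≤ P₀ := fun N hN hco => by
    haveI := CfsgLib.ClassK.pPrimeCore_characteristic (p := 3) (G := X)
    exact (CfsgLib.ClassK.le_pPrimeCore hN hco).trans
      (hcov _ CfsgLib.ClassK.coprime_card_pPrimeCore fun a => characteristic_iff_map_eq.1 inferInstance (φ a))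
  rcases Cfsg.Agent.S3331.result (zpowers x) hXc hCX with
    ⟨N, hN, -, hco, hq⟩ | ⟨N, hN, -, hsq, ⟨e⟩⟩ | ⟨⟨e⟩⟩
  · have hNP := hcore N hN hco
    have hN2 : IsPGroup 2 N := hP.to_le hNP
    have hPN : P₀ = N := by
      refine le_antisymm (fun p hp => ?_) hNP
      rcases hq with h | ⟨⟨e⟩⟩
      · refine (QuotientGroup.eq_one_iff p).1 (orderOf_eq_one_iff.1 ?_)
        obtain ⟨k, hk⟩ := hP ⟨p, hp⟩
        refine Nat.eq_one_of_dvd_coprimes (Nat.Coprime.pow_left k (by norm_num : Nat.Coprime 2 3)) ?_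
          (h ▸ orderOf_dvd_natCard _)
        exact (orderOf_map_dvd (QuotientGroup.mk' N) p).trans
          (orderOf_dvd_of_pow_eq_one (congrArg Subtype.val hk))
      · by_contra hpN
        have h3 : Nat.card (Sylow 2 X) = 3 := by
          rw [card_sylow_of_ker (e.toMonoidHom.comp (QuotientGroup.mk' N))
            (e.surjective.comp (QuotientGroup.mk'_surjective N)) ?_, card_sylow_perm_three]
          rwa [ker_comp_mk]
        -- `P₀` is then a Sylow subgroup
        obtain ⟨S, hS⟩ := hP.exists_le_sylow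
        have hSP : (S : Subgroup X) = P₀ := by
          refine le_antisymm (fun s hs => ?_) hS
          by_cases hsN : s ∈ N
          · exact hNP hsN
          set f := e.toMonoidHom.comp (QuotientGroup.mk' N) with hf
          have hker : ∀ g, f g = 1 ↔ g ∈ N := fun g => by
            rw [hf, MonoidHom.comp_apply, MulEquiv.coe_toMonoidHom, MulEquiv.map_eq_one_iff]
            exact QuotientGroup.eq_one_iff g
          have h2 : ∀ {H : Subgroup (Equiv.Perm (Fin 3))}, IsPGroup 2 H → ∀ u ∈ H, ∀ v ∈ H, u ≠ 1 → v ≠ 1 → u = v := by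
            intro H hH u hu v hv
            obtain ⟨k, hk⟩ := hH ⟨u, hu⟩
            obtain ⟨l, hl⟩ := hH ⟨v, hv⟩
            obtain ⟨m, hm⟩ := hH ⟨u * v, mul_mem hu hv⟩
            have key : ∀ u v : Equiv.Perm (Fin 3), u ^ 4 = 1 → v ^ 4 = 1 → (u * v) ^ 4 = 1 → u ≠ 1 → v ≠ 1 →
                u = v := by decide +kernel
            have p4 : ∀ (w : Equiv.Perm (Fin 3)) (j : ℕ), w ^ 2 ^ j = 1 → w ^ 4 = 1 := by
              intro w j hj
              have h6 : w ^ 6 = 1 := by
                have : ∀ w : Equiv.Perm (Fin 3), w ^ 6 = 1 := by decide +kernel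
                exact this w
              exact orderOf_dvd_iff_pow_eq_one.1 (((Nat.Coprime.dvd_of_dvd_mul_right
                ((Nat.Coprime.pow_left j (by norm_num : Nat.Coprime 2 3)).coprime_dvd_left
                  (orderOf_dvd_of_pow_eq_one hj)) (show orderOf w ∣ 2 * 3 from
                  orderOf_dvd_of_pow_eq_one h6))).trans (by norm_num))
            exact key u v (p4 u k (congrArg Subtype.val hk)) (p4 v l (congrArg Subtype.val hl))
              (p4 _ m (congrArg Subtype.val hm))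
          have := h2 (S.2.map f) (f s) ⟨s, hs, rfl⟩ (f p) ⟨p, hS hp, rfl⟩ (fun h => hsN ((hker s).1 h))
            (fun h => hpN ((hker p).1 h))
          have hm : p⁻¹ * s ∈ N := (hker _).1 (by rw [map_mul, map_inv, this, inv_mul_cancel])
          simpa using mul_mem hp (hNP hm)
        have hSf : S ∈ MulAction.fixedPoints A (Sylow 2 X) := fun a => Sylow.ext (by
          show (S : Subgroup X).map (φ a).toMonoidHom = S
          rw [hSP, hP₀])
        have : 0 < Nat.card (MulAction.fixedPoints A (Sylow 2 X)) := Nat.card_pos_iff.2 ⟨⟨⟨S, hSf⟩⟩, inferInstance⟩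
        rw [h3] at hmod
        unfold Nat.ModEq at hmod
        omega
    subst hPN
    refine ⟨hN, fun g => ?_⟩
    set q := QuotientGroup.mk' P₀
    have hxP : ∀ k : ℤ, x ^ k ∈ P₀ → x ^ k = 1 := fun k hk => orderOf_eq_one_iff.1
      (Nat.eq_one_of_dvd_coprimes (hco2 hP) (Subgroup.orderOf_dvd_natCard _ hk)
        ((Subgroup.orderOf_dvd_natCard _ (zpow_mem (mem_zpowers x) k)).trans hXc.dvd))
    have hqx : orderOf (q x) = 3 := by
      refine orderOf_eq_prime (by rw [← map_pow, ← hx, pow_orderOf_eq_one, map_one]) fun h => ?_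
      have h1 := hxP 1 (by rw [zpow_one]; exact (QuotientGroup.eq_one_iff x).1 h)
      rw [zpow_one] at h1
      rw [h1, orderOf_one] at hx
      omega
    haveI : (zpowers (q x)).Normal := by
      have hc := (zpowers (q x)).card_mul_index
      rw [Nat.card_zpowers, hqx] at hc
      rcases hq with h | ⟨⟨e⟩⟩
      · rw [h] at hc
        rw [show zpowers (q x) = ⊤ from index_eq_one.1 (by omega)]
        infer_instance
      · rw [Nat.card_congr e.toEquiv, Nat.card_perm, Nat.card_fin, show Nat.factorial 3 = 6 from rfl] at hc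
        exact normal_of_index_eq_two (by omega)
    set M := P₀ ⊔ zpowers x with hM
    have hMeq : M = (zpowers (q x)).comap q := by
      rw [← MonoidHom.map_zpowers, comap_map_eq, QuotientGroup.ker_mk', hM, sup_comm]
    haveI hMn : M.Normal := hMeq ▸ inferInstance
    have hxM : x ∈ M := mem_sup_right (mem_zpowers x)
    have hco : Nat.Coprime (Nat.card P₀) 3 := hco2 hP
    -- the conjugates of `x` in `M`
    have hgx : g * x * g⁻¹ ∈ M := hMn.conj_mem x hxM g
    have hdec : ∀ y ∈ M, ∃ p ∈ P₀, ∃ w ∈ zpowers x, p * w = y := fun y hy => by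
      rw [hM, mem_sup_of_normal_left] at hy
      exact hy
    obtain ⟨k, hk⟩ := IsPGroup.iff_card.1 hP
    have hMc : Nat.card M = Nat.card P₀ * 3 := by
      have h1 : (P₀.subgroupOf M).index = 3 := by
        have := Subgroup.relIndex_ker q (K := M)
        rw [QuotientGroup.ker_mk', hMeq, map_comap_eq_self_of_surjective (QuotientGroup.mk'_surjective _),
          Nat.card_zpowers, hqx] at this
        rw [hMeq]
        exact this
      rw [← (P₀.subgroupOf M).card_mul_index, h1,
        Nat.card_congr (subgroupOfEquivOfLe (le_sup_left : P₀ ≤ M)).toEquiv]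
    have hsyl : ∀ y ∈ M, orderOf y = 3 → ∃ T : Sylow 3 M, (T : Subgroup M).map M.subtype = zpowers y := by
      intro y hy ho
      set H := (zpowers y).subgroupOf M
      have hH : Nat.card H = 3 := by
        rw [Nat.card_congr (subgroupOfEquivOfLe (zpowers_le.2 hy)).toEquiv, Nat.card_zpowers, ho]
      refine ⟨Sylow.ofCard H ?_, ?_⟩
      · rw [hH, hMc, Nat.factorization_mul Nat.card_pos.ne' (by norm_num), Finsupp.add_apply, hk,
          Nat.Prime.factorization_pow Nat.prime_two, Finsupp.single_eq_of_ne (by norm_num),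
          Nat.prime_three.factorization_self]
        norm_num
      · rw [Sylow.coe_ofCard, subgroupOf_map_subtype, inf_eq_left.2 (zpowers_le.2 hy)]
    obtain ⟨T₁, hT₁⟩ := hsyl _ hgx (by
      rw [show g * x * g⁻¹ = MulAut.conj g x from rfl, MulEquiv.orderOf_eq, hx])
    obtain ⟨T₂, hT₂⟩ := hsyl x hxM hx
    obtain ⟨m, hm⟩ := MulAction.exists_smul_eq M T₁ T₂
    have hmem : (m : X) * (g * x * g⁻¹) * (m : X)⁻¹ ∈ zpowers x := by
      rw [← hT₂, ← hm, Sylow.coe_subgroup_smul]
      obtain ⟨w, hw, hwe⟩ := (hT₁.ge (mem_zpowers (g * x * g⁻¹)) : g * x * g⁻¹ ∈ (T₁ : Subgroup M).map M.subtype)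
      refine ⟨m * w * m⁻¹, ⟨w, hw, by simp [MulAut.smul_def, MulAut.conj_apply]⟩, ?_⟩
      simp only [coe_subtype] at hwe
      simp [hwe]
    obtain ⟨p, hp, w, hw, hpw⟩ := hdec _ (inv_mem m.2)
    refine ⟨p, hp, w * ((m : X) * g), ?_, ?_⟩
    · rw [← mul_assoc p, hpw, inv_mul_cancel_left]
    · have hcw : ∀ y ∈ zpowers x, w * y * w⁻¹ = y := fun y hy => by
        obtain ⟨i, rfl⟩ := mem_zpowers_iff.1 hy
        obtain ⟨j, rfl⟩ := mem_zpowers_iff.1 hw
        rw [((Commute.refl x).zpow_zpow j i).eq, mul_inv_cancel_right]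
      have e1 : w * ((m : X) * g) * x * (w * ((m : X) * g))⁻¹ = (m : X) * (g * x * g⁻¹) * (m : X)⁻¹ := by
        conv_rhs => rw [← hcw _ hmem]
        group
      rw [e1]
      obtain ⟨i, hi⟩ := mem_zpowers_iff.1 hmem
      rw [← hi]
      have hk3 : x ^ i = x ^ (i % 3) := by
        rw [show ((3 : ℤ)) = (orderOf x : ℤ) by rw [hx]; rfl, zpow_mod_orderOf]
      rw [hk3] at hi ⊢
      rcases (by omega : i % 3 = 0 ∨ i % 3 = 1 ∨ i % 3 = 2) with h | h | h <;> rw [h] at hi ⊢
      · rw [zpow_zero] at hi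
        have h1 : g * x * g⁻¹ = 1 := conj_eq_one_iff.1 hi.symm
        have : x = 1 := conj_eq_one_iff.1 h1
        rw [this, orderOf_one] at hx
        omega
      · exact Or.inl (zpow_one x)
      · refine Or.inr ?_
        rw [zpow_ofNat]
        exact (inv_eq_of_mul_eq_one_left (by
          rw [← pow_succ, show 2 + 1 = orderOf x by rw [hx], pow_orderOf_eq_one])).symm
  · exfalso
    have h5 : Nat.card (Sylow 2 X) % 3 = 2 := by
      rw [card_sylow_of_ker (e.toMonoidHom.comp (QuotientGroup.mk' N))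
        (e.surjective.comp (QuotientGroup.mk'_surjective N)) ?_]
      · exact card_sylow_two_five
      · rw [ker_comp_mk]
        exact fun n => ⟨1, Subtype.ext (by rw [SubgroupClass.coe_pow, pow_one]; exact hsq _ n.2)⟩
    unfold Nat.ModEq at hmod
    omega
  · exfalso
    haveI : Fact (Nat.Prime 7) := ⟨by norm_num⟩
    have hc : Nat.card X = 168 := by
      rw [Nat.card_congr e.toEquiv]
      exact CfsgLib.Classical.card_psl_two_eq (ZMod.card 7) 168 (by norm_num)
    obtain ⟨S₀⟩ : Nonempty (Sylow 7 X) := inferInstance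
    have hd := S₀.card_dvd_index
    have hi := (S₀ : Subgroup X).card_mul_index
    have hS₀ : Nat.card S₀ = 7 := by
      rw [Sylow.card_eq_multiplicity, hc, show (168 : ℕ) = 7 ^ 1 * 24 by norm_num,
        Nat.factorization_mul (by norm_num) (by norm_num), Finsupp.add_apply,
        Nat.Prime.factorization_pow (by norm_num), Finsupp.single_eq_same,
        Nat.factorization_eq_zero_of_not_dvd (by norm_num : ¬ 7 ∣ 24)]
      norm_num
    rw [hc, show Nat.card (S₀ : Subgroup X) = 7 from hS₀] at hi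
    rw [show (S₀ : Subgroup X).index = 24 by omega] at hd
    have hm : Nat.card (Sylow 7 X) % 7 = 1 := card_sylow_modEq_one 7 X
    have hn : ¬ 3 ∣ Nat.card (Sylow 7 X) := by
      intro h3
      have h24 := Nat.le_of_dvd (by norm_num) hd
      generalize Nat.card (Sylow 7 X) = n at *
      interval_cases n <;> omega
    obtain ⟨S, hS⟩ := hA.nonempty_fixed_point_of_prime_not_dvd_card (Sylow 7 X) hn
    obtain ⟨k, hk⟩ := IsPGroup.iff_card.1 (S.2 : IsPGroup 7 (S : Subgroup X))
    have h := Subgroup.card_dvd_of_le (hcov _ (hk ▸ Nat.Coprime.pow_left k (by norm_num))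
      (hfix 7 inferInstance S hS))
    obtain ⟨l, hl⟩ := IsPGroup.iff_card.1 hP
    have hS7 : 7 ∣ Nat.card (S : Subgroup X) := by
      have : Nat.card (S : Subgroup X) = Nat.card S₀ := by
        rw [show Nat.card (S : Subgroup X) = Nat.card S from rfl, Sylow.card_eq_multiplicity,
          Sylow.card_eq_multiplicity]
      rw [this, hS₀]
    have := (Nat.Prime.dvd_of_dvd_pow (by norm_num : Nat.Prime 7) (hl ▸ hS7.trans h))
    omega

/-- The covering lemma inside a group: `U` is central of exponent two in `L`. -/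
theorem local_cover {G : Type*} [Group G] [Finite G] {A : Subgroup G} (hA : IsPGroup 3 A)
    {L U P₀ : Subgroup G} {x : G} (hx3 : x ^ 3 = 1) (hx : x ≠ 1)
    (hAL : ∀ a ∈ A, ∀ g ∈ L, a * g * a⁻¹ ∈ L) (hUL : U ≤ L) (hUc : ∀ g ∈ L, ∀ u ∈ U, g * u = u * g)
    (hU2 : ∀ u ∈ U, u * u = 1) (hxL : x ∈ L) (hAU : ∀ a ∈ A, ∀ u ∈ U, a * u * a⁻¹ ∈ U)
    (hC : ∀ g ∈ L, g * x = x * g → ∃ u ∈ U, ∃ k : ℤ, g = u * x ^ k)
    (hUP : U ≤ P₀) (hPL : P₀ ≤ L) (hP2 : IsPGroup 2 P₀) (hAP : ∀ a ∈ A, ∀ p ∈ P₀, a * p * a⁻¹ ∈ P₀)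
    (hcov : ∀ T : Subgroup G, (Nat.card T).Coprime 3 → U ≤ T → T ≤ L → (∀ a ∈ A, ∀ t ∈ T, a * t * a⁻¹ ∈ T) →
      T ≤ P₀) :
    (∀ g ∈ L, ∀ p ∈ P₀, g * p * g⁻¹ ∈ P₀) ∧
    ∀ g ∈ L, ∃ p ∈ P₀, ∃ n ∈ L, g = p * n ∧ (n * x * n⁻¹ = x ∨ n * x * n⁻¹ = x⁻¹) := by
  haveI : Fact (Nat.Prime 2) := ⟨Nat.prime_two⟩
  haveI : Fact (Nat.Prime 3) := ⟨Nat.prime_three⟩
  haveI hUn : (U.subgroupOf L).Normal := ⟨fun u hu k => by
    have h1 : (k : G) * u * (k : G)⁻¹ = u := by
      rw [hUc k k.2 u (mem_subgroupOf.1 hu), mul_inv_cancel_right]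
    exact mem_subgroupOf.2 (by simpa [h1] using mem_subgroupOf.1 hu)⟩
  have hAn : A ≤ normalizer (L : Set G) := fun a ha => mem_normalizer_iff.2 fun g => ⟨hAL a ha g, fun hg => by
    have := hAL a⁻¹ (inv_mem ha) _ hg
    rwa [inv_inv, show a⁻¹ * (a * g * a⁻¹) * a = g by group] at this⟩
  have hmap : ∀ a : A, (U.subgroupOf L).map
      (((L.normalizerMonoidHom.comp (inclusion hAn)) a) : L ≃* L).toMonoidHom = U.subgroupOf L := by
    intro a
    refine eq_of_le_of_card_ge ?_ (card_map_of_injective (MulEquiv.injective _)).ge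
    rintro _ ⟨u, hu, rfl⟩
    exact mem_subgroupOf.2 (hAU a a.2 _ (mem_subgroupOf.1 hu))
  let φ : A →* MulAut (↥L ⧸ U.subgroupOf L) :=
    MonoidHom.mk' (fun a => QuotientGroup.congr (U.subgroupOf L) (U.subgroupOf L)
        ((L.normalizerMonoidHom.comp (inclusion hAn)) a : ↥L ≃* ↥L) (hmap a))
      fun a b => by
        refine MulEquiv.ext fun q => ?_
        induction q using QuotientGroup.induction_on with
        | H k =>
          show QuotientGroup.mk ((L.normalizerMonoidHom.comp (inclusion hAn)) (a * b) k) =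
            QuotientGroup.mk ((L.normalizerMonoidHom.comp (inclusion hAn)) a
              ((L.normalizerMonoidHom.comp (inclusion hAn)) b k))
          rw [map_mul]
          rfl
  set q := QuotientGroup.mk' (U.subgroupOf L) with hq
  have hq1 : ∀ g : L, q g = 1 ↔ (g : G) ∈ U := fun g =>
    (QuotientGroup.eq_one_iff g).trans mem_subgroupOf
  have hUx : x ∉ U := fun h => hx (by
    have := hU2 x h
    rwa [pow_succ, pow_two, this, one_mul] at hx3)
  have hxq : orderOf (q ⟨x, hxL⟩) = 3 := by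
    refine orderOf_eq_prime ?_ fun h => hUx ((hq1 _).1 h)
    rw [← map_pow, show (⟨x, hxL⟩ : L) ^ 3 = 1 from Subtype.ext (by simpa using hx3), map_one]
  -- commuting modulo `U` is commuting
  have hexact : ∀ g ∈ L, ∀ y : G, y ^ 3 = 1 → y ∈ L → g * x * g⁻¹ * y⁻¹ ∈ U → g * x * g⁻¹ = y := by
    intro g hg y hy hyL hu
    set u := g * x * g⁻¹ * y⁻¹
    have hgy : g * x * g⁻¹ = u * y := by rw [inv_mul_cancel_right]
    have hc : Commute u y := (hUc y hyL u hu).symm
    have h3 : u ^ 3 = 1 := by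
      have := congrArg (· ^ 3) hgy
      simp only [conj_pow, hx3, mul_one, mul_inv_cancel, hc.mul_pow, hy] at this
      exact this.symm
    rw [pow_succ, pow_two, hU2 u hu, one_mul] at h3
    rw [hgy, h3, one_mul]
  have hCq : ∀ g : ↥L ⧸ U.subgroupOf L, g * q ⟨x, hxL⟩ = q ⟨x, hxL⟩ * g → g ∈ zpowers (q ⟨x, hxL⟩) := by
    intro g hg
    obtain ⟨k, rfl⟩ := QuotientGroup.mk'_surjective _ g
    have h1 : (k : G) * x * (k : G)⁻¹ * x⁻¹ ∈ U := by
      refine (hq1 (k * ⟨x, hxL⟩ * k⁻¹ * ⟨x, hxL⟩⁻¹)).1 ?_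
      simp only [map_mul, map_inv]
      rw [show q k * q ⟨x, hxL⟩ = q ⟨x, hxL⟩ * q k from hg, mul_inv_cancel_right, mul_inv_cancel]
    obtain ⟨u, hu, n, hn⟩ := hC k k.2 (mul_inv_eq_iff_eq_mul.1 (hexact k k.2 x hx3 hxL h1))
    refine mem_zpowers_iff.2 ⟨n, ?_⟩
    have e : k = ⟨u, hUL hu⟩ * (⟨x, hxL⟩ : L) ^ n := Subtype.ext (by simpa using hn)
    rw [e, map_mul, map_zpow, (hq1 ⟨u, hUL hu⟩).2 hu, one_mul]
  set P := (P₀.subgroupOf L).map q with hP
  have hmemP : ∀ g : L, q g ∈ P ↔ (g : G) ∈ P₀ := by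
    intro g
    constructor
    · rintro ⟨p, hp, e⟩
      have := mem_subgroupOf.1 hp
      have h := (hq1 (p⁻¹ * g)).1 (by rw [map_mul, map_inv, e, inv_mul_cancel])
      simpa using mul_mem this (hUP h)
    · exact fun h => ⟨g, mem_subgroupOf.2 h, rfl⟩
  have hφq : ∀ (a : A) (g : L), φ a (q g) = q ⟨(a : G) * g * (a : G)⁻¹, hAL a a.2 g g.2⟩ := fun a g => rfl
  obtain ⟨hn, hdec⟩ := self_cent_cover hA φ hxq hCq P
    ((show IsPGroup 2 (P₀.subgroupOf L) from hP2.comap_subtype).map q)
    (fun a => by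
      refine eq_of_le_of_card_ge ?_ (card_map_of_injective (φ a).injective).ge
      rintro _ ⟨_, ⟨p, hp, rfl⟩, rfl⟩
      show φ a (q p) ∈ P
      rw [hφq, hmemP]
      exact hAP a a.2 _ (mem_subgroupOf.1 hp))
    (fun N hN hinv => by
      set T := (N.comap q).map L.subtype with hT
      have hmemT : ∀ g : L, (g : G) ∈ T ↔ q g ∈ N := fun g =>
        ⟨fun ⟨w, hw, e⟩ => Subtype.ext e ▸ hw, fun h => ⟨g, h, rfl⟩⟩
      have hTcard : (Nat.card T).Coprime 3 := by
        rw [hT, card_map_of_injective L.subtype_injective]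
        obtain ⟨j, hj⟩ := IsPGroup.iff_card.1 (hP2.to_le hUP)
        have h1 := Subgroup.relIndex_ker q (K := N.comap q)
        rw [QuotientGroup.ker_mk', map_comap_eq_self_of_surjective (QuotientGroup.mk'_surjective _)] at h1
        rw [← ((U.subgroupOf L).subgroupOf (N.comap q)).card_mul_index, show
          ((U.subgroupOf L).subgroupOf (N.comap q)).index = Nat.card N from h1,
          Nat.card_congr (subgroupOfEquivOfLe (fun u hu => show q u ∈ N by
            rw [(hq1 u).2 (mem_subgroupOf.1 hu)]; exact one_mem N)).toEquiv,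
          Nat.card_congr (subgroupOfEquivOfLe hUL).toEquiv, hj]
        exact Nat.Coprime.mul_left (Nat.Coprime.pow_left j (by norm_num)) hN
      have hle := hcov T hTcard
        (fun u hu => (hmemT ⟨u, hUL hu⟩).2 (by rw [(hq1 _).2 hu]; exact one_mem N)) (map_subtype_le _)
        (fun a ha t ht => by
          have htL : t ∈ L := map_subtype_le _ ht
          refine (hmemT ⟨_, hAL a ha t htL⟩).2 ?_
          rw [← hφq ⟨a, ha⟩ ⟨t, htL⟩, ← hinv ⟨a, ha⟩]
          exact ⟨_, (hmemT ⟨t, htL⟩).1 ht, rfl⟩)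
      intro y hy
      obtain ⟨g, rfl⟩ := QuotientGroup.mk'_surjective _ y
      exact (hmemP g).2 (hle ((hmemT g).2 hy)))
  refine ⟨fun g hg p hp => ?_, fun g hg => ?_⟩
  · exact (hmemP (⟨g, hg⟩ * ⟨p, hPL hp⟩ * ⟨g, hg⟩⁻¹)).1 (by
      rw [map_mul, map_mul, map_inv]; exact hn.conj_mem _ ((hmemP _).2 hp) _)
  · obtain ⟨p, hp, n, he, hn'⟩ := hdec (q ⟨g, hg⟩)
    obtain ⟨n, rfl⟩ := QuotientGroup.mk'_surjective _ n
    have hgn : (g : G) * (n : G)⁻¹ ∈ P₀ := (hmemP (⟨g, hg⟩ * n⁻¹)).1 (by
      rw [map_mul, map_inv, he, mul_inv_cancel_right]; exact hp)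
    refine ⟨_, hgn, n, n.2, (inv_mul_cancel_right g (n : G)).symm, ?_⟩
    rcases hn' with h | h
    · refine Or.inl (hexact n n.2 x hx3 hxL ((hq1 (n * ⟨x, hxL⟩ * n⁻¹ * ⟨x, hxL⟩⁻¹)).1 ?_))
      rw [map_mul, map_mul, map_mul, map_inv, map_inv, h, mul_inv_cancel]
    · refine Or.inr (hexact n n.2 x⁻¹ (by rw [inv_pow, hx3, inv_one]) (inv_mem hxL)
        ((hq1 (n * ⟨x, hxL⟩ * n⁻¹ * (⟨x, hxL⟩⁻¹)⁻¹)).1 ?_))
      rw [map_mul, map_mul, map_mul, map_inv, map_inv, map_inv, h, mul_inv_cancel]

/-- A `2`-group with a self-centralising four-group has no elementary abelian subgroup of order eight. -/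
theorem no_eight_two {T : Type*} [Group T] [Finite T] (hT : IsPGroup 2 T) (V W : Subgroup T)
    (hV : Nat.card V = 4) (hV2 : ∀ v ∈ V, v * v = 1) (hC : ∀ g : T, (∀ v ∈ V, g * v = v * g) → g ∈ V)
    (hWc : ∀ a ∈ W, ∀ b ∈ W, a * b = b * a) (hW2 : ∀ w ∈ W, w * w = 1) (hW : 8 ≤ Nat.card W) : False := by
  classical
  haveI : Fact (Nat.Prime 2) := ⟨Nat.prime_two⟩
  obtain ⟨U, hUn, hU4, hUc, hU2⟩ := CfsgLib.Invol.exists_normal_four hT hWc hW2 hW
  have hUcomm : ∀ a ∈ U, ∀ b ∈ U, a * b = b * a := fun a ha b hb =>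
    congrArg Subtype.val (hUc.is_comm.comm (⟨a, ha⟩ : U) ⟨b, hb⟩)
  haveI : Nontrivial T := by
    obtain ⟨v, hv, hv1⟩ : ∃ v ∈ V, v ≠ 1 := by
      by_contra h
      push Not at h
      rw [(eq_bot_iff_forall V).2 h, card_bot] at hV
      omega
    exact nontrivial_of_ne v 1 hv1
  obtain ⟨z₀, hz, hz1⟩ : ∃ z₀ ∈ center T, z₀ ≠ 1 := by
    by_contra h
    push Not at h
    exact (hT.bot_lt_center).ne' ((eq_bot_iff_forall _).2 h)
  have hzc : ∀ g : T, g * z₀ = z₀ * g := mem_center_iff.1 hz
  have hz₀V : z₀ ∈ V := hC z₀ fun v _ => (hzc v).symm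
  have hVc : ∀ a ∈ V, ∀ b ∈ V, a * b = b * a := fun a ha b hb => by
    have h := hV2 _ (mul_mem ha hb)
    rw [← inv_eq_of_mul_eq_one_right h, mul_inv_rev, inv_eq_of_mul_eq_one_right (hV2 a ha),
      inv_eq_of_mul_eq_one_right (hV2 b hb)]
  obtain ⟨v, hv, hv1, hvz⟩ : ∃ v ∈ V, v ≠ 1 ∧ v ≠ z₀ := by
    by_contra h
    push Not at h
    have : (Set.ncard (V : Set T)) ≤ 2 := by
      refine (Set.ncard_le_ncard (t := {1, z₀}) (fun x hx => ?_) (Set.toFinite _)).trans (Set.ncard_pair (Ne.symm hz1)).le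
      by_cases e : x = 1
      · exact Or.inl e
      · exact Or.inr (h x hx e)
    rw [← Nat.card_coe_set_eq] at this
    exact absurd this (by rw [show Nat.card (V : Set T) = 4 from hV]; norm_num)
  have four : ∀ {U : Subgroup T}, Nat.card U = 4 → ∀ a ∈ U, ∀ b ∈ U, a ≠ 1 → b ≠ 1 → a ≠ b → a * b ≠ 1 →
      ∀ x ∈ U, x = 1 ∨ x = a ∨ x = b ∨ x = a * b := by
    intro U hU a ha b hb ha1 hb1 hab hab1 x hx
    by_contra h
    push Not at h
    have hsub : (({1, a, b, a * b, x} : Finset T) : Set T) ⊆ U := by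
      intro y hy
      simp only [Finset.coe_insert, Finset.coe_singleton, Set.mem_insert_iff, Set.mem_singleton_iff] at hy
      rcases hy with rfl | rfl | rfl | rfl | rfl
      exacts [one_mem _, ha, hb, mul_mem ha hb, hx]
    have h5 : ({1, a, b, a * b, x} : Finset T).card = 5 := by
      obtain ⟨h1, h2, h3, h4⟩ := h
      rw [Finset.card_insert_of_notMem, Finset.card_insert_of_notMem, Finset.card_insert_of_notMem,
        Finset.card_insert_of_notMem, Finset.card_singleton] <;>
        simp [Ne.symm ha1, Ne.symm hb1, Ne.symm hab1, hab, Ne.symm h1, Ne.symm h2, Ne.symm h3, Ne.symm h4,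
          hb1, ha1]
    have := Set.ncard_le_ncard hsub (Set.toFinite _)
    rw [Set.ncard_coe_finset, h5, ← Nat.card_coe_set_eq, show Nat.card (U : Set T) = 4 from hU] at this
    omega
  have hzv1 : v * z₀ ≠ 1 := fun e => hvz ((eq_inv_of_mul_eq_one_left e).trans
    (inv_eq_of_mul_eq_one_right (hV2 z₀ hz₀V)))
  -- the centraliser of `v`
  have hCv : ∀ g : T, g * v = v * g → g = 1 ∨ g = v ∨ g = z₀ ∨ g = v * z₀ := by
    intro g hg
    refine four hV v hv z₀ hz₀V hv1 hz1 hvz hzv1 g (hC g fun x hx => ?_)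
    rcases four hV v hv z₀ hz₀V hv1 hz1 hvz hzv1 x hx with rfl | rfl | rfl | rfl
    · rw [mul_one, one_mul]
    · exact hg
    · exact hzc g
    · exact ((show Commute g v from hg).mul_right (hzc g)).eq
  have hUg : ∀ g : T, ∀ u ∈ U, g * u * g⁻¹ ∈ U := fun g u hu => hUn.conj_mem u hu g
  have hvi : v⁻¹ = v := inv_eq_of_mul_eq_one_right (hV2 v hv)
  set M := centralizer (U : Set T)
  have hM : ∀ g, g ∈ M ↔ ∀ u ∈ U, g * u = u * g := fun g => by
    rw [mem_centralizer_iff]
    exact ⟨fun h u hu => (h u hu).symm, fun h u hu => (h u hu).symm⟩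
  have hvM : v ∉ M := by
    intro hvM
    -- then `U = V`
    have hUV : U ≤ V := fun u hu => by
      rcases hCv u ((hM v).1 hvM u hu).symm with rfl | rfl | rfl | rfl
      exacts [one_mem _, hv, hz₀V, mul_mem hv hz₀V]
    have hUV' : U = V := eq_of_le_of_card_ge hUV (by rw [hV, hU4])
    have hMV : ∀ g, g ∈ M → g ∈ V := fun g hg => hC g fun x hx => (hM g).1 hg x (hUV'.symm ▸ hx)
    -- the action on `V` has image of order at most two
    have hidx : ∀ g h : T, g ∉ M → h ∉ M → g⁻¹ * h ∈ M := by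
      have key : ∀ g, g ∉ M → g * v * g⁻¹ = v * z₀ := by
        intro g hg
        rcases four hV v hv z₀ hz₀V hv1 hz1 hvz hzv1 _ (hUV (hUg g v (hUV'.symm ▸ hv))) with e | e | e | e
        · exact absurd (conj_eq_one_iff.1 e) hv1
        · exfalso
          refine hg ((hM g).2 fun u hu => ?_)
          rcases four hV v hv z₀ hz₀V hv1 hz1 hvz hzv1 u (hUV hu) with rfl | rfl | rfl | rfl
          · rw [mul_one, one_mul]
          · exact mul_inv_eq_iff_eq_mul.1 e
          · exact hzc g
          · exact ((show Commute g v from mul_inv_eq_iff_eq_mul.1 e).mul_right (hzc g)).eq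
        · exfalso
          rw [mul_inv_eq_iff_eq_mul, ← hzc g] at e
          exact hvz (mul_left_cancel e)
        · exact e
      intro g h hg hh
      refine (hM _).2 fun u hu => ?_
      have e : g⁻¹ * h * v * (g⁻¹ * h)⁻¹ = v := by
        rw [show g⁻¹ * h * v * (g⁻¹ * h)⁻¹ = g⁻¹ * (h * v * h⁻¹) * g by group, key h hh, ← key g hg]
        group
      rcases four hV v hv z₀ hz₀V hv1 hz1 hvz hzv1 u (hUV hu) with rfl | rfl | rfl | rfl
      · rw [mul_one, one_mul]
      · exact mul_inv_eq_iff_eq_mul.1 e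
      · exact hzc _
      · exact ((show Commute (g⁻¹ * h) v from mul_inv_eq_iff_eq_mul.1 e).mul_right (hzc _)).eq
    have h8 : Nat.card W ≤ 8 ∧ ¬ (Nat.card W = 8 ∧ True) := by
      refine ⟨?_, fun h => ?_⟩
      · by_cases hall : ∀ w ∈ W, w ∈ M
        · exact (card_le_of_le fun w hw => hMV w (hall w hw)).trans (by rw [hV]; norm_num)
        push Not at hall
        obtain ⟨g, hgW, hg⟩ := hall
        let f : W → V × Bool := fun w => if hw : (w : T) ∈ M then (⟨w, hMV _ hw⟩, true)
          else (⟨g⁻¹ * w, hMV _ (hidx g w hg hw)⟩, false)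
        have hf : Function.Injective f := by
          intro a b e
          simp only [f] at e
          split_ifs at e <;> simp only [Prod.mk.injEq, Subtype.mk.injEq, Bool.true_eq_false, Bool.false_eq_true,
            and_false, and_true, mul_right_inj] at e
          · exact Subtype.ext e
          · exact Subtype.ext e
        refine (Nat.card_le_card_of_injective f hf).trans ?_
        rw [Nat.card_prod, hV, Nat.card_eq_fintype_card, Fintype.card_bool]
      · obtain ⟨h, -⟩ := h
        -- then `W` contains `V`, hence is contained in it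
        have hVW : V ≤ W := by
          intro x hx
          by_cases hall : ∀ w ∈ W, w ∈ M
          · have := (card_le_of_le fun w hw => hMV w (hall w hw) : Nat.card W ≤ Nat.card V)
            omega
          push Not at hall
          obtain ⟨g, hgW, hg⟩ := hall
          let f : W → V × Bool := fun w => if hw : (w : T) ∈ M then (⟨w, hMV _ hw⟩, true)
            else (⟨g⁻¹ * w, hMV _ (hidx g w hg hw)⟩, false)
          have hf : Function.Bijective f := by
            refine (Nat.bijective_iff_injective_and_card f).2 ⟨?_, ?_⟩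
            · intro a b e
              simp only [f] at e
              split_ifs at e <;> simp only [Prod.mk.injEq, Subtype.mk.injEq, Bool.true_eq_false,
                Bool.false_eq_true, and_false, and_true, mul_right_inj] at e
              · exact Subtype.ext e
              · exact Subtype.ext e
            · rw [Nat.card_prod, hV, Nat.card_eq_fintype_card (α := Bool), Fintype.card_bool, h]
          obtain ⟨w, hw⟩ := hf.2 (⟨x, hx⟩, true)
          simp only [f] at hw
          split_ifs at hw <;> simp only [Prod.mk.injEq, Subtype.mk.injEq, Bool.false_eq_true, and_false,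
            and_true] at hw
          exact hw ▸ w.2
        have hWV : W ≤ V := fun w hw => hC w fun x hx => hWc w hw x (hVW hx)
        have := card_le_of_le hWV
        omega
    exact h8.2 ⟨by omega, trivial⟩
  -- an element of `U` moved by `v`
  obtain ⟨w, hwU, hwv⟩ : ∃ w ∈ U, v * w ≠ w * v := by
    by_contra h
    push Not at h
    exact hvM ((hM v).2 h)
  have hwc : v * w * v ∈ U := by have := hUg v w hwU; rwa [hvi] at this
  have hfix : ∀ g, v * g * v = g → g * v = v * g := fun g e => by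
    calc g * v = v * g * v * v := by rw [e]
      _ = v * g := by rw [mul_assoc _ v v, hV2 v hv, mul_one]
  have hvvU : ∀ u ∈ U, v * u = u * v → u = 1 ∨ u = z₀ := by
    intro u hu hc
    rcases hCv u hc.symm with rfl | rfl | rfl | rfl
    · exact Or.inl rfl
    · exact absurd (hUcomm _ hu _ hwU) hwv
    · exact Or.inr rfl
    · exfalso
      refine hwv ?_
      have := hUcomm _ hu _ hwU
      calc v * w = (v * z₀) * w * z₀⁻¹ := by rw [mul_assoc v, ← hzc w]; group
        _ = w * (v * z₀) * z₀⁻¹ := by rw [this]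
        _ = w * v := by group
  have hvw : v * w * v = w * z₀ := by
    have hp : v * (w * (v * w * v)) * v = w * (v * w * v) := by
      calc v * (w * (v * w * v)) * v = (v * w * v) * (w * (v * v)) := by group
        _ = w * (v * w * v) := by rw [hV2 v hv, mul_one, hUcomm _ hwc _ hwU]
    rcases hvvU _ (mul_mem hwU hwc) (hfix _ hp).symm with e | e
    · exfalso
      refine hwv (hfix w ?_).symm
      rw [eq_inv_of_mul_eq_one_right e, inv_eq_of_mul_eq_one_right (hU2 w hwU)]
    · rw [← e, ← mul_assoc, hU2 w hwU, one_mul]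
  have hCM : ∀ g, g ∈ M → v * g * v = g → g = 1 ∨ g = z₀ := by
    intro g hg e
    have hgw := (hM g).1 hg w hwU
    rcases hCv g (hfix g e) with rfl | rfl | rfl | rfl
    · exact Or.inl rfl
    · exact absurd hgw hwv
    · exact Or.inr rfl
    · exfalso
      refine hwv ?_
      calc v * w = (v * z₀) * w * z₀⁻¹ := by rw [mul_assoc v, ← hzc w]; group
        _ = w * (v * z₀) * z₀⁻¹ := by rw [hgw]
        _ = w * v := by group
  have hzU : z₀ ∈ U := by
    have := mul_mem (inv_mem hwU) hwc
    rwa [hvw, inv_mul_cancel_left] at this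
  have hwz : w ≠ 1 ∧ w ≠ z₀ := ⟨fun e => hwv (by rw [e, mul_one, one_mul]), fun e => hwv (e ▸ hzc v)⟩
  have hwz1 : w * z₀ ≠ 1 := fun e => hwz.2 ((eq_inv_of_mul_eq_one_left e).trans
    (inv_eq_of_mul_eq_one_right (hU2 z₀ hzU)))
  -- an element of `W` in `M` outside `U`
  obtain ⟨x, hxW, hxM, hxU⟩ : ∃ x ∈ W, x ∈ M ∧ x ∉ U := by
    by_contra h
    push Not at h
    have key : ∀ g, g ∉ M → g * w * g⁻¹ = w * z₀ := by
      intro g hg
      rcases four hU4 w hwU z₀ hzU hwz.1 hz1 hwz.2 hwz1 _ (hUg g w hwU) with e | e | e | e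
      · exact absurd (conj_eq_one_iff.1 e) hwz.1
      · exfalso
        refine hg ((hM g).2 fun u hu => ?_)
        rcases four hU4 w hwU z₀ hzU hwz.1 hz1 hwz.2 hwz1 u hu with rfl | rfl | rfl | rfl
        · rw [mul_one, one_mul]
        · exact mul_inv_eq_iff_eq_mul.1 e
        · exact hzc g
        · exact ((show Commute g w from mul_inv_eq_iff_eq_mul.1 e).mul_right (hzc g)).eq
      · exfalso
        rw [mul_inv_eq_iff_eq_mul, ← hzc g] at e
        exact hwz.2 (mul_left_cancel e)
      · exact e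
    by_cases hall : ∀ a ∈ W, a ∈ M
    · have := card_le_of_le (fun a ha => h a ha (hall a ha) : W ≤ U)
      omega
    push Not at hall
    obtain ⟨g, hgW, hg⟩ := hall
    have hidx : ∀ a ∈ W, a ∉ M → g⁻¹ * a ∈ U := by
      intro a ha haM
      refine h _ (mul_mem (inv_mem hgW) ha) ((hM _).2 fun u hu => ?_)
      have e : g⁻¹ * a * w * (g⁻¹ * a)⁻¹ = w := by
        rw [show g⁻¹ * a * w * (g⁻¹ * a)⁻¹ = g⁻¹ * (a * w * a⁻¹) * g by group, key a haM, ← key g hg]
        group
      rcases four hU4 w hwU z₀ hzU hwz.1 hz1 hwz.2 hwz1 u hu with rfl | rfl | rfl | rfl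
      · rw [mul_one, one_mul]
      · exact mul_inv_eq_iff_eq_mul.1 e
      · exact hzc _
      · exact ((show Commute (g⁻¹ * a) w from mul_inv_eq_iff_eq_mul.1 e).mul_right (hzc _)).eq
    let f : W → U × Bool := fun a => if ha : (a : T) ∈ M then (⟨a, h _ a.2 ha⟩, true)
      else (⟨g⁻¹ * a, hidx _ a.2 ha⟩, false)
    have hf : Function.Injective f := by
      intro a b e
      simp only [f] at e
      split_ifs at e <;> simp only [Prod.mk.injEq, Subtype.mk.injEq, Bool.true_eq_false, Bool.false_eq_true,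
        and_false, and_true, mul_right_inj] at e
      · exact Subtype.ext e
      · exact Subtype.ext e
    have h8 : Nat.card (U × Bool) = 8 := by
      rw [Nat.card_prod, hU4, Nat.card_eq_fintype_card, Fintype.card_bool]
    have hb : Function.Bijective f := (Nat.bijective_iff_injective_and_card f).2
      ⟨hf, le_antisymm (Nat.card_le_card_of_injective f hf) (by rw [h8]; exact hW)⟩
    obtain ⟨a, ha⟩ := hb.2 (⟨w, hwU⟩, true)
    simp only [f] at ha
    split_ifs at ha <;> simp only [Prod.mk.injEq, Subtype.mk.injEq, Bool.false_eq_true, and_false,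
      and_true] at ha
    have hwW : w ∈ W := ha ▸ a.2
    have := key g hg
    rw [hWc g hgW w hwW, mul_inv_cancel_right] at this
    exact hz1 (left_eq_mul.1 this)
  have hxx : x * x = 1 := hW2 x hxW
  have hvv : ∀ g, v * (v * g * v) * v = g := fun g => by
    rw [show v * (v * g * v) * v = (v * v) * g * (v * v) by group, hV2 v hv, one_mul, mul_one]
  have hconj : ∀ g h, v * g * v * (v * h * v) = v * (g * h) * v := fun g h => by
    rw [show v * g * v * (v * h * v) = v * g * (v * v) * h * v by group, hV2 v hv, mul_one, mul_assoc v g h]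
  have hvM' : ∀ g, g ∈ M → v * g * v ∈ M := fun g hg => (hM _).2 fun u hu => by
    have h1 := (hM g).1 hg (v * u * v) (by have := hUg v u hu; rwa [hvi] at this)
    have := congrArg (fun t => v * t * v) h1
    rw [← hconj g (v * u * v), ← hconj (v * u * v) g, hvv] at this
    exact this
  set c := x * (v * x * v) with hcdef
  have hcM : c ∈ M := mul_mem hxM (hvM' x hxM)
  have hc : v * c * v = c⁻¹ := by
    rw [hcdef, ← hconj, hvv, mul_inv_rev, inv_eq_of_mul_eq_one_right hxx, mul_inv_rev, mul_inv_rev, hvi,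
      inv_eq_of_mul_eq_one_right hxx, mul_assoc v x v]
  have hxmem : ∀ g, g ∈ M → v * g * v = g → g ∈ U := fun g hg e => by
    rcases hCM g hg e with rfl | rfl
    exacts [one_mem _, hzU]
  have hwM : w ∈ M := (hM w).2 fun u hu => hUcomm w hwU u hu
  obtain ⟨k, hk⟩ := hT c
  obtain ⟨j, -, hj⟩ := (Nat.dvd_prime_pow Nat.prime_two).1 (orderOf_dvd_of_pow_eq_one hk)
  have hcpow : c ^ 2 ^ j = 1 := hj ▸ pow_orderOf_eq_one c
  match j, hj, hcpow with
  | 0, _, hcpow =>
    rw [pow_zero, pow_one] at hcpow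
    refine hxU (hxmem x hxM ?_)
    rw [eq_inv_of_mul_eq_one_right hcpow, inv_eq_of_mul_eq_one_right hxx]
  | 1, hj, hcpow =>
    have hcc : c * c = 1 := by rwa [pow_one, pow_two] at hcpow
    have hcfix : v * c * v = c := by rw [hc, inv_eq_of_mul_eq_one_right hcc]
    rcases hCM c hcM hcfix with e | e
    · rw [e, orderOf_one] at hj; omega
    have hvx : v * x * v = x * z₀ := by rw [← e, hcdef, ← mul_assoc, hxx, one_mul]
    refine hxU ?_
    have hxw : x * w ∈ U := by
      refine hxmem _ (mul_mem hxM hwM) ?_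
      rw [← hconj, hvx, hvw]
      calc x * z₀ * (w * z₀) = x * (z₀ * w) * z₀ := by group
        _ = x * w * (z₀ * z₀) := by rw [← hzc w]; group
        _ = x * w := by rw [hU2 z₀ hzU, mul_one]
    simpa [mul_assoc, hU2 w hwU] using mul_mem hxw hwU
  | i + 2, hj, hcpow =>
    set y := c ^ 2 ^ i with hy
    have hy2 : y * y = c ^ 2 ^ (i + 1) := by rw [hy, ← pow_add, pow_succ, mul_two]
    have hpow : ∀ n : ℕ, v * c ^ n * v = (c ^ n)⁻¹ := fun n => by
      have := conj_pow (i := n) (a := v) (b := c)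
      rw [hvi, hc, inv_pow] at this
      exact this.symm
    have ht : y * y * (y * y) = 1 := by rw [hy2, ← pow_add, ← two_mul, ← pow_succ', hcpow]
    have ht1 : y * y ≠ 1 := fun e => by
      rw [hy2] at e
      have := Nat.le_of_dvd (by positivity) (orderOf_dvd_of_pow_eq_one e)
      rw [hj, pow_succ] at this
      have := (Nat.pow_pos (n := i + 1) (by norm_num : 0 < 2))
      omega
    have hyz : y * y = z₀ := by
      refine (hCM _ (mul_mem (pow_mem hcM _) (pow_mem hcM _)) ?_).resolve_left ht1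
      rw [hy2, hpow, ← hy2, inv_eq_of_mul_eq_one_right ht]
    have hvy : v * y * v = y * z₀ := by
      rw [hy, hpow, ← hy]
      refine inv_eq_of_mul_eq_one_right ?_
      rw [← mul_assoc, hyz, hU2 z₀ hzU]
    have hyw : y * w ∈ U := by
      refine hxmem _ (mul_mem (pow_mem hcM _) hwM) ?_
      rw [← hconj, hvy, hvw]
      calc y * z₀ * (w * z₀) = y * (z₀ * w) * z₀ := by group
        _ = y * w * (z₀ * z₀) := by rw [← hzc w]; group
        _ = y * w := by rw [hU2 z₀ hzU, mul_one]
    have hyU : y ∈ U := by simpa [mul_assoc, hU2 w hwU] using mul_mem hyw hwU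
    exact ht1 (hU2 y hyU)

/-- A four-group containing every `2`-element of its centraliser excludes elementary abelian eights. -/
theorem no_eight {Y : Type*} [Group Y] [Finite Y] (V W : Subgroup Y)
    (hV : Nat.card V = 4) (hV2 : ∀ v ∈ V, v * v = 1)
    (hC : ∀ g : Y, (∀ v ∈ V, g * v = v * g) → (∃ k : ℕ, g ^ 2 ^ k = 1) → g ∈ V)
    (hWc : ∀ a ∈ W, ∀ b ∈ W, a * b = b * a) (hW2 : ∀ w ∈ W, w * w = 1) (hW : 8 ≤ Nat.card W) : False := by
  haveI : Fact (Nat.Prime 2) := ⟨Nat.prime_two⟩
  obtain ⟨S, hS⟩ := (IsPGroup.of_card (p := 2) (n := 2) (hV.trans (by norm_num))).exists_le_sylow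
  have hWp : IsPGroup 2 W := fun w => ⟨1, Subtype.ext (by rw [Subgroup.coe_pow, pow_one, pow_two]; exact hW2 w w.2)⟩
  obtain ⟨S', hS'⟩ := hWp.exists_le_sylow
  obtain ⟨g, hg⟩ := MulAction.exists_smul_eq Y S' S
  set W' := W.map (MulAut.conj g).toMonoidHom
  have hW'S : W' ≤ S := by
    rw [← hg, Sylow.coe_subgroup_smul]
    rintro _ ⟨x, hx, rfl⟩
    exact ⟨x, hS' hx, rfl⟩
  refine no_eight_two (T := (S : Subgroup Y)) S.2 (V.subgroupOf S) (W'.subgroupOf S) ?_ ?_ ?_ ?_ ?_ ?_
  · rw [Nat.card_congr (subgroupOfEquivOfLe hS).toEquiv, hV]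
  · exact fun v hv => Subtype.ext (hV2 v (mem_subgroupOf.1 hv))
  · intro t ht
    obtain ⟨k, hk⟩ := S.2 t
    refine mem_subgroupOf.2 (hC t (fun v hv => congrArg Subtype.val (ht ⟨v, hS hv⟩ (mem_subgroupOf.2 hv))) ⟨k, ?_⟩)
    exact congrArg Subtype.val hk
  · rintro ⟨_, _⟩ ha ⟨_, _⟩ hb
    obtain ⟨a, ha', rfl⟩ := mem_subgroupOf.1 ha
    obtain ⟨b, hb', rfl⟩ := mem_subgroupOf.1 hb
    refine Subtype.ext ?_
    simp only [Subgroup.coe_mul, ← map_mul, hWc a ha' b hb']
  · rintro ⟨_, _⟩ ha
    obtain ⟨a, ha', rfl⟩ := mem_subgroupOf.1 ha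
    refine Subtype.ext ?_
    simp only [Subgroup.coe_mul, Subgroup.coe_one, ← map_mul, hW2 a ha', map_one]
  · rw [Nat.card_congr (subgroupOfEquivOfLe hW'S).toEquiv, card_map_of_injective (MulAut.conj g).injective]
    exact hW

end CfsgLib.Recog.SpSixThree
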