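import Cfsg.Prelude
import Mathlib.LinearAlgebra.Matrix.SpecialLinearGroup
import Mathlib.GroupTheory.Perm.Fin

/-!
# An element of order three with centralizer `3^(1+2) : SL₂(3)`: the local data
-/

set_option autoImplicit false

namespace CfsgLib.Recog.SpSixThree

/-- The hypotheses: `a` of order three, `R = O₃(C(a))`, the elementary abelian subgroup `J`. -/
structure Base (G : Type*) [Group G] where
  a : G
  ha : orderOf a = 3
  R : Subgroup G
  R_ext : Cfsg.IsExtraspecial 3 ↥R
  R_card : Nat.card R = 27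
  R_exp : ∀ r ∈ R, r ^ 3 = 1
  sl : ↥(Subgroup.centralizer ({a} : Set G)) →* Matrix.SpecialLinearGroup (Fin 2) (ZMod 3)
  sl_surj : Function.Surjective sl
  sl_ker : sl.ker.map (Subgroup.centralizer ({a} : Set G)).subtype = R
  J : Subgroup G
  J_le : J ≤ Subgroup.centralizer ({a} : Set G)
  J_comm : ∀ x ∈ J, ∀ y ∈ J, x * y = y * x
  J_exp : ∀ j ∈ J, j ^ 3 = 1
  J_card : Nat.card J = 27
  sig : ∀ K : Subgroup G, (Nat.card K).Coprime 3 → J ≤ Subgroup.normalizer (K : Set G) → K = ⊥

namespace Base

variable {G : Type*} [Group G] (B : Base G)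

/-- The centralizer of `a`. -/
abbrev C : Subgroup G := Subgroup.centralizer ({B.a} : Set G)

/-- The normalizer of `J`. -/
abbrev M : Subgroup G := Subgroup.normalizer (B.J : Set G)

/-- `a` is conjugate to its inverse. -/
def Inv : Prop := ∃ g : G, g * B.a * g⁻¹ = B.a⁻¹

end Base

/-- The coordinates of `J`. -/
abbrev Vec : Type := Fin 3 → ZMod 3

/-- A signed permutation. -/
abbrev Code : Type := (Fin 3 → Bool) × Equiv.Perm (Fin 3)

/-- The action of a signed permutation: permute, then change the marked signs. -/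
def sact (w : Code) (v : Vec) : Vec := fun j =>
  if w.1 j then -v (w.2.symm j) else v (w.2.symm j)

/-- The vector of the frame. -/
def evec (k : Fin 3) : Vec := fun j => if j = k then 1 else 0

/-- A coordinate frame of `J` permuted by its normalizer, in which `a` is `(1,1,1)`. -/
structure Frame {G : Type*} [Group G] (B : Base G) where
  f : Multiplicative Vec →* G
  f_inj : Function.Injective f
  f_range : f.range = B.J
  f_a : f (Multiplicative.ofAdd (fun _ => 1)) = B.a
  /-- every element of the normalizer is a signed permutation -/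
  code : ∀ g ∈ B.M, ∃ w : Code, ∀ v : Vec,
    g * f (Multiplicative.ofAdd v) * g⁻¹ = f (Multiplicative.ofAdd (sact w v))
  /-- all permutations and all even sign changes occur -/
  lift : ∀ w : Code, (((w.1 0) ^^ (w.1 1)) ^^ (w.1 2)) = false → ∃ g ∈ B.M, ∀ v : Vec,
    g * f (Multiplicative.ofAdd v) * g⁻¹ = f (Multiplicative.ofAdd (sact w v))

namespace Frame

variable {G : Type*} [Group G] {B : Base G} (F : Frame B)

/-- The element of `J` with the given coordinates. -/
def el (v : Vec) : G := F.f (Multiplicative.ofAdd v)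

/-- The frame elements. -/
def e (k : Fin 3) : G := F.el (evec k)

end Frame

/-- The frame together with a complement `2 × S₄` of `J`, for `a` conjugate to its inverse. -/
structure FullFrame {G : Type*} [Group G] (B : Base G) extends Frame B where
  /-- the sign changes -/
  r : Fin 3 → G
  /-- the coordinate permutations -/
  p : Equiv.Perm (Fin 3) →* G
  r_sq : ∀ k, r k * r k = 1
  r_comm : ∀ k l, r k * r l = r l * r k
  r_el : ∀ k v, r k * f (Multiplicative.ofAdd v) * r k =
    f (Multiplicative.ofAdd (Function.update v k (-v k)))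
  p_el : ∀ π v, p π * f (Multiplicative.ofAdd v) * (p π)⁻¹ =
    f (Multiplicative.ofAdd (fun j => v (π.symm j)))
  p_r : ∀ π k, p π * r k * (p π)⁻¹ = r (π k)
  norm : ∀ g ∈ B.M, ∃ (v : Vec) (s : Fin 3 → Bool) (π : Equiv.Perm (Fin 3)),
    g = f (Multiplicative.ofAdd v) * ((if s 0 then r 0 else 1) * (if s 1 then r 1 else 1) *
      (if s 2 then r 2 else 1)) * p π

namespace FullFrame

variable {G : Type*} [Group G] {B : Base G} (F : FullFrame B)

/-- The centralizer of a frame element is contained in the normalizer of `J`. -/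
def Small : Prop := ∀ k, Subgroup.centralizer ({F.e k} : Set G) ≤ B.M

/-- The centralizer of a frame element is `S₆` over that element. -/
def Six : Prop := ∀ k, ∃ ψ : ↥(Subgroup.centralizer ({F.e k} : Set G)) →* Equiv.Perm (Fin 6),
  Function.Surjective ψ ∧
    ψ.ker.map (Subgroup.centralizer ({F.e k} : Set G)).subtype = Subgroup.zpowers (F.e k)

end FullFrame

/-- `C(e₂) = ⟨e₂⟩ × S₆` in coordinates. -/
structure SixChart {G : Type*} [Group G] {B : Base G} (F : FullFrame B) where
  φ : Equiv.Perm (Fin 6) →* G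
  φ_inj : Function.Injective φ
  φ_comm : ∀ σ, φ σ * F.e 2 = F.e 2 * φ σ
  dec : ∀ g, g * F.e 2 = F.e 2 * g → ∃ (n : Fin 3) (σ : Equiv.Perm (Fin 6)),
    g = F.e 2 ^ n.val * φ σ
  φ_e0 : φ (Equiv.swap 0 1 * Equiv.swap 1 2) = F.e 0
  φ_e1 : φ (Equiv.swap 3 4 * Equiv.swap 4 5) = F.e 1
  φ_r0 : φ (Equiv.swap 1 2) = F.r 0
  φ_r1 : φ (Equiv.swap 4 5) = F.r 1
  φ_p : φ (Equiv.swap 0 3 * Equiv.swap 1 4 * Equiv.swap 2 5) = F.p (Equiv.swap 0 1)
  φ_r2 : ∀ σ, F.r 2 * φ σ * F.r 2 = φ σ

end CfsgLib.Recog.SpSixThree
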