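import Cfsg.Agent.Lib.AmalgamSpThree.Finish
import Cfsg.Agent.Lib.Recog.U4Two.Model

/-!
# From a subgroup `PSp₄(3)` holding the centralizer of an involution to the whole group
-/

set_option autoImplicit false
set_option linter.unusedSectionVars false
set_option linter.style.haveILetI false

namespace CfsgLib.SpSixThree.First

open Subgroup
open CfsgLib.Recog.U4Two

/-- A subgroup isomorphic to `PSp₄(3)` containing the centralizer of one of its involutions, with
centralizer of order 576, is everything up to isomorphism. -/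
theorem psp_of_cent {G : Type*} [Group G] [Finite G] (G₀ : Subgroup G) {F : Type*} [Field F] [Fintype F]
    (hF : Fintype.card F = 3) (ψ : G₀ ≃* Cfsg.PSp 2 F) (hord : Nat.card G₀ = 25920) (i : G₀)
    (hi : i ≠ 1) (hi2 : i * i = 1)
    (hcard : Nat.card (Subgroup.centralizer ({i} : Set G₀)) = 576)
    (hle : Subgroup.centralizer ({(i : G)} : Set G) ≤ G₀) : Nonempty (G ≃* Cfsg.PSp 2 F) := by
  haveI : Fact (Nat.Prime 2) := ⟨Nat.prime_two⟩
  obtain ⟨f, hf⟩ := exists_hom hF
  have M := cfg_model hF f hf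
  obtain ⟨S, hS⟩ := M.exists_sylow
  obtain ⟨y, hy⟩ : ∃ y, y = ψ i := ⟨_, rfl⟩
  -- a Sylow subgroup centralizing `y`
  obtain ⟨T, hT⟩ := Sylow.exists_subgroup_card_pow_prime (G := Subgroup.centralizer ({i} : Set G₀)) 2
    (n := 6) (by rw [hcard]; norm_num)
  obtain ⟨T', hT'⟩ : ∃ T', T' = (T.map (Subgroup.centralizer ({i} : Set G₀)).subtype).map ψ.toMonoidHom :=
    ⟨_, rfl⟩
  have hT'c : Nat.card T' = 64 := by
    rw [hT', card_map_of_injective ψ.injective, card_map_of_injective (Subtype.val_injective), hT]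
    norm_num
  have hfac : (Nat.card (Cfsg.PSp 2 F)).factorization 2 = 6 := by
    rw [← Nat.card_congr ψ.toEquiv, hord, show (25920 : ℕ) = 2 ^ 6 * 405 from rfl,
      Nat.factorization_mul (by norm_num) (by norm_num), Finsupp.add_apply,
      Nat.Prime.factorization_pow Nat.prime_two, Finsupp.single_eq_same,
      Nat.factorization_eq_zero_of_not_dvd (show ¬ 2 ∣ 405 by norm_num)]
  obtain ⟨P, hP⟩ : ∃ P : Sylow 2 (Cfsg.PSp 2 F), (P : Subgroup (Cfsg.PSp 2 F)) = T' :=
    ⟨Sylow.ofCard T' (by rw [hT'c, hfac]; rfl), Sylow.coe_ofCard _ _⟩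
  have hcomm : ∀ u ∈ T', u * y = y * u := by
    rw [hT']
    rintro _ ⟨_, ⟨v, -, rfl⟩, rfl⟩
    show ψ v * y = y * ψ v
    rw [hy, ← map_mul, ← map_mul, mem_centralizer_singleton_iff.1 v.2]
  have hyP : y ∈ (P : Subgroup (Cfsg.PSp 2 F)) := by
    have hz : IsPGroup 2 (Subgroup.zpowers y) := by
      refine IsPGroup.of_card (n := 1) ?_
      rw [Nat.card_zpowers, pow_one]
      refine orderOf_eq_prime (by rw [hy, pow_two, ← map_mul, hi2, map_one]) ?_
      rw [hy]
      exact fun e => hi (ψ.injective (e.trans (map_one ψ).symm))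
    have hn : Subgroup.zpowers y ≤ Subgroup.normalizer ((P : Subgroup (Cfsg.PSp 2 F)) : Set _) := by
      rw [zpowers_le]
      refine centralizer_le_normalizer _ fun u hu => ?_
      exact hcomm u (hP ▸ hu)
    have h := P.is_maximal' (P.isPGroup'.to_sup_of_normal_left' hz hn) le_sup_left
    exact h.le (mem_sup_right (mem_zpowers y))
  obtain ⟨g, hg⟩ := MulAction.exists_smul_eq (Cfsg.PSp 2 F) P S
  have hin : ∀ {a}, a ∈ (P : Subgroup (Cfsg.PSp 2 F)) → g * a * g⁻¹ ∈ M.ssub := fun ha => by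
    rw [← hS, ← hg]; exact ⟨_, ha, rfl⟩
  obtain ⟨c, hc, hce⟩ := hin hyP
  have hcz : c = Cm.zc := by
    refine (center_inS c hc fun q hq => M.inj ?_).resolve_left fun h => ?_
    · rw [map_mul, map_mul, hce]
      have hq' : psiHom f q ∈ M.ssub := ⟨q, hq, rfl⟩
      rw [← hS, ← hg] at hq'
      obtain ⟨a, ha, hae⟩ := hq'
      rw [← hae]
      show g * y * g⁻¹ * (g * a * g⁻¹) = g * a * g⁻¹ * (g * y * g⁻¹)
      rw [show g * y * g⁻¹ * (g * a * g⁻¹) = g * (y * a) * g⁻¹ by group, ← hcomm a (hP ▸ ha)]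
      group
    · rw [h, map_one, eq_comm, conj_eq_one_iff, hy] at hce
      exact hi (ψ.injective (hce.trans (map_one ψ).symm))
  rw [hcz] at hce
  obtain ⟨k, hk⟩ : ∃ k : G₀, k = ψ.symm g := ⟨_, rfl⟩
  obtain ⟨φ, hφ⟩ : ∃ φ : Cm →* G, φ = G₀.subtype.comp (ψ.symm.toMonoidHom.comp (psiHom f)) :=
    ⟨_, rfl⟩
  obtain ⟨t, ht⟩ : ∃ t, t = φ Cm.zc := ⟨_, rfl⟩
  have hti : t = (k : G) * i * (k : G)⁻¹ := by
    rw [ht, hφ]
    show ((ψ.symm (psiHom f Cm.zc) : G₀) : G) = _
    rw [hce, map_mul, map_mul, map_inv, hy, MulEquiv.symm_apply_apply, ← hk]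
    rfl
  have hinj : Function.Injective φ := by
    rw [hφ]
    exact (Subtype.val_injective.comp ψ.symm.injective).comp M.inj
  have hrange : ∀ x : G, x * t = t * x ↔ ∃ c, φ c = x := by
    intro x
    constructor
    · intro hx
      have hxG : x ∈ G₀ := by
        have h1 : (k : G)⁻¹ * x * k ∈ Subgroup.centralizer ({(i : G)} : Set G) := by
          rw [mem_centralizer_singleton_iff]
          calc (k : G)⁻¹ * x * k * i = (k : G)⁻¹ * (x * t) * k := by rw [hti]; group
            _ = (k : G)⁻¹ * (t * x) * k := by rw [hx]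
            _ = _ := by rw [hti]; group
        have := mul_mem (mul_mem k.2 (hle h1)) (inv_mem k.2)
        rwa [show (k : G) * ((k : G)⁻¹ * x * k) * (k : G)⁻¹ = x by group] at this
      have h2 : (⟨x, hxG⟩ : G₀) * ψ.symm (psiHom f Cm.zc) =
          ψ.symm (psiHom f Cm.zc) * ⟨x, hxG⟩ := Subtype.ext (by
        rw [ht, hφ] at hx
        exact hx)
      have h3 := congrArg ψ h2
      rw [map_mul, map_mul, MulEquiv.apply_symm_apply] at h3
      obtain ⟨c, hc⟩ := (M.range _).1 h3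
      refine ⟨c, ?_⟩
      rw [hφ]
      show ((ψ.symm (psiHom f c) : G₀) : G) = x
      rw [hc, MulEquiv.symm_apply_apply]
    · rintro ⟨c, rfl⟩
      rw [ht, ← map_mul, ← map_mul, zc_central]
  -- a Sylow subgroup of `G` lies in `G₀`
  obtain ⟨U, hU⟩ : ∃ U : Subgroup G, U = (M.ssub.map ψ.symm.toMonoidHom).map G₀.subtype := ⟨_, rfl⟩
  have hUc : Nat.card U = 2 ^ 6 := by
    rw [hU, card_map_of_injective G₀.subtype_injective, card_map_of_injective ψ.symm.injective, M.card_ssub]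
    rfl
  have hUmem : ∀ x, x ∈ U ↔ ∃ c, Cm.inS c = true ∧ φ c = x := fun x => by
    rw [hU, hφ]
    constructor
    · rintro ⟨_, ⟨_, ⟨c, hc, rfl⟩, rfl⟩, rfl⟩
      exact ⟨c, hc, rfl⟩
    · rintro ⟨c, hc, rfl⟩
      exact ⟨_, ⟨_, ⟨c, hc, rfl⟩, rfl⟩, rfl⟩
  have h128 : ¬ 2 ^ 7 ∣ Nat.card G := by
    intro hd
    obtain ⟨K, hK, hUK⟩ := Sylow.exists_subgroup_card_pow_succ (n := 6) hd (H := U) hUc
    have hidx : (U.subgroupOf K).index = 2 := by
      have h := (U.subgroupOf K).card_mul_index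
      rw [Nat.card_congr (Subgroup.subgroupOfEquivOfLe hUK).toEquiv, hUc, hK] at h
      omega
    haveI := Subgroup.normal_of_index_eq_two hidx
    have hn : K ≤ Subgroup.normalizer (U : Set G) :=
      (normal_subgroupOf_iff_le_normalizer hUK).1 inferInstance
    have hKR : K ≤ φ.range := by
      intro x hx
      refine (hrange x).1 ?_
      have htU : t ∈ U := (hUmem t).2 (by
        obtain ⟨c, hc, hc'⟩ := M.t_mem_ssub
        exact ⟨c, hc, by rw [ht]; exact congrArg φ (M.inj hc')⟩)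
      obtain ⟨c, hc, hcx⟩ := (hUmem _).1 ((mem_normalizer_iff.1 (hn hx) t).1 htU)
      have hcz : c = 1 ∨ c = Cm.zc := center_inS c hc fun q hq => hinj (by
        rw [map_mul, map_mul, hcx]
        obtain ⟨q', hq', hq'x⟩ := (hUmem _).1 ((mem_normalizer_iff''.1 (hn hx) (φ q)).1 ((hUmem _).2 ⟨q, hq, rfl⟩))
        have h1 : φ q' * t = t * φ q' := (hrange _).2 ⟨q', rfl⟩
        rw [hq'x] at h1
        calc x * t * x⁻¹ * φ q = x * (t * (x⁻¹ * φ q * x)) * x⁻¹ := by group
          _ = x * (x⁻¹ * φ q * x * t) * x⁻¹ := by rw [h1]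
          _ = φ q * (x * t * x⁻¹) := by group)
      rcases hcz with rfl | rfl
      · rw [map_one, eq_comm, conj_eq_one_iff, hti, conj_eq_one_iff] at hcx
        exact absurd (Subtype.ext hcx) hi
      · rw [← ht, eq_comm, mul_inv_eq_iff_eq_mul] at hcx
        exact hcx
    have h1 := card_dvd_of_le hKR
    rw [hK, ← Nat.card_congr (MonoidHom.ofInjective hinj).toEquiv, Nat.card_eq_fintype_card,
      Fintype.card_congr (⟨Cm.code, Cm.mk, fun _ => rfl, fun _ => rfl⟩ : Cm ≃ Fin 576),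
      Fintype.card_fin] at h1
    norm_num at h1
  have hnoIdx : ∀ H : Subgroup G, H.index ≠ 2 := by
    intro H hH
    haveI := Subgroup.normal_of_index_eq_two hH
    have hG0 : G₀ ≤ H := by
      by_contra hne
      have hd : (H.subgroupOf G₀).index ∣ 2 := hH ▸ Subgroup.relIndex_dvd_index_of_normal H G₀
      have h2 : (H.subgroupOf G₀).index = 2 := ((Nat.dvd_prime Nat.prime_two).1 hd).resolve_left
        fun e => hne (subgroupOf_eq_top.1 (Subgroup.index_eq_one.1 e))
      refine M.noIdx ((H.subgroupOf G₀).comap ψ.symm.toMonoidHom) ?_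
      rw [Subgroup.index_comap_of_surjective _ ψ.symm.surjective, h2]
    have hUH : U ≤ H := hU.le.trans ((map_subtype_le _).trans hG0)
    refine h128 ?_
    rw [← H.card_mul_index, hH, pow_succ]
    exact Nat.mul_dvd_mul_right (hUc ▸ card_dvd_of_le hUH) 2
  have X : Cfg t φ := ⟨hinj, hrange, ht.symm, hnoIdx⟩
  obtain ⟨ψ', X2⟩ := X.exists_cfg2
  obtain ⟨K, hK, hKi, hK4, ⟨e4⟩⟩ := X2.psu
  obtain ⟨e'⟩ := Cfsg.Agent.S0822.result (F := K) (K := F) hK4 hF
  exact ⟨e4.trans e'⟩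

/-- The data restricted to a subgroup containing both local subgroups. -/
def restrict {G : Type*} [Group G] (S : AmalgamSpThree.Setup G) (G₀ : Subgroup G)
    (hN : Subgroup.normalizer (S.Q : Set G) ≤ G₀)
    (hC : Subgroup.centralizer ({S.z} : Set G) ≤ G₀) : AmalgamSpThree.Setup G₀ where
  f := S.f.codRestrict G₀ fun v => hN (le_normalizer ⟨v, rfl⟩)
  f_inj _ _ h := S.f_inj (congrArg Subtype.val h)
  rho := S.rho.codRestrict G₀ fun π => hN (by
    have h := S.mem_normalizer 0 π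
    rwa [S.el_zero, one_mul] at h)
  conj π v := Subtype.ext (S.conj π v)
  norm g hg := by
    have hg' : (g : G) ∈ Subgroup.normalizer (S.Q : Set G) := by
      refine mem_normalizer_iff.2 fun x => ⟨?_, ?_⟩
      · rintro ⟨v, rfl⟩
        obtain ⟨w, hw⟩ := (mem_normalizer_iff.1 hg _).1 ⟨v, rfl⟩
        exact ⟨w, congrArg Subtype.val hw⟩
      · rintro ⟨v, hv⟩
        obtain ⟨w, hw⟩ := (mem_normalizer_iff''.1 hg _).1 ⟨v, rfl⟩
        refine ⟨w, (congrArg Subtype.val hw).trans ?_⟩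
        show (g : G)⁻¹ * S.f v * g = x
        rw [hv]; group
    obtain ⟨v, π, h⟩ := S.norm g hg'
    exact ⟨v, π, Subtype.ext h⟩
  sig K h1 h2 := by
    have h3 : K.map G₀.subtype = ⊥ := by
      refine S.sig _ (by rw [card_map_of_injective G₀.subtype_injective]; exact h1) ?_
      rintro _ ⟨v, rfl⟩
      exact le_normalizer_map G₀.subtype ⟨_, h2 ⟨v, rfl⟩, rfl⟩
    exact (map_eq_bot_iff_of_injective _ G₀.subtype_injective).1 h3
  Qz := S.Qz.subgroupOf G₀
  Qz_card := by
    rw [Nat.card_congr (Subgroup.subgroupOfEquivOfLe ((S.sl_ker.ge.trans (map_subtype_le _)).trans hC)).toEquiv,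
      S.Qz_card]
  Qz_noncomm h := S.Qz_noncomm fun a ha b hb => congrArg Subtype.val
    (h ⟨a, ((S.sl_ker.ge.trans (map_subtype_le _)).trans hC) ha⟩ ha
      ⟨b, ((S.sl_ker.ge.trans (map_subtype_le _)).trans hC) hb⟩ hb)
  sl := S.sl.comp ((G₀.subtype.comp (Subgroup.subtype _)).codRestrict _ fun g =>
    mem_centralizer_singleton_iff.2 (congrArg Subtype.val (mem_centralizer_singleton_iff.1 g.2)))
  sl_surj x := by
    obtain ⟨g, rfl⟩ := S.sl_surj x
    exact ⟨⟨⟨g, hC g.2⟩, mem_centralizer_singleton_iff.2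
      (Subtype.ext (mem_centralizer_singleton_iff.1 g.2))⟩, rfl⟩
  sl_ker := by
    ext x
    rw [mem_subgroupOf, ← S.sl_ker]
    constructor
    · rintro ⟨y, hy, rfl⟩
      exact ⟨_, hy, rfl⟩
    · rintro ⟨y, hy, hy'⟩
      refine ⟨⟨x, mem_centralizer_singleton_iff.2 (Subtype.ext ?_)⟩, ?_, rfl⟩
      · show (x : G) * S.z = S.z * x
        rw [show (x : G) = y from hy'.symm]
        exact mem_centralizer_singleton_iff.1 y.2
      · rw [SetLike.mem_coe, MonoidHom.mem_ker] at hy ⊢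
        rw [← hy]
        exact congrArg S.sl (Subtype.ext hy'.symm)

/-- Recognition from the data and a generated subgroup. -/
theorem psp_of_setup {G : Type*} [Group G] [Finite G] (S : AmalgamSpThree.Setup G)
    (hcore : ∀ N : Subgroup G, N ≤ Subgroup.normalizer (S.Q : Set G) ⊓ Subgroup.centralizer ({S.z} : Set G) →
      Subgroup.normalizer (S.Q : Set G) ≤ Subgroup.normalizer (N : Set G) →
      Subgroup.centralizer ({S.z} : Set G) ≤ Subgroup.normalizer (N : Set G) → N = ⊥)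
    (F : Type*) [Field F] [Fintype F] (hF : Fintype.card F = 3) : Nonempty (G ≃* Cfsg.PSp 2 F) := by
  obtain ⟨G₀, hG₀⟩ : ∃ G₀, G₀ = Subgroup.normalizer (S.Q : Set G) ⊔ Subgroup.centralizer ({S.z} : Set G) :=
    ⟨_, rfl⟩
  have hN : Subgroup.normalizer (S.Q : Set G) ≤ G₀ := hG₀ ▸ le_sup_left
  have hC : Subgroup.centralizer ({S.z} : Set G) ≤ G₀ := hG₀ ▸ le_sup_right
  obtain ⟨S₀, hS₀⟩ : ∃ S₀, S₀ = restrict S G₀ hN hC := ⟨_, rfl⟩
  have hQ : S₀.Q.map G₀.subtype = S.Q := by
    subst hS₀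
    ext x
    constructor
    · rintro ⟨_, ⟨v, rfl⟩, rfl⟩; exact ⟨v, rfl⟩
    · rintro ⟨v, rfl⟩; exact ⟨_, ⟨v, rfl⟩, rfl⟩
  have hz : (S₀.z : G) = S.z := by subst hS₀; rfl
  have hNle : (Subgroup.normalizer (S₀.Q : Set G₀)).map G₀.subtype =
      Subgroup.normalizer (S.Q : Set G) := by
    refine le_antisymm ?_ fun g hg => ?_
    · rw [← hQ]
      exact le_normalizer_map G₀.subtype
    · obtain ⟨v, π, rfl⟩ := S.exists_norm hg
      exact ⟨_, S₀.mem_normalizer v π, by subst hS₀; rfl⟩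
  have hCle : (Subgroup.centralizer ({S₀.z} : Set G₀)).map G₀.subtype =
      Subgroup.centralizer ({S.z} : Set G) := by
    ext g
    constructor
    · rintro ⟨x, hx, rfl⟩
      exact mem_centralizer_singleton_iff.2 (hz ▸ congrArg Subtype.val (mem_centralizer_singleton_iff.1 hx))
    · intro hg
      refine ⟨⟨g, hC hg⟩, mem_centralizer_singleton_iff.2 (Subtype.ext ?_), rfl⟩
      show g * (S₀.z : G) = (S₀.z : G) * g
      rw [hz]
      exact mem_centralizer_singleton_iff.1 hg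
  have hgen : Subgroup.normalizer (S₀.Q : Set G₀) ⊔ Subgroup.centralizer ({S₀.z} : Set G₀) = ⊤ := by
    refine Subgroup.map_injective G₀.subtype_injective ?_
    rw [Subgroup.map_sup, hNle, hCle, ← hG₀, ← MonoidHom.range_eq_map, Subgroup.range_subtype]
  have hO : Cfsg.pPrimeCore 3 G₀ = ⊥ := by
    refine S₀.sig _ (Solvable.pPrimeCore_coprime 3) ?_
    haveI := Solvable.pPrimeCore_normal 3 G₀
    rw [Subgroup.normalizer_eq_top_iff.2 inferInstance]
    exact le_top
  have hcore' : ∀ N : Subgroup G₀, N.Normal → N ≤ Subgroup.normalizer (S₀.Q : Set G₀) →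
      N ≤ Subgroup.centralizer ({S₀.z} : Set G₀) → N = ⊥ := by
    intro N hNn h1 h2
    refine (map_eq_bot_iff_of_injective _ G₀.subtype_injective).1 (hcore _
      (le_inf (hNle ▸ map_mono h1) (hCle ▸ map_mono h2)) ?_ ?_)
    · refine hN.trans fun g hg => ?_
      exact le_normalizer_map G₀.subtype ⟨⟨g, hg⟩, (Subgroup.normalizer_eq_top_iff.2 hNn).ge (mem_top _), rfl⟩
    · refine hC.trans fun g hg => ?_
      exact le_normalizer_map G₀.subtype ⟨⟨g, hg⟩, (Subgroup.normalizer_eq_top_iff.2 hNn).ge (mem_top _), rfl⟩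
  obtain ⟨ψ⟩ := S₀.iso_psp hgen hO hcore' F hF
  have hi : (S₀.i : G) = S.i := by subst hS₀; rfl
  have h576 : Nat.card (Subgroup.centralizer ({S₀.i} : Set G₀)) = 576 := S₀.structure_H.2.1
  refine psp_of_cent G₀ hF ψ ((S₀.card_group hgen).trans (by norm_num)) S₀.i S₀.i_ne S₀.i_sq h576 ?_
  rw [hi]
  have e : (Subgroup.centralizer ({S₀.i} : Set G₀)).map G₀.subtype = S.H := by
    refine eq_of_le_of_card_ge ?_ ?_
    · rintro _ ⟨x, hx, rfl⟩
      exact mem_centralizer_singleton_iff.2 (hi ▸ congrArg Subtype.val (mem_centralizer_singleton_iff.1 hx))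
    · rw [card_map_of_injective G₀.subtype_injective, h576, S.structure_H.2.1]
  exact e.ge.trans (map_subtype_le _)

end CfsgLib.SpSixThree.First
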