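import Cfsg.Agent.Lib.Recog.SpSixThree.FirstNorm
import Cfsg.Agent.Lib.Recog.SpSixThree.FirstIdent
import Cfsg.Prelude.Def_Transfer
import Cfsg.Prelude.Def_CaseTheorems

/-!
# `PSp₄(3)` from a centralizer of an element of order three not conjugate to its inverse
-/

set_option autoImplicit false
set_option linter.style.haveILetI false

namespace CfsgLib.SpSixThree.First

open Subgroup

variable {G : Type*} [Group G] [Finite G]

/-- The local data from the hypotheses. -/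
theorem exists_local (a : G) (ha : orderOf a = 3) (C : Subgroup G)
    (hC : C = Subgroup.centralizer ({a} : Set G))
    (hR : Cfsg.IsExtraspecial 3 (Cfsg.pCore 3 C)) (hRcard : Nat.card (Cfsg.pCore 3 C) = 27)
    (hRexp : ∀ r ∈ Cfsg.pCore 3 C, r ^ 3 = 1)
    (e : C ⧸ Cfsg.pCore 3 C ≃* Matrix.SpecialLinearGroup (Fin 2) (ZMod 3))
    (J : Subgroup G) (hJC : J ≤ C) (hJcomm : IsMulCommutative J) (hJexp : ∀ j ∈ J, j ^ 3 = 1)
    (hJcard : Nat.card J = 27)
    (hJsig : ∀ K : Subgroup G, (Nat.card K).Coprime 3 →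
      (∀ j ∈ J, K.map (MulAut.conj j).toMonoidHom = K) → K = ⊥) :
    ∃ L : Local G, L.a = a ∧ L.J = J ∧ L.R = (Cfsg.pCore 3 C).map C.subtype := by
  subst hC
  haveI : Fact (Nat.Prime 3) := ⟨Nat.prime_three⟩
  obtain ⟨a', ha'⟩ : ∃ a' : ↥(Subgroup.centralizer ({a} : Set G)), (a' : G) = a :=
    ⟨⟨a, mem_centralizer_singleton_iff.2 rfl⟩, rfl⟩
  have hcen : a' ∈ Subgroup.center ↥(Subgroup.centralizer ({a} : Set G)) :=
    mem_center_iff.2 fun g => Subtype.ext (by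
      show (g : G) * a' = a' * g
      rw [ha']; exact mem_centralizer_singleton_iff.1 g.2)
  have ha3 : orderOf a' = 3 := by rw [← Subgroup.orderOf_coe, ha', ha]
  have haR : a' ∈ Cfsg.pCore 3 ↥(Subgroup.centralizer ({a} : Set G)) := by
    refine CfsgLib.Solvable.le_pCore (N := Subgroup.zpowers a') ?_ ?_ (mem_zpowers a')
    · refine ⟨fun n hn g => ?_⟩
      rw [mem_center_iff.1 ((zpowers_le.2 hcen) hn) g, mul_inv_cancel_right]
      exact hn
    · exact IsPGroup.of_card (n := 1) (by rw [Nat.card_zpowers, ha3, pow_one])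
  obtain ⟨z, hz⟩ : ∃ z : ↥(Cfsg.pCore 3 ↥(Subgroup.centralizer ({a} : Set G))), z = ⟨a', haR⟩ := ⟨_, rfl⟩
  have hzpow : Subgroup.zpowers z = Subgroup.center _ := by
    refine eq_of_le_of_card_ge (zpowers_le.2 (mem_center_iff.2 fun g => Subtype.ext ?_)) ?_
    · subst hz
      exact mem_center_iff.1 hcen g
    · rw [hR.2, Nat.card_zpowers, ← Subgroup.orderOf_coe, hz, ha3]
  refine ⟨{
    a := a
    ha := ha
    R := (Cfsg.pCore 3 ↥(Subgroup.centralizer ({a} : Set G))).map (Subgroup.subtype _)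
    R_le := map_subtype_le _
    R_card := by rw [card_map_of_injective (Subtype.val_injective), hRcard]
    R_exp := ?_
    a_mem := ⟨a', haR, ha'⟩
    center_R := ?_
    φ := e.toMonoidHom.comp (QuotientGroup.mk' _)
    φ_surj := e.surjective.comp (QuotientGroup.mk'_surjective _)
    φ_ker := ?_
    J := J
    J_le := hJC
    J_comm := fun x hx y hy =>
      congrArg Subtype.val (hJcomm.is_comm.comm (⟨x, hx⟩ : J) ⟨y, hy⟩)
    J_exp := hJexp
    J_card := hJcard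
    sig := fun K h1 h2 => hJsig K h1 fun j hj => mem_normalizer_iff_map_conj_eq.1 (h2 hj) },
    rfl, rfl, rfl⟩
  · rintro _ ⟨r, hr, rfl⟩
    rw [← map_pow, hRexp r hr, map_one]
  · rintro _ ⟨r, hr, rfl⟩ h
    have hrc : (⟨r, hr⟩ : ↥(Cfsg.pCore 3 ↥(Subgroup.centralizer ({a} : Set G)))) ∈ Subgroup.zpowers z := by
      rw [hzpow, mem_center_iff]
      exact fun g => Subtype.ext (Subtype.ext (h _ ⟨g, g.2, rfl⟩).symm)
    obtain ⟨k, hk⟩ := mem_zpowers_iff.1 hrc
    refine mem_zpowers_iff.2 ⟨k, ?_⟩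
    have h2 := congrArg (fun w : ↥(Cfsg.pCore 3 _) => ((w : ↥(Subgroup.centralizer ({a} : Set G))) : G)) hk
    simp only [SubgroupClass.coe_zpow, hz, ha'] at h2
    exact h2
  · intro x
    show e (QuotientGroup.mk x) = 1 ↔ _
    rw [e.map_eq_one_iff, QuotientGroup.eq_one_iff]
    exact ⟨fun h => ⟨x, h, rfl⟩, fun ⟨y, hy, h⟩ => Subtype.ext h ▸ hy⟩

namespace Local

variable (L : Local G)

theorem hcore (hna : ∀ g : G, g * L.a * g⁻¹ ≠ L.a⁻¹) (hM : ¬ L.M ≤ L.C) (N : Subgroup G)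
    (hN : N ≤ L.M ⊓ L.C) (h1 : L.M ≤ Subgroup.normalizer (N : Set G))
    (h2 : L.C ≤ Subgroup.normalizer (N : Set G)) : N = ⊥ := by
  have hfix : ∀ n ∈ N, ∀ x ∈ L.orb, n * x * n⁻¹ = x := by
    rintro n hn x ⟨k, hk, rfl⟩
    have h := L.comm_a (hN ((mem_normalizer_iff''.1 (h1 hk) n).1 hn)).2
    calc n * (k * L.a * k⁻¹) * n⁻¹ = k * ((k⁻¹ * n * k) * L.a) * (k⁻¹ * n * k)⁻¹ * k⁻¹ := by group
      _ = k * (L.a * (k⁻¹ * n * k)) * (k⁻¹ * n * k)⁻¹ * k⁻¹ := by rw [h]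
      _ = _ := by group
  have hJ : ∀ n ∈ N, n ∈ L.J := fun n hn => L.mem_J_of_fix hna hM (hN hn).1 (hfix n hn)
  have hW : ∀ n ∈ N, n ∈ L.R := by
    intro n hn
    by_contra hnR
    have hnC := L.J_le (hJ n hn)
    obtain ⟨h, ha, hb, hc⟩ := exists_move _ (L.phi_cube (hJ n hn)) (L.phi_ne _ hnR)
    obtain ⟨c, rfl⟩ := L.φ_surj h
    have hcn := hJ _ ((mem_normalizer_iff.1 (h2 c.2) n).1 hn)
    have he : L.φ c * L.φ ⟨n, hnC⟩ * (L.φ c)⁻¹ ∈ L.img := by
      rw [← map_inv, ← map_mul, ← map_mul]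
      exact mem_map_of_mem _ (mem_subgroupOf.2 hcn)
    rcases L.img_cases (hJ n hn) hnR he with e | e | e
    · exact ha e
    · exact hb e
    · exact hc e
  have hZ : ∀ n ∈ N, n ∈ L.Z := by
    intro n hn
    by_contra hnZ
    obtain ⟨r, hr, hrJ⟩ := L.exists_r
    obtain ⟨c, hc, hce⟩ := L.trans (hW n hn) hnZ hr (fun e => hrJ (zpowers_le.2 L.a_mem_J e))
    exact hrJ (hce ▸ hJ _ ((mem_normalizer_iff.1 (h2 hc) n).1 hn))
  refine N.eq_bot_iff_forall.2 fun n hn => ?_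
  by_contra hne
  obtain ⟨k, hk, hkC⟩ := SetLike.not_le_iff_exists.1 hM
  have ha : L.a ∈ N := by
    rcases L.Z_cases (hZ n hn) with e | e | e
    · exact absurd e hne
    · exact e ▸ hn
    · exact inv_mem_iff.1 (e ▸ hn)
  rcases L.Z_cases (hZ _ ((mem_normalizer_iff.1 (h1 hk) _).1 ha)) with e | e | e
  · exact absurd (conj_eq_one_iff.1 e) L.a_ne
  · exact hkC (L.mem_C.2 (mul_inv_eq_iff_eq_mul.1 e))
  · exact hna k e

theorem iso_of_not_le (hna : ∀ g : G, g * L.a * g⁻¹ ≠ L.a⁻¹) (hM : ¬ L.M ≤ L.C)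
    (F : Type*) [Field F] [Fintype F] (hF : Fintype.card F = 3) : Nonempty (G ≃* Cfsg.PSp 2 F) := by
  haveI : (L.J.subgroupOf L.M).Normal := Subgroup.normal_in_normalizer
  haveI : (L.R.subgroupOf L.C).Normal :=
    (show L.R.subgroupOf L.C = L.φ.ker from Subgroup.ext fun x => mem_subgroupOf.trans (L.φ_ker x).symm) ▸
      inferInstance
  obtain ⟨e₁⟩ := L.exists_sym_four hna hM
  have hker : L.φ.ker = L.R.subgroupOf L.C :=
    Subgroup.ext fun x => (L.φ_ker x).trans mem_subgroupOf.symm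
  let e₂ := (QuotientGroup.quotientMulEquivOfEq hker.symm).trans
    (QuotientGroup.quotientKerEquivOfSurjective L.φ L.φ_surj)
  have hidx : ¬ 3 ∣ ((L.M ⊓ L.C).subgroupOf L.M).index := by
    have h := ((L.M ⊓ L.C).subgroupOf L.M).card_mul_index
    rw [Nat.card_congr (Subgroup.subgroupOfEquivOfLe inf_le_left).toEquiv, L.card_MC,
      L.card_M hna hM] at h
    intro h3
    rw [show ((L.M ⊓ L.C).subgroupOf L.M).index = 4 by omega] at h3
    norm_num at h3
  have hQ1 : L.M ⊓ Subgroup.centralizer (L.J : Set G) = L.J :=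
    le_antisymm (fun g hg => L.cent_J fun x hx => (mem_centralizer_iff.1 hg.2 x hx).symm)
      (le_inf le_normalizer fun x hx => mem_centralizer_iff.2 fun y hy => L.J_comm y hy x hx)
  have hZ : L.Z = L.R ⊓ Subgroup.centralizer (L.R : Set G) :=
    le_antisymm (fun z hz => ⟨L.Z_le_R hz, mem_centralizer_iff.2 fun y hy => L.Z_comm hz (L.R_le hy)⟩)
      fun z hz => L.center_R z hz.1 fun y hy => (mem_centralizer_iff.1 hz.2 y hy).symm
  have hN2 : Subgroup.normalizer (L.Z : Set G) = L.C := by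
    refine le_antisymm (fun g hg => ?_) fun g hg => centralizer_le_normalizer _ fun y hy =>
      (L.Z_comm hy hg).symm
    rcases L.Z_cases ((mem_normalizer_iff.1 hg _).1 (mem_zpowers L.a)) with e | e | e
    · exact absurd (conj_eq_one_iff.1 e) L.a_ne
    · exact L.mem_C.2 (mul_inv_eq_iff_eq_mul.1 e)
    · exact absurd e (hna g)
  obtain ⟨S, hSQ, hSz⟩ := AmalgamSpThree.nonempty_setup L.M L.C hidx (L.hcore hna hM) L.J L.R
    le_normalizer L.R_le e₁ e₂ ⟨⟨⟨fun x y => Subtype.ext (L.J_comm _ x.2 _ y.2)⟩⟩, L.J_exp⟩ L.J_card hQ1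
    L.R_not_comm L.R_card L.Z L.card_Z hZ (fun g hg h => L.faith hg h) rfl hN2 L.sig
  refine psp_of_setup S ?_ F hF
  rw [hSQ, hSz]
  exact L.hcore hna hM

end Local

/-- The first conjunct of the characterisation by the centralizer of an element of order three. -/
theorem first_conjunct (a : G) (ha : orderOf a = 3) (C : Subgroup G)
    (hC : C = Subgroup.centralizer ({a} : Set G))
    (hR : Cfsg.IsExtraspecial 3 (Cfsg.pCore 3 C)) (hRcard : Nat.card (Cfsg.pCore 3 C) = 27)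
    (hRexp : ∀ r ∈ Cfsg.pCore 3 C, r ^ 3 = 1)
    (e : C ⧸ Cfsg.pCore 3 C ≃* Matrix.SpecialLinearGroup (Fin 2) (ZMod 3))
    (J : Subgroup G) (hJC : J ≤ C) (hJcomm : IsMulCommutative J) (hJexp : ∀ j ∈ J, j ^ 3 = 1)
    (hJcard : Nat.card J = 27)
    (hJsig : ∀ K : Subgroup G, (Nat.card K).Coprime 3 →
      (∀ j ∈ J, K.map (MulAut.conj j).toMonoidHom = K) → K = ⊥)
    (F : Type*) [Field F] [Fintype F] (hF : Fintype.card F = 3)
    (hna : ∀ g : G, g * a * g⁻¹ ≠ a⁻¹) :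
    (∃ N : Subgroup G, N.Normal ∧ N.index = 3) ∨ Nonempty (G ≃* Cfsg.PSp 2 F) := by
  obtain ⟨L, hLa, -, -⟩ := exists_local a ha C hC hR hRcard hRexp e J hJC hJcomm hJexp hJcard hJsig
  by_cases hM : L.M ≤ L.C
  · exact Or.inl (L.index_three hM)
  · exact Or.inr (L.iso_of_not_le (fun g => by rw [hLa]; exact hna g) hM F hF)

end CfsgLib.SpSixThree.First
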