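import Mathlib.LinearAlgebra.Matrix.SpecialLinearGroup
import Mathlib.Tactic

/-!
# Facts on `SL₂(3)` for the first conjunct
-/

set_option autoImplicit false

namespace CfsgLib.SpSixThree.First

/-- `SL₂(3)`. -/
abbrev SL := Matrix.SpecialLinearGroup (Fin 2) (ZMod 3)

theorem card_sl : Nat.card SL = 24 := by rw [Nat.card_eq_fintype_card]; decide +kernel

theorem exists_neg : ∀ g : SL, g ≠ 1 →
    ∃ h : SL, ∃ k : Fin 6, (g * h * g⁻¹ * h⁻¹) ^ k.val = -1 ∨ g ^ k.val = -1 := by decide +kernel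

theorem neg_central : ∀ g : SL, g * -1 = -1 * g := by decide +kernel

theorem neg_pow : (-1 : SL) ^ 3 = -1 ∧ (-1 : SL) ≠ 1 ∧ (-1 : SL) * -1 = 1 := by decide +kernel

/-- The elements normalizing a subgroup of order three. -/
theorem conj_three : ∀ t : SL, t ^ 3 = 1 → ∀ h : SL,
    (h * t * h⁻¹ = 1 ∨ h * t * h⁻¹ = t ∨ h * t * h⁻¹ = t * t) → h * t * h⁻¹ = t := by decide +kernel

theorem exists_move : ∀ t : SL, t ^ 3 = 1 → t ≠ 1 → ∃ h : SL,
    h * t * h⁻¹ ≠ 1 ∧ h * t * h⁻¹ ≠ t ∧ h * t * h⁻¹ ≠ t * t := by decide +kernel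

theorem cent_three : ∀ t : SL, t ^ 3 = 1 → t ≠ 1 → ∀ h : SL, h * t * h⁻¹ = t → h ^ 3 = 1 →
    h = 1 ∨ h = t ∨ h = t * t := by decide +kernel

theorem card_cent_three : ∀ t : SL, t ^ 3 = 1 → t ≠ 1 →
    (Finset.univ.filter fun h : SL => h * t * h⁻¹ = t).card = 6 := by decide +kernel

theorem three_dvd_order : ∀ t : SL, t ^ 9 = 1 → t ^ 3 = 1 := by decide +kernel

end CfsgLib.SpSixThree.First
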