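import Cfsg.Agent.Lib.Recog.SpSixThree.FirstLocal
import Mathlib.GroupTheory.Sylow
import Mathlib.GroupTheory.IndexNormal

/-!
# The elementary abelian subgroup and fusion in it
-/

set_option autoImplicit false
set_option linter.unusedSectionVars false

namespace CfsgLib.SpSixThree.First

open Subgroup

namespace Local

variable {G : Type*} [Group G] [Finite G] (L : Local G)

/-- The subgroup `J ∩ R`. -/
abbrev W : Subgroup G := L.J ⊓ L.R

/-- The image of `J` in `SL₂(3)`. -/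
abbrev img : Subgroup SL := (L.J.subgroupOf L.C).map L.φ

/-- The Sylow 3-subgroup containing `J`. -/
def S : Subgroup G := (L.img.comap L.φ).map L.C.subtype

theorem mem_S {g : G} : g ∈ L.S ↔ ∃ hg : g ∈ L.C, L.φ ⟨g, hg⟩ ∈ L.img := by
  constructor
  · rintro ⟨x, hx, rfl⟩; exact ⟨x.2, hx⟩
  · rintro ⟨hg, h⟩; exact ⟨⟨g, hg⟩, h, rfl⟩

theorem S_le_C : L.S ≤ L.C := map_subtype_le _

theorem J_le_S : L.J ≤ L.S := fun g hg =>
  L.mem_S.2 ⟨L.J_le hg, mem_map_of_mem _ (mem_subgroupOf.2 hg)⟩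

theorem R_le_S : L.R ≤ L.S := fun g hg =>
  L.mem_S.2 ⟨L.R_le hg, by rw [(L.φ_ker ⟨g, L.R_le hg⟩).2 hg]; exact one_mem _⟩

theorem card_W_img : Nat.card L.W = 9 ∧ Nat.card L.img = 3 := by
  have h := L.card_eq_mul L.J_le
  rw [L.J_card] at h
  have h1 : Nat.card L.img = 1 ∨ Nat.card L.img = 3 := L.card_map_le_three fun g hg hgJ => by
    rw [← map_pow, show (⟨g, hg⟩ : L.C) ^ 3 = 1 from Subtype.ext (L.J_exp g hgJ), map_one]
  have hW : Nat.card L.W = Nat.card ↥(L.J ⊓ L.R) := rfl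
  rcases h1 with h1 | h1 <;> rw [h1] at h
  · exfalso
    have e : L.W = L.R := eq_of_le_of_card_ge inf_le_right (by rw [L.R_card, hW]; omega)
    exact L.R_not_comm fun x hx y hy => L.J_comm x (e.ge hx).1 y (e.ge hy).1
  · exact ⟨by rw [hW]; omega, h1⟩

theorem card_W : Nat.card L.W = 9 := L.card_W_img.1

theorem eq_R_of_W {A : Subgroup G} (hA : A ≤ L.R) (hW : L.W ≤ A) {r : G} (hr : r ∈ A) (hrJ : r ∉ L.J) :
    A = L.R := by
  refine eq_of_le_of_card_ge hA ?_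
  have h1 : Nat.card A ∣ 3 ^ 3 := by
    rw [show 3 ^ 3 = 27 from rfl, ← L.R_card]; exact card_dvd_of_le hA
  obtain ⟨k, hk, hk'⟩ := (Nat.dvd_prime_pow Nat.prime_three).1 h1
  have h2 : 9 < Nat.card A := by
    rw [← L.card_W]
    exact Set.ncard_lt_ncard (SetLike.coe_ssubset_coe.2 (lt_of_le_of_ne hW fun e => hrJ (e.ge hr).1))
      (Set.toFinite _)
  rw [L.R_card, hk']
  rcases (show k = 0 ∨ k = 1 ∨ k = 2 ∨ k = 3 by omega) with rfl | rfl | rfl | rfl <;> simp_all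

theorem a_mem_J : L.a ∈ L.J := by
  by_contra haJ
  have hW : L.W ≤ L.R ⊓ Subgroup.centralizer (L.W : Set G) := fun x hx =>
    ⟨hx.2, mem_centralizer_iff.2 fun y hy => L.J_comm y hy.1 x hx.1⟩
  have ha : L.a ∈ L.R ⊓ Subgroup.centralizer (L.W : Set G) :=
    ⟨L.a_mem, mem_centralizer_iff.2 fun y hy => L.comm_a (L.R_le hy.2)⟩
  have e := L.eq_R_of_W inf_le_left hW ha haJ
  have h1 : L.W ≤ L.Z := fun x hx => L.center_R x hx.2 fun y hy =>
    mem_centralizer_iff.1 (e.ge hy).2 x hx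
  have := Subgroup.card_le_of_le h1
  rw [L.card_W, L.card_Z] at this
  omega

theorem a_mem_W : L.a ∈ L.W := ⟨L.a_mem_J, L.a_mem⟩

theorem exists_w : ∃ w ∈ L.W, w ∉ L.Z := SetLike.not_le_iff_exists.1 fun h => by
  have := Subgroup.card_le_of_le h
  rw [L.card_W, L.card_Z] at this
  omega

theorem exists_r : ∃ r ∈ L.R, r ∉ L.J := SetLike.not_le_iff_exists.1 fun h =>
  L.R_not_comm fun x hx y hy => L.J_comm x (h hx) y (h hy)

theorem exists_j : ∃ j ∈ L.J, j ∉ L.R := SetLike.not_le_iff_exists.1 fun h =>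
  L.R_not_comm fun x hx y hy =>
    L.J_comm x ((eq_of_le_of_card_ge h (by rw [L.J_card, L.R_card])).ge hx)
      y ((eq_of_le_of_card_ge h (by rw [L.J_card, L.R_card])).ge hy)

theorem phi_ne {g : G} (hg : g ∈ L.C) (h : g ∉ L.R) : L.φ ⟨g, hg⟩ ≠ 1 := fun e => h ((L.φ_ker _).1 e)

theorem phi_cube {g : G} (hg : g ∈ L.J) : L.φ ⟨g, L.J_le hg⟩ ^ 3 = 1 := by
  rw [← map_pow, show (⟨g, L.J_le hg⟩ : L.C) ^ 3 = 1 from Subtype.ext (L.J_exp g hg), map_one]

/-- The image of `J` is generated by any of its nontrivial elements. -/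
theorem img_cases {j : G} (hj : j ∈ L.J) (hjR : j ∉ L.R) {h : SL} (hh : h ∈ L.img) :
    h = 1 ∨ h = L.φ ⟨j, L.J_le hj⟩ ∨ h = L.φ ⟨j, L.J_le hj⟩ * L.φ ⟨j, L.J_le hj⟩ := by
  classical
  obtain ⟨t, ht⟩ : ∃ t, t = L.φ ⟨j, L.J_le hj⟩ := ⟨_, rfl⟩
  rw [← ht]
  have ht3 : orderOf t = 3 := orderOf_eq_prime (ht ▸ L.phi_cube hj) (ht ▸ L.phi_ne _ hjR)
  have e : Subgroup.zpowers t = L.img :=
    eq_of_le_of_card_ge (zpowers_le.2 (ht ▸ mem_map_of_mem _ (mem_subgroupOf.2 hj)))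
      (by rw [Nat.card_zpowers, ht3, L.card_W_img.2])
  rw [← e, mem_zpowers_iff_mem_range_orderOf, ht3] at hh
  obtain ⟨n, hn, rfl⟩ := Finset.mem_image.1 hh
  rw [Finset.mem_range] at hn
  interval_cases n
  · exact Or.inl (pow_zero _)
  · exact Or.inr (Or.inl (pow_one _))
  · exact Or.inr (Or.inr (pow_two _))

theorem card_S : Nat.card L.S = 81 := by
  have h := L.card_eq_mul L.S_le_C
  rw [show L.S ⊓ L.R = L.R from inf_eq_right.2 L.R_le_S, L.R_card,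
    show (L.S.subgroupOf L.C).map L.φ = L.img by
      rw [S, ← comap_subtype, comap_map_eq_self_of_injective L.C.subtype_injective,
        map_comap_eq_self_of_surjective L.φ_surj], L.card_W_img.2] at h
  exact h

theorem S_decomp {g : G} (hg : g ∈ L.S) : ∃ j ∈ L.J, ∃ r ∈ L.R, g = j * r := by
  obtain ⟨hgC, x, hx, hxe⟩ := L.mem_S.1 hg
  refine ⟨x, mem_subgroupOf.1 hx, (x : G)⁻¹ * g, (L.φ_ker (x⁻¹ * ⟨g, hgC⟩)).1
    (by rw [map_mul, map_inv, hxe, inv_mul_cancel]), (mul_inv_cancel_left _ _).symm⟩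

theorem S_le_normalizer : L.S ≤ Subgroup.normalizer (L.J : Set G) := by
  have hi : (L.J.subgroupOf L.S).index = 3 := by
    have h := (L.J.subgroupOf L.S).card_mul_index
    rw [Nat.card_congr (Subgroup.subgroupOfEquivOfLe L.J_le_S).toEquiv, L.J_card, L.card_S] at h
    omega
  haveI : (L.J.subgroupOf L.S).Normal := Subgroup.normal_of_index_eq_minFac_card (by
    rw [hi, L.card_S, show (81 : ℕ) = 3 ^ 4 from rfl, Nat.pow_minFac (by norm_num)]
    norm_num)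
  exact (normal_subgroupOf_iff_le_normalizer L.J_le_S).1 inferInstance

theorem R_le_normalizer : L.R ≤ Subgroup.normalizer (L.J : Set G) :=
  L.R_le_S.trans L.S_le_normalizer

theorem conj_J {g x : G} (hg : g ∈ Subgroup.normalizer (L.J : Set G)) (hx : x ∈ L.J) :
    g * x * g⁻¹ ∈ L.J := (mem_normalizer_iff.1 hg x).1 hx

/-- The elements of `R` fixed by `g` modulo the centre. -/
def modStab {g : G} (hg : g ∈ L.C) : Subgroup G where
  carrier := {v | v ∈ L.R ∧ g * v * g⁻¹ * v⁻¹ ∈ L.Z}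
  one_mem' := ⟨one_mem _, by simp⟩
  mul_mem' := by
    rintro p q ⟨hp, hp'⟩ ⟨hq, hq'⟩
    refine ⟨mul_mem hp hq, ?_⟩
    rw [show g * (p * q) * g⁻¹ * (p * q)⁻¹ = g * p * g⁻¹ * (g * q * g⁻¹ * q⁻¹) * p⁻¹ by group,
      L.Z_comm hq' (mul_mem (mul_mem hg (L.R_le hp)) (inv_mem hg)), mul_assoc]
    exact mul_mem hq' hp'
  inv_mem' := by
    rintro p ⟨hp, hp'⟩
    refine ⟨inv_mem hp, ?_⟩
    rw [show g * p⁻¹ * g⁻¹ * p⁻¹⁻¹ = p⁻¹ * (g * p * g⁻¹ * p⁻¹)⁻¹ * p by group,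
      L.Z_comm (inv_mem hp') (L.R_le (inv_mem hp)), mul_assoc, inv_mul_cancel, mul_one]
    exact inv_mem hp'

/-- Elements of `J` outside `R` move elements of `R` outside `J` out of their coset of the centre. -/
theorem comm_not_Z {x r : G} (hx : x ∈ L.J) (hxR : x ∉ L.R) (hr : r ∈ L.R) (hrJ : r ∉ L.J) :
    x * r * x⁻¹ * r⁻¹ ∉ L.Z := by
  intro h
  refine hxR (L.faith (L.J_le hx) fun y hy => ?_)
  have e : L.modStab (L.J_le hx) = L.R := L.eq_R_of_W (fun v hv => hv.1) (fun w hw => ⟨hw.2, by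
    rw [L.J_comm x hx w hw.1, mul_inv_cancel_right, mul_inv_cancel]; exact one_mem _⟩)
    ⟨hr, h⟩ hrJ
  exact (e.ge hy).2

theorem cent_R_of_J {x r : G} (hx : x ∈ L.J) (hxR : x ∉ L.R) (hr : r ∈ L.R) (h : r * x = x * r) :
    r ∈ L.J := by
  by_contra hrJ
  refine L.comm_not_Z hx hxR hr hrJ ?_
  rw [← h, mul_inv_cancel_right, mul_inv_cancel]
  exact one_mem _

/-- `J` is its own centralizer. -/
theorem cent_J {g : G} (h : ∀ x ∈ L.J, g * x = x * g) : g ∈ L.J := by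
  have hg : g ∈ L.C := L.mem_C.2 (h _ L.a_mem_J)
  obtain ⟨w, hw, hwZ⟩ := L.exists_w
  obtain ⟨j, hj, hjR⟩ := L.exists_j
  have h3 := L.stab_three hg hw.2 hwZ (by
    rw [h w hw.1, mul_inv_cancel_right, mul_inv_cancel]; exact one_mem _)
  obtain ⟨t, ht⟩ : ∃ t, t = L.φ ⟨j, L.J_le hj⟩ := ⟨_, rfl⟩
  have hc : L.φ ⟨g, hg⟩ * t * (L.φ ⟨g, hg⟩)⁻¹ = t := by
    rw [ht, ← map_inv, ← map_mul, ← map_mul]
    congr 1
    exact Subtype.ext (show g * j * g⁻¹ = j by rw [h j hj, mul_inv_cancel_right])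
  have hS : g ∈ L.S := by
    refine L.mem_S.2 ⟨hg, ?_⟩
    have hti : t ∈ L.img := ht ▸ mem_map_of_mem _ (mem_subgroupOf.2 hj)
    rcases cent_three t (ht ▸ L.phi_cube hj) (ht ▸ L.phi_ne _ hjR) _ hc h3 with e | e | e <;> rw [e]
    · exact one_mem _
    · exact hti
    · exact mul_mem hti hti
  obtain ⟨j', hj', r, hr, rfl⟩ := L.S_decomp hS
  refine mul_mem hj' (L.cent_R_of_J hj hjR hr (mul_left_cancel (a := j') ?_))
  rw [← mul_assoc, h j hj, ← mul_assoc, ← mul_assoc, L.J_comm j hj j' hj']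

/-- The elements of order three of `S`. -/
theorem three_cases {g : G} (hg : g ∈ L.S) (h3 : g ^ 3 = 1) : g ∈ L.J ∨ g ∈ L.R := by
  obtain ⟨j, hj, r, hr, rfl⟩ := L.S_decomp hg
  by_cases hrJ : r ∈ L.J
  · exact Or.inl (mul_mem hj hrJ)
  by_cases hjR : j ∈ L.R
  · exact Or.inr (mul_mem hjR hr)
  exfalso
  obtain ⟨u, hu⟩ : ∃ u, u = j * r * j⁻¹ * r⁻¹ := ⟨_, rfl⟩
  have huR : u ∈ L.R := hu ▸ mul_mem (L.R_normal (L.J_le hj) hr) (inv_mem hr)
  have huJ : u ∈ L.J := by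
    rw [hu, show j * r * j⁻¹ * r⁻¹ = j * (r * j⁻¹ * r⁻¹) by group]
    exact mul_mem hj (L.conj_J (L.R_le_normalizer hr) (inv_mem hj))
  have huZ : u ∉ L.Z := hu ▸ L.comm_not_Z hj hjR hr hrJ
  obtain ⟨z, hz⟩ : ∃ z, z = r * u * r⁻¹ * u⁻¹ := ⟨_, rfl⟩
  have hzZ : z ∈ L.Z := hz ▸ L.comm_mem_Z hr huR
  have hz1 : z ≠ 1 := by
    intro e
    rw [hz, mul_inv_eq_one, mul_inv_eq_iff_eq_mul] at e
    refine huZ (L.center_R u huR fun y hy => ?_)
    have hA := L.eq_R_of_W (A := L.R ⊓ Subgroup.centralizer ({u} : Set G)) inf_le_left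
      (fun w hw => ⟨hw.2, mem_centralizer_singleton_iff.2 (L.J_comm w hw.1 u huJ)⟩)
      ⟨hr, mem_centralizer_singleton_iff.2 e⟩ hrJ
    exact (mem_centralizer_singleton_iff.1 (hA.ge hy).2).symm
  have e1 : j * r = u * r * j := by rw [hu]; group
  have e2 : r * u = z * u * r := by rw [hz]; group
  have hju : Commute j u := L.J_comm j hj u huJ
  have hzu : Commute u z := L.Z_comm hzZ (L.J_le huJ)
  have ea : j * r * j⁻¹ = u * r := by rw [hu]; group
  have eb : j * (u * r) * j⁻¹ = u * (u * r) := by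
    rw [← mul_assoc j, hju.eq, mul_assoc u, mul_assoc u, ea]
  have key : (j * r) ^ 3 = z * z := by
    calc (j * r) ^ 3 = j * r * j⁻¹ * (j * (j * r * j⁻¹) * j⁻¹) * j ^ 3 * r := by
          simp only [pow_succ, pow_zero, one_mul]; group
      _ = u * r * (u * (u * r)) * r := by rw [ea, eb, L.J_exp j hj, mul_one]
      _ = u * (r * u) * u * (r * r) := by group
      _ = u * (z * u * r) * u * (r * r) := by rw [e2]
      _ = u * z * u * (r * u) * (r * r) := by group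
      _ = u * z * u * (z * u * r) * (r * r) := by rw [e2]
      _ = (u * z) * (u * z) * u * r ^ 3 := by simp only [pow_succ, pow_zero, one_mul, mul_assoc]
      _ = (z * u) * (z * u) * u := by rw [hzu.eq, L.R_exp r hr, mul_one]
      _ = z * (u * z) * (u * u) := by group
      _ = z * z * u ^ 3 := by rw [hzu.eq]; simp only [pow_succ, pow_zero, one_mul, mul_assoc]
      _ = z * z := by rw [L.R_exp u huR, mul_one]
  rw [h3] at key
  refine hz1 ?_
  have := L.Z_cube hzZ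
  rwa [pow_succ, pow_two, ← key, one_mul] at this

/-- `J` is the only abelian subgroup of order 27 and exponent 3 of `S`. -/
theorem unique {U : Subgroup G} (hU : U ≤ L.S) (hc : ∀ x ∈ U, ∀ y ∈ U, x * y = y * x)
    (h3 : ∀ x ∈ U, x ^ 3 = 1) (hcard : Nat.card U = 27) : U = L.J := by
  by_cases h : U ≤ L.J
  · exact eq_of_le_of_card_ge h (by rw [hcard, L.J_card])
  exfalso
  obtain ⟨q, hq, hqJ⟩ := SetLike.not_le_iff_exists.1 h
  have hle : U ≤ L.R := by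
    intro p hp
    by_contra hpR
    have hpJ := (L.three_cases (hU hp) (h3 p hp)).resolve_right hpR
    have hqR := (L.three_cases (hU hq) (h3 q hq)).resolve_left hqJ
    rcases L.three_cases (hU (mul_mem hp hq)) (h3 _ (mul_mem hp hq)) with e | e
    · exact hqJ ((mul_mem_cancel_left hpJ).1 e)
    · exact hpR ((mul_mem_cancel_right hqR).1 e)
  have e := eq_of_le_of_card_ge hle (by rw [hcard, L.R_card])
  exact L.R_not_comm (e ▸ hc)

theorem conj_le_normalizer {g : G} (h : ∀ x ∈ L.J, g * x * g⁻¹ ∈ L.S) :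
    g ∈ Subgroup.normalizer (L.J : Set G) := by
  refine mem_normalizer_iff_map_conj_eq.2 (L.unique ?_ ?_ ?_ ?_)
  · rintro _ ⟨x, hx, rfl⟩; exact h x hx
  · rintro _ ⟨x, hx, rfl⟩ _ ⟨y, hy, rfl⟩
    rw [← map_mul, ← map_mul, L.J_comm x hx y hy]
  · rintro _ ⟨x, hx, rfl⟩
    rw [← map_pow, L.J_exp x hx, map_one]
  · rw [card_map_of_injective (MulAut.conj g).injective, L.J_card]

/-- The elements of the centralizer normalizing `J`. -/
theorem norm_iff {g : G} (hg : g ∈ L.C) {j : G} (hj : j ∈ L.J) (hjR : j ∉ L.R) :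
    g ∈ Subgroup.normalizer (L.J : Set G) ↔
      L.φ ⟨g, hg⟩ * L.φ ⟨j, L.J_le hj⟩ * (L.φ ⟨g, hg⟩)⁻¹ = L.φ ⟨j, L.J_le hj⟩ := by
  constructor
  · intro hn
    refine conj_three _ (L.phi_cube hj) _ (L.img_cases hj hjR ?_)
    rw [← map_inv, ← map_mul, ← map_mul]
    exact mem_map_of_mem _ (mem_subgroupOf.2 (L.conj_J hn hj))
  · intro he
    refine L.conj_le_normalizer fun x hx => L.mem_S.2 ⟨mul_mem (mul_mem hg (L.J_le hx)) (inv_mem hg), ?_⟩
    rw [show (⟨g * x * g⁻¹, _⟩ : L.C) = ⟨g, hg⟩ * ⟨x, L.J_le hx⟩ * ⟨g, hg⟩⁻¹ from Subtype.ext rfl,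
      map_mul, map_mul, map_inv]
    have hti : L.φ ⟨j, L.J_le hj⟩ ∈ L.img := mem_map_of_mem _ (mem_subgroupOf.2 hj)
    rcases L.img_cases hj hjR (mem_map_of_mem L.φ (mem_subgroupOf.2 hx : (⟨x, L.J_le hx⟩ : L.C) ∈ _))
      with e | e | e <;> rw [e]
    · rw [mul_one, mul_inv_cancel]; exact one_mem _
    · rw [he]; exact hti
    · rw [← conj_mul, he]; exact mul_mem hti hti

theorem card_MC : Nat.card ↥(Subgroup.normalizer (L.J : Set G) ⊓ L.C) = 162 := by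
  classical
  obtain ⟨j, hj, hjR⟩ := L.exists_j
  have h := L.card_eq_mul (X := Subgroup.normalizer (L.J : Set G) ⊓ L.C) inf_le_right
  obtain ⟨t, ht⟩ : ∃ t, t = L.φ ⟨j, L.J_le hj⟩ := ⟨_, rfl⟩
  have e : (((Subgroup.normalizer (L.J : Set G) ⊓ L.C).subgroupOf L.C).map L.φ : Set SL) =
      (Finset.univ.filter fun h : SL => h * t * h⁻¹ = t : Finset SL) := by
    ext x
    simp only [Finset.coe_filter, Finset.mem_univ, true_and, Set.mem_ofPred_eq, SetLike.mem_coe]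
    constructor
    · rintro ⟨y, hy, rfl⟩
      exact ht ▸ (L.norm_iff y.2 hj hjR).1 (mem_subgroupOf.1 hy).1
    · intro hx
      obtain ⟨y, rfl⟩ := L.φ_surj x
      exact ⟨y, mem_subgroupOf.2 ⟨(L.norm_iff y.2 hj hjR).2 (ht ▸ hx), y.2⟩, rfl⟩
  rw [show Subgroup.normalizer (L.J : Set G) ⊓ L.C ⊓ L.R = L.R from
      inf_eq_right.2 (le_inf L.R_le_normalizer L.R_le), L.R_card,
    show Nat.card (((Subgroup.normalizer (L.J : Set G) ⊓ L.C).subgroupOf L.C).map L.φ) = 6 by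
      rw [← SetLike.coe_sort_coe, Nat.card_coe_set_eq, e, Set.ncard_coe_finset]
      exact card_cent_three t (ht ▸ L.phi_cube hj) (ht ▸ L.phi_ne _ hjR)] at h
  exact h

theorem center_S {z : G} (h : ∀ x ∈ L.S, z * x = x * z) : z ∈ L.Z := by
  have hzJ := L.cent_J fun x hx => h x (L.J_le_S hx)
  obtain ⟨r, hr, hrJ⟩ := L.exists_r
  by_cases hzR : z ∈ L.R
  · exact L.center_R z hzR fun y hy => h y (L.R_le_S hy)
  · exact (hrJ (L.cent_R_of_J hzJ hzR hr (h r (L.R_le_S hr)).symm)).elim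

include L in
theorem not_243 : ¬ 3 ^ 5 ∣ Nat.card G := by
  intro hd
  haveI : Fact (Nat.Prime 3) := ⟨Nat.prime_three⟩
  obtain ⟨K, hK, hSK⟩ := Sylow.exists_subgroup_card_pow_succ (n := 4) hd (H := L.S) L.card_S
  have hi : (L.S.subgroupOf K).index = 3 := by
    have h := (L.S.subgroupOf K).card_mul_index
    rw [Nat.card_congr (Subgroup.subgroupOfEquivOfLe hSK).toEquiv, L.card_S, hK] at h
    omega
  haveI : (L.S.subgroupOf K).Normal := Subgroup.normal_of_index_eq_minFac_card (by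
    rw [hi, hK, Nat.pow_minFac (by norm_num)]
    norm_num)
  have hn : K ≤ Subgroup.normalizer (L.S : Set G) :=
    (normal_subgroupOf_iff_le_normalizer hSK).1 inferInstance
  have hKC : K ≤ L.C := by
    intro x hx
    have hord : orderOf x ∣ 3 ^ 5 := by
      rw [← hK]; exact Subgroup.orderOf_dvd_natCard _ hx
    have hz : x * L.a * x⁻¹ ∈ L.Z := by
      refine L.center_S fun y hy => ?_
      have hy' : x⁻¹ * y * x ∈ L.S := (mem_normalizer_iff''.1 (hn hx) y).1 hy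
      have hc := L.comm_a (L.S_le_C hy')
      calc x * L.a * x⁻¹ * y = x * (L.a * (x⁻¹ * y * x)) * x⁻¹ := by group
        _ = x * (x⁻¹ * y * x * L.a) * x⁻¹ := by rw [hc]
        _ = _ := by group
    rcases L.Z_cases hz with e | e | e
    · exact absurd (conj_eq_one_iff.1 e) L.a_ne
    · exact L.mem_C.2 (mul_inv_eq_iff_eq_mul.1 e)
    · have h2 : x ^ 2 ∈ L.C := L.mem_C.2 (mul_inv_eq_iff_eq_mul.1 (by
        rw [show x ^ 2 * L.a * (x ^ 2)⁻¹ = x * (x * L.a * x⁻¹) * x⁻¹ by rw [pow_two]; group, e,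
          ← conj_inv, e, inv_inv]))
      have h122 : (x ^ 2) ^ 122 = x := by
        rw [← pow_mul, show 2 * 122 = 3 ^ 5 + 1 from rfl, pow_succ,
          orderOf_dvd_iff_pow_eq_one.1 hord, one_mul]
      exact h122 ▸ pow_mem h2 122
  have h5 : (3 : ℕ) ^ 5 ∣ 648 := L.card_C ▸ hK ▸ card_dvd_of_le hKC
  norm_num at h5

include L in
theorem card_G_factor : (Nat.card G).factorization 3 = 4 := by
  have h1 : 3 ^ 4 ∣ Nat.card G := by
    rw [show 3 ^ 4 = 81 from rfl, ← L.card_S]; exact card_subgroup_dvd_card _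
  have h2 := (Nat.prime_three.pow_dvd_iff_le_factorization Nat.card_pos.ne').1 h1
  have h3 := mt (Nat.prime_three.pow_dvd_iff_le_factorization Nat.card_pos.ne').2 L.not_243
  omega

/-- Every 3-subgroup is conjugate into `S`. -/
theorem exists_conj_S {P : Subgroup G} (hP : IsPGroup 3 P) : ∃ h : G, ∀ x ∈ P, h * x * h⁻¹ ∈ L.S := by
  haveI : Fact (Nat.Prime 3) := ⟨Nat.prime_three⟩
  obtain ⟨Q, hQ⟩ := hP.exists_le_sylow
  obtain ⟨T, hT⟩ : ∃ T : Sylow 3 G, (T : Subgroup G) = L.S :=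
    ⟨Sylow.ofCard L.S (by rw [L.card_S, L.card_G_factor]; rfl), Sylow.coe_ofCard _ _⟩
  obtain ⟨h, hh⟩ := MulAction.exists_smul_eq G Q T
  refine ⟨h, fun x hx => ?_⟩
  rw [← hT, ← hh]
  exact ⟨x, hQ hx, rfl⟩

/-- Fusion in `J` is controlled by the normalizer. -/
theorem fusion {x y g : G} (hx : x ∈ L.J) (hy : y ∈ L.J) (h : g * x * g⁻¹ = y) :
    ∃ n ∈ Subgroup.normalizer (L.J : Set G), n * x * n⁻¹ = y := by
  haveI : Fact (Nat.Prime 3) := ⟨Nat.prime_three⟩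
  obtain ⟨Y, hY⟩ : ∃ Y, Y = Subgroup.centralizer ({y} : Set G) := ⟨_, rfl⟩
  have hJY : L.J ≤ Y := fun v hv => hY ▸ mem_centralizer_singleton_iff.2 (L.J_comm v hv y hy)
  obtain ⟨U, hU⟩ : ∃ U, U = L.J.map (MulAut.conj g).toMonoidHom := ⟨_, rfl⟩
  have hUY : U ≤ Y := by
    rw [hU, hY]
    rintro _ ⟨v, hv, rfl⟩
    rw [mem_centralizer_singleton_iff, ← h]
    show g * v * g⁻¹ * (g * x * g⁻¹) = g * x * g⁻¹ * (g * v * g⁻¹)
    rw [show g * v * g⁻¹ * (g * x * g⁻¹) = g * (v * x) * g⁻¹ by group, L.J_comm v hv x hx]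
    group
  have hJp : IsPGroup 3 L.J := IsPGroup.of_card (n := 3) (by rw [L.J_card]; norm_num)
  have hUp : IsPGroup 3 U := hU ▸ hJp.map _
  obtain ⟨P₁, hP₁⟩ := (hJp.of_equiv (Subgroup.subgroupOfEquivOfLe hJY).symm).exists_le_sylow
  obtain ⟨P₂, hP₂⟩ := (hUp.of_equiv (Subgroup.subgroupOfEquivOfLe hUY).symm).exists_le_sylow
  obtain ⟨c, hc⟩ := MulAction.exists_smul_eq Y P₂ P₁
  obtain ⟨k, hk⟩ := L.exists_conj_S (P := (P₁ : Subgroup Y).map Y.subtype) (P₁.2.map _)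
  have hkJ : k ∈ Subgroup.normalizer (L.J : Set G) := L.conj_le_normalizer fun v hv =>
    hk v ⟨⟨v, hJY hv⟩, hP₁ (mem_subgroupOf.2 hv), rfl⟩
  have hcgJ : (c : G) * g ∈ Subgroup.normalizer (L.J : Set G) := by
    have h' : k * ((c : G) * g) ∈ Subgroup.normalizer (L.J : Set G) := L.conj_le_normalizer fun v hv => by
      have hv' : g * v * g⁻¹ ∈ U := hU ▸ ⟨v, hv, rfl⟩
      have h1 : c * ⟨g * v * g⁻¹, hUY hv'⟩ * c⁻¹ ∈ ((c • P₂ : Sylow 3 Y) : Subgroup Y) := by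
        rw [Sylow.coe_subgroup_smul]
        exact ⟨_, hP₂ (mem_subgroupOf.2 hv'), rfl⟩
      rw [hc] at h1
      have h2 := hk _ ⟨_, h1, rfl⟩
      rwa [show k * ((c : G) * g) * v * (k * ((c : G) * g))⁻¹ =
        k * ((c : G) * (g * v * g⁻¹) * (c : G)⁻¹) * k⁻¹ by group]
    simpa using mul_mem (inv_mem hkJ) h'
  refine ⟨_, hcgJ, ?_⟩
  have hcy : (c : G) * y = y * c := mem_centralizer_singleton_iff.1 (hY.le c.2)
  rw [show (c : G) * g * x * ((c : G) * g)⁻¹ = (c : G) * (g * x * g⁻¹) * (c : G)⁻¹ by group, h, hcy,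
    mul_inv_cancel_right]

end Local

end CfsgLib.SpSixThree.First
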