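import Cfsg.Agent.Lib.Recog.SpSixThree.FirstFacts
import Cfsg.Agent.Lib.AmalgamSpThree.GraphBasics
import Mathlib.GroupTheory.PGroup
import Mathlib.GroupTheory.QuotientGroup.Basic

/-!
# The local structure of the centralizer
-/

set_option autoImplicit false
set_option linter.unusedSectionVars false

namespace CfsgLib.SpSixThree.First

open Subgroup

/-- The centralizer of an element of order three with its map to `SL₂(3)`, and the signalizer free
elementary abelian subgroup. -/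
structure Local (G : Type*) [Group G] where
  a : G
  ha : orderOf a = 3
  R : Subgroup G
  R_le : R ≤ Subgroup.centralizer ({a} : Set G)
  R_card : Nat.card R = 27
  R_exp : ∀ r ∈ R, r ^ 3 = 1
  a_mem : a ∈ R
  center_R : ∀ x ∈ R, (∀ y ∈ R, x * y = y * x) → x ∈ Subgroup.zpowers a
  φ : ↥(Subgroup.centralizer ({a} : Set G)) →* SL
  φ_surj : Function.Surjective φ
  φ_ker : ∀ x, φ x = 1 ↔ (x : G) ∈ R
  J : Subgroup G
  J_le : J ≤ Subgroup.centralizer ({a} : Set G)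
  J_comm : ∀ x ∈ J, ∀ y ∈ J, x * y = y * x
  J_exp : ∀ j ∈ J, j ^ 3 = 1
  J_card : Nat.card J = 27
  sig : ∀ K : Subgroup G, (Nat.card K).Coprime 3 → J ≤ Subgroup.normalizer (K : Set G) → K = ⊥

namespace Local

variable {G : Type*} [Group G] [Finite G] (L : Local G)

/-- The centralizer of `a`. -/
abbrev C : Subgroup G := Subgroup.centralizer ({L.a} : Set G)

/-- The subgroup `⟨a⟩`. -/
abbrev Z : Subgroup G := Subgroup.zpowers L.a

theorem comm_a {g : G} (hg : g ∈ L.C) : g * L.a = L.a * g := mem_centralizer_singleton_iff.1 hg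

theorem mem_C {g : G} : g ∈ L.C ↔ g * L.a = L.a * g := mem_centralizer_singleton_iff

theorem Z_le_R : L.Z ≤ L.R := zpowers_le.2 L.a_mem

theorem a_ne : L.a ≠ 1 := fun h => by
  have := L.ha
  rw [h, orderOf_one] at this
  omega

theorem a_cube : L.a ^ 3 = 1 := L.ha ▸ pow_orderOf_eq_one L.a

theorem card_Z : Nat.card L.Z = 3 := by rw [Nat.card_zpowers, L.ha]

theorem Z_cases {x : G} (hx : x ∈ L.Z) : x = 1 ∨ x = L.a ∨ x = L.a⁻¹ := by
  classical
  rw [mem_zpowers_iff_mem_range_orderOf, L.ha] at hx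
  obtain ⟨n, hn, rfl⟩ := Finset.mem_image.1 hx
  rw [Finset.mem_range] at hn
  interval_cases n
  · exact Or.inl (pow_zero _)
  · exact Or.inr (Or.inl (pow_one _))
  · refine Or.inr (Or.inr (eq_inv_of_mul_eq_one_left ?_))
    rw [← pow_succ, L.a_cube]

theorem Z_comm {z g : G} (hz : z ∈ L.Z) (hg : g ∈ L.C) : g * z = z * g := by
  obtain ⟨k, rfl⟩ := mem_zpowers_iff.1 hz
  exact (Commute.zpow_right (L.comm_a hg : Commute g L.a) k).eq

theorem Z_cube {z : G} (hz : z ∈ L.Z) : z ^ 3 = 1 := L.R_exp _ (L.Z_le_R hz)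

theorem R_normal {g r : G} (hg : g ∈ L.C) (hr : r ∈ L.R) : g * r * g⁻¹ ∈ L.R := by
  have h := (L.φ_ker ⟨r, L.R_le hr⟩).2 hr
  have h' := (L.φ_ker (⟨g, hg⟩ * ⟨r, L.R_le hr⟩ * ⟨g, hg⟩⁻¹)).1
    (by rw [map_mul, map_mul, map_inv, h, mul_one, mul_inv_cancel])
  exact h'

theorem R_not_comm : ¬ ∀ x ∈ L.R, ∀ y ∈ L.R, x * y = y * x := fun h => by
  have h1 : L.R ≤ L.Z := fun x hx => L.center_R x hx (h x hx)
  have h2 := Nat.le_of_dvd Nat.card_pos (card_dvd_of_le h1)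
  rw [L.R_card, L.card_Z] at h2
  omega

/-- Commutators in `R` are powers of `a`. -/
theorem comm_mem_Z {x y : G} (hx : x ∈ L.R) (hy : y ∈ L.R) : x * y * x⁻¹ * y⁻¹ ∈ L.Z := by
  haveI : Fact (Nat.Prime 3) := ⟨Nat.prime_three⟩
  have hcen : Subgroup.center L.R = L.Z.subgroupOf L.R := by
    ext z
    rw [mem_center_iff, mem_subgroupOf]
    exact ⟨fun h => L.center_R z z.2 fun y hy => (congrArg Subtype.val (h ⟨y, hy⟩)).symm,
      fun h w => Subtype.ext (L.Z_comm h (L.R_le w.2))⟩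
  have hq : Nat.card (↥L.R ⧸ Subgroup.center L.R) = 3 ^ 2 := by
    have h := (Subgroup.center L.R).card_eq_card_quotient_mul_card_subgroup
    rw [L.R_card, show Nat.card (Subgroup.center L.R) = 3 by
      rw [hcen, Nat.card_congr (Subgroup.subgroupOfEquivOfLe L.Z_le_R).toEquiv, L.card_Z]] at h
    omega
  have h := IsPGroup.commutative_of_card_eq_prime_sq hq
    (QuotientGroup.mk ⟨x, hx⟩) (QuotientGroup.mk ⟨y, hy⟩)
  have h1 : (QuotientGroup.mk (⟨x, hx⟩ * ⟨y, hy⟩ * ⟨x, hx⟩⁻¹ * ⟨y, hy⟩⁻¹) :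
      ↥L.R ⧸ Subgroup.center L.R) = 1 := by
    rw [QuotientGroup.mk_mul, QuotientGroup.mk_mul, QuotientGroup.mk_mul, QuotientGroup.mk_inv,
      QuotientGroup.mk_inv, h, mul_inv_cancel_right, mul_inv_cancel]
  rw [QuotientGroup.eq_one_iff, hcen, mem_subgroupOf] at h1
  exact h1

/-- An element acting trivially on `R / Z(R)` lies in `R`. -/
theorem faith {g : G} (hg : g ∈ L.C) (h : ∀ x ∈ L.R, g * x * g⁻¹ * x⁻¹ ∈ L.Z) : g ∈ L.R := by
  let P : ↥L.C → Prop := fun c => ∀ x ∈ L.R, (c : G) * x * (c : G)⁻¹ * x⁻¹ ∈ L.Z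
  have hmul : ∀ c d, P c → P d → P (c * d) := by
    intro c d hc hd x hx
    have h1 := hd x hx
    have h2 := hc x hx
    have h3 := L.Z_comm h1 c.2
    rw [Subgroup.coe_mul, show (c : G) * d * x * ((c : G) * d)⁻¹ * x⁻¹ =
      (c : G) * ((d : G) * x * (d : G)⁻¹ * x⁻¹) * (c : G)⁻¹ * ((c : G) * x * (c : G)⁻¹ * x⁻¹) by group]
    rw [h3, mul_inv_cancel_right]
    exact mul_mem h1 h2
  have hone : P 1 := fun x _ => by simp
  have hinv : ∀ c, P c → P c⁻¹ := by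
    intro c hc
    obtain ⟨k, hk, hk1⟩ : ∃ k : ℕ, 0 < k ∧ c ^ k = 1 := (isOfFinOrder_of_finite c).exists_pow_eq_one
    have hpow : ∀ m : ℕ, P (c ^ m) := fun m => by
      induction m with
      | zero => rw [pow_zero]; exact hone
      | succ m ih => rw [pow_succ]; exact hmul _ _ ih hc
    rw [show c⁻¹ = c ^ (k - 1) from inv_eq_of_mul_eq_one_right (by
      rw [← pow_succ', Nat.sub_add_cancel hk, hk1])]
    exact hpow _
  let K : Subgroup L.C :=
    { carrier := {c | P c}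
      one_mem' := hone
      mul_mem' := fun {c d} hc hd => hmul c d hc hd
      inv_mem' := fun {c} hc => hinv c hc }
  haveI : K.Normal := ⟨fun k hk c => by
    intro x hx
    have h1 := hk _ (L.R_normal (inv_mem c.2) hx)
    rw [inv_inv] at h1
    have h2 := L.Z_comm h1 c.2
    rw [Subgroup.coe_mul, Subgroup.coe_mul, InvMemClass.coe_inv,
      show (c : G) * k * (c : G)⁻¹ * x * ((c : G) * k * (c : G)⁻¹)⁻¹ * x⁻¹ =
      (c : G) * ((k : G) * ((c : G)⁻¹ * x * c) * (k : G)⁻¹ * ((c : G)⁻¹ * x * c)⁻¹) * (c : G)⁻¹ by group,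
      h2, mul_inv_cancel_right]
    exact h1⟩
  haveI : (K.map L.φ).Normal := Subgroup.Normal.map inferInstance _ L.φ_surj
  by_contra hgR
  have hne : L.φ ⟨g, hg⟩ ≠ 1 := fun e => hgR ((L.φ_ker _).1 e)
  have hgK : L.φ ⟨g, hg⟩ ∈ K.map L.φ := mem_map_of_mem _ h
  obtain ⟨d, hdK, hd⟩ : (-1 : SL) ∈ K.map L.φ := by
    obtain ⟨k, n, hk | hk⟩ := exists_neg _ hne
    · rw [← hk]
      refine pow_mem ?_ _
      rw [mul_assoc, mul_assoc]
      refine mul_mem hgK ?_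
      rw [← mul_assoc]
      exact Subgroup.Normal.conj_mem inferInstance _ (inv_mem hgK) _
    · rw [← hk]; exact pow_mem hgK _
  obtain ⟨s, hsdef⟩ : ∃ s, s = d ^ 3 := ⟨_, rfl⟩
  have hs1 : L.φ s = -1 := by rw [hsdef, map_pow, hd]; exact neg_pow.1
  have hsK : P s := hsdef ▸ pow_mem (show d ∈ K from hdK) 3
  have hs2 : (s : G) * s = 1 := by
    have h2 : ((d ^ 2 : L.C) : G) ∈ L.R := (L.φ_ker _).1 (by rw [map_pow, hd, pow_two]; exact neg_pow.2.2)
    have h3 := L.R_exp _ h2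
    rw [← Subgroup.coe_mul, hsdef, ← pow_add]
    rw [← SubgroupClass.coe_pow, ← pow_mul] at h3
    exact h3
  have hsinv : (s : G)⁻¹ = s := inv_eq_of_mul_eq_one_right hs2
  have hzsq : ∀ z : G, z ∈ L.Z → z * z = 1 → z = 1 := fun z hz hz2 => by
    have h3 := L.Z_cube hz
    rwa [pow_succ, pow_two, hz2, one_mul] at h3
  have hcR : ∀ x ∈ L.R, (s : G) * x = x * s := by
    intro x hx
    obtain ⟨z, hz, hzd⟩ : ∃ z, z ∈ L.Z ∧ (s : G) * x * (s : G)⁻¹ * x⁻¹ = z := ⟨_, hsK x hx, rfl⟩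
    have e1 : (s : G) * x * (s : G)⁻¹ = z * x := by rw [← hzd]; group
    have e2 : z * z = 1 := by
      have : x = z * z * x :=
        calc x = ((s : G) * s) * x * ((s : G) * s)⁻¹ := by rw [hs2]; group
          _ = (s : G) * ((s : G) * x * (s : G)⁻¹) * (s : G)⁻¹ := by group
          _ = ((s : G) * z) * (x * (s : G)⁻¹) := by rw [e1]; group
          _ = z * ((s : G) * x * (s : G)⁻¹) := by rw [L.Z_comm hz s.2]; group
          _ = z * z * x := by rw [e1]; group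
      exact (mul_eq_right.1 this.symm)
    rw [hzsq z hz e2, one_mul] at e1
    exact mul_inv_eq_iff_eq_mul.1 e1
  have hcC : ∀ c : L.C, (c : G) * s = s * c := by
    intro c
    obtain ⟨z, hz⟩ : ∃ z : G, z = (c : G) * s * (c : G)⁻¹ * (s : G)⁻¹ := ⟨_, rfl⟩
    have hzR : z ∈ L.R := hz ▸ (L.φ_ker (c * s * c⁻¹ * s⁻¹)).1 (by
      rw [map_mul, map_mul, map_mul, map_inv, map_inv, hs1, neg_central, mul_inv_cancel_right,
        mul_inv_cancel])
    have hcs : ∀ x ∈ L.R, Commute ((c : G) * s * (c : G)⁻¹) x := by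
      intro x hx
      have h1 : (s : G) * ((c : G)⁻¹ * x * c) = (c : G)⁻¹ * x * c * s := by
        have := hcR _ (L.R_normal (inv_mem c.2) hx)
        rwa [inv_inv] at this
      show (c : G) * s * (c : G)⁻¹ * x = x * ((c : G) * s * (c : G)⁻¹)
      calc (c : G) * s * (c : G)⁻¹ * x = (c : G) * (s * ((c : G)⁻¹ * x * c)) * (c : G)⁻¹ := by group
        _ = (c : G) * ((c : G)⁻¹ * x * c * s) * (c : G)⁻¹ := by rw [h1]
        _ = _ := by group
    have hzZ : z ∈ L.Z := L.center_R z hzR fun y hy => by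
      rw [hz]
      exact ((hcs y hy).mul_left (Commute.inv_left (hcR y hy))).eq
    have e1 : (c : G) * s * (c : G)⁻¹ = z * s := by rw [hz]; group
    have e2 : z * z = 1 := by
      calc z * z = z * z * ((s : G) * s) := by rw [hs2, mul_one]
        _ = z * (z * (s : G)) * s := by group
        _ = z * ((s : G) * z) * s := by rw [L.Z_comm hzZ s.2]
        _ = z * s * (z * s) := by group
        _ = (c : G) * ((s : G) * s) * (c : G)⁻¹ := by rw [← e1]; group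
        _ = 1 := by rw [hs2, mul_one, mul_inv_cancel]
    rw [hzsq z hzZ e2, one_mul] at e1
    exact mul_inv_eq_iff_eq_mul.1 e1
  have hsne : (s : G) ≠ 1 := fun e => by
    rw [show s = 1 from Subtype.ext e, map_one] at hs1
    exact neg_pow.2.1 hs1.symm
  refine hsne (zpowers_eq_bot.1 (L.sig _ ?_ fun j hj => ?_))
  · rw [Nat.card_zpowers, orderOf_eq_prime (by rw [pow_two, hs2]) hsne]
    norm_num
  · refine centralizer_le_normalizer _ fun y hy => ?_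
    obtain ⟨k, rfl⟩ := mem_zpowers_iff.1 hy
    exact (Commute.zpow_left (hcC ⟨j, L.J_le hj⟩ : Commute j (s : G)).symm k).eq

/-- A subgroup of order nine of `R`. -/
theorem card_nine {A : Subgroup G} (hA : A ≤ L.R) (ha : L.a ∈ A) {x : G} (hx : x ∈ A) (hxZ : x ∉ L.Z)
    (hne : A ≠ L.R) : Nat.card A = 9 := by
  have h1 : Nat.card A ∣ 3 ^ 3 := by
    rw [show 3 ^ 3 = 27 from rfl, ← L.R_card]; exact card_dvd_of_le hA
  obtain ⟨k, hk, hk'⟩ := (Nat.dvd_prime_pow Nat.prime_three).1 h1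
  have h2 : L.Z < A := lt_of_le_of_ne (zpowers_le.2 ha) fun e => hxZ (e ▸ hx)
  have h3 : 3 < Nat.card A := by
    rw [← L.card_Z]
    exact Set.ncard_lt_ncard (SetLike.coe_ssubset_coe.2 h2) (Set.toFinite _)
  have h4 : Nat.card A ≠ 27 := fun e => hne (eq_of_le_of_card_ge hA (by rw [e, L.R_card]))
  rcases (show k = 0 ∨ k = 1 ∨ k = 2 ∨ k = 3 by omega) with rfl | rfl | rfl | rfl <;> simp_all

/-- The centralizer in `R` of a non-central element. -/
theorem card_cent_R {x : G} (hx : x ∈ L.R) (hxZ : x ∉ L.Z) :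
    Nat.card ↥(L.R ⊓ Subgroup.centralizer ({x} : Set G)) = 9 := by
  refine L.card_nine inf_le_left ⟨L.a_mem, mem_centralizer_singleton_iff.2 (L.comm_a (L.R_le hx)).symm⟩
    (x := x) ⟨hx, mem_centralizer_singleton_iff.2 rfl⟩ hxZ fun e => hxZ (L.center_R x hx fun y hy => ?_)
  exact (mem_centralizer_singleton_iff.1 (e.ge hy).2).symm

/-- An element fixing a non-central element modulo the centre acts on `R` as a `3`-element. -/
theorem stab_three {g : G} (hg : g ∈ L.C) {x : G} (hx : x ∈ L.R) (hxZ : x ∉ L.Z)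
    (hgx : g * x * g⁻¹ * x⁻¹ ∈ L.Z) : L.φ ⟨g, hg⟩ ^ 3 = 1 := by
  obtain ⟨U, hU⟩ : ∃ U, U = L.R ⊓ Subgroup.centralizer ({x} : Set G) := ⟨_, rfl⟩
  have hUR : U ≤ L.R := hU.le.trans inf_le_left
  have hUc : Nat.card U = 9 := hU ▸ L.card_cent_R hx hxZ
  have hxU : x ∈ U := hU ▸ ⟨hx, mem_centralizer_singleton_iff.2 rfl⟩
  have hfix : ∀ v ∈ U, g * v * g⁻¹ * v⁻¹ ∈ L.Z := by
    let T : Subgroup G :=
      { carrier := {v | v ∈ L.R ∧ g * v * g⁻¹ * v⁻¹ ∈ L.Z}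
        one_mem' := ⟨one_mem _, by simp⟩
        mul_mem' := by
          rintro p q ⟨hp, hp'⟩ ⟨hq, hq'⟩
          refine ⟨mul_mem hp hq, ?_⟩
          rw [show g * (p * q) * g⁻¹ * (p * q)⁻¹ =
            g * p * g⁻¹ * (g * q * g⁻¹ * q⁻¹) * p⁻¹ by group,
            L.Z_comm hq' (mul_mem (mul_mem hg (L.R_le hp)) (inv_mem hg)),
            mul_assoc]
          exact mul_mem hq' hp'
        inv_mem' := by
          rintro p ⟨hp, hp'⟩
          refine ⟨inv_mem hp, ?_⟩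
          rw [show g * p⁻¹ * g⁻¹ * p⁻¹⁻¹ = p⁻¹ * (g * p * g⁻¹ * p⁻¹)⁻¹ * p by group,
            L.Z_comm (inv_mem hp') (L.R_le (inv_mem hp)), mul_assoc, inv_mul_cancel, mul_one]
          exact inv_mem hp' }
    have hxT : x ∈ T ⊓ U := ⟨⟨hx, hgx⟩, hxU⟩
    have haT : L.a ∈ T ⊓ U := by
      refine ⟨⟨L.a_mem, ?_⟩, hU ▸ ⟨L.a_mem, mem_centralizer_singleton_iff.2 (L.comm_a (L.R_le hx)).symm⟩⟩
      rw [L.comm_a hg, mul_inv_cancel_right, mul_inv_cancel]; exact one_mem _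
    have hcard : Nat.card ↥(T ⊓ U) = 9 := L.card_nine (inf_le_right.trans hUR) haT hxT hxZ fun e => by
      have := Subgroup.card_le_of_le (e.ge.trans inf_le_right)
      rw [hUc, L.R_card] at this
      omega
    intro v hv
    have hle : U ≤ T := (eq_of_le_of_card_ge inf_le_right (by rw [hcard, hUc])).ge.trans inf_le_left
    exact (hle hv).2
  have hkey : ∀ y ∈ L.R, (g ^ 3) * y * (g ^ 3)⁻¹ * y⁻¹ ∈ L.Z := by
    intro y hy
    obtain ⟨v, hv⟩ : ∃ v, v = g * y * g⁻¹ * y⁻¹ := ⟨_, rfl⟩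
    have hvR : v ∈ L.R := hv ▸ mul_mem (L.R_normal hg hy) (inv_mem hy)
    obtain ⟨c, hc⟩ : ∃ c, c = x * y * x⁻¹ * y⁻¹ := ⟨_, rfl⟩
    have hcZ : c ∈ L.Z := hc ▸ L.comm_mem_Z hx hy
    obtain ⟨z, hz, hzd⟩ : ∃ z, z ∈ L.Z ∧ g * x * g⁻¹ * x⁻¹ = z := ⟨_, hgx, rfl⟩
    have hxe : x = g * (z⁻¹ * x) * g⁻¹ := by
      rw [← mul_assoc g, L.Z_comm (inv_mem hz) hg, show z⁻¹ * g * x * g⁻¹ =
        z⁻¹ * (g * x * g⁻¹ * x⁻¹) * x by group, hzd, inv_mul_cancel, one_mul]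
    have hstep : x * (g * y * g⁻¹) * x⁻¹ * (g * y * g⁻¹)⁻¹ = c :=
      calc x * (g * y * g⁻¹) * x⁻¹ * (g * y * g⁻¹)⁻¹
          = g * (z⁻¹ * x) * g⁻¹ * (g * y * g⁻¹) * (g * (z⁻¹ * x) * g⁻¹)⁻¹ * (g * y * g⁻¹)⁻¹ := by
            rw [← hxe]
        _ = g * (z⁻¹ * (x * y * x⁻¹) * (z * y⁻¹)) * g⁻¹ := by group
        _ = g * (z⁻¹ * (x * y * x⁻¹) * (y⁻¹ * z)) * g⁻¹ := by rw [L.Z_comm hz (L.R_le (inv_mem hy))]
        _ = g * (z⁻¹ * (c * z)) * g⁻¹ := by rw [hc]; group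
        _ = g * c * g⁻¹ := by
            rw [L.Z_comm hz (L.R_le (L.Z_le_R hcZ)), inv_mul_cancel_left]
        _ = c := by rw [L.Z_comm hcZ hg, mul_inv_cancel_right]
    have hxv : x * v = v * x := by
      have h1 : x * v * x⁻¹ * c * v⁻¹ = c :=
        calc x * v * x⁻¹ * c * v⁻¹ = x * (g * y * g⁻¹) * x⁻¹ * (g * y * g⁻¹)⁻¹ := by rw [hc, hv]; group
          _ = c := hstep
      rw [mul_assoc (x * v * x⁻¹), ← L.Z_comm hcZ (L.R_le (inv_mem hvR)), ← mul_assoc,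
        mul_eq_right, mul_inv_eq_one, mul_inv_eq_iff_eq_mul] at h1
      exact h1
    obtain ⟨z', hz', hzd'⟩ : ∃ z', z' ∈ L.Z ∧ g * v * g⁻¹ * v⁻¹ = z' :=
      ⟨_, hfix v (hU ▸ ⟨hvR, mem_centralizer_singleton_iff.2 hxv.symm⟩), rfl⟩
    have e1 : g * y * g⁻¹ = v * y := by rw [hv]; group
    have e2 : g * v * g⁻¹ = z' * v := by rw [← hzd']; group
    have e4 : g * z' * g⁻¹ = z' := by rw [L.Z_comm hz' hg, mul_inv_cancel_right]
    have hvz : Commute v z' := L.Z_comm hz' (L.R_le hvR)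
    have hz3 := L.Z_cube hz'
    have hv3 := L.R_exp v hvR
    have e5 : g ^ 3 * y * (g ^ 3)⁻¹ = y := by
      calc g ^ 3 * y * (g ^ 3)⁻¹ = g * (g * (g * y * g⁻¹) * g⁻¹) * g⁻¹ := by
            rw [pow_succ, pow_two]; group
        _ = g * (g * (v * y) * g⁻¹) * g⁻¹ := by rw [e1]
        _ = g * ((g * v * g⁻¹) * (g * y * g⁻¹)) * g⁻¹ := by group
        _ = g * (z' * v * (v * y)) * g⁻¹ := by rw [e2, e1]
        _ = (g * z' * g⁻¹) * (g * v * g⁻¹) * (g * v * g⁻¹) * (g * y * g⁻¹) := by group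
        _ = z' * (z' * v) * (z' * v) * (v * y) := by rw [e4, e2, e1]
        _ = z' * z' * (v * z') * v * (v * y) := by group
        _ = z' * z' * (z' * v) * v * (v * y) := by rw [hvz.eq]
        _ = z' ^ 3 * v ^ 3 * y := by simp only [pow_succ, pow_zero, one_mul, mul_assoc]
        _ = y := by rw [hz3, hv3, one_mul, one_mul]
    rw [e5, mul_inv_cancel]; exact one_mem _
  have h := (L.φ_ker ⟨g ^ 3, pow_mem hg 3⟩).2 (L.faith (pow_mem hg 3) hkey)
  rw [← h, ← map_pow]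
  rfl

theorem card_C : Nat.card L.C = 648 := by
  have h := L.φ.ker.card_eq_card_quotient_mul_card_subgroup
  rw [Nat.card_congr (QuotientGroup.quotientKerEquivOfSurjective L.φ L.φ_surj).toEquiv, card_sl,
    show L.φ.ker = L.R.subgroupOf L.C from Subgroup.ext fun x => (L.φ_ker x).trans mem_subgroupOf.symm,
    Nat.card_congr (Subgroup.subgroupOfEquivOfLe L.R_le).toEquiv, L.R_card] at h
  exact h

/-- Order formula for subgroups of the centralizer. -/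
theorem card_eq_mul {X : Subgroup G} (hX : X ≤ L.C) :
    Nat.card X = Nat.card ↥(X ⊓ L.R) * Nat.card ((X.subgroupOf L.C).map L.φ) := by
  obtain ⟨ψ, hψ⟩ : ∃ ψ : X →* SL, ψ = L.φ.comp (Subgroup.inclusion hX) := ⟨_, rfl⟩
  have h := ψ.ker.card_eq_card_quotient_mul_card_subgroup
  rw [Nat.card_congr (QuotientGroup.quotientKerEquivRange ψ).toEquiv] at h
  rw [h, mul_comm]
  congr 1
  · rw [show ψ.ker = (X ⊓ L.R).subgroupOf X from Subgroup.ext fun x => by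
      rw [MonoidHom.mem_ker, hψ, mem_subgroupOf, mem_inf]
      exact (L.φ_ker _).trans ⟨fun hr => ⟨x.2, hr⟩, fun hr => hr.2⟩]
    exact Nat.card_congr (Subgroup.subgroupOfEquivOfLe inf_le_left).toEquiv
  · congr 2
    ext t
    rw [MonoidHom.mem_range, mem_map, hψ]
    exact ⟨fun ⟨x, hx⟩ => ⟨⟨x, hX x.2⟩, mem_subgroupOf.2 x.2, hx⟩,
      fun ⟨y, hy, hy'⟩ => ⟨⟨y, mem_subgroupOf.1 hy⟩, hy'⟩⟩

theorem card_map_le_three {X : Subgroup G}
    (h : ∀ g (hg : g ∈ L.C), g ∈ X → L.φ ⟨g, hg⟩ ^ 3 = 1) :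
    Nat.card ((X.subgroupOf L.C).map L.φ) = 1 ∨ Nat.card ((X.subgroupOf L.C).map L.φ) = 3 := by
  haveI : Fact (Nat.Prime 3) := ⟨Nat.prime_three⟩
  have hp : IsPGroup 3 ((X.subgroupOf L.C).map L.φ) := by
    rintro ⟨_, x, hx, rfl⟩
    exact ⟨1, Subtype.ext (by rw [SubgroupClass.coe_pow, pow_one]; exact h x x.2 (mem_subgroupOf.1 hx))⟩
  obtain ⟨k, hk⟩ := hp.exists_card_eq
  have h1 : 3 ^ k ∣ 24 := hk ▸ card_sl ▸ card_subgroup_dvd_card _
  have h2 : k < 2 := by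
    by_contra hh
    have := (pow_dvd_pow 3 (show 2 ≤ k by omega)).trans h1
    norm_num at this
  rcases (show k = 0 ∨ k = 1 by omega) with rfl | rfl <;> [left; right] <;> (rw [hk]; rfl)

/-- The centralizer is transitive on `R` minus the centre. -/
theorem trans {x y : G} (hx : x ∈ L.R) (hxZ : x ∉ L.Z) (hy : y ∈ L.R) (hyZ : y ∉ L.Z) :
    ∃ c ∈ L.C, c * x * c⁻¹ = y := by
  obtain ⟨X, hX⟩ : ∃ X, X = L.C ⊓ Subgroup.centralizer ({x} : Set G) := ⟨_, rfl⟩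
  have hXC : X ≤ L.C := hX.le.trans inf_le_left
  have hXR : Nat.card ↥(X ⊓ L.R) ≤ 9 := by
    rw [← L.card_cent_R hx hxZ]
    exact Subgroup.card_le_of_le fun g hg => ⟨hg.2, (hX.le hg.1).2⟩
  have hXc : Nat.card X ≤ 27 := by
    rw [L.card_eq_mul hXC]
    rcases L.card_map_le_three (X := X) fun g hg hgX => L.stab_three hg hx hxZ (by
      rw [mem_centralizer_singleton_iff.1 (hX.le hgX).2, mul_inv_cancel_right, mul_inv_cancel]
      exact one_mem _) with h | h <;> rw [h] <;> omega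
  obtain ⟨O, hO⟩ : ∃ O : Set G, O = {w | ∃ k ∈ L.C, w = k * x * k⁻¹} := ⟨_, rfl⟩
  have h1 := AmalgamSpThree.card_conj_set L.C x
  rw [← hO, ← hX, L.card_C] at h1
  have h2 : O ⊆ (L.R : Set G) \ (L.Z : Set G) := by
    rw [hO]
    rintro _ ⟨k, hk, rfl⟩
    refine ⟨L.R_normal hk hx, fun hz => hxZ ?_⟩
    have hh : k⁻¹ * (k * x * k⁻¹) * k⁻¹⁻¹ = k * x * k⁻¹ := by
      rw [L.Z_comm hz (inv_mem hk), mul_inv_cancel_right]
    rw [show k⁻¹ * (k * x * k⁻¹) * k⁻¹⁻¹ = x by group] at hh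
    exact hh ▸ hz
  have h3 : ((L.R : Set G) \ (L.Z : Set G)).ncard = 24 := by
    rw [Set.ncard_sdiff (SetLike.coe_subset_coe.2 L.Z_le_R) (Set.toFinite _),
      ← Nat.card_coe_set_eq, ← Nat.card_coe_set_eq]
    show Nat.card L.R - Nat.card L.Z = 24
    rw [L.R_card, L.card_Z]
  have h4 : O = (L.R : Set G) \ (L.Z : Set G) :=
    Set.eq_of_subset_of_ncard_le h2 (by rw [h3]; nlinarith) (Set.toFinite _)
  obtain ⟨k, hk, hk'⟩ := hO.le (h4.ge ⟨hy, hyZ⟩)
  exact ⟨k, hk, hk'.symm⟩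

end Local

end CfsgLib.SpSixThree.First
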