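import Cfsg.Agent.Lib.Recog.SpSixThree.FirstJ
import Cfsg.Agent.Lib.AmalgamSpThree.Build
import Cfsg.Agent.Lib.Invol.TransferControl
import Mathlib.GroupTheory.SpecificGroups.Cyclic

/-!
# The normalizer of `J`: index three, or the symmetric group of degree four
-/

set_option autoImplicit false
set_option linter.unusedSectionVars false
set_option linter.style.haveILetI false

namespace CfsgLib.SpSixThree.First

open Subgroup

namespace Local

variable {G : Type*} [Group G] [Finite G] (L : Local G)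

/-- The normalizer of `J`. -/
abbrev M : Subgroup G := Subgroup.normalizer (L.J : Set G)

include L in
theorem index_three (hM : L.M ≤ L.C) : ∃ N : Subgroup G, N.Normal ∧ N.index = 3 := by
  haveI : Fact (Nat.Prime 3) := ⟨Nat.prime_three⟩
  haveI : IsCyclic L.img := isCyclic_of_prime_card L.card_W_img.2
  letI : CommGroup L.img := IsCyclic.commGroup
  let χ : ↥L.S →* L.img :=
    (L.φ.comp (Subgroup.inclusion L.S_le_C)).codRestrict _ fun g => (L.mem_S.1 g.2).2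
  have hχ : ∀ (g : G) (hg : g ∈ L.S), ((χ ⟨g, hg⟩ : L.img) : SL) = L.φ ⟨g, L.S_le_C hg⟩ := fun g hg => rfl
  have key : ∀ x (hx : x ∈ L.J), ∀ (g : G) (hy : g⁻¹ * x * g ∈ L.S),
      χ ⟨g⁻¹ * x * g, hy⟩ = χ ⟨x, L.J_le_S hx⟩ := by
    intro x hx g hy
    refine Subtype.ext ?_
    rw [hχ, hχ]
    obtain ⟨y, hyd⟩ : ∃ y, y = g⁻¹ * x * g := ⟨_, rfl⟩
    have hy' : y ∈ L.S := hyd ▸ hy
    rw [show (⟨g⁻¹ * x * g, L.S_le_C hy⟩ : L.C) = ⟨y, L.S_le_C hy'⟩ from Subtype.ext hyd.symm]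
    have hgy : g⁻¹ * x * g⁻¹⁻¹ = y := by rw [inv_inv, hyd]
    have hy3 : y ^ 3 = 1 := by rw [← hgy, conj_pow, L.J_exp x hx, mul_one, mul_inv_cancel]
    rcases L.three_cases hy' hy3 with hyJ | hyR
    · obtain ⟨n, hn, hne⟩ := L.fusion hx hyJ hgy
      have hnC := hM hn
      rw [show (⟨y, L.S_le_C hy'⟩ : L.C) = ⟨n, hnC⟩ * ⟨x, L.J_le hx⟩ * ⟨n, hnC⟩⁻¹ from
        Subtype.ext hne.symm, map_mul, map_mul, map_inv]
      by_cases hxR : x ∈ L.R
      · rw [(L.φ_ker ⟨x, L.J_le hx⟩).2 hxR, mul_one, mul_inv_cancel]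
      · exact (L.norm_iff hnC hx hxR).1 hn
    · obtain ⟨c, hc, hcW⟩ : ∃ c ∈ L.C, c * y * c⁻¹ ∈ L.W := by
        by_cases hyZ : y ∈ L.Z
        · exact ⟨1, one_mem _, by rw [one_mul, inv_one, mul_one]; exact (zpowers_le.2 L.a_mem_W) hyZ⟩
        · obtain ⟨w, hw, hwZ⟩ := L.exists_w
          obtain ⟨c, hc, hce⟩ := L.trans hyR hyZ hw.2 hwZ
          exact ⟨c, hc, hce.symm ▸ hw⟩
      obtain ⟨n, hn, hne⟩ := L.fusion hx hcW.1 (g := c * g⁻¹) (by rw [← hgy]; group)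
      have hxR : x ∈ L.R := by
        have h := L.R_normal (inv_mem (hM hn)) hcW.2
        rwa [← hne, show n⁻¹ * (n * x * n⁻¹) * n⁻¹⁻¹ = x by group] at h
      rw [(L.φ_ker _).2 hyR]
      exact ((L.φ_ker _).2 hxR).symm
  obtain ⟨j, hj, hjR⟩ := L.exists_j
  have hidx : Nat.Coprime 3 L.S.index := (Nat.Prime.coprime_iff_not_dvd Nat.prime_three).2 fun h =>
    L.not_243 (by
      rw [← L.S.card_mul_index, L.card_S, show (3 : ℕ) ^ 5 = 81 * 3 from rfl]
      exact Nat.mul_dvd_mul_left _ h)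
  have hne : MonoidHom.transfer χ j ≠ 1 := by
    refine CfsgLib.Invol.transfer_ne_one χ hidx (L.J_le_S hj) (k := 1) ?_ ?_ fun k g hk => ?_
    · rw [pow_one]
      exact orderOf_eq_prime (L.J_exp j hj) fun e => hjR (e ▸ one_mem _)
    · exact fun e => L.phi_ne (L.S_le_C (L.J_le_S hj)) hjR (congrArg Subtype.val e)
    · rw [key _ (pow_mem hj k) g hk, ← map_pow]
      rfl
  refine ⟨(MonoidHom.transfer χ).ker, inferInstance, ?_⟩
  rw [Subgroup.index_ker]
  have h3 := (MonoidHom.transfer χ).range.card_subgroup_dvd_card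
  rw [L.card_W_img.2] at h3
  refine ((Nat.dvd_prime Nat.prime_three).1 h3).resolve_left fun h1 => hne ?_
  have := Subgroup.eq_bot_of_card_eq _ h1
  exact Subgroup.mem_bot.1 (this ▸ ⟨j, rfl⟩)

variable {L}

/-- The conjugates of `a` under the normalizer. -/
def orb (L : Local G) : Set G := {x | ∃ k ∈ L.M, x = k * L.a * k⁻¹}

instance (L : Local G) : MulAction L.M L.orb where
  smul m x := ⟨(m : G) * x * (m : G)⁻¹, by
    obtain ⟨k, hk, hx⟩ := x.2
    exact ⟨m * k, mul_mem m.2 hk, by rw [hx]; group⟩⟩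
  one_smul x := Subtype.ext (by show ((1 : L.M) : G) * x * ((1 : L.M) : G)⁻¹ = x; simp)
  mul_smul m n x := Subtype.ext (by
    show ((m * n : L.M) : G) * x * ((m * n : L.M) : G)⁻¹ = (m : G) * ((n : G) * x * (n : G)⁻¹) * (m : G)⁻¹
    rw [Subgroup.coe_mul]; group)

theorem smul_orb (m : L.M) (x : L.orb) : ((m • x : L.orb) : G) = (m : G) * x * (m : G)⁻¹ := rfl

theorem a_mem_orb : L.a ∈ L.orb := ⟨1, one_mem _, by group⟩

theorem orb_le_J {x : G} (h : x ∈ L.orb) : x ∈ L.J := by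
  obtain ⟨k, hk, rfl⟩ := h
  exact L.conj_J hk L.a_mem_J

variable (hna : ∀ g : G, g * L.a * g⁻¹ ≠ L.a⁻¹)
include hna

theorem orb_inv {x : G} (h : x ∈ L.orb) : x⁻¹ ∉ L.orb := by
  rintro ⟨k', -, hk'⟩
  obtain ⟨k, -, rfl⟩ := h
  refine hna (k⁻¹ * k') ?_
  calc k⁻¹ * k' * L.a * (k⁻¹ * k')⁻¹ = k⁻¹ * (k' * L.a * k'⁻¹) * k := by group
    _ = L.a⁻¹ := by rw [← hk']; group

theorem orb_inter_R {x : G} (h : x ∈ L.orb) (hR : x ∈ L.R) : x = L.a := by
  by_cases hZ : x ∈ L.Z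
  · rcases L.Z_cases hZ with e | e | e
    · obtain ⟨k, -, rfl⟩ := h
      exact absurd (conj_eq_one_iff.1 e) L.a_ne
    · exact e
    · exact (L.orb_inv hna L.a_mem_orb (e ▸ h)).elim
  · exfalso
    obtain ⟨c, -, hc⟩ := L.trans hR hZ (inv_mem hR) fun e => hZ (inv_mem_iff.1 e)
    obtain ⟨k, -, hk⟩ := h
    refine hna (k⁻¹ * c * k) ?_
    calc k⁻¹ * c * k * L.a * (k⁻¹ * c * k)⁻¹ = k⁻¹ * (c * (k * L.a * k⁻¹) * c⁻¹) * k := by group
      _ = k⁻¹ * x⁻¹ * k := by rw [← hk, hc]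
      _ = L.a⁻¹ := by rw [hk]; group

theorem card_M_mul : L.orb.ncard * 162 = Nat.card L.M := by
  have h := AmalgamSpThree.card_conj_set L.M L.a
  rw [show {x : G | ∃ k ∈ L.M, x = k * L.a * k⁻¹} = L.orb from rfl, L.card_MC] at h
  exact h

theorem orb_le_ten : L.orb.ncard ≤ 10 := by
  obtain ⟨A, hA⟩ : ∃ A, A = L.orb \ {L.a} := ⟨_, rfl⟩
  have hsub : A ∪ A⁻¹ ⊆ (L.J : Set G) \ (L.W : Set G) := by
    rintro x (hx | hx)
    · rw [hA] at hx
      exact ⟨L.orb_le_J hx.1, fun hW => hx.2 (L.orb_inter_R hna hx.1 hW.2)⟩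
    · rw [Set.mem_inv, hA] at hx
      refine ⟨inv_mem_iff.1 (L.orb_le_J hx.1), fun hW => hx.2 (L.orb_inter_R hna hx.1 (inv_mem hW.2))⟩
  have hd : Disjoint A A⁻¹ := Set.disjoint_left.2 fun x hx hx' => by
    rw [Set.mem_inv] at hx'
    rw [hA] at hx hx'
    exact L.orb_inv hna hx.1 hx'.1
  have h := Set.ncard_le_ncard hsub (Set.toFinite _)
  rw [Set.ncard_union_eq hd (Set.toFinite _) (Set.toFinite _), Set.ncard_inv,
    Set.ncard_sdiff (SetLike.coe_subset_coe.2 inf_le_left) (Set.toFinite _),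
    ← Nat.card_coe_set_eq (L.J : Set G), ← Nat.card_coe_set_eq (L.W : Set G)] at h
  simp only [SetLike.coe_sort_coe, L.J_card, L.card_W] at h
  rw [hA, Set.ncard_sdiff_singleton_of_mem L.a_mem_orb] at h
  omega

theorem orb_mod_three : L.orb.ncard % 3 = 1 := by
  haveI : Fact (Nat.Prime 3) := ⟨Nat.prime_three⟩
  letI : MulAction L.S L.orb := MulAction.compHom _ (Subgroup.inclusion L.S_le_normalizer)
  have hS : IsPGroup 3 L.S := IsPGroup.of_card (n := 4) (by rw [L.card_S]; norm_num)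
  have h := hS.card_modEq_card_fixedPoints L.orb
  have hfix : MulAction.fixedPoints L.S L.orb = {⟨L.a, L.a_mem_orb⟩} := by
    ext x
    constructor
    · intro hx
      refine Set.mem_singleton_iff.2 (Subtype.ext (L.orb_inter_R hna x.2 (L.Z_le_R (L.center_S fun y hy => ?_))))
      exact (mul_inv_eq_iff_eq_mul.1 (congrArg Subtype.val (hx ⟨y, hy⟩) : y * (x : G) * y⁻¹ = x)).symm
    · intro hx y
      rw [Set.mem_singleton_iff] at hx
      subst hx
      exact Subtype.ext (show (y : G) * L.a * (y : G)⁻¹ = L.a by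
        rw [L.comm_a (L.S_le_C y.2), mul_inv_cancel_right])
  rw [hfix] at h
  simp only [Nat.card_coe_set_eq, Set.ncard_singleton] at h
  exact h

omit hna in
theorem no_big_prime {q : ℕ} (hq : q = 5 ∨ q = 7) : ¬ q ∣ Nat.card L.M := by
  intro hd
  haveI : Fact q.Prime := ⟨by rcases hq with rfl | rfl <;> norm_num⟩
  obtain ⟨g, hg⟩ := exists_prime_orderOf_dvd_card' q hd
  let P : Subgroup G := Subgroup.zpowers (g : G)
  have hPM : P ≤ L.M := zpowers_le.2 g.2
  letI : MulAction P L.J :=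
    { smul := fun k j => ⟨(k : G) * j * (k : G)⁻¹, L.conj_J (hPM k.2) j.2⟩
      one_smul := fun x => Subtype.ext (by show ((1 : P) : G) * x * ((1 : P) : G)⁻¹ = x; simp)
      mul_smul := fun m n x => Subtype.ext (by
        show ((m * n : P) : G) * x * ((m * n : P) : G)⁻¹ =
          (m : G) * ((n : G) * x * (n : G)⁻¹) * (m : G)⁻¹
        rw [Subgroup.coe_mul]; group) }
  have hord : orderOf (g : G) = q := by rw [Subgroup.orderOf_coe, hg]
  have hP : IsPGroup q P := IsPGroup.of_card (n := 1) (by rw [Nat.card_zpowers, hord, pow_one])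
  have h := hP.card_modEq_card_fixedPoints L.J
  have hfix : Nat.card (MulAction.fixedPoints P L.J) =
      Nat.card ↥(L.J ⊓ Subgroup.centralizer (P : Set G)) := by
    refine Nat.card_congr ⟨fun x => ⟨(x.1 : G), x.1.2, mem_centralizer_iff.2 fun k hk => ?_⟩,
      fun x => ⟨⟨x, x.2.1⟩, fun k => Subtype.ext ?_⟩, fun _ => rfl, fun _ => rfl⟩
    · exact mul_inv_eq_iff_eq_mul.1 (congrArg Subtype.val (x.2 ⟨k, hk⟩) : k * (x.1 : G) * k⁻¹ = x.1)
    · show (k : G) * x * (k : G)⁻¹ = x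
      rw [mem_centralizer_iff.1 x.2.2 k k.2, mul_inv_cancel_right]
  rw [hfix, L.J_card] at h
  have hdv : Nat.card ↥(L.J ⊓ Subgroup.centralizer (P : Set G)) ∣ 3 ^ 3 := by
    rw [show 3 ^ 3 = 27 from rfl, ← L.J_card]; exact card_dvd_of_le inf_le_left
  obtain ⟨k, hk, hk'⟩ := (Nat.dvd_prime_pow Nat.prime_three).1 hdv
  have hall : L.J ⊓ Subgroup.centralizer (P : Set G) = L.J := by
    refine eq_of_le_of_card_ge inf_le_left ?_
    rw [L.J_card, hk']
    rw [hk'] at h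
    rcases hq with rfl | rfl <;>
      (rcases (show k = 0 ∨ k = 1 ∨ k = 2 ∨ k = 3 by omega) with rfl | rfl | rfl | rfl) <;>
      first | omega | exact absurd h (by decide)
  have hgJ : (g : G) ∈ L.J := L.cent_J fun x hx =>
    mem_centralizer_iff.1 (hall.ge hx).2 g (mem_zpowers _)
  have h27 : q ∣ 27 := by rw [← hord, ← L.J_card]; exact Subgroup.orderOf_dvd_natCard _ hgJ
  rcases hq with rfl | rfl <;> norm_num at h27

variable (hM : ¬ L.M ≤ L.C)
include hM

omit hna in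
theorem orb_ne_singleton : 2 ≤ L.orb.ncard := by
  obtain ⟨n, hn, hnC⟩ := SetLike.not_le_iff_exists.1 hM
  exact (Set.one_lt_ncard (Set.toFinite _)).2 ⟨_, ⟨n, hn, rfl⟩, _, L.a_mem_orb,
    fun e => hnC (L.mem_C.2 (mul_inv_eq_iff_eq_mul.1 e))⟩

theorem card_orb : L.orb.ncard = 4 := by
  have h1 := L.orb_ne_singleton hM
  have h2 := L.orb_le_ten hna
  have h3 := L.orb_mod_three hna
  rcases (show L.orb.ncard = 4 ∨ L.orb.ncard = 7 ∨ L.orb.ncard = 10 by omega) with e | e | e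
  · exact e
  · exact absurd (by rw [← L.card_M_mul hna, e]; norm_num) (L.no_big_prime (q := 7) (Or.inr rfl))
  · exact absurd (by rw [← L.card_M_mul hna, e]; norm_num) (L.no_big_prime (q := 5) (Or.inl rfl))

theorem card_M : Nat.card L.M = 648 := by
  rw [← L.card_M_mul hna, L.card_orb hna hM]

/-- Only `J` fixes all the conjugates. -/
theorem mem_J_of_fix {m : G} (hm : m ∈ L.M) (h : ∀ x ∈ L.orb, m * x * m⁻¹ = x) : m ∈ L.J := by
  have hmC : m ∈ L.C := L.mem_C.2 (mul_inv_eq_iff_eq_mul.1 (h _ L.a_mem_orb))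
  obtain ⟨x, hx, hxa⟩ := Set.exists_ne_of_one_lt_ncard (show 1 < L.orb.ncard by
    rw [L.card_orb hna hM]; norm_num) L.a
  have hxJ := L.orb_le_J hx
  have hxR : x ∉ L.R := fun e => hxa (L.orb_inter_R hna hx e)
  obtain ⟨r, hr, hrJ⟩ := L.exists_r
  have hxr : r * x * r⁻¹ ∈ L.orb := by
    obtain ⟨k, hk, rfl⟩ := hx
    exact ⟨r * k, mul_mem (L.R_le_normalizer hr) hk, by group⟩
  obtain ⟨u, hu⟩ : ∃ u, u = x * r * x⁻¹ * r⁻¹ := ⟨_, rfl⟩
  have huR : u ∈ L.R := hu ▸ mul_mem (L.R_normal (L.J_le hxJ) hr) (inv_mem hr)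
  have huZ : u ∉ L.Z := hu ▸ L.comm_not_Z hxJ hxR hr hrJ
  have hmu : m * u * m⁻¹ = u := by
    rw [hu, show x * r * x⁻¹ * r⁻¹ = x * (r * x * r⁻¹)⁻¹ by group,
      show m * (x * (r * x * r⁻¹)⁻¹) * m⁻¹ = m * x * m⁻¹ * (m * (r * x * r⁻¹) * m⁻¹)⁻¹ by group,
      h x hx, h _ hxr]
  have h3 := L.stab_three hmC huR huZ (by rw [hmu, mul_inv_cancel]; exact one_mem _)
  have hc := (L.norm_iff hmC hxJ hxR).1 hm
  have hS : m ∈ L.S := by
    refine L.mem_S.2 ⟨hmC, ?_⟩
    have hti : L.φ ⟨x, L.J_le hxJ⟩ ∈ L.img := mem_map_of_mem _ (mem_subgroupOf.2 hxJ)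
    rcases cent_three _ (L.phi_cube hxJ) (L.phi_ne _ hxR) _ hc h3 with e | e | e <;> rw [e]
    · exact one_mem _
    · exact hti
    · exact mul_mem hti hti
  obtain ⟨j, hj, r', hr', rfl⟩ := L.S_decomp hS
  refine mul_mem hj (L.cent_R_of_J hxJ hxR hr' (mul_left_cancel (a := j) ?_))
  have e := mul_inv_eq_iff_eq_mul.1 (h x hx)
  rw [← mul_assoc, e, ← mul_assoc, L.J_comm x hxJ j hj, mul_assoc]

/-- The normalizer of `J` induces the symmetric group on the four conjugates. -/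
theorem exists_sym_four [hn : (L.J.subgroupOf L.M).Normal] :
    Nonempty (↥L.M ⧸ L.J.subgroupOf L.M ≃* Equiv.Perm (Fin 4)) := by
  classical
  obtain ⟨e⟩ : Nonempty (L.orb ≃ Fin 4) := ⟨(Finite.equivFinOfCardEq (by
    rw [Nat.card_coe_set_eq, L.card_orb hna hM]))⟩
  let ψ : L.M →* Equiv.Perm (Fin 4) := e.permCongrHom.toMonoidHom.comp (MulAction.toPermHom L.M L.orb)
  have hker : ψ.ker = L.J.subgroupOf L.M := by
    ext m
    rw [MonoidHom.mem_ker, mem_subgroupOf]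
    show e.permCongrHom (MulAction.toPermHom L.M L.orb m) = 1 ↔ _
    rw [MulEquiv.map_eq_one_iff]
    constructor
    · intro hm
      refine L.mem_J_of_fix hna hM m.2 fun x hx => ?_
      exact congrArg Subtype.val (Equiv.congr_fun hm (⟨x, hx⟩ : L.orb))
    · intro hm
      refine Equiv.ext fun x => Subtype.ext ?_
      show (m : G) * x * (m : G)⁻¹ = x
      rw [L.J_comm m hm x (L.orb_le_J x.2), mul_inv_cancel_right]
  have hcard : Nat.card ψ.range = 24 := by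
    have h := ψ.ker.card_eq_card_quotient_mul_card_subgroup
    rw [Nat.card_congr (QuotientGroup.quotientKerEquivRange ψ).toEquiv, L.card_M hna hM, hker,
      Nat.card_congr (Subgroup.subgroupOfEquivOfLe le_normalizer).toEquiv, L.J_card] at h
    omega
  have hsurj : Function.Surjective ψ := MonoidHom.range_eq_top.1 (eq_top_of_card_eq _ (by
    rw [hcard, Nat.card_eq_fintype_card, Fintype.card_perm, Fintype.card_fin]; rfl))
  exact ⟨(QuotientGroup.quotientMulEquivOfEq hker.symm).trans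
    (QuotientGroup.quotientKerEquivOfSurjective ψ hsurj)⟩

end Local

end CfsgLib.SpSixThree.First
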