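import Cfsg.Agent.Lib.Recog.SpSixThree.Act
import Mathlib.GroupTheory.GroupAction.Quotient

/-!
# The group induced on `J`: either `⟨a⟩` is invariant or there is a normal four-group
-/

set_option autoImplicit false
set_option linter.unusedSectionVars false

namespace CfsgLib.Recog.SpSixThree

open Subgroup
open scoped commutatorElement Pointwise

/-- An automorphism group element squaring to inversion cannot act on `3³`. -/
theorem no_sqrt_neg {A : Type*} [Group A] [Finite A] (hc : ∀ x y : A, x * y = y * x)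
    (h3 : ∀ x : A, x ^ 3 = 1) (h27 : Nat.card A = 27) (φ : MulAut A)
    (h : ∀ x, φ (φ x) = x⁻¹) : False := by
  have hfix : ∀ u : A, (φ u = u ∨ φ u = u⁻¹) → u = 1 := by
    intro u hu
    have h1 : u = u⁻¹ := by
      rcases hu with hu | hu
      · have := h u
        rwa [hu, hu] at this
      · have := h u
        rwa [hu, map_inv, hu, inv_inv] at this
    have := h3 u
    rwa [pow_succ, pow_two, mul_eq_one_iff_eq_inv.2 h1, one_mul] at this
  have hplane : ∀ x : A, x ≠ 1 → ∃ H : Subgroup A, x ∈ H ∧ (∀ z ∈ H, φ z ∈ H) ∧ Nat.card H = 9 := by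
    intro x hx
    obtain ⟨H, hH⟩ : ∃ H, H = Subgroup.zpowers x ⊔ Subgroup.zpowers (φ x) := ⟨_, rfl⟩
    have hxH : x ∈ H := hH ▸ mem_sup_left (mem_zpowers x)
    have hpH : φ x ∈ H := hH ▸ mem_sup_right (mem_zpowers _)
    have hinv : H ≤ H.comap φ.toMonoidHom := by
      conv_lhs => rw [hH]
      refine sup_le (zpowers_le.2 hpH) (zpowers_le.2 ?_)
      show φ (φ x) ∈ H
      rw [h x]
      exact inv_mem hxH
    refine ⟨H, hxH, fun z hz => hinv hz, ?_⟩
    have hx3 : Nat.card (Subgroup.zpowers x) = 3 := by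
      haveI : Fact (Nat.Prime 3) := ⟨Nat.prime_three⟩
      rw [Nat.card_zpowers]
      exact orderOf_eq_prime (h3 x) hx
    have hlt : 3 < Nat.card H := by
      rw [← hx3]
      refine lt_of_le_of_ne (Subgroup.card_le_of_le (zpowers_le.2 hxH)) fun he => hx ?_
      have hmem := (eq_of_le_of_card_ge (zpowers_le.2 hxH) he.ge).ge hpH
      obtain ⟨k, hk⟩ := mem_zpowers_iff.1 hmem
      have hk' : x ^ (k % 3) = φ x := by
        rw [← hk]
        conv_rhs => rw [← Int.emod_add_mul_ediv k 3, zpow_add, zpow_mul,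
          show (3 : ℤ) = ((3 : ℕ) : ℤ) from rfl, zpow_natCast, h3 x, one_zpow, mul_one]
        rfl
      rcases (show k % 3 = 0 ∨ k % 3 = 1 ∨ k % 3 = 2 by omega) with h1 | h1 | h1 <;> rw [h1] at hk'
      · exact (map_eq_one_iff φ φ.injective).1 (by rw [← hk', zpow_zero])
      · exact hfix x (Or.inl (by rw [← hk', zpow_one]))
      · refine hfix x (Or.inr ?_)
        rw [← hk', show (2 : ℤ) = ((2 : ℕ) : ℤ) from rfl, zpow_natCast]
        exact eq_inv_of_mul_eq_one_left (by rw [← pow_succ]; exact h3 x)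
    have hle : Nat.card H ≤ 9 := by
      haveI : (Subgroup.zpowers (φ x)).Normal := ⟨fun n hn g => by rwa [hc g n, mul_inv_cancel_right]⟩
      have hset : (H : Set A) = (Subgroup.zpowers x : Set A) * (Subgroup.zpowers (φ x) : Set A) := by
        rw [hH]; exact Subgroup.mul_normal _ _
      calc Nat.card H = (H : Set A).ncard := Nat.card_coe_set_eq _
        _ ≤ Nat.card (Subgroup.zpowers x) * Nat.card (Subgroup.zpowers (φ x)) := by
          rw [hset]
          exact Set.natCard_mul_le.trans le_rfl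
        _ ≤ 9 := by
          have h2 : Nat.card (Subgroup.zpowers (φ x)) ≤ 3 := by
            rw [Nat.card_zpowers]; exact Nat.le_of_dvd (by norm_num) (orderOf_dvd_of_pow_eq_one (h3 _))
          rw [hx3]; omega
    obtain ⟨k, hk, he⟩ := (Nat.dvd_prime_pow Nat.prime_three).1
      (show Nat.card H ∣ 3 ^ 3 from (Subgroup.card_subgroup_dvd_card H).trans (by rw [h27]; norm_num))
    rw [he] at hlt hle ⊢
    interval_cases k <;> omega
  haveI : Nontrivial A := Finite.one_lt_card_iff_nontrivial.1 (by omega)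
  obtain ⟨x, hx⟩ := exists_ne (1 : A)
  obtain ⟨H, -, hH, hH9⟩ := hplane x hx
  obtain ⟨z, hz⟩ : ∃ z : A, z ∉ H := by
    by_contra! hall
    have := Subgroup.eq_top_iff' H |>.2 hall
    rw [this, Subgroup.card_top] at hH9
    omega
  obtain ⟨K, hzK, hK, hK9⟩ := hplane z fun h1 => hz (h1 ▸ one_mem H)
  haveI : (H : Subgroup A).Normal := ⟨fun n hn g => by rwa [hc g n, mul_inv_cancel_right]⟩
  by_cases hb : H ⊓ K = ⊥
  · have hinj : Function.Injective (fun p : H × K => (p.1 : A) * p.2) :=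
      Subgroup.mul_injective_of_disjoint (disjoint_iff.2 hb)
    have := Nat.card_le_card_of_injective _ hinj
    rw [Nat.card_prod, hH9, hK9, h27] at this
    omega
  · obtain ⟨u, hu, hu1⟩ := (H ⊓ K).bot_or_exists_ne_one.resolve_left hb
    have hu9 : Nat.card ↥(H ⊓ K) = 3 := by
      obtain ⟨k, hk, he⟩ := (Nat.dvd_prime_pow Nat.prime_three).1
        (show Nat.card ↥(H ⊓ K) ∣ 3 ^ 2 from (Subgroup.card_dvd_of_le inf_le_left).trans (by
          rw [hH9]; norm_num))
      have hne2 : k ≠ 2 := fun h2 => hz ((eq_of_le_of_card_ge (inf_le_right : H ⊓ K ≤ K)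
        (by rw [he, h2, hK9]; norm_num)).ge hzK).1
      have hne0 : k ≠ 0 := fun h0 => hb (Subgroup.eq_bot_of_card_eq _ (by rw [he, h0, pow_zero]))
      rw [he]
      interval_cases k <;> omega
    have hzp : Subgroup.zpowers u = H ⊓ K := by
      haveI : Fact (Nat.Prime 3) := ⟨Nat.prime_three⟩
      refine eq_of_le_of_card_ge (zpowers_le.2 hu) ?_
      rw [hu9, Nat.card_zpowers, orderOf_eq_prime (h3 u) hu1]
    have hφu : φ u ∈ Subgroup.zpowers u := hzp ▸ ⟨hH u hu.1, hK u hu.2⟩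
    obtain ⟨k, hk⟩ := mem_zpowers_iff.1 hφu
    have hk' : u ^ (k % 3) = φ u := by
      rw [← hk]
      conv_rhs => rw [← Int.emod_add_mul_ediv k 3, zpow_add, zpow_mul,
        show (3 : ℤ) = ((3 : ℕ) : ℤ) from rfl, zpow_natCast, h3 u, one_zpow, mul_one]
      rfl
    rcases (show k % 3 = 0 ∨ k % 3 = 1 ∨ k % 3 = 2 by omega) with h1 | h1 | h1 <;> rw [h1] at hk'
    · exact hu1 ((map_eq_one_iff φ φ.injective).1 (by rw [← hk', zpow_zero]))
    · exact hu1 (hfix u (Or.inl (by rw [← hk', zpow_one])))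
    · refine hu1 (hfix u (Or.inr ?_))
      rw [← hk', show (2 : ℤ) = ((2 : ℕ) : ℤ) from rfl, zpow_natCast]
      exact eq_inv_of_mul_eq_one_left (by rw [← pow_succ]; exact h3 u)

namespace Base

variable {G : Type*} [Group G] [Finite G] (B : Base G)

/-- Inversion or the identity on `J`. -/
def IsPm (φ : MulAut ↥B.J) : Prop := φ = 1 ∨ ∀ x, φ x = x⁻¹

theorem IsPm.comm {φ : MulAut ↥B.J} (h : B.IsPm φ) (ψ : MulAut ↥B.J) : φ * ψ = ψ * φ := by
  rcases h with rfl | h
  · rw [one_mul, mul_one]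
  · refine MulEquiv.ext fun x => ?_
    rw [MulAut.mul_apply, MulAut.mul_apply, h, h, map_inv]

theorem IsPm.sq {φ : MulAut ↥B.J} (h : B.IsPm φ) : φ * φ = 1 := by
  rcases h with rfl | h
  · rw [one_mul]
  · refine MulEquiv.ext fun x => ?_
    rw [MulAut.mul_apply, h, h, inv_inv, MulAut.one_apply]

theorem not_sq_inv {φ : MulAut ↥B.J} (h : ∀ x, (φ * φ) x = x⁻¹) : False :=
  no_sqrt_neg (A := ↥B.J) (fun x y => Subtype.ext (B.J_comm x x.2 y y.2))
    (fun x => Subtype.ext (B.J_exp x x.2)) B.J_card φ h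

theorem card_X_mul : Nat.card B.X * 27 = Nat.card B.M := by
  have h := B.act.ker.card_eq_card_quotient_mul_card_subgroup
  rw [Nat.card_congr (QuotientGroup.quotientKerEquivRange B.act).toEquiv, B.act_ker,
    Nat.card_congr (Subgroup.subgroupOfEquivOfLe (B.J_le_P0.trans B.P0_le_M)).toEquiv, B.J_card] at h
  exact h.symm

theorem not_nine_dvd : ¬ 9 ∣ Nat.card B.X := by
  intro h9
  haveI : Fact (Nat.Prime 3) := ⟨Nat.prime_three⟩
  obtain ⟨P, hP⟩ := B.exists_sylow
  have h : 3 ^ 5 ∣ Nat.card G := by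
    refine dvd_trans ?_ B.M.card_subgroup_dvd_card
    rw [← B.card_X_mul]
    have := mul_dvd_mul h9 (dvd_refl 27)
    norm_num at this ⊢
    exact this
  have h2 := P.card_eq_multiplicity
  rw [hP, B.card_P0, show (81 : ℕ) = 3 ^ 4 from rfl] at h2
  have h3 := (Nat.prime_three.pow_dvd_iff_le_factorization Nat.card_pos.ne').1 h
  have h4 := Nat.pow_right_injective (le_refl 2 |>.trans (by norm_num : 2 ≤ 3)) h2
  omega

/-- `|X| = 6 m` with `m` the length of the orbit of `a`. -/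
theorem card_X_orbit : ∃ m : ℕ, Nat.card B.X = 6 * m ∧ 0 < m ∧ m ≤ 26 := by
  refine ⟨(MulAction.orbit ↥B.X B.aJ).ncard, ?_, ?_, ?_⟩
  · have hst : MulAction.stabilizer ↥B.X B.aJ = B.X6.subgroupOf B.X := by
      ext φ
      rw [MulAction.mem_stabilizer_iff, mem_subgroupOf, B.mem_X6]
      exact ⟨fun h => ⟨φ.2, h⟩, fun h => h.2⟩
    have h := (MulAction.stabilizer ↥B.X B.aJ).card_mul_index
    rw [MulAction.index_stabilizer, hst,
      Nat.card_congr (Subgroup.subgroupOfEquivOfLe B.X6_le).toEquiv, B.card_X6] at h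
    exact h.symm
  · exact (Set.ncard_pos (Set.toFinite _)).2 ⟨_, MulAction.mem_orbit_self _⟩
  · have hsub : MulAction.orbit ↥B.X B.aJ ⊆ Set.univ \ {1} := by
      rintro x ⟨φ, rfl⟩
      refine ⟨trivial, fun h => B.aJ_ne_one ?_⟩
      exact (map_eq_one_iff (φ : MulAut ↥B.J) (φ : MulAut ↥B.J).injective).1 h
    have := Set.ncard_le_ncard hsub (Set.toFinite _)
    rw [Set.ncard_diff (by simp), Set.ncard_univ, Set.ncard_singleton, B.J_card] at this
    exact this

/-- A prime divisor of `|X|` is two, three or thirteen. -/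
theorem prime_dvd_X {q : ℕ} (hq : q.Prime) (hd : q ∣ Nat.card B.X) : q = 2 ∨ q = 3 ∨ q = 13 := by
  haveI : Fact q.Prime := ⟨hq⟩
  by_contra hne
  obtain ⟨g, hg⟩ := exists_prime_orderOf_dvd_card' q hd
  have hQ : IsPGroup q ↥(Subgroup.zpowers g) :=
    IsPGroup.of_card (n := 1) (by rw [Nat.card_zpowers, hg, pow_one])
  have hmod := hQ.card_modEq_card_fixedPoints ↥B.J
  let F : Subgroup ↥B.J :=
    { carrier := {z | (g : MulAut ↥B.J) z = z}
      one_mem' := map_one _
      mul_mem' := fun {p r} hp hr => by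
        show (g : MulAut ↥B.J) (p * r) = p * r
        rw [map_mul, hp, hr]
      inv_mem' := fun {p} hp => by
        show (g : MulAut ↥B.J) p⁻¹ = p⁻¹
        rw [map_inv, hp] }
  have hF : Nat.card (MulAction.fixedPoints ↥(Subgroup.zpowers g) ↥B.J) = Nat.card F := by
    refine Nat.card_congr (Equiv.setCongr (Set.ext fun z => ⟨fun hz => ?_, fun hz => ?_⟩))
    · exact hz ⟨g, mem_zpowers g⟩
    · rintro ⟨ψ, hψ⟩
      have hst : g ∈ MulAction.stabilizer ↥B.X z := hz
      exact (zpowers_le.2 hst) hψ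
  rw [hF, B.J_card] at hmod
  obtain ⟨k, hk, he⟩ := (Nat.dvd_prime_pow Nat.prime_three).1
    (show Nat.card F ∣ 3 ^ 3 from (Subgroup.card_subgroup_dvd_card F).trans (by rw [B.J_card]; norm_num))
  rw [he] at hmod
  have hk3 : k ≠ 3 := fun h3 => by
    have htop : F = ⊤ := Subgroup.eq_top_of_card_eq F (by rw [he, h3, B.J_card]; norm_num)
    have h1 : g = 1 := Subtype.ext (MulEquiv.ext fun z => htop.ge (mem_top z))
    rw [h1, orderOf_one] at hg
    exact hq.one_lt.ne' hg.symm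
  have hd : q ∣ 26 ∨ q ∣ 24 ∨ q ∣ 18 := by
    have := (Nat.modEq_iff_dvd' (show 3 ^ k ≤ 27 from
      (Nat.pow_le_pow_right (by norm_num) hk).trans (by norm_num))).1 hmod.symm
    interval_cases k
    · exact Or.inl this
    · exact Or.inr (Or.inl this)
    · exact Or.inr (Or.inr this)
    · exact absurd rfl hk3
  refine hne ?_
  rcases hd with h | h | h
  · rw [show (26 : ℕ) = 2 * 13 from rfl] at h
    rcases hq.dvd_mul.1 h with h | h
    · exact Or.inl ((Nat.prime_dvd_prime_iff_eq hq Nat.prime_two).1 h)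
    · exact Or.inr (Or.inr ((Nat.prime_dvd_prime_iff_eq hq (by norm_num)).1 h))
  · rw [show (24 : ℕ) = 2 ^ 3 * 3 from rfl] at h
    rcases hq.dvd_mul.1 h with h | h
    · exact Or.inl ((Nat.prime_dvd_prime_iff_eq hq Nat.prime_two).1 (hq.dvd_of_dvd_pow h))
    · exact Or.inr (Or.inl ((Nat.prime_dvd_prime_iff_eq hq Nat.prime_three).1 h))
  · rw [show (18 : ℕ) = 3 ^ 2 * 2 from rfl] at h
    rcases hq.dvd_mul.1 h with h | h
    · exact Or.inr (Or.inl ((Nat.prime_dvd_prime_iff_eq hq Nat.prime_three).1 (hq.dvd_of_dvd_pow h)))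
    · exact Or.inl ((Nat.prime_dvd_prime_iff_eq hq Nat.prime_two).1 h)

theorem act_mem_X (g : ↥B.M) : B.act g ∈ B.X := ⟨g, rfl⟩

theorem thirteen_not_dvd : ¬ 13 ∣ Nat.card B.X := by
  intro h13
  haveI : Fact (Nat.Prime 13) := ⟨by norm_num⟩
  obtain ⟨y, hy, hyJ⟩ := B.exists_y
  obtain ⟨τ, hτ, hτ2, hτy, -⟩ := B.exists_tX hy hyJ
  obtain ⟨m, hm, hm0, hm26⟩ := B.card_X_orbit
  obtain ⟨Q⟩ : Nonempty (Sylow 13 ↥B.X) := inferInstance
  have hQc : Nat.card (Q : Subgroup ↥B.X) = 13 := by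
    obtain ⟨k, hk⟩ := IsPGroup.iff_card.1 Q.isPGroup'
    rw [hk]
    have h1 : 13 ^ k ∣ 6 * m := hm ▸ hk ▸ Subgroup.card_subgroup_dvd_card _
    have h2 : k ≤ 1 := by
      by_contra hk2
      have := Nat.le_of_dvd (by omega) ((pow_dvd_pow 13 (show 2 ≤ k by omega)).trans h1)
      omega
    have h3 : k ≠ 0 := fun h0 => by
      have := Q.dvd_card_of_dvd_card h13
      rw [hk, h0, pow_zero] at this
      norm_num at this
    rw [show k = 1 by omega, pow_one]
  obtain ⟨j, hj⟩ : 13 ∣ m := (Nat.Coprime.dvd_of_dvd_mul_left (by norm_num) (hm ▸ h13))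
  have hn1 : Nat.card (Sylow 13 ↥B.X) = 1 := by
    have hd := Q.card_dvd_index
    have hi := (Q : Subgroup ↥B.X).card_mul_index
    rw [hQc, hm, hj] at hi
    have hi' : (Q : Subgroup ↥B.X).index = 6 * j := by
      have : 13 * (Q : Subgroup ↥B.X).index = 13 * (6 * j) := by rw [hi]; ring
      omega
    rw [hi'] at hd
    have hmod : Nat.card (Sylow 13 ↥B.X) % 13 = 1 := card_sylow_modEq_one 13 ↥B.X
    have hj0 : 0 < j := by omega
    have hj2 : j ≤ 2 := by omega
    have hle := Nat.le_of_dvd (by omega) hd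
    interval_cases j <;> interval_cases (Nat.card (Sylow 13 ↥B.X)) <;> omega
  haveI : Subsingleton (Sylow 13 ↥B.X) := (Nat.card_eq_one_iff_unique.1 hn1).1
  haveI hQn : (Q : Subgroup ↥B.X).Normal := Sylow.normal_of_subsingleton _
  obtain ⟨g, hgQ, hg1⟩ : ∃ g ∈ (Q : Subgroup ↥B.X), g ≠ 1 := by
    refine ((Q : Subgroup ↥B.X).bot_or_exists_ne_one).resolve_left fun h => ?_
    rw [h, Subgroup.card_bot] at hQc
    omega
  have hgo : orderOf g = 13 :=
    orderOf_eq_prime ((orderOf_dvd_iff_pow_eq_one).1 (hQc ▸ Subgroup.orderOf_dvd_natCard _ hgQ)) hg1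
  have hQg : (Q : Subgroup ↥B.X) = Subgroup.zpowers g :=
    (eq_of_le_of_card_ge (zpowers_le.2 hgQ) (by rw [hQc, Nat.card_zpowers, hgo])).symm
  obtain ⟨u, hu⟩ : ∃ u : ↥B.X, u = ⟨B.act y, B.act_mem_X y⟩ := ⟨_, rfl⟩
  obtain ⟨v, hv⟩ : ∃ v : ↥B.X, v = ⟨τ, B.X6_le hτ⟩ := ⟨_, rfl⟩
  obtain ⟨i, hi⟩ := mem_zpowers_iff.1 (hQg ▸ hQn.conj_mem g hgQ u)
  obtain ⟨l, hl⟩ := mem_zpowers_iff.1 (hQg ▸ hQn.conj_mem g hgQ v)
  have huv : v * u * v⁻¹ = u⁻¹ := hu ▸ hv ▸ Subtype.ext hτy
  have hv2 : v * v = 1 := hv ▸ Subtype.ext hτ2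
  have h1 : u⁻¹ * g * u = u * g * u⁻¹ := by
    calc u⁻¹ * g * u = (v * u * v⁻¹) * g * (v * u * v⁻¹)⁻¹ := by rw [huv, inv_inv]
      _ = v * (u * (v⁻¹ * g * v) * u⁻¹) * v⁻¹ := by group
      _ = v * (u * (v * g * v⁻¹) * u⁻¹) * v⁻¹ := by rw [inv_eq_of_mul_eq_one_right hv2]
      _ = v * (g ^ i) ^ l * v⁻¹ := by rw [← hl, ← conj_zpow, ← hi]
      _ = ((v * g * v⁻¹) ^ l) ^ i := by rw [← zpow_mul, mul_comm i l, zpow_mul, conj_zpow, conj_zpow]
      _ = (g ^ (l * l)) ^ i := by rw [← hl, zpow_mul g l l]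
      _ = g ^ i := by
        have hvv : g ^ (l * l) = g := by
          rw [zpow_mul, hl, conj_zpow, hl]
          calc v * (v * g * v⁻¹) * v⁻¹ = (v * v) * g * (v * v)⁻¹ := by group
            _ = g := by rw [hv2]; group
        rw [hvv]
      _ = u * g * u⁻¹ := hi
  have hu3 : u ^ 3 = 1 := hu ▸ Subtype.ext (B.act_y_three hy)
  have hcomm : g * u = u * g := by
    have h2 : (u * u) * g = g * (u * u) := by
      calc (u * u) * g = u * (u * g * u⁻¹) * u := by group
        _ = u * (u⁻¹ * g * u) * u := by rw [h1]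
        _ = g * (u * u) := by group
    have h4 : (u * u) * (u * u) = u := by
      calc (u * u) * (u * u) = u ^ 3 * u := by rw [pow_succ, pow_two]; group
        _ = u := by rw [hu3, one_mul]
    have : Commute g ((u * u) * (u * u)) := Commute.mul_right h2.symm h2.symm
    rwa [h4] at this
  have hc : (g : MulAut ↥B.J) * B.act y = B.act y * g := by
    have := congrArg Subtype.val hcomm
    rw [hu] at this
    exact this
  have hfix : (g : MulAut ↥B.J) B.aJ = B.aJ := by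
    rcases B.comm_y_a hy hyJ hc with h | h
    · exact h
    · exfalso
      let F := MulAction.stabilizer ↥B.X B.aJ
      have hg2 : g ^ 2 ∈ F := by
        rw [MulAction.mem_stabilizer_iff, pow_two, mul_smul]
        show (g : MulAut ↥B.J) ((g : MulAut ↥B.J) B.aJ) = B.aJ
        rw [h, map_inv, h, inv_inv]
      have hg13 : g ∈ F := by
        have := pow_mem hg2 7
        rwa [← pow_mul, show 2 * 7 = 13 + 1 from rfl, pow_succ, ← hgo, pow_orderOf_eq_one, one_mul] at this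
      have : (g : MulAut ↥B.J) B.aJ = B.aJ := hg13
      exact B.aJ_ne_inv (this.symm.trans h)
  have hd := Subgroup.orderOf_dvd_natCard B.X6 (B.mem_X6.2 ⟨g.2, hfix⟩)
  rw [Subgroup.orderOf_coe, hgo, B.card_X6] at hd
  norm_num at hd

theorem card_X : ∃ k : ℕ, Nat.card B.X = 3 * 2 ^ k := by
  obtain ⟨m, hm, hm0, hm26⟩ := B.card_X_orbit
  obtain ⟨k, hk⟩ : ∃ k, m = 2 ^ k := by
    refine ⟨m.primeFactorsList.length, Nat.eq_prime_pow_of_unique_prime_dvd hm0.ne' fun {q} hq hd => ?_⟩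
    rcases B.prime_dvd_X hq (hm ▸ hd.mul_left 6) with h | h | h
    · exact h
    · subst h
      refine absurd ?_ B.not_nine_dvd
      rw [hm, show (9 : ℕ) = 3 * 3 from rfl]
      exact mul_dvd_mul (by norm_num) hd
    · subst h
      exact absurd (hm ▸ hd.mul_left 6) B.thirteen_not_dvd
  exact ⟨k + 1, by rw [hm, hk, pow_succ]; ring⟩

/-- Either `X` fixes `⟨a⟩`, or it has a normal elementary abelian 2-subgroup moved by `y`. -/
theorem fix_or_four {y : ↥B.M} (hy : (y : G) ∈ B.R) (hyJ : (y : G) ∉ B.J) :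
    (∀ φ ∈ B.X, φ B.aJ = B.aJ ∨ φ B.aJ = (B.aJ)⁻¹) ∨
    ∃ V : Subgroup (MulAut ↥B.J), V ≤ B.X ∧ (∀ φ ∈ B.X, ∀ v ∈ V, φ * v * φ⁻¹ ∈ V) ∧
      (∀ v ∈ V, v * v = 1) ∧ (∀ u ∈ V, ∀ v ∈ V, u * v = v * u) ∧
      ∃ v ∈ V, v * B.act y ≠ B.act y * v := by
  classical
  haveI : Fact (Nat.Prime 2) := ⟨Nat.prime_two⟩
  haveI : Fact (Nat.Prime 3) := ⟨Nat.prime_three⟩
  obtain ⟨k, hk⟩ := B.card_X
  obtain ⟨T⟩ : Nonempty (Sylow 2 ↥B.X) := inferInstance
  have hTi : (T : Subgroup ↥B.X).index = 3 := by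
    have hT := T.card_eq_multiplicity
    rw [hk, Nat.factorization_mul (by norm_num) (pow_ne_zero _ two_ne_zero), Finsupp.add_apply,
      Nat.factorization_eq_zero_of_not_dvd (show ¬ 2 ∣ 3 by norm_num),
      Nat.Prime.factorization_pow Nat.prime_two, Finsupp.single_eq_same, zero_add] at hT
    have h := (T : Subgroup ↥B.X).card_mul_index
    rw [hT, hk] at h
    exact Nat.eq_of_mul_eq_mul_left (pow_pos two_pos k) (h.trans (mul_comm _ _))
  obtain ⟨K, hK⟩ : ∃ K, K = (T : Subgroup ↥B.X).normalCore := ⟨_, rfl⟩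
  haveI hKn : K.Normal := hK ▸ Subgroup.normalCore_normal _
  have hK2 : IsPGroup 2 ↥K := T.isPGroup'.to_le (hK ▸ Subgroup.normalCore_le _)
  have hq6 : Nat.card (↥B.X ⧸ K) ∣ 6 := by
    rw [hK, Nat.card_congr (QuotientGroup.quotientMulEquivOfEq (Subgroup.normalCore_eq_ker
      (T : Subgroup ↥B.X))).toEquiv, Nat.card_congr (QuotientGroup.quotientKerEquivRange _).toEquiv]
    refine (Subgroup.card_subgroup_dvd_card _).trans ?_
    rw [Nat.card_perm, show Nat.card (↥B.X ⧸ (T : Subgroup ↥B.X)) = 3 from hTi]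
    rfl
  obtain ⟨u, hu⟩ : ∃ u : ↥B.X, u = ⟨B.act y, B.act_mem_X y⟩ := ⟨_, rfl⟩
  have hu3 : u ^ 3 = 1 := hu ▸ Subtype.ext (B.act_y_three hy)
  have huK : u ∉ K := fun h => B.act_y_ne hyJ (by
    obtain ⟨n, hn⟩ := hK2 ⟨u, h⟩
    have h1 : u ^ (2 ^ n) = 1 := congrArg Subtype.val hn
    have h2 : u = 1 := by
      have := pow_gcd_eq_one.2 ⟨h1, hu3⟩
      rwa [show Nat.gcd (2 ^ n) 3 = 1 from Nat.Coprime.pow_left n (by norm_num), pow_one] at this
    simpa [hu] using congrArg Subtype.val h2)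
  by_cases hcK : ∀ v ∈ K, v * u = u * v
  · left
    obtain ⟨Y, hY⟩ : ∃ Y, Y = Subgroup.zpowers (QuotientGroup.mk (s := K) u) := ⟨_, rfl⟩
    have hY3 : Nat.card Y = 3 := by
      rw [hY, Nat.card_zpowers]
      refine orderOf_eq_prime ?_ fun h => huK ((QuotientGroup.eq_one_iff _).1 h)
      rw [← QuotientGroup.mk_pow, hu3, QuotientGroup.mk_one]
    haveI : Y.Normal := by
      have h := Y.card_mul_index
      rw [hY3] at h
      rcases (show Y.index = 1 ∨ Y.index = 2 by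
        have hd : Y.index ∣ 2 := by
          have h2 : 3 * Y.index ∣ 3 * 2 := h ▸ hq6
          exact (mul_dvd_mul_iff_left (by norm_num)).1 h2
        exact (Nat.dvd_prime Nat.prime_two).1 hd) with h1 | h1
      · rw [Subgroup.index_eq_one.1 h1]; infer_instance
      · exact Subgroup.normal_of_index_eq_two h1
    intro φ hφ
    obtain ⟨g, hg⟩ : ∃ g : ↥B.X, g = ⟨φ, hφ⟩ := ⟨_, rfl⟩
    have hc := (inferInstance : Y.Normal).conj_mem _ (hY ▸ mem_zpowers _)
      (QuotientGroup.mk (s := K) g)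
    rw [hY, ← QuotientGroup.mk_mul, ← QuotientGroup.mk_inv, ← QuotientGroup.mk_mul, mem_zpowers_iff] at hc
    obtain ⟨i, hi⟩ := hc
    rw [← QuotientGroup.mk_zpow, QuotientGroup.eq] at hi
    obtain ⟨c, hc', hce⟩ : ∃ c ∈ K, g * u * g⁻¹ = u ^ i * c := ⟨_, hi, by group⟩
    have hcu : Commute (u ^ i) c := (Commute.zpow_left (hcK c hc').symm i)
    have hc1 : c = 1 := by
      have h1 : (u ^ i * c) ^ 3 = 1 := by rw [← hce, conj_pow, hu3, mul_one, mul_inv_cancel]
      rw [hcu.mul_pow, show (u ^ i) ^ 3 = 1 by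
        rw [← zpow_natCast, ← zpow_mul, mul_comm, zpow_mul, zpow_natCast, hu3, one_zpow], one_mul] at h1
      obtain ⟨n, hn⟩ := hK2 ⟨c, hc'⟩
      have := pow_gcd_eq_one.2 ⟨(congrArg Subtype.val hn : c ^ (2 ^ n) = 1), h1⟩
      rwa [show Nat.gcd (2 ^ n) 3 = 1 from Nat.Coprime.pow_left n (by norm_num), pow_one] at this
    rw [hc1, mul_one] at hce
    have hce' : φ * B.act y * φ⁻¹ = B.act y ^ i := by
      have := congrArg Subtype.val hce
      simpa [hu, hg] using this
    have hfix : B.act y (φ B.aJ) = φ B.aJ := by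
      have hyi : (B.act y ^ i) (φ B.aJ) = φ B.aJ := by
        rw [← hce', ← MulAut.mul_apply, inv_mul_cancel_right, MulAut.mul_apply, B.act_y_a hy]
      have h3 : B.act y ^ (i % 3) = B.act y ^ i := by
        conv_rhs => rw [← Int.emod_add_mul_ediv i 3, zpow_add, zpow_mul,
          show (3 : ℤ) = ((3 : ℕ) : ℤ) from rfl, zpow_natCast, B.act_y_three hy, one_zpow, mul_one]
        rfl
      rw [← h3] at hyi hce'
      rcases (show i % 3 = 0 ∨ i % 3 = 1 ∨ i % 3 = 2 by omega) with h | h | h <;>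
        rw [h] at hyi hce'
      · rw [zpow_zero, conj_eq_one_iff] at hce'
        exact absurd hce' (B.act_y_ne hyJ)
      · rwa [zpow_one] at hyi
      · rw [show (2 : ℤ) = ((2 : ℕ) : ℤ) from rfl, zpow_natCast] at hyi
        have := congrArg (B.act y) hyi
        rw [← MulAut.mul_apply, ← pow_succ', B.act_y_three hy, MulAut.one_apply] at this
        exact this.symm
    rcases B.fix_yJ hy hyJ hfix with h | h | h
    · exact absurd ((map_eq_one_iff φ φ.injective).1 h) B.aJ_ne_one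
    · exact Or.inl h
    · exact Or.inr h
  · right
    have hex : ∃ n, ∃ V : Subgroup ↥B.X, V.Normal ∧ IsPGroup 2 ↥V ∧ Nat.card V = n ∧
        ∃ v ∈ V, v * u ≠ u * v := by
      push_neg at hcK
      exact ⟨_, K, hKn, hK2, rfl, hcK⟩
    obtain ⟨V, hVn, hV2, hVc, v₀, hv₀, hv₀u⟩ := Nat.find_spec hex
    have hmin : ∀ W : Subgroup ↥B.X, W.Normal → W < V → ∀ w ∈ W, B.IsPm (w : MulAut ↥B.J) := by
      intro W hW hlt w hw
      obtain ⟨n, hn⟩ := (hV2.to_le hlt.le) ⟨w, hw⟩
      have hc : w * u = u * w := by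
        by_contra hne
        have h1 : Nat.card W < Nat.find hex := hVc ▸ (lt_of_le_of_ne (Subgroup.card_le_of_le hlt.le)
          fun h => hlt.ne (eq_of_le_of_card_ge hlt.le h.ge))
        exact Nat.find_min hex h1 ⟨W, hW, hV2.to_le hlt.le, rfl, w, hw, hne⟩
      have hn' : (w : MulAut ↥B.J) ^ (2 ^ n) = 1 := by
        have := congrArg (fun z : ↥W => ((z : ↥B.X) : MulAut ↥B.J)) hn
        simpa using this
      refine B.comm_y_two hy hyJ w.2 ?_ hn'
      have := congrArg Subtype.val hc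
      simpa [hu] using this
    have hnsq : ∀ w : ↥B.X, B.IsPm ((w * w : ↥B.X) : MulAut ↥B.J) → w * w = 1 := by
      rintro w (h | h)
      · exact Subtype.ext h
      · exact (B.not_sq_inv h).elim
    have hsq : ∀ v ∈ V, v * v = 1 := by
      by_cases hab : ∀ p ∈ V, ∀ q ∈ V, p * q = q * p
      · let W : Subgroup ↥B.X :=
          { carrier := {v | v ∈ V ∧ v * v = 1}
            one_mem' := ⟨one_mem _, one_mul _⟩
            mul_mem' := fun {p q} hp hq => ⟨mul_mem hp.1 hq.1, by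
              rw [mul_assoc, ← mul_assoc q p q, ← hab p hp.1 q hq.1, mul_assoc p q q, hq.2, mul_one,
                hp.2]⟩
            inv_mem' := fun {p} hp => ⟨inv_mem hp.1, by rw [← mul_inv_rev, hp.2, inv_one]⟩ }
        have hWn : W.Normal := ⟨fun v hv g => ⟨hVn.conj_mem v hv.1 g, by
          calc g * v * g⁻¹ * (g * v * g⁻¹) = g * (v * v) * g⁻¹ := by group
            _ = 1 := by rw [hv.2]; group⟩⟩
        intro v hv
        by_contra hne
        have hlt : W < V := lt_of_le_of_ne (fun x hx => hx.1) fun h => hne (h.ge hv).2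
        obtain ⟨n, hn⟩ := hV2 ⟨v, hv⟩
        have hn' : v ^ (2 ^ n) = 1 := congrArg Subtype.val hn
        obtain ⟨j, hj1, hj2⟩ : ∃ j, v ^ (2 ^ j) * v ^ (2 ^ j) ≠ 1 ∧
            v ^ (2 ^ (j + 1)) * v ^ (2 ^ (j + 1)) = 1 := by
          by_contra! hall
          have : ∀ j, v ^ (2 ^ j) * v ^ (2 ^ j) ≠ 1 := fun j => by
            induction j with
            | zero => simpa using hne
            | succ j ih => exact hall j ih
          exact this n (by rw [hn', one_mul])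
        refine hj1 (hnsq _ ?_)
        refine hmin W hWn hlt _ ⟨mul_mem (pow_mem hv _) (pow_mem hv _), ?_⟩
        rw [← pow_add, ← two_mul, ← pow_succ']
        exact hj2
      · obtain ⟨Zc, hZc⟩ : ∃ Zc, Zc = V ⊓ Subgroup.centralizer (V : Set ↥B.X) := ⟨_, rfl⟩
        have hZn : Zc.Normal := ⟨fun v hv g => by
          rw [hZc] at hv ⊢
          refine ⟨hVn.conj_mem v hv.1 g, fun q hq => ?_⟩
          have hq' : g⁻¹ * q * g ∈ V := by simpa using hVn.conj_mem q hq g⁻¹
          have := hv.2 _ hq'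
          calc q * (g * v * g⁻¹) = g * ((g⁻¹ * q * g) * v) * g⁻¹ := by group
            _ = g * (v * (g⁻¹ * q * g)) * g⁻¹ := by rw [this]
            _ = g * v * g⁻¹ * q := by group⟩
        have hZlt : Zc < V := by
          refine lt_of_le_of_ne (hZc ▸ inf_le_left) fun h => hab fun p hp q hq => ?_
          exact ((hZc ▸ h ▸ hp : p ∈ V ⊓ Subgroup.centralizer (V : Set ↥B.X)).2 q hq).symm
        let W : Subgroup ↥B.X :=
          { carrier := {p | p ∈ V ∧ ∀ q ∈ V, p * q * p⁻¹ * q⁻¹ ∈ Zc}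
            one_mem' := ⟨one_mem _, fun q _ => by simp⟩
            mul_mem' := fun {p r} hp hr => ⟨mul_mem hp.1 hr.1, fun q hq => by
              rw [show p * r * q * (p * r)⁻¹ * q⁻¹ =
                p * (r * q * r⁻¹ * q⁻¹) * p⁻¹ * (p * q * p⁻¹ * q⁻¹) by group]
              exact mul_mem (hZn.conj_mem _ (hr.2 q hq) p) (hp.2 q hq)⟩
            inv_mem' := fun {p} hp => ⟨inv_mem hp.1, fun q hq => by
              rw [show p⁻¹ * q * p⁻¹⁻¹ * q⁻¹ = p⁻¹ * (p * q * p⁻¹ * q⁻¹)⁻¹ * p by group]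
              simpa using hZn.conj_mem _ (inv_mem (hp.2 q hq)) p⁻¹⟩ }
        have hWn : W.Normal := ⟨fun p hp g => ⟨hVn.conj_mem p hp.1 g, fun q hq => by
          have hq' : g⁻¹ * q * g ∈ V := by simpa using hVn.conj_mem q hq g⁻¹
          rw [show g * p * g⁻¹ * q * (g * p * g⁻¹)⁻¹ * q⁻¹ =
            g * (p * (g⁻¹ * q * g) * p⁻¹ * (g⁻¹ * q * g)⁻¹) * g⁻¹ by group]
          exact hZn.conj_mem _ (hp.2 _ hq') g⟩⟩
        have hWV : W = V := by
          by_contra hne
          have hlt : W < V := lt_of_le_of_ne (fun x hx => hx.1) hne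
          -- the centre of `V / Z(V)` is nontrivial
          haveI : (Zc.subgroupOf V).Normal := hZn.subgroupOf V
          haveI : Nontrivial (↥V ⧸ Zc.subgroupOf V) :=
            QuotientGroup.nontrivial_iff.2 fun h => hZlt.not_ge (subgroupOf_eq_top.1 h)
          haveI := (hV2.to_quotient (Zc.subgroupOf V)).center_nontrivial
          obtain ⟨⟨c, hc⟩, hc1⟩ := exists_ne (1 : ↥(Subgroup.center (↥V ⧸ Zc.subgroupOf V)))
          obtain ⟨p, rfl⟩ := QuotientGroup.mk_surjective c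
          have hpW : (p : ↥B.X) ∈ W := ⟨p.2, fun q hq => by
            have := Subgroup.mem_center_iff.1 hc (QuotientGroup.mk ⟨q, hq⟩)
            rw [← QuotientGroup.mk_mul, ← QuotientGroup.mk_mul, QuotientGroup.eq, mem_subgroupOf] at this
            have h2 : (((⟨q, hq⟩ : ↥V) * p)⁻¹ * (p * ⟨q, hq⟩) : ↥V) = ((⟨q, hq⟩ : ↥V) * p)⁻¹ * (p * ⟨q, hq⟩) := rfl
            rw [show (p : ↥B.X) * q * (p : ↥B.X)⁻¹ * q⁻¹ =
              (q * (p : ↥B.X)) * ((q * (p : ↥B.X))⁻¹ * ((p : ↥B.X) * q)) * (q * (p : ↥B.X))⁻¹ by group]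
            exact hZn.conj_mem _ this _⟩
          have hpZ : (p : ↥B.X) ∈ Zc := by
            rw [hZc]
            refine ⟨p.2, fun q _ => Subtype.ext ?_⟩
            exact (IsPm.comm B (hmin W hWn hlt _ hpW) (q : MulAut ↥B.J)).symm
          exact hc1 (Subtype.ext ((QuotientGroup.eq_one_iff _).2 (mem_subgroupOf.2 hpZ)))
        intro p hp
        refine hnsq p (hmin Zc hZn hZlt _ ?_)
        rw [hZc]
        refine ⟨mul_mem hp hp, fun q hq => ?_⟩
        have hc := (hWV.ge hp).2 q hq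
        have hpm := hmin Zc hZn hZlt _ hc
        obtain ⟨c, hce⟩ : ∃ c, c = p * q * p⁻¹ * q⁻¹ := ⟨_, rfl⟩
        rw [← hce] at hpm
        have h1 : p * q * p⁻¹ = c * q := by rw [hce]; group
        have h2 : p * c = c * p := Subtype.ext (IsPm.comm B hpm (p : MulAut ↥B.J)).symm
        have h3 : c * c = 1 := Subtype.ext (IsPm.sq B hpm)
        symm
        rw [← mul_inv_eq_iff_eq_mul]
        calc p * p * q * (p * p)⁻¹ = p * (p * q * p⁻¹) * p⁻¹ := by group
          _ = c * (p * q * p⁻¹) := by nth_rewrite 1 [h1]; rw [← mul_assoc p, h2]; group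
          _ = c * c * q := by rw [h1, mul_assoc]
          _ = q := by rw [h3, one_mul]
    have hcomm : ∀ p ∈ V, ∀ q ∈ V, p * q = q * p := fun p hp q hq => by
      have h1 : p * q * (p * q) = 1 := hsq _ (mul_mem hp hq)
      calc p * q = (p * q)⁻¹ := (inv_eq_of_mul_eq_one_right h1).symm
        _ = q⁻¹ * p⁻¹ := mul_inv_rev _ _
        _ = q * p := by
          rw [inv_eq_of_mul_eq_one_right (hsq q hq), inv_eq_of_mul_eq_one_right (hsq p hp)]
    refine ⟨V.map B.X.subtype, map_subtype_le V, ?_, ?_, ?_, ?_⟩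
    · rintro φ hφ _ ⟨v, hv, rfl⟩
      exact ⟨⟨φ, hφ⟩ * v * ⟨φ, hφ⟩⁻¹, hVn.conj_mem v hv _, rfl⟩
    · rintro _ ⟨v, hv, rfl⟩
      exact congrArg Subtype.val (hsq v hv)
    · rintro _ ⟨p, hp, rfl⟩ _ ⟨q, hq, rfl⟩
      exact congrArg Subtype.val (hcomm p hp q hq)
    · refine ⟨_, ⟨v₀, hv₀, rfl⟩, fun h => hv₀u (Subtype.ext ?_)⟩
      rw [hu]
      exact h

end Base

end CfsgLib.Recog.SpSixThree
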