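import Cfsg.Agent.Lib.Recog.SpSixThree.Cases

/-!
# The frame coordinates, and centralizers of pairs in `C`
-/

set_option autoImplicit false
set_option linter.style.haveILetI false
set_option linter.unusedSectionVars false

namespace CfsgLib.Recog.SpSixThree

open Subgroup

/-- The vector `(1,1,1)`. -/
def avec : Vec := fun _ => 1

/-- The signed permutation is even. -/
def evenCode (w : Code) : Prop := (((w.1 0) ^^ (w.1 1)) ^^ (w.1 2)) = false

instance : DecidablePred evenCode := fun _ => inferInstanceAs (Decidable (_ = _))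

theorem full_weight : ∀ v : Vec, (∀ j, v j ≠ 0) →
    ∃ w : Code, evenCode w ∧ (sact w v = avec ∨ sact w v = -avec) := by decide +kernel

theorem smul_nat : ∀ (k : ZMod 3) (v : Vec), k • v = k.val • v := by decide +kernel

theorem vec_three : ∀ v : Vec, v + v + v = 0 := by decide +kernel

namespace Base

variable {G : Type*} [Group G] [Finite G] (B : Base G)

/-- An element of `C` centralizing a further element of `J` normalizes `J`. -/
theorem cent_pair {v g : G} (hv : v ∈ B.J) (hva : v ∉ Subgroup.zpowers B.a) (hg : g ∈ B.C)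
    (hgv : g * v = v * g) : g ∈ B.M := by
  by_cases hvR : v ∈ B.R
  swap
  · have hne : B.sl ⟨v, B.J_le hv⟩ ≠ 1 := fun h => hvR ((B.mem_R_iff _).2 h)
    refine (B.mem_M_iff hv hne hg).2 (Or.inl ?_)
    rw [mul_inv_eq_iff_eq_mul, ← map_mul, ← map_mul]
    exact congrArg B.sl (Subtype.ext hgv)
  haveI : Fact (Nat.Prime 3) := ⟨Nat.prime_three⟩
  set W := B.J ⊓ B.R with hW
  have haW : B.a ∈ W := ⟨B.a_mem_J, B.a_mem_R⟩
  have hgen : Subgroup.zpowers B.a ⊔ Subgroup.zpowers v = W := by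
    have hle : Subgroup.zpowers B.a ⊔ Subgroup.zpowers v ≤ W :=
      sup_le (zpowers_le.2 haW) (zpowers_le.2 ⟨hv, hvR⟩)
    refine eq_of_le_of_card_ge hle ?_
    have hlt : 3 < Nat.card ↥(Subgroup.zpowers B.a ⊔ Subgroup.zpowers v) := by
      rw [← show Nat.card (Subgroup.zpowers B.a) = 3 by rw [Nat.card_zpowers, B.ha]]
      refine lt_of_le_of_ne (Subgroup.card_le_of_le le_sup_left) fun h => hva ?_
      exact (eq_of_le_of_card_ge le_sup_left h.ge).ge (mem_sup_right (mem_zpowers _))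
    obtain ⟨k, hk, he⟩ := (Nat.dvd_prime_pow Nat.prime_three).1
      (show Nat.card ↥(Subgroup.zpowers B.a ⊔ Subgroup.zpowers v) ∣ 3 ^ 2 from
        (Subgroup.card_dvd_of_le hle).trans (by rw [hW, B.card_J_inf_R]; norm_num))
    rw [he] at hlt ⊢
    rw [hW, B.card_J_inf_R]
    interval_cases k <;> omega
  have hgW : ∀ u ∈ W, g * u = u * g := by
    intro u hu
    have hle : W ≤ Subgroup.centralizer ({g} : Set G) := hgen ▸ sup_le
      (zpowers_le.2 (mem_centralizer_singleton_iff.2 (B.comm_a hg).symm))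
      (zpowers_le.2 (mem_centralizer_singleton_iff.2 hgv.symm))
    exact (mem_centralizer_singleton_iff.1 (hle hu)).symm
  obtain ⟨y, hy, hyJ⟩ := B.exists_y
  have hgyR : g * y * g⁻¹ ∈ B.R := (Subgroup.mem_normalizer_iff.1 (B.C_le_norm_R hg) y).1 hy
  -- cosets of `J ⊓ R` in `R`
  let φ : Fin 3 × W → B.R := fun t =>
    ⟨(t.2 : G) * (y : G) ^ (t.1 : ℕ), mul_mem t.2.2.2 (pow_mem hy _)⟩
  have hy3 : (y : G) ^ 3 = 1 := B.R_exp _ hy
  have hφ : Function.Bijective φ := by
    refine Function.Injective.bijective_of_nat_card_le ?_ (le_of_eq ?_)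
    · rintro ⟨i, w⟩ ⟨i', w'⟩ h
      have h0 : (w : G) * (y : G) ^ (i : ℕ) = (w' : G) * (y : G) ^ (i' : ℕ) := congrArg Subtype.val h
      suffices hi : i = i' by
        subst hi
        rw [Subtype.ext (mul_right_cancel h0) (a1 := w) (a2 := w')]
      have hmem : ∀ m n : ℕ, (w'⁻¹ * w : W) = (w'⁻¹ * w : W) → (y : G) ^ m * ((y : G) ^ n)⁻¹ ∈ B.J →
          (y : G) ^ ((m + 2 * n) % 3) ∈ B.J := by
        intro m n _ hm
        rwa [← pow_eq_pow_mod _ hy3, pow_add, show (y : G) ^ (2 * n) = ((y : G) ^ n)⁻¹ from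
          eq_inv_of_mul_eq_one_left (by rw [← pow_add, show 2 * n + n = 3 * n by ring, pow_mul, hy3, one_pow])]
      have hd : (y : G) ^ (i' : ℕ) * ((y : G) ^ (i : ℕ))⁻¹ ∈ B.J := by
        rw [show (y : G) ^ (i' : ℕ) * ((y : G) ^ (i : ℕ))⁻¹ = (w' : G)⁻¹ * w by
          rw [eq_inv_mul_iff_mul_eq, ← mul_assoc, ← h0, mul_inv_cancel_right]]
        exact mul_mem (inv_mem w'.2.1) w.2.1
      have h1 := hmem _ _ rfl hd
      have hpow : ∀ r : ℕ, r < 3 → (y : G) ^ r ∈ B.J → r = 0 := by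
        intro r hr hm
        interval_cases r
        · rfl
        · exact absurd (by simpa using hm) hyJ
        · refine absurd ?_ hyJ
          have := inv_mem hm
          rwa [show ((y : G) ^ 2)⁻¹ = y from inv_eq_of_mul_eq_one_right (by rw [← pow_succ, hy3])] at this
      have h2 := hpow _ (Nat.mod_lt _ (by norm_num)) h1
      apply Fin.ext
      omega
    · rw [Nat.card_prod, Nat.card_fin, B.card_J_inf_R, B.R_card]
  obtain ⟨⟨i, w⟩, hiw⟩ := hφ.2 ⟨_, hgyR⟩
  have hiw' : (w : G) * (y : G) ^ (i : ℕ) = g * y * g⁻¹ := congrArg Subtype.val hiw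
  -- the commutator of `v` and `y`
  obtain ⟨c, hc⟩ : ∃ c, c = v * y * v⁻¹ * (y : G)⁻¹ := ⟨_, rfl⟩
  have hcZ : c ∈ Subgroup.zpowers B.a := hc ▸ B.comm_R hvR hy
  have hc1 : c ≠ 1 := fun h1 => hva (B.fix_y hy hyJ hv (by
    rw [hc, mul_inv_eq_one, mul_inv_eq_iff_eq_mul] at h1
    rw [← h1, mul_inv_cancel_right]))
  have hcc : ∀ r ∈ B.R, r * c = c * r := fun r hr => by
    rw [← B.R_center] at hcZ
    exact mem_centralizer_iff.1 hcZ.2 r hr
  have hgc : v * (g * y * g⁻¹) * v⁻¹ * (g * y * g⁻¹)⁻¹ = c := by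
    have e1 : g⁻¹ * v = v * g⁻¹ := (show Commute g v from hgv).inv_left.eq
    have e0 : g * c = c * g := by
      obtain ⟨n, hn⟩ := mem_zpowers_iff.1 hcZ
      rw [← hn]
      exact ((show Commute g B.a from B.comm_a hg).zpow_right n).eq
    have e2 : g * c * g⁻¹ = c := by rw [e0, mul_inv_cancel_right]
    calc v * (g * y * g⁻¹) * v⁻¹ * (g * y * g⁻¹)⁻¹ = v * g * y * (g⁻¹ * v⁻¹) * g * (y : G)⁻¹ * g⁻¹ := by
          group
      _ = g * (v * y * v⁻¹ * (y : G)⁻¹) * g⁻¹ := by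
          rw [← hgv, ((show Commute g v from hgv).inv_left.inv_right).eq]; group
      _ = c := by rw [← hc, e2]
  have hpow : ∀ k : ℕ, v * (y : G) ^ k * v⁻¹ = c ^ k * (y : G) ^ k := by
    intro k
    rw [← conj_pow, show v * y * v⁻¹ = c * y by rw [hc]; group,
      (show Commute c (y : G) from (hcc y hy).symm).mul_pow]
  have hi : c ^ (i : ℕ) = c := by
    conv_rhs => rw [← hgc, ← hiw']
    rw [show v * ((w : G) * (y : G) ^ (i : ℕ)) * v⁻¹ = (w : G) * (v * (y : G) ^ (i : ℕ) * v⁻¹) by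
      rw [← mul_assoc, B.J_comm v hv _ w.2.1]; group, hpow, mul_inv_rev]
    rw [show (w : G) * (c ^ (i : ℕ) * (y : G) ^ (i : ℕ)) * (((y : G) ^ (i : ℕ))⁻¹ * (w : G)⁻¹) =
      (w : G) * c ^ (i : ℕ) * (w : G)⁻¹ by group,
      ((show Commute (w : G) c from hcc _ w.2.2).pow_right _).eq, mul_inv_cancel_right]
  have hi1 : (i : ℕ) = 1 := by
    have : (i : ℕ) = 0 ∨ (i : ℕ) = 1 ∨ (i : ℕ) = 2 := by omega
    rcases this with h | h | h
    · rw [h, pow_zero] at hi; exact absurd hi.symm hc1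
    · exact h
    · rw [h, pow_two, mul_eq_left] at hi; exact absurd hi hc1
  rw [hi1, pow_one] at hiw'
  -- correct by an element of `J` outside `R`
  obtain ⟨x, hx, hxne, -⟩ := B.exists_x0
  have hxR : x ∉ B.R := fun h => hxne ((B.mem_R_iff _).1 h)
  obtain ⟨d, hd⟩ : ∃ d, d = x * y * x⁻¹ * (y : G)⁻¹ := ⟨_, rfl⟩
  have hdW : d ∈ W := by
    refine ⟨?_, ?_⟩
    swap
    · show d ∈ B.R
      rw [hd]
      exact mul_mem ((Subgroup.mem_normalizer_iff.1 (B.C_le_norm_R (B.J_le hx)) y).1 hy) (inv_mem hy)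
    show d ∈ B.J
    rw [hd, show x * y * x⁻¹ * (y : G)⁻¹ = x * ((y : G) * x⁻¹ * (y : G)⁻¹) by group]
    exact mul_mem hx ((Subgroup.mem_normalizer_iff.1 y.2 _).1 (inv_mem hx))
  have hdZ : d ∉ Subgroup.zpowers B.a := fun h => hxR (B.mem_R_of_fix (B.J_le hx) hy hyJ
    (fun u hu => by rw [B.J_comm x hx u hu.1, mul_inv_cancel_right, mul_inv_cancel]; exact one_mem _)
    (hd ▸ h))
  -- choose the power of `x`
  have hk : ∃ k : ℕ, (w : G) * d ^ k ∈ Subgroup.zpowers B.a := by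
    have hgen' : Subgroup.zpowers B.a ⊔ Subgroup.zpowers d = W := by
      have hle : Subgroup.zpowers B.a ⊔ Subgroup.zpowers d ≤ W :=
        sup_le (zpowers_le.2 haW) (zpowers_le.2 hdW)
      refine eq_of_le_of_card_ge hle ?_
      have hlt : 3 < Nat.card ↥(Subgroup.zpowers B.a ⊔ Subgroup.zpowers d) := by
        rw [← show Nat.card (Subgroup.zpowers B.a) = 3 by rw [Nat.card_zpowers, B.ha]]
        refine lt_of_le_of_ne (Subgroup.card_le_of_le le_sup_left) fun h => hdZ ?_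
        exact (eq_of_le_of_card_ge le_sup_left h.ge).ge (mem_sup_right (mem_zpowers _))
      obtain ⟨k, hk, he⟩ := (Nat.dvd_prime_pow Nat.prime_three).1
        (show Nat.card ↥(Subgroup.zpowers B.a ⊔ Subgroup.zpowers d) ∣ 3 ^ 2 from
          (Subgroup.card_dvd_of_le hle).trans (by rw [hW, B.card_J_inf_R]; norm_num))
      rw [he] at hlt ⊢
      rw [hW, B.card_J_inf_R]
      interval_cases k <;> omega
    have hw : (w : G) ∈ Subgroup.zpowers B.a ⊔ Subgroup.zpowers d := hgen'.ge w.2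
    have hnorm : Subgroup.zpowers d ≤ Subgroup.normalizer (Subgroup.zpowers B.a : Set G) :=
      zpowers_le.2 (Subgroup.centralizer_le_normalizer _ fun u hu => by
        obtain ⟨n, rfl⟩ := mem_zpowers_iff.1 hu
        exact ((Commute.zpow_left (show Commute B.a d from (B.comm_a (B.J_le hdW.1)).symm) n)).eq)
    rw [← SetLike.mem_coe, Subgroup.coe_mul_of_right_le_normalizer_left _ _ hnorm] at hw
    obtain ⟨α, hα, β, hβ, he⟩ := hw
    obtain ⟨n, rfl⟩ := mem_zpowers_iff.1 hβ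
    refine ⟨(-n % 3).toNat, ?_⟩
    have hd3 : d ^ 3 = 1 := B.J_exp d hdW.1
    rw [← he, mul_assoc, ← zpow_natCast, Int.toNat_of_nonneg (Int.emod_nonneg _ (by norm_num)),
      show d ^ (-n % 3) = d ^ (-n) by
        conv_rhs => rw [← Int.emod_add_mul_ediv (-n) 3, zpow_add, zpow_mul,
          show (3 : ℤ) = ((3 : ℕ) : ℤ) from rfl, zpow_natCast, hd3, one_zpow, mul_one]
        rfl,
      ← zpow_add, add_neg_cancel, zpow_zero, mul_one]
    exact hα
  obtain ⟨k, hk⟩ := hk
  have hconj : ∀ m : ℕ, x ^ m * y * (x ^ m)⁻¹ = d ^ m * y := by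
    intro m
    induction m with
    | zero => simp
    | succ m ih =>
      rw [pow_succ', show x * x ^ m * y * (x * x ^ m)⁻¹ = x * (x ^ m * y * (x ^ m)⁻¹) * x⁻¹ by group, ih,
        show x * (d ^ m * (y : G)) * x⁻¹ = (x * d ^ m) * y * x⁻¹ by group,
        ((show Commute x d from B.J_comm x hx d hdW.1).pow_right m).eq, pow_succ, hd]
      group
  have hg'R : x ^ k * g ∈ B.R := by
    refine B.mem_R_of_fix (mul_mem (pow_mem (B.J_le hx) _) hg) hy hyJ (fun u hu => ?_) ?_
    · rw [show x ^ k * g * u * (x ^ k * g)⁻¹ = x ^ k * (g * u * g⁻¹) * (x ^ k)⁻¹ by group, hgW u hu,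
        mul_inv_cancel_right, B.J_comm _ (pow_mem hx k) u hu.1, mul_inv_cancel_right, mul_inv_cancel]
      exact one_mem _
    · rw [show x ^ k * g * (y : G) * (x ^ k * g)⁻¹ = x ^ k * (g * y * g⁻¹) * (x ^ k)⁻¹ by group, ← hiw',
        ← mul_assoc (x ^ k), B.J_comm _ (pow_mem hx k) _ w.2.1,
        show (w : G) * x ^ k * (y : G) * (x ^ k)⁻¹ = (w : G) * (x ^ k * y * (x ^ k)⁻¹) by group, hconj,
        ← mul_assoc, mul_inv_cancel_right]
      exact hk
  have hJ : x ^ k * g ∈ B.J := B.cent_J0 hg'R fun u hu => by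
    rw [mul_assoc, hgW u hu, ← mul_assoc, B.J_comm _ (pow_mem hx k) u hu.1, mul_assoc]
  have hgJ : g ∈ B.J := by
    have := mul_mem (inv_mem (pow_mem hx k)) hJ
    rwa [inv_mul_cancel_left] at this
  exact B.P0_le_M (B.J_le_P0 hgJ)

end Base

namespace Frame

variable {G : Type*} [Group G] [Finite G] {B : Base G} (F : Frame B)

theorem el_nsmul (n : ℕ) (v : Vec) : F.el (n • v) = F.el v ^ n := by
  rw [el, el, ← map_pow, ← ofAdd_nsmul]

theorem el_smul (k : ZMod 3) (v : Vec) : F.el (k • v) = F.el v ^ k.val := by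
  rw [smul_nat, el_nsmul]

theorem el_avec : F.el avec = B.a := F.f_a

theorem exists_vec {x : G} (hx : x ∈ B.J) : ∃ v, F.el v = x := by
  rw [← F.f_range] at hx
  obtain ⟨v, hv⟩ := hx
  exact ⟨Multiplicative.toAdd v, hv⟩

theorem zpowers_iff {p : Vec} {x : G} :
    x ∈ Subgroup.zpowers (F.el p) ↔ ∃ k : ZMod 3, x = F.el (k • p) := by
  constructor
  · intro hx
    obtain ⟨n, rfl⟩ := mem_zpowers_iff.1 hx
    refine ⟨(n : ZMod 3), ?_⟩
    rw [el_smul, ← zpow_natCast, ZMod.val_intCast]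
    conv_lhs => rw [← Int.emod_add_mul_ediv n 3, zpow_add, zpow_mul,
      show (3 : ℤ) = ((3 : ℕ) : ℤ) from rfl, zpow_natCast, B.J_exp _ (F.el_mem p), one_zpow, mul_one]
  · rintro ⟨k, rfl⟩
    rw [el_smul]
    exact pow_mem (mem_zpowers _) _

/-- A vector of full weight is an image of `a` or of its inverse under `M`. -/
theorem conj_full {v : Vec} (hv : ∀ j, v j ≠ 0) :
    ∃ m ∈ B.M, m * F.el v * m⁻¹ = B.a ∨ m * F.el v * m⁻¹ = B.a⁻¹ := by
  obtain ⟨w, hw, he⟩ := full_weight v hv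
  obtain ⟨m, hm, hmw⟩ := F.lift w hw
  refine ⟨m, hm, ?_⟩
  rcases he with he | he
  · left; rw [el, hmw, he]; exact F.f_a
  · right; rw [el, hmw, he]; rw [← F.el_avec]; exact F.el_neg avec

/-- The centralizer of two independent elements of `J`, one of full weight, lies in `M`. -/
theorem plane_full {v : Vec} (hv : ∀ j, v j ≠ 0) {u : G} (hu : u ∈ B.J)
    (huv : u ∉ Subgroup.zpowers (F.el v)) {g : G} (hgv : g * F.el v = F.el v * g)
    (hgu : g * u = u * g) : g ∈ B.M := by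
  obtain ⟨m, hm, he⟩ := F.conj_full hv
  have hza : Subgroup.zpowers (m * F.el v * m⁻¹) = Subgroup.zpowers B.a := by
    rcases he with he | he <;> rw [he]
    exact Subgroup.zpowers_inv
  have h1 : (MulAut.conj m) g * B.a = B.a * (MulAut.conj m) g := by
    have hc : Commute ((MulAut.conj m) g) ((MulAut.conj m) (F.el v)) :=
      (show Commute g (F.el v) from hgv).map _
    rcases he with he | he
    · rw [← he]; exact hc
    · have h := hc.inv_right
      rw [MulAut.conj_apply m (F.el v), he, inv_inv] at h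
      exact h
  have h2 := B.cent_pair (v := m * u * m⁻¹) (g := (MulAut.conj m) g)
    ((Subgroup.mem_normalizer_iff.1 hm u).1 hu) (fun h => huv ?_)
    (mem_centralizer_singleton_iff.2 h1) (((show Commute g u from hgu).map (MulAut.conj m)).eq)
  · rw [MulAut.conj_apply] at h2
    have := mul_mem (mul_mem (inv_mem hm) h2) hm
    rwa [show m⁻¹ * (m * g * m⁻¹) * m = g by group] at this
  · rw [← hza] at h
    obtain ⟨n, hn⟩ := mem_zpowers_iff.1 h
    rw [conj_zpow] at hn
    exact mem_zpowers_iff.2 ⟨n, mul_left_cancel (mul_right_cancel hn)⟩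

end Frame

end CfsgLib.Recog.SpSixThree
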