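import Cfsg.Agent.Lib.Recog.SpSixThree.FrameBasic
import Cfsg.Agent.Lib.Recog.SelfCentThree.Final
import Mathlib.GroupTheory.SchurZassenhaus

/-!
# The centralizer of two independent elements of `J` lies in `M`
-/

set_option autoImplicit false
set_option linter.style.haveILetI false
set_option linter.unusedSectionVars false
set_option maxRecDepth 100000

namespace CfsgLib.Recog.SpSixThree

open Subgroup

/-- A four-group normalized by an element of order three. -/
theorem exists_four {L : Type*} [Group L] (s t x : L) (hs : s * s = 1) (ht : t * t = 1)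
    (hst : s * t = t * s) (hs1 : s ≠ 1) (hxs : x * s * x⁻¹ = t) (hxt : x * t * x⁻¹ = s * t) :
    ∃ K : Subgroup L, K ≠ ⊥ ∧ IsPGroup 2 K ∧ ∀ k ∈ K, x * k * x⁻¹ ∈ K := by
  let K : Subgroup L :=
    { carrier := {k | k = 1 ∨ k = s ∨ k = t ∨ k = s * t}
      one_mem' := Or.inl rfl
      mul_mem' := by
        have e1 : t * s = s * t := hst.symm
        have e2 : s * (s * t) = t := by rw [← mul_assoc, hs, one_mul]
        have e3 : t * (s * t) = s := by rw [← mul_assoc, e1, mul_assoc, ht, mul_one]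
        have e4 : s * t * s = t := by rw [mul_assoc, e1, e2]
        have e5 : s * t * t = s := by rw [mul_assoc, ht, mul_one]
        have e6 : s * t * (s * t) = 1 := by rw [← mul_assoc, e4, ht]
        rintro a b (rfl | rfl | rfl | rfl) (rfl | rfl | rfl | rfl) <;>
          simp only [Set.mem_setOf_eq, one_mul, mul_one, hs, ht, e1, e2, e3, e4, e5, e6] <;> simp
      inv_mem' := by
        have i1 : s⁻¹ = s := inv_eq_of_mul_eq_one_right hs
        have i2 : t⁻¹ = t := inv_eq_of_mul_eq_one_right ht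
        rintro a (rfl | rfl | rfl | rfl) <;>
          simp only [Set.mem_setOf_eq, inv_one, i1, i2, mul_inv_rev, ← hst] <;> simp }
  refine ⟨K, fun h => hs1 ?_, fun k => ⟨1, ?_⟩, ?_⟩
  · have : s ∈ K := Or.inr (Or.inl rfl)
    rwa [h, mem_bot] at this
  · rcases k with ⟨k, hk⟩
    apply Subtype.ext
    rw [SubgroupClass.coe_pow, Subgroup.coe_one, pow_one, pow_two]
    rcases hk with rfl | rfl | rfl | rfl
    · exact mul_one _
    · exact hs
    · exact ht
    · rw [mul_assoc, ← mul_assoc t, ← hst, mul_assoc s t t, ht, mul_one, hs]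
  · rintro k (rfl | rfl | rfl | rfl)
    · exact Or.inl (by rw [mul_one, mul_inv_cancel])
    · exact Or.inr (Or.inr (Or.inl hxs))
    · exact Or.inr (Or.inr (Or.inr hxt))
    · refine Or.inr (Or.inl ?_)
      rw [show x * (s * t) * x⁻¹ = (x * s * x⁻¹) * (x * t * x⁻¹) by group, hxs, hxt, ← mul_assoc,
        ← hst, mul_assoc, ht, mul_one]

/-- `A₅` has a four-group normalized by an element of order three. -/
theorem four_altFive : ∃ (K : Subgroup (alternatingGroup (Fin 5))) (x : alternatingGroup (Fin 5)),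
    K ≠ ⊥ ∧ IsPGroup 2 K ∧ x ^ 3 = 1 ∧ x ≠ 1 ∧ ∀ k ∈ K, x * k * x⁻¹ ∈ K := by
  obtain ⟨s, hs⟩ : ∃ s : alternatingGroup (Fin 5), (s : Equiv.Perm (Fin 5)) =
      Equiv.swap 0 1 * Equiv.swap 2 3 := ⟨⟨_, Equiv.Perm.mem_alternatingGroup.2 (by decide +kernel)⟩, rfl⟩
  obtain ⟨t, ht⟩ : ∃ t : alternatingGroup (Fin 5), (t : Equiv.Perm (Fin 5)) =
      Equiv.swap 0 3 * Equiv.swap 1 2 := ⟨⟨_, Equiv.Perm.mem_alternatingGroup.2 (by decide +kernel)⟩, rfl⟩
  obtain ⟨x, hx⟩ : ∃ x : alternatingGroup (Fin 5), (x : Equiv.Perm (Fin 5)) =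
      Equiv.swap 0 2 * Equiv.swap 0 1 := ⟨⟨_, Equiv.Perm.mem_alternatingGroup.2 (by decide +kernel)⟩, rfl⟩
  have h := exists_four s t x (Subtype.ext (by simp only [Subgroup.coe_mul, Subgroup.coe_one, hs]; decide +kernel))
    (Subtype.ext (by simp only [Subgroup.coe_mul, Subgroup.coe_one, ht]; decide +kernel))
    (Subtype.ext (by simp only [Subgroup.coe_mul, hs, ht]; decide +kernel))
    (fun h => by
      have := congrArg (fun a : alternatingGroup (Fin 5) => (a : Equiv.Perm (Fin 5))) h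
      simp only [hs, Subgroup.coe_one] at this
      exact absurd this (by decide +kernel))
    (Subtype.ext (by simp only [Subgroup.coe_mul, Subgroup.coe_inv, hs, ht, hx]; decide +kernel))
    (Subtype.ext (by simp only [Subgroup.coe_mul, Subgroup.coe_inv, hs, ht, hx]; decide +kernel))
  obtain ⟨K, h1, h2, h3⟩ := h
  exact ⟨K, x, h1, h2, Subtype.ext (by simp only [SubgroupClass.coe_pow, Subgroup.coe_one, hx]; decide +kernel),
    fun h => by
      have := congrArg (fun a : alternatingGroup (Fin 5) => (a : Equiv.Perm (Fin 5))) h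
      simp only [hx, Subgroup.coe_one] at this
      exact absurd this (by decide +kernel), h3⟩

/-- `SL₂(7)`. -/
abbrev SLS : Type := Matrix.SpecialLinearGroup (Fin 2) (ZMod 7)

/-- `L₂(7)` has a four-group normalized by an element of order three. -/
theorem four_pslSeven : ∃ (K : Subgroup (Matrix.ProjectiveSpecialLinearGroup (Fin 2) (ZMod 7)))
    (x : Matrix.ProjectiveSpecialLinearGroup (Fin 2) (ZMod 7)),
    K ≠ ⊥ ∧ IsPGroup 2 K ∧ x ^ 3 = 1 ∧ x ≠ 1 ∧ ∀ k ∈ K, x * k * x⁻¹ ∈ K := by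
  let π : SLS →* Matrix.ProjectiveSpecialLinearGroup (Fin 2) (ZMod 7) := QuotientGroup.mk' _
  let i : SLS := ⟨!![0, 1; 6, 0], by decide +kernel⟩
  let j : SLS := ⟨!![2, 3; 3, 5], by decide +kernel⟩
  let r : SLS := ⟨!![4, 6; 0, 2], by decide +kernel⟩
  have hm1 : π (-1) = 1 := (QuotientGroup.eq_one_iff _).2
    (Subgroup.mem_center_iff.2 (by decide +kernel))
  have hii : π i * π i = 1 := by rw [← map_mul, show i * i = -1 by decide +kernel, hm1]
  have hjj : π j * π j = 1 := by rw [← map_mul, show j * j = -1 by decide +kernel, hm1]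
  have hij : π i * π j = π j * π i := by
    rw [← map_mul, ← map_mul, show i * j = -1 * (j * i) by decide +kernel, map_mul, hm1, one_mul]
  have hi1 : π i ≠ 1 := fun h => by
    have := Subgroup.mem_center_iff.1 ((QuotientGroup.eq_one_iff _).1 h) j
    exact absurd this (by decide +kernel)
  obtain ⟨K, h1, h2, h3⟩ := exists_four (π i) (π j) (π r) hii hjj hij hi1
    (by rw [mul_inv_eq_iff_eq_mul, ← map_mul, ← map_mul, show r * i = j * r by decide +kernel])
    (by rw [mul_inv_eq_iff_eq_mul, ← map_mul, ← map_mul, ← map_mul, show r * j = i * j * r by decide +kernel])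
  refine ⟨K, π r, h1, h2, by rw [← map_pow, show r ^ 3 = 1 by decide +kernel, map_one], fun h => ?_, h3⟩
  have := Subgroup.mem_center_iff.1 ((QuotientGroup.eq_one_iff _).1 h) j
  exact absurd this (by decide +kernel)

/-- A group with a self-centralizing subgroup of order three has it as a Sylow subgroup. -/
theorem exists_conj_gen {X : Type*} [Group X] [Finite X] (Y : Subgroup X) (hY : Nat.card Y = 3)
    (hC : Subgroup.centralizer (Y : Set X) = Y) {x : X} (hx : orderOf x = 3) :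
    ∃ g : X, ∀ y ∈ Y, g⁻¹ * y * g ∈ Subgroup.zpowers x := by
  haveI : Fact (Nat.Prime 3) := ⟨Nat.prime_three⟩
  obtain ⟨Q, hQ⟩ := (IsPGroup.of_card (n := 1) (by rw [hY]; rfl) : IsPGroup 3 Y).exists_le_sylow
  have hQY : (Q : Subgroup X) = Y := by
    refine le_antisymm (fun q hq => ?_) hQ
    rw [← hC]
    refine mem_centralizer_iff.2 fun y hy => ?_
    haveI : Nontrivial (Q : Subgroup X) := (Subgroup.nontrivial_iff_ne_bot _).2 fun h => by
      have := Subgroup.card_le_of_le hQ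
      rw [h, card_bot, hY] at this
      omega
    haveI := Q.isPGroup'.center_nontrivial
    obtain ⟨⟨⟨z, hzQ⟩, hzc⟩, hz1⟩ := exists_ne (1 : center (Q : Subgroup X))
    have hzY : z ∈ Y := hC ▸ mem_centralizer_iff.2 fun w hw =>
      congrArg Subtype.val (mem_center_iff.1 hzc ⟨w, hQ hw⟩)
    have hgen : Subgroup.zpowers z = Y := by
      refine eq_of_le_of_card_ge (zpowers_le.2 hzY) ?_
      rw [hY, Nat.card_zpowers]
      have h3 : orderOf (⟨z, hzY⟩ : Y) ∣ 3 := hY ▸ orderOf_dvd_natCard _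
      rw [Subgroup.orderOf_mk] at h3
      exact ((Nat.dvd_prime Nat.prime_three).1 h3).resolve_left (fun h => hz1 (Subtype.ext
        (Subtype.ext (orderOf_eq_one_iff.1 h)))) |>.ge
    rw [← hgen] at hy
    obtain ⟨n, rfl⟩ := mem_zpowers_iff.1 hy
    have hqz : Commute q z := congrArg Subtype.val (mem_center_iff.1 hzc ⟨q, hq⟩)
    exact (hqz.zpow_right n).eq.symm
  have hp : IsPGroup 3 (Subgroup.zpowers x) :=
    IsPGroup.of_card (n := 1) (by rw [Nat.card_zpowers, hx]; rfl)
  obtain ⟨P, hP⟩ := hp.exists_le_sylow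
  obtain ⟨g, hg⟩ := MulAction.exists_smul_eq X P Q
  have hPcard : Nat.card (P : Subgroup X) = 3 := by
    rw [P.card_eq_multiplicity, ← Q.card_eq_multiplicity, hQY, hY]
  have hPx : (P : Subgroup X) = Subgroup.zpowers x :=
    (eq_of_le_of_card_ge hP (by rw [hPcard, Nat.card_zpowers, hx])).symm
  refine ⟨g, fun y hy => ?_⟩
  rw [← hQY, ← hg, Sylow.coe_subgroup_smul] at hy
  obtain ⟨w, hw, rfl⟩ := hy
  rw [← hPx]
  show g⁻¹ * (g * w * g⁻¹) * g ∈ (P : Subgroup X)
  rwa [show g⁻¹ * (g * w * g⁻¹) * g = w by group]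

namespace Base

variable {G : Type*} [Group G] [Finite G] (B : Base G)

/-- In a central quotient of a subgroup containing `J`, the image of `J` being self-centralizing of order three,
no nontrivial subgroup of order prime to three is normalized by an element of order three. -/
theorem kill {U D : Subgroup G} (hU : ∀ u ∈ U, u ^ 3 = 1) (hUc : ∀ u ∈ U, ∀ g ∈ D, u * g = g * u)
    (hJD : B.J ≤ D) [(U.subgroupOf D).Normal] (Y : Subgroup (↥D ⧸ U.subgroupOf D))
    (hYdef : Y = (B.J.subgroupOf D).map (QuotientGroup.mk' (U.subgroupOf D)))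
    (hY : Nat.card Y = 3) (hC : Subgroup.centralizer (Y : Set (↥D ⧸ U.subgroupOf D)) = Y)
    {K : Subgroup (↥D ⧸ U.subgroupOf D)} (hK : (Nat.card K).Coprime 3)
    {x : ↥D ⧸ U.subgroupOf D} (hx : orderOf x = 3) (hxK : ∀ k ∈ K, x * k * x⁻¹ ∈ K) : K = ⊥ := by
  classical
  haveI : Fact (Nat.Prime 3) := ⟨Nat.prime_three⟩
  set π := QuotientGroup.mk' (U.subgroupOf D) with hπ
  obtain ⟨c, hc⟩ := exists_conj_gen Y hY hC hx
  obtain ⟨g, rfl⟩ := QuotientGroup.mk'_surjective (U.subgroupOf D) c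
  set K' := K.map (MulAut.conj (π g)).toMonoidHom with hK'
  set K1 := K'.comap π with hK1
  set U1 := (U.subgroupOf D).subgroupOf K1 with hU1
  have hUK1 : U.subgroupOf D ≤ K1 := fun u hu => by
    rw [hK1, mem_comap, show π u = 1 from (QuotientGroup.eq_one_iff u).2 hu]
    exact one_mem _
  have hU1p : IsPGroup 3 U1 := fun u => ⟨1, Subtype.ext (Subtype.ext (Subtype.ext (by
    simpa using hU _ (mem_subgroupOf.1 (mem_subgroupOf.1 u.2)))))⟩
  haveI hU1n : U1.Normal := Subgroup.Normal.subgroupOf inferInstance _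
  have hidx : U1.index = Nat.card K := by
    have h1 : U1 = (π.domRestrict K1).ker := by
      ext u
      rw [hU1, mem_subgroupOf, MonoidHom.mem_ker, MonoidHom.domRestrict_apply]
      exact (QuotientGroup.eq_one_iff _).symm
    rw [h1, Subgroup.index_ker, MonoidHom.domRestrict_range, hK1,
      map_comap_eq_self_of_surjective (QuotientGroup.mk'_surjective _), hK',
      Subgroup.card_map_of_injective (MulAut.conj (π g)).injective]
  have hcop : Nat.Coprime (Nat.card U1) U1.index := by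
    obtain ⟨n, hn⟩ := IsPGroup.iff_card.1 hU1p
    rw [hn, hidx]
    exact (hK.symm).pow_left n
  obtain ⟨H, hH⟩ := Subgroup.exists_right_complement'_of_coprime hcop
  have hHcard : Nat.card H = Nat.card K := by
    rw [← hidx]
    exact (hH.symm.index_eq_card).symm
  have hH3 : (Nat.card H).Coprime 3 := hHcard ▸ hK
  -- the complement consists of all elements of order prime to three
  have hchar : ∀ u : K1, (orderOf u).Coprime 3 → u ∈ H := by
    intro u hu
    obtain ⟨⟨v, hv⟩, ⟨w, hw⟩, huvw⟩ : ∃ v : U1, ∃ w : H, (v : K1) * (w : K1) = u := by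
      obtain ⟨⟨v, w⟩, h⟩ := (hH : Subgroup.IsComplement _ _).surjective u
      exact ⟨v, w, h⟩
    have hcm : Commute v w := Subtype.ext (Subtype.ext
      (hUc _ (mem_subgroupOf.1 (mem_subgroupOf.1 hv)) _ (w : ↥D).2))
    have hv3 : v ^ 3 = 1 := Subtype.ext (Subtype.ext (by
      simpa using hU _ (mem_subgroupOf.1 (mem_subgroupOf.1 hv))))
    have hu3 : u ^ 3 ∈ H := by
      rw [← huvw, hcm.mul_pow, hv3, one_mul]
      exact pow_mem hw 3
    obtain ⟨n, hn⟩ := exists_pow_eq_self_of_coprime (n := 3) hu.symm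
    rw [← hn]
    exact pow_mem hu3 _
  set HG := H.map (D.subtype.comp K1.subtype) with hHG
  have hbot : HG = ⊥ := by
    refine B.sig HG ?_ fun j hj => ?_
    · rw [hHG, Subgroup.card_map_of_injective (f := D.subtype.comp K1.subtype)
        (fun a b e => K1.subtype_injective (D.subtype_injective e))]
      exact hH3
    · have hfwd : ∀ j : G, j ∈ B.J → ∀ h ∈ HG, j * h * j⁻¹ ∈ HG := by
        intro j hj h hh
        obtain ⟨u, hu, rfl⟩ := hh
        have hjy : π ⟨j, hJD hj⟩ ∈ Y := hYdef ▸ ⟨⟨j, hJD hj⟩, mem_subgroupOf.2 hj, rfl⟩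
        obtain ⟨n, hn⟩ := mem_zpowers_iff.1 (hc _ hjy)
        have hnK : ∀ k ∈ K, x ^ n * k * (x ^ n)⁻¹ ∈ K := by
          have hxn : x ∈ Subgroup.normalizer (K : Set (↥D ⧸ U.subgroupOf D)) := by
            refine Subgroup.mem_normalizer_iff.2 fun k => ⟨hxK k, fun hk => ?_⟩
            have hinj : Function.Injective fun k : K => (⟨x * k * x⁻¹, hxK k k.2⟩ : K) :=
              fun a b e => Subtype.ext (mul_left_cancel (mul_right_cancel (congrArg Subtype.val e)))
            obtain ⟨k', hk'⟩ := (Finite.injective_iff_surjective.1 hinj) ⟨_, hk⟩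
            have := mul_left_cancel (mul_right_cancel (congrArg Subtype.val hk'))
            exact this ▸ k'.2
          exact fun k hk => (Subgroup.mem_normalizer_iff.1 (zpow_mem hxn n) k).1 hk
        have hm : π (⟨j, hJD hj⟩ * (u : ↥D) * ⟨j, hJD hj⟩⁻¹) ∈ K' := by
          obtain ⟨k, hk, hku⟩ := (mem_comap.1 u.2 : π (u : ↥D) ∈ K')
          refine ⟨x ^ n * k * (x ^ n)⁻¹, hnK k hk, ?_⟩
          have e : π (⟨j, hJD hj⟩ * (u : ↥D) * ⟨j, hJD hj⟩⁻¹) =
              π ⟨j, hJD hj⟩ * π (u : ↥D) * (π ⟨j, hJD hj⟩)⁻¹ := by rw [map_mul, map_mul, map_inv]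
          rw [hn, e, ← hku, hπ]
          simp only [MulEquiv.coe_toMonoidHom, MulAut.conj_apply]
          group
        refine ⟨⟨_, mem_comap.2 hm⟩, hchar _ ?_, rfl⟩
        have ho : orderOf (⟨⟨j, hJD hj⟩ * (u : ↥D) * ⟨j, hJD hj⟩⁻¹, mem_comap.2 hm⟩ : K1) = orderOf u := by
          rw [← Subgroup.orderOf_coe, ← Subgroup.orderOf_coe u]
          exact orderOf_injective (MulAut.conj (⟨j, hJD hj⟩ : ↥D)).toMonoidHom
            (MulAut.conj _).injective (u : ↥D)
        rw [ho]
        have hd : orderOf u ∣ Nat.card H := by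
          rw [← Subgroup.orderOf_mk u hu]
          exact orderOf_dvd_natCard _
        exact hH3.coprime_dvd_left hd
      refine Subgroup.mem_normalizer_iff.2 fun h => ⟨hfwd j hj h, fun hh => ?_⟩
      have := hfwd j⁻¹ (inv_mem hj) _ hh
      rwa [show j⁻¹ * (j * h * j⁻¹) * j⁻¹⁻¹ = h by group] at this
  have hH1 : H = ⊥ := (map_eq_bot_iff_of_injective _ (f := D.subtype.comp K1.subtype)
    (fun a b e => K1.subtype_injective (D.subtype_injective e))).1 hbot
  refine Subgroup.card_eq_one.1 ?_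
  rw [← hHcard, hH1, card_bot]

end Base

theorem plane_cases : ∀ p q : Vec, p ≠ 0 → (∀ k : ZMod 3, q ≠ k • p) →
    (∃ i j : ZMod 3, (∀ l, (i • p + j • q) l ≠ 0)) ∨
      ∃ k : Fin 3, ∀ v : Vec, v k = 0 → ∃ i j : ZMod 3, v = i • p + j • q := by decide +kernel

theorem coord_fix : ∀ (w : Code) (k : Fin 3), (∀ v : Vec, v k = 0 → sact w v = v) →
    ((sact w (evec k)) k = 1 → ∀ v, sact w v = v) := by decide +kernel

theorem coord_split : ∀ (k : Fin 3) (v : Vec), ∃ i : ZMod 3, (v - i • evec k) k = 0 ∧ i = v k := by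
  decide +kernel

theorem coord_evec : ∀ k : Fin 3, evec k ≠ 0 ∧ evec k k = 1 := by decide +kernel

namespace Frame

variable {G : Type*} [Group G] [Finite G] {B : Base G} (F : Frame B)

/-- The centralizer of a coordinate plane lies in `M`. -/
theorem coord_cent (k : Fin 3) {g₀ : G} (hg₀ : ∀ v : Vec, v k = 0 → g₀ * F.el v = F.el v * g₀) :
    g₀ ∈ B.M := by
  classical
  haveI : Fact (Nat.Prime 3) := ⟨Nat.prime_three⟩
  let U : Subgroup G :=
    { carrier := {x | ∃ v : Vec, v k = 0 ∧ F.el v = x}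
      one_mem' := ⟨0, rfl, F.el_zero⟩
      mul_mem' := by
        rintro _ _ ⟨v, hv, rfl⟩ ⟨w, hw, rfl⟩
        exact ⟨v + w, by simp [hv, hw], F.el_add v w⟩
      inv_mem' := by rintro _ ⟨v, hv, rfl⟩; exact ⟨-v, by simp [hv], F.el_neg v⟩ }
  let D : Subgroup G := Subgroup.centralizer (U : Set G)
  have hUJ : ∀ u ∈ U, u ∈ B.J := by rintro _ ⟨v, -, rfl⟩; exact F.el_mem v
  have hUD : U ≤ D := fun u hu => mem_centralizer_iff.2 fun w hw => B.J_comm w (hUJ w hw) u (hUJ u hu)
  have hJD : B.J ≤ D := fun u hu => mem_centralizer_iff.2 fun w hw => B.J_comm w (hUJ w hw) u hu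
  have hUc : ∀ u ∈ U, ∀ g ∈ D, u * g = g * u := fun u hu g hg => mem_centralizer_iff.1 hg u hu
  have hg₀D : g₀ ∈ D := mem_centralizer_iff.2 (by rintro _ ⟨v, hv, rfl⟩; exact (hg₀ v hv).symm)
  haveI hn : (U.subgroupOf D).Normal := ⟨fun u hu g => by
    rw [mem_subgroupOf] at hu ⊢
    simp only [Subgroup.coe_mul, Subgroup.coe_inv]
    rwa [← hUc _ hu _ g.2, mul_inv_cancel_right]⟩
  set π := QuotientGroup.mk' (U.subgroupOf D) with hπ
  set Y := (B.J.subgroupOf D).map π with hY
  -- coordinates of the image of `J`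
  have hπel : ∀ v : Vec, π ⟨F.el v, hJD (F.el_mem v)⟩ = π ⟨F.el (evec k), hJD (F.el_mem _)⟩ ^ (v k).val := by
    intro v
    rw [← map_pow, QuotientGroup.mk'_eq_mk']
    obtain ⟨i, hi, hik⟩ := coord_split k v
    refine ⟨⟨F.el (-(v - i • evec k)), hJD (F.el_mem _)⟩, mem_subgroupOf.2 ⟨_, by simp [hi], rfl⟩, ?_⟩
    apply Subtype.ext
    simp only [Subgroup.coe_mul, SubgroupClass.coe_pow]
    rw [← F.el_add, ← F.el_smul, ← hik]
    congr 1
    abel
  set e := π ⟨F.el (evec k), hJD (F.el_mem _)⟩ with he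
  have he1 : e ≠ 1 := fun h => by
    obtain ⟨v, hv, hv'⟩ := mem_subgroupOf.1 ((QuotientGroup.eq_one_iff _).1 h)
    have := F.el_inj.1 hv'
    rw [this, (coord_evec k).2] at hv
    exact one_ne_zero hv
  have he3 : e ^ 3 = 1 := by
    rw [he, ← map_pow, show (⟨F.el (evec k), hJD (F.el_mem _)⟩ : D) ^ 3 = 1 from
      Subtype.ext (B.J_exp _ (F.el_mem _)), map_one]
  have heo : orderOf e = 3 := orderOf_eq_prime he3 he1
  have hYe : Y = Subgroup.zpowers e := by
    refine le_antisymm ?_ (zpowers_le.2 ⟨_, mem_subgroupOf.2 (F.el_mem _), rfl⟩)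
    rintro _ ⟨⟨y, hyD⟩, hy, rfl⟩
    obtain ⟨v, rfl⟩ := F.exists_vec (mem_subgroupOf.1 hy)
    rw [hπel v]
    exact pow_mem (mem_zpowers _) _
  have hYcard : Nat.card Y = 3 := by rw [hYe, Nat.card_zpowers, heo]
  -- elements normalizing `J`, fixing `U`, fixing `e` modulo `U`
  have hfix : ∀ g ∈ D, π ⟨F.el (evec k), hJD (F.el_mem _)⟩ = π ⟨F.el (evec k), hJD (F.el_mem _)⟩ →
      g ∈ B.M → (∀ (hgD : g ∈ D), π ⟨g, hgD⟩ * e = e * π ⟨g, hgD⟩) → g ∈ B.J := by
    intro g hgD _ hgM hge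
    obtain ⟨w, hw⟩ := F.code g hgM
    have hfixU : ∀ v : Vec, v k = 0 → sact w v = v := fun v hv => F.el_inj.1 (by
      refine (hw v).symm.trans ?_
      rw [show g * F.f (Multiplicative.ofAdd v) = F.el v * g from
        (mem_centralizer_iff.1 hgD (F.el v) ⟨v, hv, rfl⟩).symm]
      exact mul_inv_cancel_right _ _)
    have hk1 : (sact w (evec k)) k = 1 := by
      have h1 : π ⟨F.el (sact w (evec k)), hJD (F.el_mem _)⟩ = e := by
        rw [show (⟨F.el (sact w (evec k)), hJD (F.el_mem _)⟩ : D) = ⟨g, hgD⟩ *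
          ⟨F.el (evec k), hJD (F.el_mem _)⟩ * ⟨g, hgD⟩⁻¹ from Subtype.ext (hw (evec k)).symm,
          map_mul, map_mul, map_inv, ← he, hge hgD, mul_inv_cancel_right]
      rw [hπel, ← pow_one e, ← pow_mul, one_mul, pow_eq_pow_iff_modEq, heo] at h1
      have h2 : (((sact w (evec k)) k).val : ZMod 3) = ((1 : ℕ) : ZMod 3) :=
        (ZMod.natCast_eq_natCast_iff _ _ _).2 h1
      rwa [ZMod.natCast_zmod_val, Nat.cast_one] at h2
    have hall := coord_fix w k hfixU hk1
    rw [← B.cent_J]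
    intro x hx
    obtain ⟨v, rfl⟩ := F.exists_vec hx
    have h := hw v
    rw [hall v] at h
    exact (mul_inv_eq_iff_eq_mul.1 h).symm
  -- the preimage of the normalizer of the image of `J`
  have hnorm : ∀ g (hgD : g ∈ D), π ⟨g, hgD⟩ ∈ Subgroup.normalizer (Y : Set _) → g ∈ B.M := by
    intro g hgD hg
    refine B.mem_M_of_map (eq_of_le_of_card_ge ?_ (le_of_eq ?_))
    · rintro _ ⟨j, hj, rfl⟩
      have h1 := (Subgroup.mem_normalizer_iff.1 hg _).1 (⟨⟨j, hJD hj⟩, mem_subgroupOf.2 hj, rfl⟩ : π ⟨j, hJD hj⟩ ∈ Y)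
      rw [← map_inv, ← map_mul, ← map_mul] at h1
      obtain ⟨y, hy, hyu⟩ := h1
      obtain ⟨u, hu, huv⟩ := (QuotientGroup.mk'_eq_mk' _).1 hyu
      have := mul_mem (mem_subgroupOf.1 hy) (hUJ _ (mem_subgroupOf.1 hu))
      have e' := congrArg Subtype.val huv
      simp only [Subgroup.coe_mul, Subgroup.coe_inv] at e'
      rw [e'] at this
      exact this
    · exact (Subgroup.card_map_of_injective (MulAut.conj g).injective).symm
  have hC : Subgroup.centralizer (Y : Set (↥D ⧸ U.subgroupOf D)) = Y := by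
    refine le_antisymm ?_ ?_
    · intro X hX
      obtain ⟨⟨g, hgD⟩, rfl⟩ := QuotientGroup.mk'_surjective (U.subgroupOf D) X
      have hgM : g ∈ B.M := hnorm g hgD (Subgroup.centralizer_le_normalizer _ hX)
      have hgJ := hfix g hgD rfl hgM fun _ =>
        (mem_centralizer_iff.1 hX e (hYe ▸ mem_zpowers _)).symm
      exact ⟨⟨g, hgD⟩, mem_subgroupOf.2 hgJ, rfl⟩
    · rw [hYe]
      intro y hy z hz
      obtain ⟨m, rfl⟩ := mem_zpowers_iff.1 hy
      obtain ⟨n, rfl⟩ := mem_zpowers_iff.1 hz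
      exact ((Commute.refl e).zpow_zpow n m).eq
  have hkill : ∀ (K : Subgroup (↥D ⧸ U.subgroupOf D)) (x : ↥D ⧸ U.subgroupOf D),
      (Nat.card K).Coprime 3 → orderOf x = 3 → (∀ y ∈ K, x * y * x⁻¹ ∈ K) → K = ⊥ :=
    fun K x h1 h2 h3 => B.kill (fun u hu => B.J_exp u (hUJ u hu)) hUc hJD Y hY hYcard hC h1 h2 h3
  have hpull : ∀ {L : Type} [Group L] (f : L ≃* ↥D ⧸ U.subgroupOf D) (K : Subgroup L) (x : L),
      K ≠ ⊥ → IsPGroup 2 K → x ^ 3 = 1 → x ≠ 1 → (∀ y ∈ K, x * y * x⁻¹ ∈ K) → False := by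
    intro L _ f K x h1 h2 h3 h4 h5
    refine h1 ((map_eq_bot_iff_of_injective _ f.injective).1 (hkill (K.map f.toMonoidHom) (f x) ?_ ?_ ?_))
    · obtain ⟨n, hn⟩ := IsPGroup.iff_card.1 (h2.map f.toMonoidHom)
      rw [hn]
      exact (by norm_num : Nat.Coprime 2 3).pow_left n
    · exact orderOf_eq_prime (by rw [← map_pow, h3, map_one]) fun h => h4 (f.map_eq_one_iff.1 h)
    · rintro _ ⟨y, hy, rfl⟩
      exact ⟨x * y * x⁻¹, h5 y hy, by simp⟩
  have hYn : Y.Normal := by
    rcases CfsgLib.Recog.SelfCentThree.main Y hYcard hC with ⟨N, hN, -, hNc, hq⟩ |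
        ⟨N, hN, -, hN2, ⟨f⟩⟩ | ⟨⟨f⟩⟩
    · have hN1 : N = ⊥ := hkill N e hNc heo fun y hy => hN.conj_mem y hy e
      subst hN1
      have hX : Nat.card (↥D ⧸ U.subgroupOf D) = 3 ∨ Nat.card (↥D ⧸ U.subgroupOf D) = 6 := by
        rcases hq with h | ⟨⟨f⟩⟩
        · left; rwa [Nat.card_congr QuotientGroup.quotientBot.toEquiv] at h
        · right
          rw [← Nat.card_congr QuotientGroup.quotientBot.toEquiv, Nat.card_congr f.toEquiv,
            Nat.card_eq_fintype_card]
          rfl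
      have hi := Y.card_mul_index
      rw [hYcard] at hi
      rcases hX with h | h
      · have : Y.index = 1 := by omega
        rw [Subgroup.index_eq_one.1 this]; infer_instance
      · exact Subgroup.normal_of_index_eq_two (by omega)
    · have hNp : IsPGroup 2 N := fun y => ⟨1, Subtype.ext (by
        rw [SubgroupClass.coe_pow, pow_one]; exact hN2 _ y.2)⟩
      have hNc : (Nat.card N).Coprime 3 := by
        obtain ⟨n, hn⟩ := IsPGroup.iff_card.1 hNp
        rw [hn]; exact (by norm_num : Nat.Coprime 2 3).pow_left n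
      have hN1 : N = ⊥ := hkill N e hNc heo fun y hy => hN.conj_mem y hy e
      subst hN1
      obtain ⟨K, x, h1, h2, h3, h4, h5⟩ := four_altFive
      exact (hpull (f.symm.trans QuotientGroup.quotientBot) K x h1 h2 h3 h4 h5).elim
    · obtain ⟨K, x, h1, h2, h3, h4, h5⟩ := four_pslSeven
      exact (hpull f.symm K x h1 h2 h3 h4 h5).elim
  exact hnorm g₀ hg₀D (by rw [Subgroup.normalizer_eq_top_iff.2 hYn]; exact mem_top _)

include F in
/-- The centralizer of two independent elements of `J` lies in `M`. -/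
theorem plane {u v : G} (hu : u ∈ B.J) (hv : v ∈ B.J) (hu1 : u ≠ 1)
    (huv : v ∉ Subgroup.zpowers u) : Subgroup.centralizer ({u, v} : Set G) ≤ B.M := by
  intro g hg
  have hgu : g * u = u * g := (mem_centralizer_iff.1 hg u (Or.inl rfl)).symm
  have hgv : g * v = v * g := (mem_centralizer_iff.1 hg v (Or.inr rfl)).symm
  obtain ⟨p, rfl⟩ := F.exists_vec hu
  obtain ⟨q, rfl⟩ := F.exists_vec hv
  have hp : p ≠ 0 := fun h => hu1 (by rw [h, F.el_zero])
  have hq : ∀ k : ZMod 3, q ≠ k • p := fun k h => huv (F.zpowers_iff.2 ⟨k, by rw [h]⟩)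
  have hspan : ∀ i j : ZMod 3, g * F.el (i • p + j • q) = F.el (i • p + j • q) * g := by
    intro i j
    rw [F.el_add, F.el_smul, F.el_smul]
    exact (((show Commute g (F.el p) from hgu).pow_right _).mul_right
      ((show Commute g (F.el q) from hgv).pow_right _)).eq
  rcases plane_cases p q hp hq with ⟨i, j, hw⟩ | ⟨k, hk⟩
  · by_cases hpm : F.el p ∈ Subgroup.zpowers (F.el (i • p + j • q))
    · refine F.plane_full hw (F.el_mem q) (fun hqm => ?_) (hspan i j) hgv
      obtain ⟨s, hs⟩ := F.zpowers_iff.1 hpm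
      obtain ⟨t, ht⟩ := F.zpowers_iff.1 hqm
      have key : ∀ w p q : Vec, ∀ s t : ZMod 3, p ≠ 0 → p = s • w → q = t • w → ∃ k : ZMod 3, q = k • p := by
        intro w p q s t h1 h2 h3
        have hs0 : s ≠ 0 := fun h => h1 (by rw [h2, h, zero_smul])
        exact ⟨t * s⁻¹, by rw [h2, h3, smul_smul, mul_assoc, inv_mul_cancel₀ hs0, mul_one]⟩
      obtain ⟨k, hk⟩ := key _ p q s t hp (F.el_inj.1 hs) (F.el_inj.1 ht)
      exact hq k hk
    · exact F.plane_full hw (F.el_mem p) hpm (hspan i j) hgu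
  · refine F.coord_cent k fun v hv => ?_
    obtain ⟨i, j, rfl⟩ := hk v hv
    exact hspan i j

end Frame

end CfsgLib.Recog.SpSixThree
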