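import Cfsg.Agent.Lib.Recog.SpSixThree.FramePlane
import Cfsg.Prelude.Def_Transfer

/-!
# The centralizer of an element of `J` of deficient weight, modulo that element
-/

set_option autoImplicit false
set_option linter.style.haveILetI false
set_option linter.unusedSectionVars false

namespace CfsgLib.Recog.SpSixThree

open Subgroup

theorem fix_three : ∀ (p : Vec) (w : Code), p ≠ 0 → (∃ j, p j = 0) → sact w p = p →
    (∀ v, sact w (sact w (sact w v)) = v) → ∀ v, sact w v = v := by decide +kernel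

theorem fix_mod : ∀ (p : Vec) (w : Code), p ≠ 0 → (∃ j, p j = 0) → sact w p = p →
    (∀ v, ∃ k : ZMod 3, sact w v = v + k • p) → ∀ v, sact w v = v := by decide +kernel

/-- A signed permutation as a permutation of the coordinate vectors. -/
def cact (w : Code) : Equiv.Perm Vec where
  toFun := sact w
  invFun v := fun j => if w.1 (w.2 j) then -v (w.2 j) else v (w.2 j)
  left_inv v := by funext j; simp only [sact, Equiv.symm_apply_apply]; split <;> simp
  right_inv v := by funext j; simp only [sact, Equiv.apply_symm_apply]; split <;> simp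

theorem cact_apply (w : Code) (v : Vec) : cact w v = sact w v := rfl

theorem cact_cmul (u w : Code) : cact u * cact w = cact (cmul u w) :=
  Equiv.ext fun v => (sact_cmul u w v).symm

theorem cact_inj {u w : Code} (h : cact u = cact w) : u = w :=
  sact_inj u w fun _ => Equiv.congr_fun h _

theorem cact_one : cact ((fun _ => false), 1) = 1 := Equiv.ext sact_one

namespace Frame

variable {G : Type*} [Group G] [Finite G] {B : Base G} (F : Frame B)

/-- The centralizer of an element of `J`. -/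
abbrev cx (p : Vec) : Subgroup G := Subgroup.centralizer ({F.el p} : Set G)

theorem J_le_cx (p : Vec) : B.J ≤ F.cx p := fun j hj =>
  mem_centralizer_singleton_iff.2 (B.J_comm j hj _ (F.el_mem p))

theorem zpowers_le_J (p : Vec) : Subgroup.zpowers (F.el p) ≤ B.J := zpowers_le.2 (F.el_mem p)

theorem el_ne_one {p : Vec} (hp : p ≠ 0) : F.el p ≠ 1 := fun h =>
  hp (F.el_inj.1 (h.trans F.el_zero.symm))

theorem fix_iff {g : G} {w : Code} (h : F.Acts g w) (p : Vec) : g ∈ F.cx p ↔ sact w p = p := by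
  rw [cx, mem_centralizer_singleton_iff, ← F.el_inj, ← h p, mul_inv_eq_iff_eq_mul]

theorem mem_M_of_acts {g : G} {w : Code} (h : F.Acts g w) : g ∈ B.M := by
  refine B.mem_M_of_map (eq_of_le_of_card_ge ?_
    (Subgroup.card_map_of_injective (MulAut.conj g).injective).ge)
  rintro _ ⟨j, hj, rfl⟩
  obtain ⟨v, rfl⟩ := F.exists_vec hj
  show g * F.el v * g⁻¹ ∈ B.J
  rw [h v]
  exact F.el_mem _

variable {p : Vec}

include F in
/-- `J` is a maximal 3-subgroup of the centralizer of an element of deficient weight. -/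
theorem sylow_cent (hp : p ≠ 0) (h0 : ∃ j, p j = 0) {Q : Subgroup G} (hQ : IsPGroup 3 Q)
    (hQC : Q ≤ F.cx p) (hJQ : B.J ≤ Q) : Q = B.J := by
  haveI : Fact (Nat.Prime 3) := ⟨Nat.prime_three⟩
  refine (le_antisymm hJQ ?_).symm
  by_contra hne
  haveI : Group.IsNilpotent ↥Q := hQ.isNilpotent
  have hlt : B.J.subgroupOf Q < ⊤ := lt_top_iff_ne_top.2 fun h => hne (subgroupOf_eq_top.1 h)
  obtain ⟨g, hgN, hg⟩ := SetLike.exists_of_lt (Group.normalizerCondition_of_isNilpotent _ hlt)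
  have hgM : (g : G) ∈ B.M := by
    refine Subgroup.mem_normalizer_iff.2 fun x => ⟨fun hx => ?_, fun hx => ?_⟩
    · exact mem_subgroupOf.1
        ((Subgroup.mem_normalizer_iff.1 hgN ⟨x, hJQ hx⟩).1 (mem_subgroupOf.2 hx))
    · have h1 : (g : G)⁻¹ * ((g : G) * x * (g : G)⁻¹) * g ∈ B.J := mem_subgroupOf.1
        ((Subgroup.mem_normalizer_iff''.1 hgN ⟨_, hJQ hx⟩).1 (mem_subgroupOf.2 hx))
      simpa [mul_assoc] using h1
  obtain ⟨h, hhM, hhJ, hh3⟩ : ∃ h : Q, (h : G) ∈ B.M ∧ (h : G) ∉ B.J ∧ (h : G) ^ 3 ∈ B.J := by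
    have hg' : (g : G) ∉ B.J := fun h => hg (mem_subgroupOf.2 h)
    obtain ⟨n, hn⟩ := hQ g
    clear hg hgN
    induction n generalizing g with
    | zero =>
      rw [pow_zero, pow_one] at hn
      exact absurd (by rw [hn]; exact one_mem _) hg'
    | succ n ih =>
      by_cases h3 : (g : G) ^ 3 ∈ B.J
      · exact ⟨g, hgM, hg', h3⟩
      · exact ih (g ^ 3) (pow_mem hgM 3) h3 (by rw [← pow_mul, ← pow_succ', hn])
  obtain ⟨w, hw⟩ := F.code h hhM
  have hw' : F.Acts (h : G) w := hw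
  obtain ⟨u, hu⟩ := F.exists_vec hh3
  have h1 : cmul (cmul w w) w = ((fun _ => false), 1) := by
    refine Acts.unique F ?_ (F.acts_el u)
    rw [hu, pow_succ, pow_two]
    exact Acts.mul F (Acts.mul F hw' hw') hw'
  have hall := fix_three p w hp h0 ((F.fix_iff hw' p).1 (hQC h.2)) fun v => by
    rw [← sact_cmul, ← sact_cmul, h1, sact_one]
  exact hhJ (F.mem_J_of_acts fun v => by rw [hw' v, hall v, sact_one])

variable {L : Type*} [Group L] (π : ↥(F.cx p) →* L)

/-- The image of `J`. -/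
def img : Subgroup L := (B.J.subgroupOf (F.cx p)).map π

theorem mem_img_of (g : ↥(F.cx p)) (hg : (g : G) ∈ B.J) : π g ∈ F.img π :=
  ⟨g, mem_subgroupOf.2 hg, rfl⟩

section

variable (hker : ∀ g, π g = 1 ↔ (g : G) ∈ Subgroup.zpowers (F.el p))

include hker

theorem eq_mul_of_eq {g h : ↥(F.cx p)} (e : π g = π h) :
    ∃ z ∈ Subgroup.zpowers (F.el p), (g : G) = h * z := by
  refine ⟨((h⁻¹ * g : ↥(F.cx p)) : G), (hker _).1 (by rw [map_mul, map_inv, e, inv_mul_cancel]), ?_⟩
  simp

theorem mem_img_iff (g : ↥(F.cx p)) : π g ∈ F.img π ↔ (g : G) ∈ B.J := by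
  refine ⟨?_, F.mem_img_of π g⟩
  rintro ⟨j, hj, hje⟩
  obtain ⟨z, hz, e⟩ := F.eq_mul_of_eq π hker hje.symm
  rw [e]
  exact mul_mem (mem_subgroupOf.1 hj) (F.zpowers_le_J p hz)

theorem card_img (hp : p ≠ 0) : Nat.card (F.img π) = 9 := by
  haveI : Fact (Nat.Prime 3) := ⟨Nat.prime_three⟩
  let J' := B.J.subgroupOf (F.cx p)
  have hk : (π.domRestrict J').ker =
      ((Subgroup.zpowers (F.el p)).subgroupOf (F.cx p)).subgroupOf J' := by
    ext g
    rw [MonoidHom.mem_ker, MonoidHom.domRestrict_apply, hker]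
    rfl
  have hz : Subgroup.zpowers (F.el p) ≤ F.cx p := (F.zpowers_le_J p).trans (F.J_le_cx p)
  have hle : (Subgroup.zpowers (F.el p)).subgroupOf (F.cx p) ≤ J' := fun g hg =>
    mem_subgroupOf.2 (F.zpowers_le_J p (mem_subgroupOf.1 hg))
  have h := (π.domRestrict J').ker.card_eq_card_quotient_mul_card_subgroup
  rw [Nat.card_congr (QuotientGroup.quotientKerEquivRange (π.domRestrict J')).toEquiv,
    MonoidHom.domRestrict_range, hk, Nat.card_congr (subgroupOfEquivOfLe hle).toEquiv,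
    Nat.card_congr (subgroupOfEquivOfLe hz).toEquiv,
    Nat.card_congr (subgroupOfEquivOfLe (F.J_le_cx p)).toEquiv, B.J_card, Nat.card_zpowers,
    orderOf_eq_prime (B.J_exp _ (F.el_mem p)) (F.el_ne_one hp)] at h
  have h' : 27 = Nat.card (F.img π) * 3 := h
  omega

theorem mem_normalizer_img [Finite L] (g : ↥(F.cx p)) :
    π g ∈ Subgroup.normalizer (F.img π : Set L) ↔ (g : G) ∈ B.M := by
  constructor
  · intro h
    refine B.mem_M_of_map (eq_of_le_of_card_ge ?_
      (Subgroup.card_map_of_injective (MulAut.conj (g : G)).injective).ge)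
    rintro _ ⟨j, hj, rfl⟩
    have h1 := (Subgroup.mem_normalizer_iff.1 h _).1 (F.mem_img_of π ⟨j, F.J_le_cx p hj⟩ hj)
    rw [← map_inv, ← map_mul, ← map_mul, F.mem_img_iff π hker] at h1
    exact h1
  · intro h
    refine mem_normalizer_of_forall ?_
    rintro _ ⟨j, hj, rfl⟩
    rw [← map_inv, ← map_mul, ← map_mul]
    exact F.mem_img_of π _ ((Subgroup.mem_normalizer_iff.1 h _).1 (mem_subgroupOf.1 hj))
where
  mem_normalizer_of_forall {x : L} {K : Subgroup L} (h : ∀ k ∈ K, x * k * x⁻¹ ∈ K) :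
      x ∈ Subgroup.normalizer (K : Set L) := by
    have heq : K.map (MulAut.conj x).toMonoidHom = K := eq_of_le_of_card_ge
      (by rintro _ ⟨k, hk, rfl⟩; exact h k hk)
      (Subgroup.card_map_of_injective (MulAut.conj x).injective).ge
    refine Subgroup.mem_normalizer_iff.2 fun k => ⟨h k, fun hk => ?_⟩
    obtain ⟨y, hy, he⟩ := heq.ge hk
    rwa [← mul_left_cancel (mul_right_cancel (show x * y * x⁻¹ = x * k * x⁻¹ from he))]

theorem img_elem : Cfsg.IsElementaryAbelian 3 (F.img π) := by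
  refine ⟨⟨⟨?_⟩⟩, ?_⟩
  · rintro ⟨_, x, hx, rfl⟩ ⟨_, y, hy, rfl⟩
    refine Subtype.ext ?_
    show π x * π y = π y * π x
    rw [← map_mul, ← map_mul]
    exact congrArg π (Subtype.ext (B.J_comm _ (mem_subgroupOf.1 hx) _ (mem_subgroupOf.1 hy)))
  · rintro _ ⟨x, hx, rfl⟩
    rw [← map_pow, show x ^ 3 = 1 from Subtype.ext (by simpa using B.J_exp _ (mem_subgroupOf.1 hx)),
      map_one]

variable (hπ : Function.Surjective π) (hp : p ≠ 0) (h0 : ∃ j, p j = 0)

include hπ hp h0

theorem exists_sylow_img [Finite L] : ∃ P : Sylow 3 L, (P : Subgroup L) = F.img π := by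
  haveI : Fact (Nat.Prime 3) := ⟨Nat.prime_three⟩
  obtain ⟨P, hP⟩ :=
    (B.J_pgroup.of_equiv (subgroupOfEquivOfLe (F.J_le_cx p)).symm).exists_le_sylow
  have hPJ : (P : Subgroup ↥(F.cx p)).map (F.cx p).subtype = B.J :=
    F.sylow_cent hp h0 (P.isPGroup'.map _) (map_subtype_le _) fun j hj =>
      ⟨⟨j, F.J_le_cx p hj⟩, hP (mem_subgroupOf.2 hj), rfl⟩
  have hPe : (P : Subgroup ↥(F.cx p)) = B.J.subgroupOf (F.cx p) :=
    le_antisymm (fun x hx => mem_subgroupOf.2 (hPJ.le ⟨x, hx, rfl⟩)) hP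
  exact ⟨P.mapSurjective hπ, by rw [Sylow.coe_mapSurjective, hPe]; rfl⟩

theorem cent_img [Finite L] : Subgroup.centralizer (F.img π : Set L) = F.img π := by
  refine le_antisymm (fun X hX => ?_) ?_
  · obtain ⟨g, rfl⟩ := hπ X
    have hgM := (F.mem_normalizer_img π hker g).1 (Subgroup.centralizer_le_normalizer _ hX)
    obtain ⟨w, hw⟩ := F.code g hgM
    have hw' : F.Acts (g : G) w := hw
    have hall := fix_mod p w hp h0 ((F.fix_iff hw' p).1 g.2) fun v => by
      obtain ⟨j, hj⟩ : ∃ j : ↥(F.cx p), j = ⟨F.el v, F.J_le_cx p (F.el_mem v)⟩ := ⟨_, rfl⟩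
      have h1 : π (g * j * g⁻¹) = π j := by
        rw [map_mul, map_mul, map_inv, ← mem_centralizer_iff.1 hX (π j)
          (F.mem_img_of π j (by rw [hj]; exact F.el_mem v)), mul_inv_cancel_right]
      obtain ⟨z, hz, e⟩ := F.eq_mul_of_eq π hker h1
      obtain ⟨k, rfl⟩ := F.zpowers_iff.1 hz
      refine ⟨k, F.el_inj.1 ?_⟩
      rw [← hw' v, F.el_add]
      simpa [hj] using e
    exact F.mem_img_of π g (F.mem_J_of_acts fun v => by rw [hw' v, hall v, sact_one])
  · intro x hx y hy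
    exact congrArg Subtype.val ((F.img_elem π hker).1.is_comm.comm ⟨y, hy⟩ ⟨x, hx⟩)

theorem cent_le [Finite L] : ∀ t ∈ F.img π, t ≠ 1 →
    Subgroup.centralizer ({t} : Set L) ≤ Subgroup.normalizer (F.img π : Set L) := by
  rintro _ ⟨u, hu, rfl⟩ ht X hX
  obtain ⟨g, rfl⟩ := hπ X
  refine (F.mem_normalizer_img π hker g).2 ?_
  have hu' : (u : G) ∈ B.J := mem_subgroupOf.1 hu
  have huz : (u : G) ∉ Subgroup.zpowers (F.el p) := fun h => ht ((hker u).2 h)
  obtain ⟨z, hz, e⟩ := F.eq_mul_of_eq π hker (show π (g * u * g⁻¹) = π u by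
    rw [map_mul, map_mul, map_inv, mem_centralizer_singleton_iff.1 hX, mul_inv_cancel_right])
  simp only [Subgroup.coe_mul, Subgroup.coe_inv] at e
  set A := B.J.map (MulAut.conj (g : G)).toMonoidHom with hA
  have hAC : A ≤ F.cx p := by
    rintro _ ⟨j, hj, rfl⟩
    show (g : G) * j * (g : G)⁻¹ ∈ F.cx p
    exact mul_mem (mul_mem g.2 (F.J_le_cx p hj)) (inv_mem g.2)
  have hAM : A ≤ B.M := by
    refine le_trans (fun a ha => mem_centralizer_iff.2 ?_)
      (F.plane (F.el_mem p) hu' (F.el_ne_one hp) huz)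
    have hax := mem_centralizer_singleton_iff.1 (hAC ha)
    obtain ⟨j, hj, rfl⟩ := ha
    rintro y (rfl | rfl)
    · exact hax.symm
    · have h1 : Commute ((MulAut.conj (g : G)) (u : G)) ((MulAut.conj (g : G)) j) :=
        (show Commute (u : G) j from B.J_comm _ hu' j hj).map _
      have h2 : Commute z ((MulAut.conj (g : G)) j) := by
        obtain ⟨n, rfl⟩ := mem_zpowers_iff.1 hz
        exact Commute.zpow_left hax.symm n
      rw [MulAut.conj_apply (g : G) (u : G), e] at h1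
      have h3 := h1.mul_left h2.inv_left
      rw [mul_inv_cancel_right] at h3
      exact h3.eq
  have hsup : IsPGroup 3 (B.J ⊔ A : Subgroup G) :=
    B.J_pgroup.to_sup_of_normal_left' (B.J_pgroup.map _) hAM
  have heq := F.sylow_cent hp h0 hsup (sup_le (F.J_le_cx p) hAC) le_sup_left
  exact B.mem_M_of_map (eq_of_le_of_card_ge (le_sup_right.trans heq.le)
    (Subgroup.card_map_of_injective (MulAut.conj (g : G)).injective).ge)

/-- The automizer of the image of `J` is the stabilizer of the vector among signed permutations. -/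
theorem quot_stab [Finite L] (hl : ∀ w : Code, sact w p = p → ∃ g, F.Acts g w) :
    ∃ S : Subgroup (Equiv.Perm Vec), (∀ σ, σ ∈ S ↔ ∃ w, sact w p = p ∧ cact w = σ) ∧
      Nonempty ((↥(Subgroup.normalizer (F.img π : Set L)) ⧸
        (F.img π).subgroupOf (Subgroup.normalizer (F.img π : Set L))) ≃* S) := by
  classical
  let N := Subgroup.normalizer (F.img π : Set L)
  choose w hw using fun g : ↥(F.cx p ⊓ B.M) => F.code g g.2.2
  have hw' : ∀ g : ↥(F.cx p ⊓ B.M), F.Acts (g : G) (w g) := hw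
  let χ : ↥(F.cx p ⊓ B.M) →* Equiv.Perm Vec := MonoidHom.mk' (fun g => cact (w g)) fun g h => by
    rw [cact_cmul, Acts.unique F (hw' (g * h)) (Acts.mul F (hw' g) (hw' h))]
  let ψ : ↥(F.cx p ⊓ B.M) →* ↥N ⧸ (F.img π).subgroupOf N :=
    (QuotientGroup.mk' _).comp ((π.comp (Subgroup.inclusion inf_le_left)).codRestrict N
      fun g => (F.mem_normalizer_img π hker _).2 g.2.2)
  have hψs : Function.Surjective ψ := by
    intro X
    obtain ⟨⟨y, hy⟩, rfl⟩ := QuotientGroup.mk'_surjective ((F.img π).subgroupOf N) X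
    obtain ⟨g, rfl⟩ := hπ y
    exact ⟨⟨g, g.2, (F.mem_normalizer_img π hker g).1 hy⟩, rfl⟩
  have hψk : ψ.ker = χ.ker := by
    ext g
    rw [MonoidHom.mem_ker, MonoidHom.mem_ker]
    constructor
    · intro h
      have h1 : (g : G) ∈ B.J := (F.mem_img_iff π hker _).1
        (mem_subgroupOf.1 ((QuotientGroup.eq_one_iff _).1 h))
      obtain ⟨v, hv⟩ := F.exists_vec h1
      show cact (w g) = 1
      rw [Acts.unique F (hw' g) (hv ▸ F.acts_el v), cact_one]
    · intro h
      refine (QuotientGroup.eq_one_iff _).2 (mem_subgroupOf.2 ((F.mem_img_iff π hker _).2 ?_))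
      have h1 : w g = ((fun _ => false), 1) := cact_inj ((show cact (w g) = 1 from h).trans cact_one.symm)
      exact F.mem_J_of_acts (h1 ▸ hw' g)
  refine ⟨χ.range, fun σ => ⟨?_, ?_⟩, ⟨(QuotientGroup.quotientKerEquivOfSurjective ψ hψs).symm.trans
    ((QuotientGroup.quotientMulEquivOfEq hψk).trans (QuotientGroup.quotientKerEquivRange χ))⟩⟩
  · rintro ⟨g, rfl⟩
    exact ⟨w g, (F.fix_iff (hw' g) p).1 g.2.1, rfl⟩
  · rintro ⟨v, hv, rfl⟩
    obtain ⟨g, hg⟩ := hl v hv
    refine ⟨⟨g, (F.fix_iff hg p).2 hv, F.mem_M_of_acts hg⟩, ?_⟩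
    show cact (w _) = cact v
    rw [Acts.unique F (hw' _) hg]

end

end Frame

end CfsgLib.Recog.SpSixThree
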