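import Cfsg.Agent.Lib.Recog.SpSixThree.HLocal
import Cfsg.Agent.Lib.Recog.SpSixThree.CommCount
import Cfsg.Agent.Lib.Recog.SpSixThree.FrameCent

/-!
The count behind the last relation: inside the `2`-group generated by the two quaternion groups, the elementary
eight and two sign changes, one element outside a group of sixteen centralises the four-group modulo the transposition.
-/

set_option autoImplicit false
set_option linter.unusedSectionVars false
set_option linter.style.haveILetI false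
set_option synthInstance.maxSize 20000
set_option maxRecDepth 8000

namespace CfsgLib.Recog.SpSixThree

open Equiv Subgroup

universe u

/-- the exchange of the two quaternion groups -/
def uP : Perm (Fin 6) := swap 1 2 * swap 4 5

/-- the transport of the transposition `(0 3)` to `(4 5)` -/
def sigP : Perm (Fin 6) := swap 0 4 * swap 3 5

/-- the transported eight -/
def aList : List (Perm (Fin 6)) :=
  [1, swap 0 3, uP, swap 0 3 * uP, swap 1 4 * swap 2 5, tauP, uP * (swap 1 4 * swap 2 5),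
    swap 0 3 * uP * (swap 1 4 * swap 2 5)]

theorem aList_vier : (∀ ρ ∈ vierList, sigP⁻¹ * ρ * sigP ∈ aList) ∧ sigP⁻¹ * swap 4 5 * sigP = swap 0 3 := by
  decide +kernel

theorem aList_split : ∀ α ∈ aList, α * swap 0 3 = swap 0 3 * α ∧
    ∃ q ∈ baseList, (α = q ∨ α = q * uP) ∧ q * uP = uP * q := by decide +kernel

theorem aList_get : ∀ i j : Fin 8, aList.getD i.val 1 = aList.getD j.val 1 → i = j := by decide +kernel

theorem aList_comm : ∀ a ∈ aList, ∀ b ∈ aList, a * b = b * a := by decide +kernel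

theorem aList_cyc : ∀ α ∈ aList, ∀ y ∈ [1, swap (1 : Fin 6) 4],
    α * y * cycP * (α * y)⁻¹ * cycP = cycP * (α * y * cycP * (α * y)⁻¹) →
    α * y * cycP * (α * y)⁻¹ = cycP ∨ α * y * cycP * (α * y)⁻¹ = cycP⁻¹ := by decide +kernel

theorem base_uP : (∀ q ∈ baseList, uP * q * uP ∈ baseList ∧ q * q = 1 ∧ q * swap 0 3 = swap 0 3 * q) ∧
    (∀ a ∈ baseList, ∀ b ∈ baseList, a * b = b * a) ∧ uP * uP = 1 ∧ uP * tauP = tauP * uP ∧
    uP * swap 0 3 = swap 0 3 * uP := by decide +kernel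

theorem base_fixed : ∀ q ∈ baseList, uP * q * uP = q → ∃ y ∈ [1, swap (1 : Fin 6) 4],
    y ∈ baseList ∧ y * (uP * y * uP) * q ∈ [1, swap (0 : Fin 6) 3] := by decide +kernel

theorem sl_quat : ∃ s : SLT, s ^ 4 = 1 ∧ s * s = -1 := by decide +kernel

theorem vec_weight : ∀ w : Code, sact w (![-1, -1, 0] : Vec) ≠ (![0, 0, -1] : Vec) := by decide +kernel

variable {G : Type u} [Group G] [Finite G] {B : Base G} {F : FullFrame B}

theorem mem_norm_of_map_le {W : Subgroup G} {g : G} (h : ∀ x ∈ W, g * x * g⁻¹ ∈ W) :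
    g ∈ normalizer (W : Set G) := by
  have he : W.map (MulAut.conj g).toMonoidHom = W := by
    refine eq_of_le_of_card_ge ?_ (Nat.card_congr (W.equivMapOfInjective _ (MulAut.conj g).injective).toEquiv).le
    rintro _ ⟨p, hp, rfl⟩
    exact h p hp
  refine mem_normalizer_iff.2 fun x => ⟨h x, fun hx => ?_⟩
  rw [← he] at hx
  obtain ⟨p, hp, e⟩ := hx
  rw [MulEquiv.coe_toMonoidHom, MulAut.conj_apply] at e
  rwa [← mul_left_cancel (mul_right_cancel e)]

namespace SixChart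

variable (K : SixChart F)

theorem Qy_exists {x : G} (hx : x ∈ K.Qy) : ∃ σ ∈ baseList, x = K.φ σ := by
  refine closure_induction (p := fun x _ => ∃ σ ∈ baseList, x = K.φ σ) ?_ ?_ ?_ ?_ hx
  · rintro y ⟨σ, hσ, rfl⟩; exact ⟨σ, hσ, rfl⟩
  · exact ⟨1, List.mem_cons_self, (map_one _).symm⟩
  · rintro p q _ _ ⟨a, ha, rfl⟩ ⟨b, hb, rfl⟩; exact ⟨_, base_facts.1 a ha b hb, (map_mul _ _ _).symm⟩
  · rintro p _ ⟨a, ha, rfl⟩; exact ⟨a, ha, by rw [← map_inv, (base_facts.2.1 a ha).1]⟩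

theorem φ_mem_Qy {σ : Perm (Fin 6)} (h : σ ∈ baseList) : K.φ σ ∈ K.Qy := subset_closure ⟨σ, h, rfl⟩

theorem r2_φ (σ : Perm (Fin 6)) : Commute (F.r 2) (K.φ σ) := by
  show F.r 2 * K.φ σ = K.φ σ * F.r 2
  conv_rhs => rw [← K.φ_r2 σ, mul_assoc, F.r_sq, mul_one]

theorem Qy_two : IsPGroup 2 K.Qy := fun x => ⟨1, Subtype.ext (by
  obtain ⟨σ, hσ, e⟩ := K.Qy_exists x.2
  rw [Subgroup.coe_pow, Subgroup.coe_one, e, pow_one, pow_two, ← map_mul, ((base_uP.1 σ hσ).2.1), map_one])⟩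

theorem r2_aa : F.r 2 * B.a * F.r 2 = K.aa ∧ F.r 2 * K.aa * F.r 2 = B.a := by
  refine ⟨rfl, ?_⟩
  rw [aa, ← mul_assoc, ← mul_assoc, F.r_sq, one_mul, mul_assoc, F.r_sq, mul_one]

theorem u_sq : K.φ uP * K.φ uP = 1 := by rw [← map_mul, base_uP.2.2.1, map_one]

theorem u_inv : (K.φ uP)⁻¹ = K.φ uP := inv_eq_of_mul_eq_one_right K.u_sq

theorem u_a : F.r 2 * K.φ uP * B.a * (F.r 2 * K.φ uP)⁻¹ = B.a⁻¹ := by
  rw [mul_inv_rev, K.u_inv, F.r_inv, uP, map_mul, K.φ_r0, K.φ_r1, ← F.toFrame.el_a]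
  have e : ∀ k v, F.r k * F.el v * F.r k = F.el (Function.update v k (-v k)) := fun k v => F.r_el k v
  have c01 : F.r 0 * F.r 1 = F.r 1 * F.r 0 := F.r_comm 0 1
  rw [show F.r 2 * (F.r 0 * F.r 1) * F.el (fun _ => 1) * (F.r 0 * F.r 1 * F.r 2) =
      F.r 2 * (F.r 0 * (F.r 1 * F.el (fun _ => 1) * (F.r 0 * F.r 1)) * F.r 2) by group, c01,
    show F.r 2 * (F.r 0 * (F.r 1 * F.el (fun _ => 1) * (F.r 1 * F.r 0)) * F.r 2) =
      F.r 2 * (F.r 0 * (F.r 1 * F.el (fun _ => 1) * F.r 1) * F.r 0) * F.r 2 by group, e, e, e,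
    ← F.toFrame.el_neg]
  congr 1
  funext j
  fin_cases j <;> simp [Function.update]

theorem w_Qa {x : G} (hx : x ∈ K.Qa) : F.r 2 * K.φ uP * x * (F.r 2 * K.φ uP)⁻¹ ∈ K.Qa := by
  have hle : K.Qa.map (MulAut.conj (F.r 2 * K.φ uP)).toMonoidHom ≤ K.Qa := by
    rw [Qa, MonoidHom.map_closure, closure_le]
    rintro _ ⟨y, ⟨ha, hz, h4⟩, rfl⟩
    refine subset_closure ⟨?_, ?_, by rw [← map_pow, h4, map_one]⟩
    · have h := ((show Commute y B.a from ha).map (MulAut.conj (F.r 2 * K.φ uP)).toMonoidHom)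
      simp only [MulEquiv.coe_toMonoidHom, MulAut.conj_apply, K.u_a] at h
      simpa [mul_assoc] using h.inv_right.eq
    · have h := ((show Commute y K.zz from hz).map (MulAut.conj (F.r 2 * K.φ uP)).toMonoidHom)
      have hw : Commute (F.r 2 * K.φ uP) K.zz :=
        (show Commute (F.r 2) K.zz from K.r2_zz).mul_left
          (K.zz_eq ▸ (show Commute uP tauP from base_uP.2.2.2.1).map K.φ)
      simp only [MulEquiv.coe_toMonoidHom, MulAut.conj_apply, hw.eq, mul_inv_cancel_right] at h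
      exact h.eq
  exact hle ⟨x, hx, rfl⟩

theorem r2_Qa {x : G} (hx : x ∈ K.Qa) : F.r 2 * x * F.r 2 ∈ K.Qb :=
  ⟨x, hx, by rw [MulEquiv.coe_toMonoidHom, MulAut.conj_apply, F.r_inv]⟩

theorem Qb_exists {y : G} (hy : y ∈ K.Qb) : ∃ x ∈ K.Qa, y = F.r 2 * x * F.r 2 := by
  obtain ⟨x, hx, rfl⟩ := hy
  exact ⟨x, hx, by rw [MulEquiv.coe_toMonoidHom, MulAut.conj_apply, F.r_inv]⟩

theorem r2_Qb {y : G} (hy : y ∈ K.Qb) : F.r 2 * y * F.r 2 ∈ K.Qa := by
  obtain ⟨x, hx, rfl⟩ := K.Qb_exists hy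
  rwa [← mul_assoc, ← mul_assoc, F.r_sq, one_mul, mul_assoc, F.r_sq, mul_one]

theorem u_Qa {x : G} (hx : x ∈ K.Qa) : K.φ uP * x * K.φ uP ∈ K.Qb := by
  have h := K.r2_Qa (K.w_Qa hx)
  rw [mul_inv_rev, K.u_inv, F.r_inv] at h
  rwa [show F.r 2 * (F.r 2 * K.φ uP * x * (K.φ uP * F.r 2)) * F.r 2 =
    (F.r 2 * F.r 2) * (K.φ uP * x * K.φ uP) * (F.r 2 * F.r 2) by group, F.r_sq, one_mul, mul_one] at h

theorem u_Qb {y : G} (hy : y ∈ K.Qb) : K.φ uP * y * K.φ uP ∈ K.Qa := by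
  obtain ⟨x, hx, rfl⟩ := K.Qb_exists hy
  have c : K.φ uP * F.r 2 = F.r 2 * K.φ uP := (K.r2_φ uP).eq.symm
  have e : K.φ uP * (F.r 2 * x * F.r 2) * K.φ uP = F.r 2 * (K.φ uP * x * K.φ uP) * F.r 2 :=
    calc _ = (K.φ uP * F.r 2) * x * (F.r 2 * K.φ uP) := by group
      _ = (F.r 2 * K.φ uP) * x * (K.φ uP * F.r 2) := congrArg₂ (fun l m => l * x * m) c c.symm
      _ = _ := by group
  rw [e]
  exact K.r2_Qb (K.u_Qa hx)

/-- The element transporting the eight to the four-group of the second plane. -/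
def cc : G := F.p cyc1 * K.φ sigP

theorem mem_modCent_of {x : G} (h03 : Commute x (K.φ (swap 0 3)))
    (hall : ∀ α ∈ aList, x * K.φ α * x⁻¹ * (K.φ α)⁻¹ ∈ zpowers (K.φ (swap 0 3))) :
    K.cc * x * K.cc⁻¹ ∈ K.modCent := by
  have key : ∀ ρ, K.conjChart cyc1 ρ = MulAut.conj K.cc (K.φ (sigP⁻¹ * ρ * sigP)) := fun ρ => by
    show F.p cyc1 * K.φ ρ * (F.p cyc1)⁻¹ = F.p cyc1 * K.φ sigP * K.φ (sigP⁻¹ * ρ * sigP) * (F.p cyc1 * K.φ sigP)⁻¹
    rw [map_mul, map_mul, map_inv]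
    group
  have hr : F.r 2 = MulAut.conj K.cc (K.φ (swap 0 3)) := by rw [← aList_vier.2, ← key, K.r_two_eq.1]
  refine K.mem_modCent.2 ⟨?_, ?_⟩
  · rw [hr]
    exact h03.map (MulAut.conj K.cc)
  · rintro _ ⟨ρ, hρ, rfl⟩
    obtain ⟨t, ht⟩ := mem_zpowers_iff.1 (hall _ (aList_vier.1 ρ hρ))
    refine mem_zpowers_iff.2 ⟨t, ?_⟩
    rw [hr, ← map_zpow, ht, key]
    simp only [MulAut.conj_apply]
    group

theorem p_moves {p : G} (hp : p ∈ K.Qa) (h2 : p * p = K.zz) :
    p * K.aa * p⁻¹ ≠ K.aa ∧ p * K.aa * p⁻¹ ≠ K.aa⁻¹ ∧ p * K.aa * p⁻¹ ≠ B.a ∧ p * K.aa * p⁻¹ ≠ B.a⁻¹ := by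
  obtain ⟨hpa, hpz⟩ := K.Qa_comm hp
  have ha : p * B.a * p⁻¹ = B.a := by rw [hpa, mul_inv_cancel_right]
  have hne : ∀ v : Vec, v ≠ (![1, 1, -1] : Vec) → p * K.aa * p⁻¹ = p * F.el v * p⁻¹ → False := fun v hv e => by
    rw [mul_left_inj, mul_right_inj, K.aa_eq] at e
    exact hv (F.toFrame.el_inj.1 e).symm
  refine ⟨fun h => ?_, fun h => ?_, fun h => ?_, fun h => ?_⟩
  · have hfix : ∀ x ∈ K.E, p * x = x * p := by
      intro x hx
      obtain ⟨v, hv, rfl⟩ := K.exists_vec_E hx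
      obtain ⟨i, j, rfl⟩ := vec_E' v hv
      rw [F.toFrame.el_add, F.toFrame.el_nsmul, F.toFrame.el_nsmul, ← K.aa_eq,
        show F.el (fun _ => 1) = B.a from F.toFrame.el_a]
      exact (((show Commute p B.a from hpa).pow_right _).mul_right
        ((show Commute p K.aa from mul_inv_eq_iff_eq_mul.1 h).pow_right _)).eq
    have hcube : ∀ x ∈ K.E, x * x * x = 1 := fun x hx => by
      have := B.J_exp x hx.1
      rwa [pow_succ, pow_two] at this
    have h4 : p * p * p * p = 1 := by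
      rw [mul_assoc (p * p), h2, K.zz_sq]
    rcases K.cent_E hpz hfix with hE | hE
    · have h3 := hcube p hE
      rw [h3, one_mul] at h4
      rw [h4, one_mul] at h2
      exact K.zz_ne h2.symm
    · have h3 := hcube _ hE
      rw [← h2, show p * (p * p) * (p * (p * p)) * (p * (p * p)) = (p * p * p * p) * (p * p * p * p) * p by group,
        h4, one_mul, one_mul] at h3
      rw [h3, one_mul] at h2
      exact K.zz_ne h2.symm
  · have hd : p * F.el (![-1, -1, 0] : Vec) * p⁻¹ = F.el (![0, 0, -1] : Vec) := by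
      rw [show (![-1, -1, 0] : Vec) = (fun _ => 1) + (![1, 1, -1] : Vec) by decide +kernel, F.toFrame.el_add,
        F.toFrame.el_a, ← K.aa_eq, show p * (B.a * K.aa) * p⁻¹ = (p * B.a * p⁻¹) * (p * K.aa * p⁻¹) by group,
        ha, h, ← F.toFrame.el_a, K.aa_eq, ← F.toFrame.el_neg, ← F.toFrame.el_add]
      congr 1
      decide +kernel
    obtain ⟨m, hm, hmx⟩ := B.fusion (F.toFrame.el_mem _) (F.toFrame.el_mem _) hd
    obtain ⟨w, hw⟩ := F.toFrame.code m hm
    exact vec_weight w (F.toFrame.el_inj.1 ((hw _).symm.trans hmx))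
  · refine hne (fun _ => 1) (by decide +kernel) ?_
    rw [F.toFrame.el_a, ha, h]
  · refine hne (-(fun _ => 1)) (by decide +kernel) ?_
    rw [F.toFrame.el_neg, F.toFrame.el_a, h]
    conv_rhs => rw [← conj_inv, ha]

/-- The group of sixteen. -/
def sixteen (ib : Fin 8 × Bool) : G := K.φ (aList.getD ib.1.val 1) * (if ib.2 then F.r 2 else 1)

theorem sixteen_inj : Function.Injective K.sixteen := by
  rintro ⟨i, b⟩ ⟨j, c⟩ h
  have hne : F.e 2 ≠ 1 := fun e => F.toFrame.e_not_mem (show (2 : Fin 3) ≠ 0 by decide) (by rw [e]; exact one_mem _)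
  have hr : ∀ σ, K.φ σ ≠ F.r 2 := fun σ e => by
    have h1 : F.r 2 * F.e 2 * F.r 2 = F.e 2 := by
      rw [← e, K.φ_comm, mul_assoc, e, F.r_sq, mul_one]
    rw [F.r_e_self] at h1
    have h2 : F.e 2 * F.e 2 = 1 := by nth_rewrite 1 [← h1]; exact inv_mul_cancel _
    have h3 := F.toFrame.e_cube 2
    rw [h2, one_mul] at h3
    exact hne h3
  unfold sixteen at h
  cases b <;> cases c <;> simp only [Bool.false_eq_true, if_false, if_true, mul_one] at h
  · exact Prod.ext (aList_get i j (K.φ_inj h)) rfl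
  · exact absurd (by rw [map_mul, map_inv, h, inv_mul_cancel_left]) (hr ((aList.getD j.val 1)⁻¹ * aList.getD i.val 1))
  · exact absurd (by rw [map_mul, map_inv, ← h, inv_mul_cancel_left]) (hr ((aList.getD i.val 1)⁻¹ * aList.getD j.val 1))
  · exact Prod.ext (aList_get i j (K.φ_inj (mul_right_cancel h))) rfl

/-- **The last relation from the local structure.** -/
theorem comm_of_local (hy : ∀ x ∈ K.Qa, ∀ y ∈ K.Qy, Commute x y)
    (hab : ∀ x ∈ K.Qa, ∀ y ∈ K.Qb, x * y * x⁻¹ * y⁻¹ ∈ K.Qy) : Commute (K.gen 2) (K.gen 4) := by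
  classical
  haveI : Fact (Nat.Prime 2) := ⟨Nat.prime_two⟩
  refine K.gen_comm_of_count F.cent_d ?_
  have hyb : ∀ x ∈ K.Qb, ∀ y ∈ K.Qy, Commute x y := by
    intro x hx y hy'
    obtain ⟨a, ha, rfl⟩ := K.Qb_exists hx
    obtain ⟨σ, hσ, rfl⟩ := K.Qy_exists hy'
    exact ((K.r2_φ σ).mul_left (hy a ha _ hy')).mul_left (K.r2_φ σ)
  have hQaY : K.Qa ≤ normalizer (K.Qy : Set G) := fun a ha => mem_norm_of_map_le fun x hx => by
    rw [(hy a ha x hx).eq, mul_inv_cancel_right]; exact hx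
  have hQbW : K.Qb ≤ normalizer ((K.Qa ⊔ K.Qy : Subgroup G) : Set G) := fun b hb => by
    have hle : (K.Qa ⊔ K.Qy).map (MulAut.conj b).toMonoidHom ≤ K.Qa ⊔ K.Qy := by
      rw [Subgroup.map_sup, sup_le_iff]
      constructor
      · rintro _ ⟨x, hx, rfl⟩
        rw [MulEquiv.coe_toMonoidHom, MulAut.conj_apply,
          show b * x * b⁻¹ = (x * b * x⁻¹ * b⁻¹)⁻¹ * x by group]
        exact mul_mem (inv_mem (le_sup_right (a := K.Qa) (hab x hx b hb))) (le_sup_left (b := K.Qy) hx)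
      · rintro _ ⟨x, hx, rfl⟩
        rw [MulEquiv.coe_toMonoidHom, MulAut.conj_apply, (hyb b hb x hx).eq, mul_inv_cancel_right]
        exact le_sup_right (a := K.Qa) hx
    exact mem_norm_of_map_le fun x hx => hle ⟨x, hx, rfl⟩
  set W := K.Qa ⊔ K.Qy ⊔ K.Qb with hW
  have hW2 : IsPGroup 2 W :=
    (K.Qa_two.to_sup_of_normal_right' K.Qy_two hQaY).to_sup_of_normal_left'
      (K.Qa_two.map (MulAut.conj (F.r 2)).toMonoidHom) hQbW
  have hA : K.Qa ≤ W := le_sup_left.trans le_sup_left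
  have hY : K.Qy ≤ W := le_sup_right.trans le_sup_left
  have hB : K.Qb ≤ W := le_sup_right
  have norm : ∀ g : G, (∀ x ∈ K.Qa, g * x * g⁻¹ ∈ W) → (∀ x ∈ K.Qy, g * x * g⁻¹ ∈ W) →
      (∀ x ∈ K.Qb, g * x * g⁻¹ ∈ W) → g ∈ normalizer (W : Set G) := fun g g1 g2 g3 => by
    have hle : W.map (MulAut.conj g).toMonoidHom ≤ W := by
      rw [hW, Subgroup.map_sup, Subgroup.map_sup, sup_le_iff, sup_le_iff]
      refine ⟨⟨?_, ?_⟩, ?_⟩ <;> rintro _ ⟨x, hx, rfl⟩
      exacts [g1 x hx, g2 x hx, g3 x hx]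
    exact mem_norm_of_map_le fun x hx => hle ⟨x, hx, rfl⟩
  have hr2W : F.r 2 ∈ normalizer (W : Set G) := by
    refine norm _ (fun x hx => hB ?_) (fun x hx => hY ?_) (fun x hx => hA ?_) <;> rw [F.r_inv]
    · exact K.r2_Qa hx
    · obtain ⟨σ, hσ, rfl⟩ := K.Qy_exists hx
      rw [K.φ_r2]
      exact K.φ_mem_Qy hσ
    · exact K.r2_Qb hx
  have huW : K.φ uP ∈ normalizer (W : Set G) := by
    refine norm _ (fun x hx => hB ?_) (fun x hx => hY ?_) (fun x hx => hA ?_) <;> rw [K.u_inv]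
    · exact K.u_Qa hx
    · obtain ⟨σ, hσ, rfl⟩ := K.Qy_exists hx
      rw [← map_mul, ← map_mul]
      exact K.φ_mem_Qy (base_uP.1 σ hσ).1
    · exact K.u_Qb hx
  have hsq : ∀ {x : G}, x * x = 1 → IsPGroup 2 (zpowers x) := fun {x} h y => ⟨1, Subtype.ext (by
    obtain ⟨k, hk⟩ := mem_zpowers_iff.1 y.2
    rw [Subgroup.coe_pow, Subgroup.coe_one, ← hk, pow_one, pow_two, ← (Commute.refl x).mul_zpow, h, one_zpow])⟩
  have hU2 : IsPGroup 2 (W ⊔ zpowers (F.r 2) : Subgroup G) :=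
    hW2.to_sup_of_normal_left' (hsq (F.r_sq 2)) (zpowers_le.2 hr2W)
  set T := W ⊔ zpowers (F.r 2) ⊔ zpowers (K.φ uP) with hT
  have hT2 : IsPGroup 2 T := by
    refine hU2.to_sup_of_normal_left' (hsq K.u_sq) (zpowers_le.2 ?_)
    refine Subgroup.normalizer_inf_normalizer_le_normalizer_sup _ _ ⟨huW, ?_⟩
    refine centralizer_le_normalizer _ (mem_centralizer_iff.2 fun y hy' => ?_)
    obtain ⟨k, rfl⟩ := mem_zpowers_iff.1 hy'
    exact ((K.r2_φ uP).zpow_left k).eq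
  have hWT : W ≤ T := le_sup_left.trans le_sup_left
  have hrT : F.r 2 ∈ T := le_sup_left (b := zpowers (K.φ uP)) (le_sup_right (a := W) (mem_zpowers _))
  have huT : K.φ uP ∈ T := le_sup_right (a := W ⊔ zpowers (F.r 2)) (mem_zpowers _)
  -- the group of sixteen
  let S : Subgroup G := K.modCent.comap (MulAut.conj K.cc).toMonoidHom ⊓ T
  have hS : ∀ {x : G}, x ∈ T → Commute x (K.φ (swap 0 3)) →
      (∀ α ∈ aList, x * K.φ α * x⁻¹ * (K.φ α)⁻¹ ∈ zpowers (K.φ (swap 0 3))) → x ∈ S :=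
    fun {x} h1 h2 h3 => ⟨K.mem_modCent_of h2 h3, h1⟩
  have hαT : ∀ α ∈ aList, K.φ α ∈ T := by
    intro α hα
    obtain ⟨-, q, hq, he | he, -⟩ := aList_split α hα <;> rw [he]
    · exact hWT (hY (K.φ_mem_Qy hq))
    · rw [map_mul]; exact mul_mem (hWT (hY (K.φ_mem_Qy hq))) huT
  have hgetm : ∀ i : Fin 8, aList.getD i.val 1 ∈ aList := by decide +kernel
  have hsix : ∀ ib, K.sixteen ib ∈ S := by
    rintro ⟨i, b⟩
    have hα := hgetm i
    have hcomm : ∀ β, β ∈ aList ∨ β = swap 0 3 → Commute (K.sixteen (i, b)) (K.φ β) := by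
      intro β hβ
      refine Commute.mul_left ((show Commute (aList.getD i.val 1) β from ?_).map K.φ) ?_
      · rcases hβ with h | rfl
        · exact aList_comm _ hα _ h
        · exact (aList_split _ hα).1
      · cases b
        · exact Commute.one_left _
        · exact K.r2_φ β
    refine hS (mul_mem (hαT _ hα) ?_) (hcomm _ (Or.inr rfl)) fun β hβ => ?_
    · cases b
      · exact one_mem _
      · exact hrT
    · rw [(hcomm β (Or.inl hβ)).eq, mul_inv_cancel_right, mul_inv_cancel]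
      exact one_mem _
  -- the further element
  obtain ⟨s, hs4, hs2⟩ := sl_quat
  obtain ⟨p, hp, hps⟩ := K.exists_Qa hs4
  have hpp : p * p = K.zz := by
    refine K.Qa_sl_inj (mul_mem hp hp) K.zz_mem_Qa ?_
    rw [show (⟨p * p, mem_C (K.Qa_comm (mul_mem hp hp)).1⟩ : B.C) =
      ⟨p, mem_C (K.Qa_comm hp).1⟩ * ⟨p, mem_C (K.Qa_comm hp).1⟩ from rfl, map_mul, hps, hs2, K.sl_zz]
  set q := K.φ uP * p * K.φ uP with hqdef
  have hq : q ∈ K.Qb := K.u_Qa hp
  have hhY : ∀ y ∈ K.Qy, Commute (p * q) y := fun y hy' => (hy p hp y hy').mul_left (hyb q hq y hy')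
  obtain ⟨σc, hσc, hc⟩ := K.Qy_exists (inv_mem (hab p hp q hq))
  have huh : K.φ uP * (p * q) * K.φ uP = K.φ σc * (p * q) := by
    rw [← hc, hqdef]
    have e : ∀ v : G, K.φ uP * (K.φ uP * v) = v := fun v => by rw [← mul_assoc, K.u_sq, one_mul]
    simp only [mul_inv_rev, inv_inv, K.u_inv, mul_assoc, e, K.u_sq, mul_one, inv_mul_cancel_left]
  have hcfix : uP * σc * uP = σc := by
    refine K.φ_inj ?_
    rw [map_mul, map_mul]
    have h1 : K.φ uP * K.φ σc * K.φ uP * K.φ σc = 1 := by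
      refine mul_right_cancel (b := p * q) ?_
      calc K.φ uP * K.φ σc * K.φ uP * K.φ σc * (p * q)
          = K.φ uP * K.φ σc * K.φ uP * (K.φ σc * (p * q)) := mul_assoc _ _ _
        _ = K.φ uP * K.φ σc * K.φ uP * (K.φ uP * (p * q) * K.φ uP) := by rw [huh]
        _ = K.φ uP * K.φ σc * (K.φ uP * K.φ uP) * (p * q) * K.φ uP := by group
        _ = K.φ uP * (K.φ σc * (p * q)) * K.φ uP := by rw [K.u_sq]; group
        _ = K.φ uP * (K.φ uP * (p * q) * K.φ uP) * K.φ uP := by rw [huh]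
        _ = (K.φ uP * K.φ uP) * (p * q) * (K.φ uP * K.φ uP) := by group
        _ = 1 * (p * q) := by rw [K.u_sq]; group
    rw [eq_inv_of_mul_eq_one_left h1, ← map_inv, (base_facts.2.1 σc hσc).1]
  obtain ⟨y, hyl, hyb', hyv⟩ := base_fixed σc hσc hcfix
  set g := p * q * K.φ y with hgdef
  have hgT : g ∈ T := mul_mem (mul_mem (hWT (hA hp)) (hWT (hB hq))) (hWT (hY (K.φ_mem_Qy hyb')))
  have hgq : ∀ b ∈ baseList, Commute g (K.φ b) := fun b hb => (hhY _ (K.φ_mem_Qy hb)).mul_left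
    ((show Commute y b from base_uP.2.1 y hyb' b hb).map K.φ)
  have h03 : swap (0 : Fin 6) 3 ∈ baseList := by decide +kernel
  have hgu : g * K.φ uP * g⁻¹ * (K.φ uP)⁻¹ ∈ zpowers (K.φ (swap 0 3)) := by
    have hm : y * (uP * y * uP) ∈ baseList := base_facts.1 y hyb' _ (base_uP.1 y hyb').1
    have e : g * K.φ uP * g⁻¹ * (K.φ uP)⁻¹ = K.φ (y * (uP * y * uP) * σc) := by
      have hugu : K.φ uP * g * K.φ uP = K.φ σc * (p * q) * K.φ (uP * y * uP) := by
        rw [hgdef, ← huh, map_mul, map_mul]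
        rw [show K.φ uP * (p * q) * K.φ uP * (K.φ uP * K.φ y * K.φ uP) =
          K.φ uP * (p * q) * (K.φ uP * K.φ uP) * K.φ y * K.φ uP by group, K.u_sq, mul_one]
        group
      calc g * K.φ uP * g⁻¹ * (K.φ uP)⁻¹ = g * ((K.φ uP)⁻¹ * g * K.φ uP)⁻¹ := by
            rw [K.u_inv]; simp [mul_inv_rev, K.u_inv, mul_assoc]
        _ = g * (K.φ σc * (p * q) * K.φ (uP * y * uP))⁻¹ := by rw [K.u_inv, hugu]
        _ = (p * q) * K.φ (y * (uP * y * uP)) * (p * q)⁻¹ * K.φ σc := by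
            rw [mul_inv_rev, mul_inv_rev, ← map_inv, (base_facts.2.1 _ (base_uP.1 y hyb').1).1, ← map_inv,
              (base_facts.2.1 σc hσc).1, hgdef, map_mul K.φ y]
            group
        _ = _ := by rw [(hhY _ (K.φ_mem_Qy hm)).eq, mul_inv_cancel_right, ← map_mul]
    rw [e]
    simp only [List.mem_cons, List.not_mem_nil, or_false] at hyv
    rcases hyv with h | h <;> rw [h]
    · rw [map_one]; exact one_mem _
    · exact mem_zpowers _
  have hgS : g ∈ S := by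
    refine hS hgT (hgq _ h03) fun α hα => ?_
    obtain ⟨-, b, hb, he | he, -⟩ := aList_split α hα <;> rw [he]
    · rw [(hgq b hb).eq, mul_inv_cancel_right, mul_inv_cancel]; exact one_mem _
    · obtain ⟨t, ht⟩ := mem_zpowers_iff.1 hgu
      have hcb : Commute (K.φ b) (K.φ (swap 0 3) ^ t) :=
        ((show Commute b (swap 0 3) from (base_uP.1 b hb).2.2).map K.φ).zpow_right t
      rw [map_mul, show g * (K.φ b * K.φ uP) * g⁻¹ * (K.φ b * K.φ uP)⁻¹ =
        (g * K.φ b) * K.φ uP * g⁻¹ * (K.φ uP)⁻¹ * (K.φ b)⁻¹ by group, (hgq b hb).eq,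
        show K.φ b * g * K.φ uP * g⁻¹ * (K.φ uP)⁻¹ * (K.φ b)⁻¹ =
          K.φ b * (g * K.φ uP * g⁻¹ * (K.φ uP)⁻¹) * (K.φ b)⁻¹ by group, ← ht, hcb.eq, mul_inv_cancel_right]
      exact zpow_mem (mem_zpowers _) t
  have hout : ∀ ib, g ≠ K.sixteen ib := by
    rintro ⟨i, b⟩ h
    obtain ⟨n1, n2, n3, n4⟩ := K.p_moves hp hpp
    have hα := hgetm i
    set α := aList.getD i.val 1
    set z : G := if b then F.r 2 else 1 with hz
    have hyy : K.φ y * K.φ y = 1 := by rw [← map_mul, (base_uP.1 y hyb').2.1, map_one]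
    have hzy : Commute z (K.φ y) := by
      rw [hz]; cases b
      · exact Commute.one_left _
      · exact K.r2_φ y
    have hm : p * q = K.φ (α * y) * z := by
      have h' : g = K.φ α * z := h
      calc p * q = g * K.φ y := by rw [hgdef, mul_assoc, hyy, mul_one]
        _ = _ := by rw [h', map_mul, mul_assoc, hzy.eq, ← mul_assoc]
    -- `aa` and `a` in coordinates
    have hcyc : K.φ cycP = F.e 0 * F.e 1 := by rw [cycP, map_mul, K.φ_e0, K.φ_e1]
    have ha : B.a = K.φ cycP * F.e 2 := by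
      rw [hcyc, ← F.toFrame.el_a, Frame.e, Frame.e, Frame.e, ← F.toFrame.el_add, ← F.toFrame.el_add]
      congr 1
      decide +kernel
    have haa : K.aa = K.φ cycP * (F.e 2)⁻¹ := by
      rw [K.aa_eq, hcyc, Frame.e, Frame.e, Frame.e, ← F.toFrame.el_neg, ← F.toFrame.el_add, ← F.toFrame.el_add]
      congr 1
      decide +kernel
    have hqaa : q * K.aa * q⁻¹ = K.aa := by
      obtain ⟨x, hx, hqx⟩ := K.Qb_exists hq
      have hc1 := ((show Commute x B.a from (K.Qa_comm hx).1).map (MulAut.conj (F.r 2)))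
      rw [MulAut.conj_apply, MulAut.conj_apply, F.r_inv, ← hqx, K.r2_aa.1] at hc1
      rw [hc1.eq, mul_inv_cancel_right]
    obtain ⟨ε, hε, hpaa⟩ : ∃ ε : G, (ε = F.e 2 ∨ ε = (F.e 2)⁻¹) ∧
        p * K.aa * p⁻¹ = K.φ (α * y * cycP * (α * y)⁻¹) * ε := by
      refine ⟨if b then F.e 2 else (F.e 2)⁻¹, by cases b <;> simp, ?_⟩
      calc p * K.aa * p⁻¹ = (p * q) * K.aa * (p * q)⁻¹ := by
            rw [mul_inv_rev, show p * q * K.aa * (q⁻¹ * p⁻¹) = p * (q * K.aa * q⁻¹) * p⁻¹ by group, hqaa]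
        _ = K.φ (α * y) * (z * K.aa * z⁻¹) * (K.φ (α * y))⁻¹ := by rw [hm]; group
        _ = K.φ (α * y) * (K.φ cycP * (if b then F.e 2 else (F.e 2)⁻¹)) * (K.φ (α * y))⁻¹ := by
            congr 2
            rw [hz]
            cases b
            · simp [haa]
            · simp only [if_true]
              rw [haa, F.r_inv, show F.r 2 * (K.φ cycP * (F.e 2)⁻¹) * F.r 2 =
                (F.r 2 * K.φ cycP) * (F.e 2)⁻¹ * F.r 2 by group, (K.r2_φ cycP).eq, ← F.r_e_self, mul_assoc,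
                mul_assoc, mul_assoc, F.r_sq, mul_one, ← mul_assoc (F.r 2), F.r_sq, one_mul]
        _ = _ := by
            have hc : Commute (if b then F.e 2 else (F.e 2)⁻¹) (K.φ (α * y))⁻¹ := by
              cases b
              · exact ((show Commute (K.φ (α * y)) (F.e 2) from K.φ_comm _).symm.inv_left).inv_right
              · exact ((show Commute (K.φ (α * y)) (F.e 2) from K.φ_comm _).symm).inv_right
            rw [mul_assoc, mul_assoc, hc.eq, ← mul_assoc (K.φ cycP), ← mul_assoc, ← mul_assoc, map_mul K.φ (α * y * cycP),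
              map_inv, map_mul K.φ (α * y)]
    have hεc : ∀ σ, Commute ε (K.φ σ) := fun σ => by
      rcases hε with rfl | rfl
      · exact (show Commute (K.φ σ) (F.e 2) from K.φ_comm σ).symm
      · exact (show Commute (K.φ σ) (F.e 2) from K.φ_comm σ).symm.inv_left
    have hca : Commute (p * K.aa * p⁻¹) B.a := by
      have h1 : Commute p B.a := (K.Qa_comm hp).1
      exact (h1.mul_left (B.J_comm _ K.aa_mem_E.1 _ K.a_mem_E.1)).mul_left h1.inv_left
    set ρ := α * y * cycP * (α * y)⁻¹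
    have he2 : Commute ε (F.e 2) := by
      rcases hε with rfl | rfl
      · exact Commute.refl _
      · exact (Commute.refl _).inv_left
    have hρ : ρ * cycP = cycP * ρ := by
      rw [hpaa, ha] at hca
      have h1 : Commute ε (K.φ cycP * F.e 2) := (hεc _).mul_right he2
      have h2 : Commute (K.φ ρ) (K.φ cycP * F.e 2) := by
        have := hca.mul_left h1.inv_left
        rwa [mul_inv_cancel_right] at this
      have h3 := h2.mul_right (show Commute (K.φ ρ) (F.e 2) from K.φ_comm ρ).inv_right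
      rw [mul_inv_cancel_right] at h3
      exact K.φ_inj ((map_mul K.φ ρ cycP).trans (h3.eq.trans (map_mul K.φ cycP ρ).symm))
    rcases aList_cyc α hα y hyl hρ with hr | hr <;> rw [show ρ = _ from hr] at hpaa <;> rcases hε with rfl | rfl
    · exact n3 (hpaa.trans ha.symm)
    · exact n1 (hpaa.trans haa.symm)
    · refine n2 (hpaa.trans ?_)
      rw [haa, mul_inv_rev, inv_inv, map_inv]
      exact ((show Commute (K.φ cycP) (F.e 2) from K.φ_comm _).inv_left).eq
    · refine n4 (hpaa.trans ?_)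
      rw [ha, mul_inv_rev, map_inv]
      exact ((show Commute (K.φ cycP) (F.e 2) from K.φ_comm _).inv_left.inv_right).eq
  -- the count
  let f : Option (Fin 8 × Bool) → S := fun o => o.elim ⟨g, hgS⟩ fun ib => ⟨K.sixteen ib, hsix ib⟩
  have hf : Function.Injective f := by
    intro a b hab'
    have h := congrArg Subtype.val hab'
    cases a <;> cases b
    · rfl
    · exact absurd h (hout _)
    · exact absurd h.symm (hout _)
    · exact congrArg some (K.sixteen_inj h)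
  have h17 : 17 ≤ Nat.card S := by
    refine le_trans (le_of_eq ?_) (Nat.card_le_card_of_injective f hf)
    rw [Nat.card_eq_fintype_card]
    rfl
  obtain ⟨k, hk⟩ := IsPGroup.iff_card.1 (hT2.to_le (inf_le_right : S ≤ T))
  have h5 : 5 ≤ k := by
    by_contra h
    have : 2 ^ k ≤ 2 ^ 4 := Nat.pow_le_pow_right (by norm_num) (by omega)
    norm_num at this
    have := hk ▸ h17
    omega
  refine (pow_dvd_pow 2 h5).trans ?_
  rw [← hk, ← Subgroup.card_map_of_injective (f := (MulAut.conj K.cc).toMonoidHom) (MulAut.conj K.cc).injective]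
  refine Subgroup.card_dvd_of_le ?_
  rintro _ ⟨x, hx, rfl⟩
  exact hx.1

end SixChart

end CfsgLib.Recog.SpSixThree
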