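import Cfsg.Agent.Lib.Recog.SpSixThree.HLocal

/-!
The covering of the invariant `3'`-subgroups of the centraliser of `z` by the two quaternion groups and the
elementary eight.
-/

set_option autoImplicit false
set_option linter.style.haveILetI false
set_option linter.unusedSectionVars false
set_option synthInstance.maxSize 20000

namespace CfsgLib.Recog.SpSixThree

open Equiv Subgroup

universe u

theorem sl_gen : ∀ x : SLT, x ^ 4 = 1 → x ≠ 1 → x ≠ -1 → ∀ y : SLT, y ^ 3 = 1 → y ≠ 1 → ∀ s : SLT, s ^ 4 = 1 →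
    s ∈ [1, x, x ^ 2, x ^ 3, y * x * y⁻¹, x * (y * x * y⁻¹), x ^ 2 * (y * x * y⁻¹), x ^ 3 * (y * x * y⁻¹)] := by
  decide +kernel

theorem sl_exp : ∀ x : SLT, x ^ 12 = 1 := by decide +kernel

theorem base_mem : (1 : Perm (Fin 6)) ∈ baseList ∧ tauP ∈ baseList ∧ swap 0 3 ∈ baseList ∧ swap 1 4 ∈ baseList ∧
    swap 2 5 ∈ baseList := by decide +kernel

variable {G : Type u} [Group G] [Finite G] {B : Base G} {F : FullFrame B}

namespace SixChart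

variable (K : SixChart F)

theorem mem_Qy {x : G} : x ∈ K.Qy ↔ ∃ σ ∈ baseList, K.φ σ = x := by
  constructor
  · intro hx
    refine closure_induction (p := fun x _ => ∃ σ ∈ baseList, K.φ σ = x) ?_ ?_ ?_ ?_ hx
    · rintro _ ⟨σ, hσ, rfl⟩; exact ⟨σ, hσ, rfl⟩
    · exact ⟨1, base_mem.1, map_one _⟩
    · rintro _ _ _ _ ⟨σ, hσ, rfl⟩ ⟨τ, hτ, rfl⟩; exact ⟨_, base_facts.1 _ hσ _ hτ, map_mul _ _ _⟩
    · rintro _ _ ⟨σ, hσ, rfl⟩
      exact ⟨σ, hσ, by rw [← map_inv, (base_facts.2.1 σ hσ).1]⟩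
  · rintro ⟨σ, hσ, rfl⟩
    exact subset_closure ⟨σ, hσ, rfl⟩

theorem zz_mem_Qy : K.zz ∈ K.Qy := K.mem_Qy.2 ⟨tauP, base_mem.2.1, K.zz_eq.symm⟩

theorem φ_r2' (σ : Perm (Fin 6)) : Commute (F.r 2) (K.φ σ) := by
  show F.r 2 * K.φ σ = K.φ σ * F.r 2
  conv_rhs => rw [← K.φ_r2 σ, mul_assoc, F.r_sq, mul_one]

theorem Qy_comm {x : G} (hx : x ∈ K.Qy) :
    x * K.zz = K.zz * x ∧ x * F.e 2 = F.e 2 * x ∧ Commute (F.r 2) x ∧ x * x = 1 := by
  obtain ⟨σ, hσ, rfl⟩ := K.mem_Qy.1 hx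
  obtain ⟨hi, hc, -⟩ := base_facts.2.1 σ hσ
  refine ⟨?_, K.φ_comm σ, K.φ_r2' σ, ?_⟩
  · rw [K.zz_eq, ← map_mul, ← map_mul, hc]
  · rw [← map_mul, ← map_one K.φ, mul_eq_one_iff_eq_inv.2 hi.symm]

theorem Qy_abelian {x y : G} (hx : x ∈ K.Qy) (hy : y ∈ K.Qy) : x * y = y * x := by
  have h := (K.Qy_comm (mul_mem hx hy)).2.2.2
  rw [← inv_eq_of_mul_eq_one_right h, mul_inv_rev, inv_eq_of_mul_eq_one_right (K.Qy_comm hx).2.2.2,
    inv_eq_of_mul_eq_one_right (K.Qy_comm hy).2.2.2]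

theorem mem_Qb {x : G} : x ∈ K.Qb ↔ F.r 2 * x * F.r 2 ∈ K.Qa := by
  constructor
  · rintro ⟨y, hy, rfl⟩
    rw [MulEquiv.coe_toMonoidHom, MulAut.conj_apply, F.r_inv, ← mul_assoc, ← mul_assoc, F.r_sq, one_mul,
      mul_assoc, F.r_sq, mul_one]
    exact hy
  · intro h
    refine ⟨_, h, ?_⟩
    rw [MulEquiv.coe_toMonoidHom, MulAut.conj_apply, F.r_inv, ← mul_assoc, ← mul_assoc, F.r_sq, one_mul,
      mul_assoc, F.r_sq, mul_one]

theorem r2_conj_a : F.r 2 * K.aa * F.r 2 = B.a := by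
  rw [aa, ← mul_assoc, ← mul_assoc, F.r_sq, one_mul, mul_assoc, F.r_sq, mul_one]

theorem r2_twice (x : G) : F.r 2 * (F.r 2 * x * F.r 2) * F.r 2 = x := by
  rw [← mul_assoc, ← mul_assoc, F.r_sq, one_mul, mul_assoc, F.r_sq, mul_one]

theorem r2_map (x y : G) : F.r 2 * x * F.r 2 * (F.r 2 * y * F.r 2) = F.r 2 * (x * y) * F.r 2 := by
  rw [show F.r 2 * x * F.r 2 * (F.r 2 * y * F.r 2) = F.r 2 * x * (F.r 2 * F.r 2) * y * F.r 2 by group,
    F.r_sq, mul_one, mul_assoc (F.r 2) x y]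

theorem r2_pow (x : G) (n : ℕ) : (F.r 2 * x * F.r 2) ^ n = F.r 2 * x ^ n * F.r 2 := by
  have := conj_pow (i := n) (a := F.r 2) (b := x)
  rwa [F.r_inv] at this

theorem r2_commute {x y : G} (h : x * y = y * x) :
    F.r 2 * x * F.r 2 * (F.r 2 * y * F.r 2) = F.r 2 * y * F.r 2 * (F.r 2 * x * F.r 2) := by
  rw [r2_map, r2_map, h]

theorem r2_zz' : F.r 2 * K.zz * F.r 2 = K.zz := by
  rw [K.r2_zz, mul_assoc, F.r_sq, mul_one]

theorem Qb_comm {x : G} (hx : x ∈ K.Qb) : x * K.aa = K.aa * x ∧ x * K.zz = K.zz * x := by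
  obtain ⟨h1, h2⟩ := K.Qa_comm (K.mem_Qb.1 hx)
  have e1 := r2_commute (F := F) h1
  have e2 := r2_commute (F := F) h2
  rw [r2_twice, ← aa] at e1
  rw [r2_twice, K.r2_zz'] at e2
  exact ⟨e1, e2⟩

theorem zz_mem_Qb : K.zz ∈ K.Qb := K.mem_Qb.2 (K.r2_zz'.symm ▸ K.zz_mem_Qa)

theorem Qa_odd {x : G} (hx : x ∈ K.Qa) (h : x ^ 3 = 1) : x = 1 := by
  haveI : Fact (Nat.Prime 2) := ⟨Nat.prime_two⟩
  obtain ⟨k, hk⟩ := K.Qa_two ⟨x, hx⟩
  have h2 : orderOf x ∣ 2 ^ k := orderOf_dvd_of_pow_eq_one (congrArg Subtype.val hk)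
  exact orderOf_eq_one_iff.1 (Nat.eq_one_of_dvd_coprimes (Nat.Coprime.pow_left k (by norm_num)) h2
    (orderOf_dvd_of_pow_eq_one h))

theorem E_exp {e : G} (he : e ∈ K.E) : e ^ 3 = 1 := B.J_exp _ he.1

theorem E_comm {e f : G} (he : e ∈ K.E) (hf : f ∈ K.E) : e * f = f * e := B.J_comm _ he.1 _ hf.1

theorem commute_E_of_two {x e f : G} (hgen : ∀ v : Vec, v 0 = v 1 → ∃ i j : ℕ, F.el v = e ^ i * f ^ j)
    (h1 : x * e = e * x) (h2 : x * f = f * x) : ∀ g ∈ K.E, x * g = g * x := by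
  intro g hg
  obtain ⟨v, hv, rfl⟩ := K.exists_vec_E hg
  obtain ⟨i, j, e'⟩ := hgen v hv
  rw [e']
  exact (((show Commute x e from h1).pow_right i).mul_right ((show Commute x f from h2).pow_right j)).eq

theorem gen_a_aa : ∀ v : Vec, v 0 = v 1 → ∃ i j : ℕ, F.el v = B.a ^ i * K.aa ^ j := by
  intro v hv
  obtain ⟨i, j, rfl⟩ := vec_E' v hv
  refine ⟨i.val, j.val, ?_⟩
  rw [F.toFrame.el_add, F.toFrame.el_nsmul, F.toFrame.el_nsmul, K.aa_eq]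
  show F.el (fun _ => 1) ^ i.val * _ = _
  rw [F.toFrame.el_a]

theorem gen_a_e2 : ∀ v : Vec, v 0 = v 1 → ∃ i j : ℕ, F.el v = B.a ^ i * F.e 2 ^ j := by
  intro v hv
  obtain ⟨i, j, rfl⟩ := vec_E_gen v hv
  refine ⟨i.val, j.val, ?_⟩
  rw [F.toFrame.el_add, F.toFrame.el_nsmul, F.toFrame.el_nsmul]
  show F.el (fun _ => 1) ^ i.val * _ = _
  rw [F.toFrame.el_a]
  rfl

/-- An element of `Qa` centralising `E`. -/
theorem Qa_cent_E {x : G} (hx : x ∈ K.Qa) (hc : ∀ e ∈ K.E, x * e = e * x) : x = 1 ∨ x = K.zz := by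
  rcases K.cent_E (K.Qa_comm hx).2 hc with h | h
  · exact Or.inl (K.Qa_odd hx (K.E_exp h))
  · exact Or.inr (mul_inv_eq_one.1 (by rw [K.zz_inv]; exact K.Qa_odd (mul_mem hx K.zz_mem_Qa) (K.E_exp h)))

theorem Qa_inf_Qb {x : G} (ha : x ∈ K.Qa) (hb : x ∈ K.Qb) : x = 1 ∨ x = K.zz :=
  K.Qa_cent_E ha (K.commute_E_of_two K.gen_a_aa (K.Qa_comm ha).1 (K.Qb_comm hb).1)

theorem Qa_inf_Qy {x : G} (ha : x ∈ K.Qa) (hy : x ∈ K.Qy) : x = 1 ∨ x = K.zz :=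
  K.Qa_cent_E ha (K.commute_E_of_two (gen_a_e2 (F := F)) (K.Qa_comm ha).1 (K.Qy_comm hy).2.1)

theorem r2_Qy {x : G} (hx : x ∈ K.Qy) : F.r 2 * x * F.r 2 = x := by
  rw [(K.Qy_comm hx).2.2.1.eq, mul_assoc, F.r_sq, mul_one]

theorem Qb_inf_Qy {x : G} (hb : x ∈ K.Qb) (hy : x ∈ K.Qy) : x = 1 ∨ x = K.zz := by
  have h := K.mem_Qb.1 hb
  rw [K.r2_Qy hy] at h
  exact K.Qa_inf_Qy h hy

/-! ### the action of `E` -/

theorem a_eq : B.a = K.φ cycP * F.e 2 := by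
  have h : K.φ cycP = F.e 0 * F.e 1 := by rw [cycP, map_mul, K.φ_e0, K.φ_e1]
  rw [h, ← F.toFrame.el_a]
  unfold Frame.e
  rw [← F.toFrame.el_add, ← F.toFrame.el_add]
  congr 1
  funext j
  fin_cases j <;> simp [evec]

theorem a_φ (σ : Perm (Fin 6)) : B.a * K.φ σ * B.a⁻¹ = K.φ (cycP * σ * cycP⁻¹) := by
  rw [K.a_eq, mul_inv_rev, map_mul, map_mul, map_inv]
  calc K.φ cycP * F.e 2 * K.φ σ * ((F.e 2)⁻¹ * (K.φ cycP)⁻¹)
      = K.φ cycP * (F.e 2 * K.φ σ) * (F.e 2)⁻¹ * (K.φ cycP)⁻¹ := by group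
    _ = K.φ cycP * (K.φ σ * F.e 2) * (F.e 2)⁻¹ * (K.φ cycP)⁻¹ := by rw [← K.φ_comm σ]
    _ = _ := by group

theorem E_norm_Qa {e x : G} (he : e ∈ K.E) (hx : x ∈ K.Qa) : e * x * e⁻¹ ∈ K.Qa := by
  have hle : K.Qa.map (MulAut.conj e).toMonoidHom ≤ K.Qa := by
    rw [Qa, MonoidHom.map_closure, closure_le]
    rintro _ ⟨y, ⟨h1, h2, h4⟩, rfl⟩
    refine subset_closure ⟨?_, ?_, ?_⟩ <;> rw [MulEquiv.coe_toMonoidHom, MulAut.conj_apply]
    · exact ((show Commute e B.a from K.E_comm he K.a_mem_E).mul_left h1).mul_left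
        (show Commute e B.a from K.E_comm he K.a_mem_E).inv_left |>.eq
    · have hez : Commute e K.zz := mem_centralizer_singleton_iff.1 he.2
      exact (hez.mul_left h2).mul_left hez.inv_left |>.eq
    · rw [conj_pow, h4, mul_one, mul_inv_cancel]
  exact hle ⟨x, hx, rfl⟩

theorem r2_E {e : G} (he : e ∈ K.E) : F.r 2 * e * F.r 2 ∈ K.E := by
  obtain ⟨v, hv, rfl⟩ := K.exists_vec_E he
  rw [r2_el]
  exact K.el_mem_E (by simp [Function.update, hv])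

theorem E_norm_Qb {e x : G} (he : e ∈ K.E) (hx : x ∈ K.Qb) : e * x * e⁻¹ ∈ K.Qb := by
  refine K.mem_Qb.2 ?_
  have := K.E_norm_Qa (K.r2_E he) (K.mem_Qb.1 hx)
  rwa [mul_inv_rev, mul_inv_rev, F.r_inv,
    show F.r 2 * e * F.r 2 * (F.r 2 * x * F.r 2) * (F.r 2 * (e⁻¹ * F.r 2)) =
      F.r 2 * e * (F.r 2 * F.r 2) * x * (F.r 2 * F.r 2) * e⁻¹ * F.r 2 by group, F.r_sq, mul_one, mul_one,
    show F.r 2 * e * x * e⁻¹ * F.r 2 = F.r 2 * (e * x * e⁻¹) * F.r 2 by group] at this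

theorem E_norm_Qy {e x : G} (he : e ∈ K.E) (hx : x ∈ K.Qy) : e * x * e⁻¹ ∈ K.Qy := by
  obtain ⟨v, hv, rfl⟩ := K.exists_vec_E he
  obtain ⟨i, j, e'⟩ := gen_a_e2 (F := F) v hv
  rw [e']
  clear e'
  have ha : ∀ i : ℕ, ∀ y ∈ K.Qy, B.a ^ i * y * (B.a ^ i)⁻¹ ∈ K.Qy := by
    intro i
    induction i with
    | zero => intro y hy; simpa using hy
    | succ i ih =>
      intro y hy
      obtain ⟨σ, hσ, rfl⟩ := K.mem_Qy.1 hy
      have h1 : B.a * K.φ σ * B.a⁻¹ ∈ K.Qy := by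
        rw [K.a_φ]; exact K.mem_Qy.2 ⟨_, (base_facts.2.1 σ hσ).2.2, rfl⟩
      have := ih _ h1
      rwa [show B.a ^ i * (B.a * K.φ σ * B.a⁻¹) * (B.a ^ i)⁻¹ = B.a ^ (i + 1) * K.φ σ * (B.a ^ (i + 1))⁻¹ by
        rw [pow_succ, mul_inv_rev]; simp only [mul_assoc]] at this
  have h2 : Commute (F.e 2 ^ j) x := ((show Commute x (F.e 2) from (K.Qy_comm hx).2.1).symm).pow_left j
  rw [mul_inv_rev, show B.a ^ i * F.e 2 ^ j * x * ((F.e 2 ^ j)⁻¹ * (B.a ^ i)⁻¹) =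
    B.a ^ i * (F.e 2 ^ j * x * (F.e 2 ^ j)⁻¹) * (B.a ^ i)⁻¹ by group, h2.eq, mul_inv_cancel_right]
  exact ha i x hx

theorem E_le_norm {T : Subgroup G} (h : ∀ e ∈ K.E, ∀ x ∈ T, e * x * e⁻¹ ∈ T) :
    K.E ≤ normalizer (T : Set G) := fun e he => mem_normalizer_iff.2 fun x => ⟨h e he x, fun hx => by
  have := h e⁻¹ (inv_mem he) _ hx
  rwa [inv_inv, show e⁻¹ * (e * x * e⁻¹) * e = x by group] at this⟩

theorem sl_e2 (K : SixChart F) : ∀ h : F.e 2 * B.a = B.a * F.e 2, B.sl ⟨F.e 2, mem_C h⟩ ^ 3 = 1 ∧ B.sl ⟨F.e 2, mem_C h⟩ ≠ 1 := by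
  intro h
  refine ⟨?_, fun e => ?_⟩
  · rw [← map_pow, show (⟨F.e 2, mem_C h⟩ : B.C) ^ 3 = 1 from
      Subtype.ext (K.E_exp K.e2_mem_E), map_one]
  · have := K.sl_one h K.zz_e2.symm e
    rcases B.mem_zpowers_a this with e | e | e
    · rw [← F.toFrame.el_zero] at e
      exact absurd (F.toFrame.el_inj.1 e) (by decide +kernel)
    · rw [← F.toFrame.el_a] at e
      exact absurd (F.toFrame.el_inj.1 e) (by decide +kernel)
    · rw [← F.toFrame.el_a, ← F.toFrame.el_neg] at e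
      exact absurd (F.toFrame.el_inj.1 e) (by decide +kernel)

/-- Generation of `Qa` by an element and its conjugate. -/
theorem Qa_gen {N : Subgroup G} {x : G} (hN : F.e 2 * x * (F.e 2)⁻¹ ∈ N) (hxN : x ∈ N) (hx : x ∈ K.Qa)
    (h1 : x ≠ 1) (h2 : x ≠ K.zz) : K.Qa ≤ N := by
  intro y hy
  have he : F.e 2 * B.a = B.a * F.e 2 := K.E_comm K.e2_mem_E K.a_mem_E
  obtain ⟨e3, e1⟩ := K.sl_e2 he
  set x' := F.e 2 * x * (F.e 2)⁻¹ with hx'
  have hx'Q : x' ∈ K.Qa := K.E_norm_Qa K.e2_mem_E hx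
  have n1 : B.sl ⟨x, mem_C (K.Qa_comm hx).1⟩ ≠ 1 := fun e => h1 (K.Qa_sl_inj hx (one_mem _) (by
    rw [e, show (⟨1, _⟩ : B.C) = 1 from rfl, map_one]))
  have n2 : B.sl ⟨x, mem_C (K.Qa_comm hx).1⟩ ≠ -1 := fun e => h2 (K.Qa_sl_inj hx K.zz_mem_Qa (by
    rw [e, K.sl_zz]))
  have hconj : B.sl ⟨x', mem_C (K.Qa_comm hx'Q).1⟩ =
      B.sl ⟨F.e 2, mem_C he⟩ * B.sl ⟨x, mem_C (K.Qa_comm hx).1⟩ * (B.sl ⟨F.e 2, mem_C he⟩)⁻¹ := by
    rw [← map_inv, ← map_mul, ← map_mul]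
    exact congrArg B.sl (Subtype.ext rfl)
  have key : ∀ g : G, g ∈ N → ∀ hg : g ∈ K.Qa,
      B.sl ⟨y, mem_C (K.Qa_comm hy).1⟩ = B.sl ⟨g, mem_C (K.Qa_comm hg).1⟩ → y ∈ N :=
    fun g hgN hg e => K.Qa_sl_inj hy hg e ▸ hgN
  have slp : ∀ (k : ℕ), B.sl ⟨x ^ k, mem_C (K.Qa_comm (pow_mem hx k)).1⟩ =
      B.sl ⟨x, mem_C (K.Qa_comm hx).1⟩ ^ k := fun k => by
    rw [← map_pow]; exact congrArg B.sl (Subtype.ext rfl)
  have slm : ∀ (k : ℕ), B.sl ⟨x ^ k * x', mem_C (K.Qa_comm (mul_mem (pow_mem hx k) hx'Q)).1⟩ =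
      B.sl ⟨x, mem_C (K.Qa_comm hx).1⟩ ^ k * B.sl ⟨x', mem_C (K.Qa_comm hx'Q).1⟩ := fun k => by
    rw [← map_pow, ← map_mul]; exact congrArg B.sl (Subtype.ext rfl)
  have hmem := sl_gen _ (K.Qa_sl hx) n1 n2 _ e3 e1 _ (K.Qa_sl hy)
  rw [← hconj] at hmem
  simp only [List.mem_cons, List.not_mem_nil, or_false] at hmem
  rcases hmem with e | e | e | e | e | e | e | e
  · exact key 1 (one_mem _) (one_mem _) (e.trans (by rw [show (⟨1, _⟩ : B.C) = 1 from rfl, map_one]))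
  · exact key x hxN hx e
  · exact key _ (pow_mem hxN 2) (pow_mem hx 2) (e.trans (slp 2).symm)
  · exact key _ (pow_mem hxN 3) (pow_mem hx 3) (e.trans (slp 3).symm)
  · exact key x' hN hx'Q e
  · exact key _ (mul_mem (pow_mem hxN 1) hN) (mul_mem (pow_mem hx 1) hx'Q) (e.trans (by rw [slm 1, pow_one]))
  · exact key _ (mul_mem (pow_mem hxN 2) hN) (mul_mem (pow_mem hx 2) hx'Q) (e.trans (slm 2).symm)
  · exact key _ (mul_mem (pow_mem hxN 3) hN) (mul_mem (pow_mem hx 3) hx'Q) (e.trans (slm 3).symm)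

/-- Irreducibility on `Qa`. -/
theorem Qa_irred {N : Subgroup G} {x : G} (hN : ∀ y ∈ N, F.e 2 * y * (F.e 2)⁻¹ ∈ N) (hxN : x ∈ N) (hx : x ∈ K.Qa)
    (h1 : x ≠ 1) (h2 : x ≠ K.zz) : K.Qa ≤ N := K.Qa_gen (hN x hxN) hxN hx h1 h2

theorem r2_e2 (_ : SixChart F) : F.r 2 * F.e 2 * F.r 2 = (F.e 2)⁻¹ := F.r_e_self 2

/-- Irreducibility on `Qb`. -/
theorem Qb_irred {N : Subgroup G} {x : G} (hN : ∀ e ∈ K.E, ∀ y ∈ N, e * y * e⁻¹ ∈ N) (hxN : x ∈ N)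
    (hx : x ∈ K.Qb) (h1 : x ≠ 1) (h2 : x ≠ K.zz) : K.Qb ≤ N := by
  intro y hy
  have hxa := K.mem_Qb.1 hx
  have h := K.Qa_irred (N := N.map (MulAut.conj (F.r 2)).toMonoidHom) (x := F.r 2 * x * F.r 2) ?_ ?_ hxa
    (fun e => h1 ?_) (fun e => h2 ?_) (K.mem_Qb.1 hy)
  · obtain ⟨n, hn, e⟩ := h
    rw [MulEquiv.coe_toMonoidHom, MulAut.conj_apply, F.r_inv] at e
    rwa [mul_left_cancel (mul_right_cancel e)] at hn
  · rintro _ ⟨n, hn, rfl⟩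
    refine ⟨(F.e 2)⁻¹ * n * F.e 2, by simpa using hN _ (inv_mem K.e2_mem_E) n hn, ?_⟩
    have e1 : F.r 2 * (F.e 2)⁻¹ = F.e 2 * F.r 2 := by
      rw [← K.r2_e2, ← mul_assoc, ← mul_assoc, F.r_sq, one_mul]
    have e2 : F.e 2 * F.r 2 = F.r 2 * (F.e 2)⁻¹ := e1.symm
    simp only [MulEquiv.coe_toMonoidHom, MulAut.conj_apply, F.r_inv]
    calc F.r 2 * ((F.e 2)⁻¹ * n * F.e 2) * F.r 2 = F.r 2 * (F.e 2)⁻¹ * n * (F.e 2 * F.r 2) := by
          simp only [mul_assoc]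
      _ = F.e 2 * F.r 2 * n * (F.r 2 * (F.e 2)⁻¹) := by rw [e1]
      _ = F.e 2 * (F.r 2 * n * F.r 2) * (F.e 2)⁻¹ := by simp only [mul_assoc]
  · exact ⟨x, hxN, by rw [MulEquiv.coe_toMonoidHom, MulAut.conj_apply, F.r_inv]⟩
  · rw [← r2_twice (F := F) x, e, mul_one, F.r_sq]
  · rw [← r2_twice (F := F) x, e, K.r2_zz']

/-- Irreducibility on `Qy`. -/
theorem Qy_irred {N : Subgroup G} {x : G} (hN : ∀ y ∈ N, B.a * y * B.a⁻¹ ∈ N) (hxN : x ∈ N) (hz : K.zz ∈ N)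
    (hx : x ∈ K.Qy) (h1 : x ≠ 1) (h2 : x ≠ K.zz) : K.Qy ≤ N := by
  intro y hy
  obtain ⟨σ, hσ, rfl⟩ := K.mem_Qy.1 hx
  obtain ⟨τ, hτ, rfl⟩ := K.mem_Qy.1 hy
  have hc : K.φ (cycP * σ * cycP⁻¹) ∈ N := K.a_φ σ ▸ hN _ hxN
  have hz' : K.φ tauP ∈ N := K.zz_eq ▸ hz
  have := base_irred σ hσ (fun e => h1 (by rw [e, map_one])) (fun e => h2 (by rw [e, K.zz_eq])) τ hτ
  simp only [List.mem_cons, List.not_mem_nil, or_false] at this
  rcases this with rfl | rfl | rfl | rfl | rfl | rfl | rfl | rfl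
  · rw [map_one]; exact one_mem _
  · exact hxN
  · exact hc
  · rw [map_mul]; exact mul_mem hxN hc
  · exact hz'
  · rw [map_mul]; exact mul_mem hz' hxN
  · rw [map_mul]; exact mul_mem hz' hc
  · rw [map_mul, map_mul _ σ]; exact mul_mem hz' (mul_mem hxN hc)

/-! ### the covering -/

theorem exp_cent_a {x : G} (hx : x * B.a = B.a * x) (hz : x * K.zz = K.zz * x) : x ^ 36 = 1 := by
  have h := K.sl_one ((show Commute x B.a from hx).pow_left 12).eq ((show Commute x K.zz from hz).pow_left 12).eq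
    (by rw [show (⟨x ^ 12, _⟩ : B.C) = (⟨x, mem_C hx⟩ : B.C) ^ 12 from rfl, map_pow, sl_exp])
  obtain ⟨k, hk⟩ := mem_zpowers_iff.1 h
  rw [show 36 = 12 * 3 from rfl, pow_mul, ← hk, ← zpow_natCast, ← zpow_mul, mul_comm, zpow_mul, zpow_natCast,
    B.a_three, one_zpow]

theorem four_of_coprime {T : Subgroup G} (hT : (Nat.card T).Coprime 3) {x : G} (hx : x ∈ T) (h : x ^ 36 = 1) :
    x ^ 4 = 1 :=
  orderOf_eq_one_iff.1 (Nat.eq_one_of_dvd_coprimes (hT.pow_right 2)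
    (Subgroup.orderOf_dvd_natCard T (pow_mem hx 4))
    (orderOf_dvd_of_pow_eq_one (by rw [← pow_mul]; exact h)))

theorem three_of_coprime {T : Subgroup G} (hT : (Nat.card T).Coprime 3) {x : G} (hx : x ∈ T) (h : x ^ 3 = 1) :
    x = 1 :=
  orderOf_eq_one_iff.1 (Nat.eq_one_of_dvd_coprimes hT (Subgroup.orderOf_dvd_natCard T hx)
    (orderOf_dvd_of_pow_eq_one h))

/-- The covering. -/
theorem cover (hd : centralizer ({F.e 0 * F.e 1} : Set G) ≤ B.M) {T : Subgroup G}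
    (hT : (Nat.card T).Coprime 3) (hE : ∀ e ∈ K.E, ∀ x ∈ T, e * x * e⁻¹ ∈ T)
    (hz : T ≤ centralizer ({K.zz} : Set G)) :
    T ≤ (T ⊓ K.Qa) ⊔ (T ⊓ K.Qb) ⊔ (T ⊓ K.Qy) := by
  have hEn := K.E_le_norm hE
  have hab : IsMulCommutative K.E := ⟨⟨fun e f => Subtype.ext (K.E_comm e.2 f.2)⟩⟩
  have hnc : ¬ IsCyclic K.E := fun hcy => by
    obtain ⟨g, hg⟩ := IsCyclic.exists_generator (α := K.E)
    obtain ⟨i, hi⟩ := mem_zpowers_iff.1 (hg ⟨B.a, K.a_mem_E⟩)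
    obtain ⟨j, hj⟩ := mem_zpowers_iff.1 (hg ⟨F.e 2, K.e2_mem_E⟩)
    have hi' : (g : G) ^ i = B.a := by simpa using congrArg Subtype.val hi
    have hj' : (g : G) ^ j = F.e 2 := by simpa using congrArg Subtype.val hj
    obtain ⟨v, -, hv⟩ := K.exists_vec_E g.2
    have hpow : ∀ k : ℤ, (g : G) ^ k = F.el ((k : ZMod 3) • v) := fun k => by
      rw [hv]
      unfold Frame.el
      rw [← map_zpow, ← ofAdd_zsmul, ← Int.cast_smul_eq_zsmul (ZMod 3)]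
    rw [hpow, ← F.toFrame.el_a] at hi'
    rw [hpow] at hj'
    have e1 := congrFun (F.toFrame.el_inj.1 hi') 0
    have e2 := congrFun (F.toFrame.el_inj.1 hi') 2
    have e3 := congrFun (F.toFrame.el_inj.1 hj') 0
    have e4 := congrFun (F.toFrame.el_inj.1 hj') 2
    simp only [Pi.smul_apply, smul_eq_mul, evec] at e1 e2 e3 e4
    revert e1 e2 e3 e4
    generalize (i : ZMod 3) = a'
    generalize (j : ZMod 3) = b'
    generalize v 0 = c'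
    generalize v 2 = d'
    revert a' b' c' d'
    decide
  have hcop : (Nat.card K.E).Coprime (Nat.card T) := by
    obtain ⟨m, hm⟩ := (B.J_pgroup.to_le (inf_le_left : K.E ≤ B.J)).exists_card_eq
    rw [show Nat.card K.E = 3 ^ m from hm]
    exact Nat.Coprime.pow_left m hT.symm
  conv_lhs => rw [← CfsgLib.Coprime.iSup_centralizer_eq hab hnc hEn hcop]
  refine iSup_le fun e x hx => ?_
  obtain ⟨hxT, hxc⟩ := Subgroup.mem_inf.1 hx
  have hxe : Commute x (e : G) := mem_centralizer_singleton_iff.1 hxc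
  have hxz : x * K.zz = K.zz * x := mem_centralizer_singleton_iff.1 (hz hxT)
  obtain ⟨v, hv, hev⟩ := K.exists_vec_E e.2.1
  have hv0 : v ≠ 0 := fun e0 => e.2.2 (by rw [hev, e0, F.toFrame.el_zero])
  obtain ⟨m, hm⟩ := vec_E v hv hv0
  have hxm : Commute x (F.el (m.val • v)) := by rw [F.toFrame.el_nsmul, ← hev]; exact hxe.pow_right _
  rcases hm with hm | hm | hm | hm <;> rw [hm] at hxm
  · rw [F.toFrame.el_a] at hxm
    refine mem_sup_left (mem_sup_left ⟨hxT, subset_closure ⟨hxm.eq, hxz, ?_⟩⟩)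
    exact four_of_coprime hT hxT (K.exp_cent_a hxm.eq hxz)
  · rw [← K.aa_eq] at hxm
    refine mem_sup_left (mem_sup_right ⟨hxT, K.mem_Qb.2 (subset_closure ?_)⟩)
    have h1 := r2_commute (F := F) hxm.eq
    have h2 := r2_commute (F := F) hxz
    rw [K.r2_conj_a] at h1
    rw [K.r2_zz'] at h2
    refine ⟨h1, h2, ?_⟩
    have h36 := K.exp_cent_a h1 h2
    rw [r2_pow] at h36 ⊢
    have : x ^ 36 = 1 := by
      rw [← r2_twice (F := F) (x ^ 36), h36, mul_one, F.r_sq]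
    rw [four_of_coprime hT hxT this, mul_one, F.r_sq]
  · refine mem_sup_right ⟨hxT, ?_⟩
    obtain ⟨n, σ, hσ⟩ := K.dec x hxm.eq
    have he3 : F.e 2 ^ 3 = 1 := K.E_exp K.e2_mem_E
    have hne : ∀ ρ, Commute (F.e 2 ^ n.val) (K.φ ρ) := fun ρ =>
      ((show Commute (K.φ ρ) (F.e 2) from K.φ_comm ρ).symm).pow_left _
    have hσz : σ * tauP = tauP * σ := K.φ_inj (by
      rw [map_mul, map_mul, ← K.zz_eq]
      have hσ' : K.φ σ = (F.e 2 ^ n.val)⁻¹ * x := by rw [hσ, inv_mul_cancel_left]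
      rw [hσ']
      exact (((show Commute (F.e 2) K.zz from K.zz_e2.symm).pow_left _).inv_left.mul_left hxz).eq)
    have h12 : x ^ 12 = 1 := by
      rw [hσ, (hne σ).mul_pow, ← pow_mul, mul_comm n.val, pow_mul, show (12 : ℕ) = 3 * 4 from rfl,
        pow_mul (F.e 2), he3, one_pow, one_pow, one_mul, ← map_pow, show 3 * 4 = 12 from rfl, tau_exp σ hσz,
        map_one]
    have hx4 := four_of_coprime hT hxT (by rw [show 36 = 12 * 3 from rfl, pow_mul, h12, one_pow])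
    have h : F.e 2 ^ (n.val * 4) * K.φ (σ ^ 4) = 1 := by rw [pow_mul, map_pow, ← (hne σ).mul_pow, ← hσ, hx4]
    have hσ4 : σ ^ 4 = 1 := K.φ_cap (by
      rw [eq_inv_of_mul_eq_one_right h]
      exact inv_mem (pow_mem (mem_zpowers _) _))
    rw [hσ4, map_one, mul_one] at h
    have hn : F.e 2 ^ n.val = 1 := by
      calc F.e 2 ^ n.val = F.e 2 ^ (n.val * 4) * ((F.e 2 ^ 3) ^ n.val)⁻¹ := by
            rw [← pow_mul, eq_mul_inv_iff_mul_eq, ← pow_add]; congr 1; ring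
        _ = 1 := by rw [h, he3, one_pow, inv_one, mul_one]
    rw [hn, one_mul] at hσ
    refine K.mem_Qy.2 ⟨σ, base_two σ hσz hσ4 (K.φ_inj ?_), hσ.symm⟩
    rw [map_pow, map_mul, ← K.a_φ, ← hσ, map_one]
    have hy : x * (B.a * x * B.a⁻¹) ∈ T := mul_mem hxT (hE _ K.a_mem_E x hxT)
    refine four_of_coprime hT hy ?_
    have hy' : x * (B.a * x * B.a⁻¹) = K.φ (σ * (cycP * σ * cycP⁻¹)) := by rw [map_mul, ← K.a_φ, ← hσ]
    have hc : cycP * tauP = tauP * cycP := by decide +kernel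
    have hyz : σ * (cycP * σ * cycP⁻¹) * tauP = tauP * (σ * (cycP * σ * cycP⁻¹)) :=
      ((show Commute σ tauP from hσz).mul_left
        (((show Commute cycP tauP from hc).mul_left hσz).mul_left (show Commute cycP tauP from hc).inv_left)).eq
    rw [hy', ← map_pow, show 36 = 12 * 3 from rfl, pow_mul, tau_exp _ hyz, one_pow, map_one]
  · rw [F.toFrame.el_add] at hxm
    have hxM : x ∈ B.M := hd (mem_centralizer_singleton_iff.2 hxm.eq)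
    have hcE : ∀ f ∈ K.E, x * f = f * x := by
      intro f hf
      have h1 : x * f * x⁻¹ * f⁻¹ ∈ B.J :=
        mul_mem ((mem_normalizer_iff.1 hxM _).1 hf.1) (inv_mem hf.1)
      have h2 : x * f * x⁻¹ * f⁻¹ ∈ T := by
        rw [show x * f * x⁻¹ * f⁻¹ = x * (f * x⁻¹ * f⁻¹) by group]
        exact mul_mem hxT (hE f hf _ (inv_mem hxT))
      exact mul_inv_eq_iff_eq_mul.1 (mul_inv_eq_one.1 (three_of_coprime hT h2 (B.J_exp _ h1)))
    refine mem_sup_left (mem_sup_left ⟨hxT, ?_⟩)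
    rcases K.cent_E hxz hcE with h | h
    · rw [three_of_coprime hT hxT (K.E_exp h)]; exact one_mem _
    · have hx2 : x * x = (x * K.zz) * (x * K.zz) := by
        calc x * x = x * (K.zz * K.zz) * x := by rw [K.zz_sq, mul_one]
          _ = x * K.zz * (K.zz * x) := by group
          _ = _ := by rw [← hxz]
      have h2 : x * x = 1 := three_of_coprime hT (mul_mem hxT hxT) (by rw [hx2]; exact K.E_exp (mul_mem h h))
      have h3 : (x * K.zz) * (x * K.zz) = 1 := hx2.symm.trans h2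
      have h4 : x * K.zz = 1 := by
        have := K.E_exp h
        rwa [pow_succ, pow_two, h3, one_mul] at this
      rw [show x = K.zz from (eq_inv_of_mul_eq_one_left h4).trans K.zz_inv]
      exact K.zz_mem_Qa

end SixChart

end CfsgLib.Recog.SpSixThree
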