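import Cfsg.Agent.Lib.Recog.SpSixThree.HLocal
import Cfsg.Agent.Lib.Recog.SpSixThree.CloseSep

/-!
The two quaternion groups, the elementary eight and the frame inside the image of the coded `Sp(6,2)`;
inside it the two quaternion groups commute.
-/

set_option autoImplicit false
set_option linter.unusedSectionVars false
set_option linter.style.haveILetI false
set_option synthInstance.maxSize 20000
set_option maxRecDepth 100000
set_option maxHeartbeats 1000000

namespace CfsgLib.Recog.SpSixThree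

open Equiv Subgroup
open CfsgLib.Recog.Profile (okCode code_ofCode code_inv_ofCode)
open CfsgLib.Recog.Profile.SpBits (Sp ofCode bmul enc code code_inj code_mul code_one)
open CfsgLib.Recog.CentTwelve.SpHom (bgen)

universe u

/-- The code of the first element of order four over `a`. -/
def q1c : ℕ := 45459827547

/-- The code of the inverse of the first element. -/
def q1i : ℕ := 45461387742

/-- The code of the second element of order four over `a`. -/
def q2c : ℕ := 40263151467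

/-- The code of the inverse of the second element. -/
def q2i : ℕ := 40264711662

/-- The code of `a`. -/
def ac : ℕ := bmul (Model.tc 2) (bmul (Model.tc 1) (bmul (Model.tc 8) (bmul (Model.tc 4)
  (bmul (Model.tc 32) (Model.tc 16)))))

theorem q_codes : okCode q1c q1i = true ∧ okCode q2c q2i = true ∧
    (∀ x ∈ [q1c, q2c], bmul x ac = bmul ac x ∧ bmul x Model.zc = bmul Model.zc x ∧
      bmul x (bmul x (bmul x x)) = enc id ∧
      ∀ y ∈ [q1c, q2c], bmul x (bmul (Model.tc 16) (bmul y (Model.tc 16))) =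
        bmul (bmul (Model.tc 16) (bmul y (Model.tc 16))) x) ∧
    bmul q1c q2c ≠ bmul q2c q1c := by decide +kernel

theorem sl_two_gen : ∀ x y : SLT, x ^ 4 = 1 → y ^ 4 = 1 → x * y ≠ y * x → ∀ s : SLT, s ^ 4 = 1 →
    s ∈ [1, x, x * x, x * x * x, y, x * y, x * x * y, x * x * x * y] := by decide +kernel

theorem perm_six_swaps : swap (0 : Fin 6) 2 = swap 0 1 * swap 1 2 * swap 0 1 ∧
    swap (2 : Fin 6) 3 = swap 0 2 * swap 0 3 * swap 0 2 := by decide +kernel

namespace Model

/-- The preimage of `a`. -/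
def am : Sp := T 2 * T 1 * (T 8 * T 4) * (T 32 * T 16)

/-- The first element of order four over `a`. -/
def qm1 : Sp := ofCode q1c q1i

/-- The second element of order four over `a`. -/
def qm2 : Sp := ofCode q2c q2i

theorem qm_facts : (∀ x ∈ [qm1, qm2], x * am = am * x ∧ x * zm = zm * x ∧ x ^ 4 = 1 ∧
    ∀ y ∈ [qm1, qm2], Commute x (T 16 * y * T 16)) ∧ qm1 * qm2 ≠ qm2 * qm1 := by
  obtain ⟨o1, o2, hall, hne⟩ := q_codes
  have hz := code_facts.1
  have ha : code am = ac := by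
    rw [am, show T 2 * T 1 * (T 8 * T 4) * (T 32 * T 16) = T 2 * (T 1 * (T 8 * (T 4 * (T 32 * T 16)))) by group]
    simp only [code_mul, code_T (show 1 < 64 by norm_num), code_T (show 2 < 64 by norm_num),
      code_T (show 4 < 64 by norm_num), code_T (show 8 < 64 by norm_num), code_T (show 16 < 64 by norm_num),
      code_T (show 32 < 64 by norm_num), ac]
  have hmem : ∀ x ∈ [qm1, qm2], code x ∈ [q1c, q2c] := by
    intro x hx
    simp only [List.mem_cons, List.not_mem_nil, or_false] at hx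
    rcases hx with rfl | rfl
    · rw [qm1, code_ofCode o1]; exact List.mem_cons_self
    · rw [qm2, code_ofCode o2]; exact List.mem_cons_of_mem _ List.mem_cons_self
  refine ⟨fun x hx => ?_, fun e => hne ?_⟩
  · obtain ⟨h1, h2, h3, h4⟩ := hall _ (hmem x hx)
    refine ⟨code_inj ?_, code_inj ?_, code_inj ?_, fun y hy => code_inj ?_⟩
    · rw [code_mul, code_mul, ha, h1]
    · rw [code_mul, code_mul, zm, code_ofCode hz, h2]
    · rw [show x ^ 4 = x * (x * (x * x)) by simp [pow_succ, mul_assoc], code_mul, code_mul, code_mul, h3, code_one]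
    · rw [mul_assoc (T 16) y (T 16)]
      simp only [code_mul, code_T (show 16 < 64 by norm_num)]
      exact h4 _ (hmem y hy)
  · rw [← code_ofCode o1, ← code_ofCode o2, ← code_mul, ← code_mul]
    exact congrArg code e

end Model

variable {G : Type u} [Group G] [Finite G] {B : Base G} {F : FullFrame B}

namespace SixChart

variable (K : SixChart F) {ψ : Sp →* G}

section Range

variable (hgen : ∀ i : Fin 7, ψ (bgen i.val) = K.gen i)

include hgen

theorem psi_e : ψ (Model.T 2 * Model.T 1) = F.e 0 ∧ ψ (Model.T 8 * Model.T 4) = F.e 1 ∧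
    ψ (Model.T 32 * Model.T 16) = F.e 2 := by
  obtain ⟨g2, g4, g8, g16, -, g32⟩ := K.psi_base hgen
  obtain ⟨g1, -⟩ := K.psi_one hgen
  refine ⟨?_, ?_, ?_⟩
  · rw [map_mul, g2, g1, K.φ_swap01, mul_assoc, F.r_sq, mul_one]
  · rw [map_mul, g8, g4, K.φ_swap34, K.φ_r1, mul_assoc, F.r_sq, mul_one]
  · rw [map_mul, g32, g16, mul_assoc, F.r_sq, mul_one]

theorem psi_am : ψ Model.am = B.a := by
  obtain ⟨h0, h1, h2⟩ := K.psi_e hgen
  rw [Model.am, map_mul, map_mul, h0, h1, h2, ← F.toFrame.el_a, Frame.e, Frame.e, Frame.e, ← F.toFrame.el_add,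
    ← F.toFrame.el_add]
  congr 1
  decide +kernel

theorem r_mem_range (k : Fin 3) : F.r k ∈ ψ.range := by
  obtain ⟨-, g4, -, g16, -, -⟩ := K.psi_base hgen
  fin_cases k
  · exact ⟨_, (K.psi_one hgen).1⟩
  · exact ⟨_, g4.trans K.φ_r1⟩
  · exact ⟨_, g16⟩

theorem e_mem_range (k : Fin 3) : F.e k ∈ ψ.range := by
  obtain ⟨h0, h1, h2⟩ := K.psi_e hgen
  fin_cases k
  exacts [⟨_, h0⟩, ⟨_, h1⟩, ⟨_, h2⟩]

theorem φ_mem_range (σ : Perm (Fin 6)) : K.φ σ ∈ ψ.range := by
  obtain ⟨g2, g4, g8, -, -, -⟩ := K.psi_base hgen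
  obtain ⟨g1, g5⟩ := K.psi_one hgen
  have m : ∀ {d : ℕ} {σ : Perm (Fin 6)}, ψ (Model.T d) = K.φ σ → σ ∈ ψ.range.comap K.φ :=
    fun h => Subgroup.mem_comap.2 (MonoidHom.mem_range.2 ⟨_, h⟩)
  have h01 := m g2
  have h12 : swap (1 : Fin 6) 2 ∈ ψ.range.comap K.φ := m (g1.trans K.φ_r0.symm)
  have h03 := m g5
  have h02 : swap (0 : Fin 6) 2 ∈ ψ.range.comap K.φ := perm_six_swaps.1 ▸ mul_mem (mul_mem h01 h12) h01
  have h23 : swap (2 : Fin 6) 3 ∈ ψ.range.comap K.φ := perm_six_swaps.2 ▸ mul_mem (mul_mem h02 h03) h02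
  have hle : Submonoid.closure (Set.range fun i : Fin 5 => swap i.castSucc i.succ) ≤
      (ψ.range.comap K.φ).toSubmonoid := by
    rw [Submonoid.closure_le]
    rintro _ ⟨i, rfl⟩
    fin_cases i
    exacts [h01, h12, h23, m g8, m g4]
  rw [Equiv.Perm.mclosure_swap_castSucc_succ 5] at hle
  exact hle (Submonoid.mem_top σ)

theorem Qy_le_range : K.Qy ≤ ψ.range :=
  (closure_le _).2 fun _ ⟨σ, _, e⟩ => e ▸ K.φ_mem_range hgen σ

theorem E_le_range : K.E ≤ ψ.range := by
  intro x hx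
  obtain ⟨v, hv, rfl⟩ := K.exists_vec_E hx
  obtain ⟨i, j, rfl⟩ := vec_E_gen v hv
  rw [F.toFrame.el_add, F.toFrame.el_nsmul, F.toFrame.el_nsmul, F.toFrame.el_a]
  exact mul_mem (pow_mem (show B.a ∈ ψ.range from ⟨_, K.psi_am hgen⟩) _) (pow_mem (K.e_mem_range hgen 2) _)

theorem qm_mem : ψ Model.qm1 ∈ K.Qa ∧ ψ Model.qm2 ∈ K.Qa := by
  have h : ∀ x ∈ [Model.qm1, Model.qm2], ψ x ∈ K.Qa := fun x hx => by
    obtain ⟨h1, h2, h4, -⟩ := Model.qm_facts.1 x hx
    refine subset_closure ⟨?_, ?_, by rw [← map_pow, h4, map_one]⟩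
    · rw [← K.psi_am hgen]
      exact ((show Commute x Model.am from h1).map ψ).eq
    · rw [zz, ← (K.psi_reps hgen).1]
      exact ((show Commute x Model.zm from h2).map ψ).eq
  exact ⟨h _ List.mem_cons_self, h _ (List.mem_cons_of_mem _ List.mem_cons_self)⟩

theorem Qa_eq_closure (hinj : Function.Injective ψ) :
    K.Qa = closure {ψ Model.qm1, ψ Model.qm2} := by
  obtain ⟨m1, m2⟩ := K.qm_mem hgen
  refine le_antisymm (fun g hg => ?_) ((closure_le _).2 ?_)
  · let sl : ∀ x ∈ K.Qa, SLT := fun x hx => B.sl ⟨x, mem_C (K.Qa_comm hx).1⟩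
    have hmul : ∀ x y (hx : x ∈ K.Qa) (hy : y ∈ K.Qa), sl _ (mul_mem hx hy) = sl x hx * sl y hy :=
      fun x y hx hy => map_mul B.sl ⟨x, mem_C (K.Qa_comm hx).1⟩ ⟨y, mem_C (K.Qa_comm hy).1⟩
    set p := ψ Model.qm1 with hp
    set q := ψ Model.qm2 with hq
    have hne : sl p m1 * sl q m2 ≠ sl q m2 * sl p m1 := by
      rw [← hmul _ _ m1 m2, ← hmul _ _ m2 m1]
      exact fun e => Model.qm_facts.2 (hinj (by rw [map_mul, map_mul]; exact K.Qa_sl_inj (mul_mem m1 m2) (mul_mem m2 m1) e))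
    have hm := sl_two_gen _ _ (K.Qa_sl m1) (K.Qa_sl m2) hne _ (K.Qa_sl hg)
    have hcp : p ∈ closure ({p, q} : Set G) := subset_closure (Or.inl rfl)
    have hcq : q ∈ closure ({p, q} : Set G) := subset_closure (Or.inr rfl)
    have key : ∀ w (hw : w ∈ K.Qa), w ∈ closure ({p, q} : Set G) → sl g hg = sl w hw →
        g ∈ closure ({p, q} : Set G) := fun w hw h e => by rwa [K.Qa_sl_inj hg hw e]
    simp only [List.mem_cons, List.not_mem_nil, or_false] at hm
    rcases hm with h | h | h | h | h | h | h | h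
    · exact key 1 (one_mem _) (one_mem _) (h.trans (map_one B.sl).symm)
    · exact key _ m1 hcp h
    · exact key _ (mul_mem m1 m1) (mul_mem hcp hcp) (h.trans (hmul _ _ m1 m1).symm)
    · exact key _ (mul_mem (mul_mem m1 m1) m1) (mul_mem (mul_mem hcp hcp) hcp) (h.trans (by rw [hmul _ _ (mul_mem m1 m1) m1, hmul _ _ m1 m1]))
    · exact key _ m2 hcq h
    · exact key _ (mul_mem m1 m2) (mul_mem hcp hcq) (h.trans (hmul _ _ m1 m2).symm)
    · exact key _ (mul_mem (mul_mem m1 m1) m2) (mul_mem (mul_mem hcp hcp) hcq) (h.trans (by rw [hmul _ _ (mul_mem m1 m1) m2, hmul _ _ m1 m1]))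
    · exact key _ (mul_mem (mul_mem (mul_mem m1 m1) m1) m2) (mul_mem (mul_mem (mul_mem hcp hcp) hcp) hcq)
        (h.trans (by rw [hmul _ _ (mul_mem (mul_mem m1 m1) m1) m2, hmul _ _ (mul_mem m1 m1) m1, hmul _ _ m1 m1]))
  · rintro _ (rfl | rfl) <;> assumption

theorem Qa_le_range (hinj : Function.Injective ψ) : K.Qa ≤ ψ.range := by
  rw [K.Qa_eq_closure hgen hinj, closure_le]
  rintro _ (rfl | rfl) <;> exact ⟨_, rfl⟩

theorem Qb_le_range (hinj : Function.Injective ψ) : K.Qb ≤ ψ.range := by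
  rintro _ ⟨x, hx, rfl⟩
  rw [MulEquiv.coe_toMonoidHom, MulAut.conj_apply]
  exact mul_mem (mul_mem (K.r_mem_range hgen 2) (K.Qa_le_range hgen hinj hx)) (inv_mem (K.r_mem_range hgen 2))

/-- Inside the model the two quaternion groups commute. -/
theorem comm_ab (hinj : Function.Injective ψ) : ∀ x ∈ K.Qa, ∀ y ∈ K.Qb, Commute x y := by
  have g16 : ψ (Model.T 16) = F.r 2 := (K.psi_base hgen).2.2.2.1
  have h : K.Qb ≤ centralizer (K.Qa : Set G) := by
    have hQ := K.Qa_eq_closure hgen hinj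
    rw [Qb, hQ, MonoidHom.map_closure, centralizer_closure, closure_le]
    rintro _ ⟨y, hy, rfl⟩
    refine mem_centralizer_iff.2 fun x hx => ?_
    obtain ⟨u, hu, rfl⟩ : ∃ u ∈ [Model.qm1, Model.qm2], ψ u = x := by
      rcases hx with rfl | rfl
      exacts [⟨_, List.mem_cons_self, rfl⟩, ⟨_, List.mem_cons_of_mem _ List.mem_cons_self, rfl⟩]
    obtain ⟨v, hv, rfl⟩ : ∃ v ∈ [Model.qm1, Model.qm2], ψ v = y := by
      rcases hy with rfl | rfl
      exacts [⟨_, List.mem_cons_self, rfl⟩, ⟨_, List.mem_cons_of_mem _ List.mem_cons_self, rfl⟩]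
    have := ((Model.qm_facts.1 u hu).2.2.2 v hv).map ψ
    rw [map_mul, map_mul, g16] at this
    rw [MulEquiv.coe_toMonoidHom, MulAut.conj_apply, F.r_inv]
    exact this.eq
  exact fun x hx y hy => mem_centralizer_iff.1 (h hy) x hx

end Range

end SixChart

end CfsgLib.Recog.SpSixThree
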