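import Cfsg.Agent.Lib.Recog.SpSixThree.HCover
import Cfsg.Agent.Lib.Recog.SpSixThree.LocalThree
import Cfsg.Agent.S3331

/-!
The two quaternion groups commute modulo the elementary eight, once this is centralised by the first.
-/

set_option autoImplicit false
set_option linter.style.haveILetI false
set_option linter.unusedSectionVars false
set_option synthInstance.maxSize 20000

namespace CfsgLib.Recog.SpSixThree

open Equiv Subgroup

universe u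

theorem base_self : ∀ σ : Perm (Fin 6), (∀ τ ∈ baseList, σ * τ = τ * σ) → σ ∈ baseList := by decide +kernel

theorem five_four_normal : ∀ w : alternatingGroup (Fin 5), w * w = 1 → w ≠ 1 →
    ∃ g : alternatingGroup (Fin 5), w * (g * w * g⁻¹) * (w * (g * w * g⁻¹)) ≠ 1 := by decide +kernel

set_option maxRecDepth 100000 in
/-- An automorphism fixing a four-group and its normalising `c` cannot move `r` to `r c`. -/
theorem five_orders : ∀ c : alternatingGroup (Fin 5), c ^ 3 = 1 → c ≠ 1 →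
    ∀ u : alternatingGroup (Fin 5), u * u = 1 → u ≠ 1 → u * (c * u * c⁻¹) = c * u * c⁻¹ * u →
    ∀ r : alternatingGroup (Fin 5), r * r = 1 → r * c * r = c⁻¹ →
    (((u * r) ^ 2 = 1) ↔ ((u * r * c) ^ 2 = 1)) → (((u * r) ^ 3 = 1) ↔ ((u * r * c) ^ 3 = 1)) →
    (((u * r) ^ 5 = 1) ↔ ((u * r * c) ^ 5 = 1)) →
    (((c * u * c⁻¹ * r) ^ 2 = 1) ↔ ((c * u * c⁻¹ * r * c) ^ 2 = 1)) →
    (((c * u * c⁻¹ * r) ^ 3 = 1) ↔ ((c * u * c⁻¹ * r * c) ^ 3 = 1)) →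
    (((c * u * c⁻¹ * r) ^ 5 = 1) ↔ ((c * u * c⁻¹ * r * c) ^ 5 = 1)) →
    (((u * (c * u * c⁻¹) * r) ^ 2 = 1) ↔ ((u * (c * u * c⁻¹) * r * c) ^ 2 = 1)) →
    (((u * (c * u * c⁻¹) * r) ^ 3 = 1) ↔ ((u * (c * u * c⁻¹) * r * c) ^ 3 = 1)) →
    (((u * (c * u * c⁻¹) * r) ^ 5 = 1) ↔ ((u * (c * u * c⁻¹) * r * c) ^ 5 = 1)) → False := by
  decide +kernel

theorem sl_exists_four : ∃ s : SLT, s ^ 4 = 1 ∧ s ≠ 1 ∧ s ≠ -1 := by decide +kernel

variable {G : Type u} [Group G] [Finite G] {B : Base G} {F : FullFrame B}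

namespace SixChart

variable (K : SixChart F)

theorem exists_Qa_outer : ∃ x ∈ K.Qa, x ≠ 1 ∧ x ≠ K.zz := by
  obtain ⟨s, hs, h1, h2⟩ := sl_exists_four
  obtain ⟨x, hx, hxs⟩ := K.exists_Qa hs
  refine ⟨x, hx, fun e => h1 ?_, fun e => h2 ?_⟩
  · subst e
    rw [← hxs, show (⟨1, _⟩ : B.C) = 1 from rfl, map_one]
  · rw [← hxs]
    exact K.sl_Qa_zz x (K.Qa_comm hx).1 e

theorem card_Qa : Nat.card K.Qa = 8 := by
  let f : ↥K.Qa → {s : SLT // s ^ 4 = 1} := fun x => ⟨_, K.Qa_sl x.2⟩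
  have hf : Function.Bijective f := ⟨fun x y h => Subtype.ext (K.Qa_sl_inj x.2 y.2 (congrArg Subtype.val h)),
    fun ⟨s, hs⟩ => by
      obtain ⟨x, hx, e⟩ := K.exists_Qa hs
      exact ⟨⟨x, hx⟩, Subtype.ext e⟩⟩
  rw [Nat.card_congr (Equiv.ofBijective f hf), Nat.card_eq_fintype_card, Fintype.card_subtype]
  exact sl_four.2.2.2.2

theorem Qa_sq {x : G} (hx : x ∈ K.Qa) : x * x = 1 ∨ x * x = K.zz := by
  refine K.Qa_invol (mul_mem hx hx) ?_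
  have h4 : x ^ 4 = 1 := by
    obtain ⟨y, hy, e⟩ := K.exists_Qa (K.Qa_sl hx)
    have : B.sl ⟨x ^ 4, mem_C (K.Qa_comm (pow_mem hx 4)).1⟩ = B.sl ⟨1, mem_C (K.Qa_comm (one_mem _)).1⟩ := by
      rw [show (⟨x ^ 4, _⟩ : B.C) = (⟨x, mem_C (K.Qa_comm hx).1⟩ : B.C) ^ 4 from rfl, map_pow, K.Qa_sl hx,
        show (⟨1, _⟩ : B.C) = 1 from rfl, map_one]
    exact K.Qa_sl_inj (pow_mem hx 4) (one_mem _) this
  calc x * x * (x * x) = x ^ 4 := by rw [← pow_two, ← pow_two, ← pow_mul]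
    _ = 1 := h4

/-- The centraliser of `zz` and of the elementary eight. -/
def Xc : Subgroup G := centralizer ({K.zz} : Set G) ⊓ centralizer (K.Qy : Set G)

theorem Qy_le_Xc : K.Qy ≤ K.Xc := fun x hx =>
  ⟨mem_centralizer_singleton_iff.2 (K.Qy_comm hx).1, fun y hy => K.Qy_abelian hy hx⟩

instance Qy_normal : (K.Qy.subgroupOf K.Xc).Normal := ⟨fun y hy g => by
  rw [mem_subgroupOf] at hy ⊢
  have h := mem_centralizer_iff.1 g.2.2 _ hy
  show (g : G) * (y : G) * (g : G)⁻¹ ∈ K.Qy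
  rw [← h, mul_inv_cancel_right]
  exact hy⟩

/-- The quotient of `Xc` by the elementary eight. -/
abbrev L := ↥K.Xc ⧸ K.Qy.subgroupOf K.Xc

/-- The quotient map. -/
abbrev q : ↥K.Xc →* K.L := QuotientGroup.mk' (K.Qy.subgroupOf K.Xc)

theorem q_eq_one {x : ↥K.Xc} : K.q x = 1 ↔ (x : G) ∈ K.Qy :=
  (QuotientGroup.eq_one_iff x).trans mem_subgroupOf

theorem E_norm_Xc {e : G} (he : e ∈ K.E) {x : G} (hx : x ∈ K.Xc) : e * x * e⁻¹ ∈ K.Xc := by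
  have hez : Commute e K.zz := mem_centralizer_singleton_iff.1 he.2
  refine ⟨mem_centralizer_singleton_iff.2
    ((hez.mul_left (mem_centralizer_singleton_iff.1 hx.1)).mul_left hez.inv_left).eq, fun y hy => ?_⟩
  have hy' : e⁻¹ * y * e ∈ K.Qy := by simpa using K.E_norm_Qy (inv_mem he) hy
  have := mem_centralizer_iff.1 hx.2 _ hy'
  calc y * (e * x * e⁻¹) = e * ((e⁻¹ * y * e) * x) * e⁻¹ := by group
    _ = e * (x * (e⁻¹ * y * e)) * e⁻¹ := by rw [this]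
    _ = e * x * e⁻¹ * y := by group

theorem E_le_norm_Xc : K.E ≤ normalizer (K.Xc : Set G) :=
  K.E_le_norm fun _ he _ hx => K.E_norm_Xc he hx

theorem E_map_Qy (e : ↥K.E) : (K.Qy.subgroupOf K.Xc).map
    ((K.Xc.normalizerMonoidHom (inclusion K.E_le_norm_Xc e) : ↥K.Xc ≃* ↥K.Xc)).toMonoidHom =
      K.Qy.subgroupOf K.Xc := by
  refine eq_of_le_of_card_ge ?_ (card_map_of_injective (MulEquiv.injective _)).ge
  rintro _ ⟨x, hx, rfl⟩
  exact mem_subgroupOf.2 (K.E_norm_Qy e.2 (mem_subgroupOf.1 hx))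

/-- The action of `E` on the quotient. -/
def ψ : ↥K.E →* MulAut K.L :=
  MonoidHom.mk' (fun e => QuotientGroup.congr _ _
      (K.Xc.normalizerMonoidHom (inclusion K.E_le_norm_Xc e) : ↥K.Xc ≃* ↥K.Xc) (K.E_map_Qy e))
    fun a b => by
      refine MulEquiv.ext fun t => ?_
      induction t using QuotientGroup.induction_on with
      | H k =>
        show QuotientGroup.mk (K.Xc.normalizerMonoidHom (inclusion K.E_le_norm_Xc (a * b)) k) =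
          QuotientGroup.mk (K.Xc.normalizerMonoidHom (inclusion K.E_le_norm_Xc a)
            (K.Xc.normalizerMonoidHom (inclusion K.E_le_norm_Xc b) k))
        rw [map_mul, map_mul]
        rfl

theorem ψ_q (e : ↥K.E) (x : ↥K.Xc) :
    K.ψ e (K.q x) = K.q ⟨(e : G) * x * (e : G)⁻¹, K.E_norm_Xc e.2 x.2⟩ := rfl

/-- The preimage in `G`. -/
def pre (T : Subgroup K.L) : Subgroup G := (T.comap K.q).map K.Xc.subtype

theorem mem_pre {T : Subgroup K.L} {x : G} : x ∈ K.pre T ↔ ∃ h : x ∈ K.Xc, K.q ⟨x, h⟩ ∈ T := by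
  constructor
  · rintro ⟨y, hy, rfl⟩; exact ⟨y.2, hy⟩
  · rintro ⟨h, hx⟩; exact ⟨⟨x, h⟩, hx, rfl⟩

theorem Qy_le_pre (T : Subgroup K.L) : K.Qy ≤ K.pre T := fun x hx =>
  K.mem_pre.2 ⟨K.Qy_le_Xc hx, by rw [(K.q_eq_one (x := ⟨x, K.Qy_le_Xc hx⟩)).2 hx]; exact one_mem T⟩

theorem pre_coprime {T : Subgroup K.L} (hT : (Nat.card T).Coprime 3) : (Nat.card (K.pre T)).Coprime 3 := by
  haveI : Fact (Nat.Prime 3) := ⟨Nat.prime_three⟩
  refine ((Nat.Prime.coprime_iff_not_dvd Nat.prime_three).2 fun h => ?_).symm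
  obtain ⟨⟨x, hx⟩, ho⟩ := exists_prime_orderOf_dvd_card' 3 h
  obtain ⟨hxX, hq⟩ := K.mem_pre.1 hx
  have h3 : x ^ 3 = 1 := congrArg Subtype.val (ho ▸ pow_orderOf_eq_one (⟨x, hx⟩ : K.pre T))
  have hq3 : (K.q ⟨x, hxX⟩) ^ 3 = 1 := by
    rw [← map_pow, show (⟨x, hxX⟩ : ↥K.Xc) ^ 3 = 1 from Subtype.ext h3, map_one]
  have hy : x ∈ K.Qy := K.q_eq_one.1 (congrArg Subtype.val (orderOf_eq_one_iff.1
    (Nat.eq_one_of_dvd_coprimes hT (orderOf_dvd_natCard (⟨_, hq⟩ : T))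
      (orderOf_dvd_of_pow_eq_one (Subtype.ext hq3)))))
  rw [pow_succ, pow_two, (K.Qy_comm hy).2.2.2, one_mul] at h3
  subst h3
  rw [show (⟨1, hx⟩ : K.pre T) = 1 from rfl, orderOf_one] at ho
  omega

/-- The two images. -/
def Va : Subgroup K.L := (K.Qa.subgroupOf K.Xc).map K.q

/-- The second image. -/
def Vb : Subgroup K.L := (K.Qb.subgroupOf K.Xc).map K.q

theorem Qy_comm_Qb (hy : ∀ x ∈ K.Qa, ∀ y ∈ K.Qy, Commute x y) {x y : G} (hx : x ∈ K.Qb) (hy' : y ∈ K.Qy) :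
    Commute x y := by
  have := r2_commute (F := F) (hy _ (K.mem_Qb.1 hx) y hy').eq
  rwa [r2_twice, K.r2_Qy hy'] at this

theorem Qa_le_Xc (hy : ∀ x ∈ K.Qa, ∀ y ∈ K.Qy, Commute x y) : K.Qa ≤ K.Xc := fun x hx =>
  ⟨mem_centralizer_singleton_iff.2 (K.Qa_comm hx).2, fun y h => (hy x hx y h).symm.eq⟩

theorem Qb_le_Xc (hy : ∀ x ∈ K.Qa, ∀ y ∈ K.Qy, Commute x y) : K.Qb ≤ K.Xc := fun _ hx =>
  ⟨mem_centralizer_singleton_iff.2 (K.Qb_comm hx).2, fun _ h => (K.Qy_comm_Qb hy hx h).symm.eq⟩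

theorem inv_image {Q : Subgroup G} (hQ : ∀ e ∈ K.E, ∀ x ∈ Q, e * x * e⁻¹ ∈ Q) (e : ↥K.E) :
    ((Q.subgroupOf K.Xc).map K.q).map (K.ψ e).toMonoidHom = (Q.subgroupOf K.Xc).map K.q := by
  refine eq_of_le_of_card_ge ?_ (card_map_of_injective (MulEquiv.injective _)).ge
  rintro _ ⟨_, ⟨x, hx, rfl⟩, rfl⟩
  exact ⟨_, mem_subgroupOf.2 (hQ e e.2 _ (mem_subgroupOf.1 hx)), (K.ψ_q e x).symm⟩

theorem Va_inv (e : ↥K.E) : K.Va.map (K.ψ e).toMonoidHom = K.Va :=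
  K.inv_image (fun _ he _ hx => K.E_norm_Qa he hx) e

theorem Vb_inv (e : ↥K.E) : K.Vb.map (K.ψ e).toMonoidHom = K.Vb :=
  K.inv_image (fun _ he _ hx => K.E_norm_Qb he hx) e

theorem Va_sq (hy : ∀ x ∈ K.Qa, ∀ y ∈ K.Qy, Commute x y) {u : K.L} (hu : u ∈ K.Va) : u * u = 1 := by
  obtain ⟨x, hx, rfl⟩ := hu
  rw [← map_mul, K.q_eq_one]
  rcases K.Qa_sq (mem_subgroupOf.1 hx) with h | h <;> rw [Subgroup.coe_mul, h]
  · exact one_mem _
  · exact K.zz_mem_Qy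

theorem Va_comm (hy : ∀ x ∈ K.Qa, ∀ y ∈ K.Qy, Commute x y) {u v : K.L} (hu : u ∈ K.Va) (hv : v ∈ K.Va) :
    u * v = v * u := by
  rw [← inv_eq_of_mul_eq_one_right (K.Va_sq hy (mul_mem hu hv)), mul_inv_rev,
    inv_eq_of_mul_eq_one_right (K.Va_sq hy hu), inv_eq_of_mul_eq_one_right (K.Va_sq hy hv)]

theorem Va_ne (hy : ∀ x ∈ K.Qa, ∀ y ∈ K.Qy, Commute x y) : ∃ u ∈ K.Va, u ≠ 1 := by
  obtain ⟨x, hx, h1, h2⟩ := K.exists_Qa_outer
  refine ⟨_, ⟨⟨x, K.Qa_le_Xc hy hx⟩, mem_subgroupOf.2 hx, rfl⟩, fun h => ?_⟩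
  rcases K.Qa_inf_Qy hx (K.q_eq_one.1 h) with e | e
  · exact h1 e
  · exact h2 e

theorem Va_two : IsPGroup 2 K.Va :=
  ((K.Qa_two.comap_of_injective K.Xc.subtype K.Xc.subtype_injective)).map K.q

theorem Vb_two : IsPGroup 2 K.Vb :=
  (((K.Qa_two.map _) : IsPGroup 2 K.Qb).comap_of_injective K.Xc.subtype K.Xc.subtype_injective).map K.q

theorem coprime_of_two {T : Subgroup K.L} (h : IsPGroup 2 T) : (Nat.card T).Coprime 3 := by
  haveI : Fact (Nat.Prime 2) := ⟨Nat.prime_two⟩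
  obtain ⟨k, hk⟩ := IsPGroup.iff_card.1 h
  rw [hk]
  exact Nat.Coprime.pow_left k (by norm_num)

/-- An invariant `3'`-subgroup of the quotient is trivial or contains one of the two images. -/
theorem classify (hd : centralizer ({F.e 0 * F.e 1} : Set G) ≤ B.M) {T : Subgroup K.L}
    (hT : (Nat.card T).Coprime 3) (hinv : ∀ e, T.map (K.ψ e).toMonoidHom = T) :
    T = ⊥ ∨ K.Va ≤ T ∨ K.Vb ≤ T := by
  obtain ⟨P, hP⟩ : ∃ P, P = K.pre T := ⟨_, rfl⟩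
  have hPE : ∀ e ∈ K.E, ∀ x ∈ P, e * x * e⁻¹ ∈ P := by
    intro e he x hx
    subst hP
    obtain ⟨hxX, hq⟩ := K.mem_pre.1 hx
    refine K.mem_pre.2 ⟨K.E_norm_Xc he hxX, ?_⟩
    rw [← hinv ⟨e, he⟩]
    exact ⟨_, hq, K.ψ_q ⟨e, he⟩ ⟨x, hxX⟩⟩
  have himg : ∀ {Q : Subgroup G}, Q ≤ P → (Q.subgroupOf K.Xc).map K.q ≤ T := by
    intro Q hQ
    rintro _ ⟨x, hx, rfl⟩
    obtain ⟨h, hq⟩ := K.mem_pre.1 (hP ▸ hQ (mem_subgroupOf.1 hx))
    exact hq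
  by_cases ha : ∃ x ∈ P ⊓ K.Qa, x ≠ 1 ∧ x ≠ K.zz
  · obtain ⟨x, ⟨hxP, hxQ⟩, h1, h2⟩ := ha
    exact Or.inr (Or.inl (himg (K.Qa_irred (fun y hy => hPE _ K.e2_mem_E y hy) hxP hxQ h1 h2)))
  by_cases hb : ∃ x ∈ P ⊓ K.Qb, x ≠ 1 ∧ x ≠ K.zz
  · obtain ⟨x, ⟨hxP, hxQ⟩, h1, h2⟩ := hb
    exact Or.inr (Or.inr (himg (K.Qb_irred hPE hxP hxQ h1 h2)))
  left
  refine le_bot_iff.1 fun t ht => ?_
  obtain ⟨x, rfl⟩ := QuotientGroup.mk'_surjective (K.Qy.subgroupOf K.Xc) t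
  have hzP : ∀ {Q : Subgroup G}, ¬ (∃ x ∈ P ⊓ Q, x ≠ 1 ∧ x ≠ K.zz) → P ⊓ Q ≤ K.Qy := by
    intro Q h y hy
    by_cases h1 : y = 1
    · rw [h1]; exact one_mem _
    by_cases h2 : y = K.zz
    · rw [h2]; exact K.zz_mem_Qy
    exact absurd ⟨y, hy, h1, h2⟩ h
  have hle : P ≤ K.Qy :=
    (K.cover hd (hP ▸ K.pre_coprime hT) hPE (hP ▸ (fun y hy => (K.mem_pre.1 hy).1.1))).trans
      (sup_le (sup_le (hzP ha) (hzP hb)) inf_le_right)
  exact K.q_eq_one.2 (hle (hP ▸ K.mem_pre.2 ⟨x.2, ht⟩))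

/-- If the two images generate a nilpotent group of order prime to three, they commute. -/
theorem comm_of_nilpotent (hd : centralizer ({F.e 0 * F.e 1} : Set G) ≤ B.M)
    (hy : ∀ x ∈ K.Qa, ∀ y ∈ K.Qy, Commute x y)
    (hT : (Nat.card ↥(K.Va ⊔ K.Vb)).Coprime 3) (hn : Group.IsNilpotent ↥(K.Va ⊔ K.Vb)) :
    ∀ u ∈ K.Va, ∀ v ∈ K.Vb, u * v = v * u := by
  obtain ⟨T, hTdef⟩ : ∃ T, T = K.Va ⊔ K.Vb := ⟨_, rfl⟩
  rw [← hTdef] at hT hn
  have hTinv : ∀ e, T.map (K.ψ e).toMonoidHom = T := fun e => by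
    rw [hTdef, Subgroup.map_sup, K.Va_inv, K.Vb_inv]
  obtain ⟨Z, hZ⟩ : ∃ Z : Subgroup K.L, Z = T ⊓ centralizer (T : Set K.L) := ⟨_, rfl⟩
  have hZinv : ∀ e, Z.map (K.ψ e).toMonoidHom = Z := by
    intro e
    refine eq_of_le_of_card_ge ?_ (card_map_of_injective (MulEquiv.injective _)).ge
    rintro _ ⟨z, hz, rfl⟩
    rw [hZ] at hz ⊢
    refine ⟨(hTinv e).le ⟨z, hz.1, rfl⟩, fun w hw => ?_⟩
    obtain ⟨w', hw', rfl⟩ := (hTinv e).ge hw
    show K.ψ e w' * K.ψ e z = K.ψ e z * K.ψ e w'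
    rw [← map_mul, mem_centralizer_iff.1 hz.2 w' hw', map_mul]
  have hZne : Z ≠ ⊥ := by
    obtain ⟨u, hu, hu1⟩ := K.Va_ne hy
    haveI : Nontrivial ↥T := ⟨⟨u, hTdef ▸ mem_sup_left hu⟩, 1, fun e => hu1 (congrArg Subtype.val e)⟩
    obtain ⟨w, hw, hw1⟩ := ((Subgroup.center ↥T).bot_or_exists_ne_one).resolve_left
      (Group.IsNilpotent.center_ne_bot (G := ↥T))
    intro h
    have hwZ : (w : K.L) ∈ Z := hZ ▸ ⟨w.2, fun v hv =>
      congrArg Subtype.val (Subgroup.mem_center_iff.1 hw ⟨v, hv⟩)⟩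
    rw [h, Subgroup.mem_bot] at hwZ
    exact hw1 (Subtype.ext hwZ)
  intro u hu v hv
  rcases K.classify hd (Nat.Coprime.of_dvd_left (Subgroup.card_dvd_of_le (hZ ▸ inf_le_left)) hT) hZinv with
    h | h | h
  · exact absurd h hZne
  · exact ((hZ.le (h hu)).2 v (hTdef ▸ mem_sup_right hv)).symm
  · exact (hZ.le (h hv)).2 u (hTdef ▸ mem_sup_left hu)

/-- The images of `e 2` and `r 2`. -/
theorem e2_mem_Xc : F.e 2 ∈ K.Xc :=
  ⟨mem_centralizer_singleton_iff.2 K.zz_e2.symm, fun _ hy => (K.Qy_comm hy).2.1⟩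

theorem r2_mem_Xc : F.r 2 ∈ K.Xc :=
  ⟨mem_centralizer_singleton_iff.2 K.r2_zz, fun _ hy => (K.Qy_comm hy).2.2.1.symm.eq⟩

theorem q_e2_ne : K.q ⟨F.e 2, K.e2_mem_Xc⟩ ≠ 1 := fun h => by
  have h2 := (K.Qy_comm (K.q_eq_one.1 h)).2.2.2
  have h3 := K.E_exp K.e2_mem_E
  rw [pow_succ, pow_two, h2, one_mul] at h3
  have := K.sl_e2 (K.E_comm K.e2_mem_E K.a_mem_E)
  exact this.2 (by
    rw [show (⟨F.e 2, _⟩ : B.C) = 1 from Subtype.ext h3, map_one])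

theorem q_e2_three : (K.q ⟨F.e 2, K.e2_mem_Xc⟩) ^ 3 = 1 := by
  rw [← map_pow, show (⟨F.e 2, K.e2_mem_Xc⟩ : ↥K.Xc) ^ 3 = 1 from Subtype.ext (K.E_exp K.e2_mem_E), map_one]

theorem q_e2_cent {t : K.L} (h : t * K.q ⟨F.e 2, K.e2_mem_Xc⟩ = K.q ⟨F.e 2, K.e2_mem_Xc⟩ * t) :
    t ∈ zpowers (K.q ⟨F.e 2, K.e2_mem_Xc⟩) := by
  obtain ⟨g, rfl⟩ := QuotientGroup.mk'_surjective (K.Qy.subgroupOf K.Xc) t
  have hk : (g : G) * F.e 2 * (g : G)⁻¹ * (F.e 2)⁻¹ ∈ K.Qy := by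
    refine K.q_eq_one (x := g * ⟨F.e 2, K.e2_mem_Xc⟩ * g⁻¹ * ⟨F.e 2, K.e2_mem_Xc⟩⁻¹) |>.1 ?_
    rw [map_mul, map_mul, map_mul, map_inv, map_inv, h, mul_inv_cancel_right, mul_inv_cancel]
  obtain ⟨c, hc⟩ : ∃ c, c = (g : G) * F.e 2 * (g : G)⁻¹ * (F.e 2)⁻¹ := ⟨_, rfl⟩
  rw [← hc] at hk
  have hce : Commute c (F.e 2) := (K.Qy_comm hk).2.1
  have h3 : (c * F.e 2) ^ 3 = 1 := by
    rw [hc, inv_mul_cancel_right, conj_pow, K.E_exp K.e2_mem_E, mul_one, mul_inv_cancel]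
  rw [hce.mul_pow, K.E_exp K.e2_mem_E, mul_one, pow_succ, pow_two, (K.Qy_comm hk).2.2.2, one_mul] at h3
  rw [h3] at hc
  have hge : (g : G) * F.e 2 = F.e 2 * g := mul_inv_eq_iff_eq_mul.1 (mul_inv_eq_one.1 hc.symm)
  obtain ⟨n, σ, hσ⟩ := K.dec g hge
  have hσb : σ ∈ baseList := by
    refine base_self σ fun τ hτ => K.φ_inj ?_
    have h1 : Commute (g : G) (K.φ τ) := (mem_centralizer_iff.1 g.2.2 _ (K.mem_Qy.2 ⟨τ, hτ, rfl⟩)).symm
    have h2 : Commute (F.e 2 ^ n.val) (K.φ τ) :=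
      ((show Commute (K.φ τ) (F.e 2) from K.φ_comm τ).symm).pow_left _
    have h3 : K.φ σ = (F.e 2 ^ n.val)⁻¹ * g := by rw [hσ, inv_mul_cancel_left]
    rw [map_mul, map_mul, h3]
    exact (h2.inv_left.mul_left h1).eq
  have hgq : K.q g = K.q (⟨F.e 2, K.e2_mem_Xc⟩ ^ n.val * ⟨K.φ σ, K.Qy_le_Xc (K.mem_Qy.2 ⟨σ, hσb, rfl⟩)⟩) :=
    congrArg K.q (Subtype.ext hσ)
  rw [hgq, map_mul, map_pow, (K.q_eq_one (x := ⟨K.φ σ, _⟩)).2 (K.mem_Qy.2 ⟨σ, hσb, rfl⟩), mul_one]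
  exact pow_mem (mem_zpowers _) _

theorem nilpotent_case (hy : ∀ x ∈ K.Qa, ∀ y ∈ K.Qy, Commute x y)
    (N : Subgroup K.L) (hN : N.Normal) (hnil : Group.IsNilpotent N) (hco : (Nat.card N).Coprime 3)
    (hq : Nat.card (K.L ⧸ N) ∣ 6) :
    (Nat.card ↥(K.Va ⊔ K.Vb)).Coprime 3 ∧ Group.IsNilpotent ↥(K.Va ⊔ K.Vb) := by
  haveI := hN
  have hNe : ∀ e ∈ K.E, e = F.e 2 → ∀ y ∈ K.pre N, e * y * e⁻¹ ∈ K.pre N := by
    rintro e he rfl y hy
    obtain ⟨h, hq'⟩ := K.mem_pre.1 hy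
    refine K.mem_pre.2 ⟨K.E_norm_Xc he h, ?_⟩
    exact hN.conj_mem _ hq' (K.q ⟨F.e 2, K.e2_mem_Xc⟩)
  have hVa : K.Va ≤ N := by
    obtain ⟨f, hf⟩ : ∃ f : ↥K.Qa →* K.L ⧸ N,
      f = (QuotientGroup.mk' N).comp (K.q.comp (inclusion (K.Qa_le_Xc hy))) := ⟨_, rfl⟩
    have hd1 : Nat.card f.range ∣ 8 := K.card_Qa ▸ Subgroup.card_range_dvd f
    have hd2 : Nat.card f.range ∣ 6 := (Subgroup.card_subgroup_dvd_card _).trans hq
    have hr : Nat.card f.range ≤ 2 := Nat.le_of_dvd (by norm_num) (Nat.dvd_gcd hd1 hd2)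
    have hk : 2 < Nat.card f.ker := by
      have h := f.ker.card_eq_card_quotient_mul_card_subgroup
      rw [Nat.card_congr (QuotientGroup.quotientKerEquivRange f).toEquiv, K.card_Qa] at h
      by_contra hle
      have : Nat.card f.range * Nat.card f.ker ≤ 2 * 2 := Nat.mul_le_mul hr (not_lt.1 hle)
      omega
    obtain ⟨x, hx, h1, h2⟩ : ∃ x ∈ f.ker, (x : G) ≠ 1 ∧ (x : G) ≠ K.zz := by
      by_contra! hall
      have hsub : (f.ker : Set ↥K.Qa) ⊆ {1, ⟨K.zz, K.zz_mem_Qa⟩} := fun x hx => by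
        by_cases h1 : (x : G) = 1
        · exact Or.inl (Subtype.ext h1)
        · exact Or.inr (Subtype.ext (hall x hx h1))
      have := Set.ncard_le_ncard hsub (Set.toFinite _)
      rw [← Nat.card_coe_set_eq] at this
      have h2' := Set.ncard_insert_le (1 : ↥K.Qa) {⟨K.zz, K.zz_mem_Qa⟩}
      rw [Set.ncard_singleton] at h2'
      have : Nat.card f.ker ≤ 2 := this.trans h2'
      omega
    have hxN : (x : G) ∈ K.pre N := K.mem_pre.2 ⟨K.Qa_le_Xc hy x.2, by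
      rw [hf] at hx
      exact (QuotientGroup.eq_one_iff _).1 hx⟩
    rintro _ ⟨y, hy', rfl⟩
    exact (K.mem_pre.1 (K.Qa_irred (hNe _ K.e2_mem_E rfl) hxN x.2 h1 h2 (mem_subgroupOf.1 hy'))).2
  have hVb : K.Vb ≤ N := by
    rintro _ ⟨x, hy', rfl⟩
    have hr := K.r2_mem_Xc
    have hxa : F.r 2 * (x : G) * F.r 2 ∈ K.Qa := K.mem_Qb.1 (mem_subgroupOf.1 hy')
    have h1 : K.q ⟨F.r 2 * (x : G) * F.r 2, K.Qa_le_Xc hy hxa⟩ ∈ N :=
      hVa ⟨_, mem_subgroupOf.2 hxa, rfl⟩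
    have h2 := hN.conj_mem _ h1 (K.q ⟨F.r 2, hr⟩)
    rw [← map_inv, ← map_mul, ← map_mul] at h2
    have h3 : (⟨F.r 2, hr⟩ : ↥K.Xc) * ⟨F.r 2 * (x : G) * F.r 2, K.Qa_le_Xc hy hxa⟩ * ⟨F.r 2, hr⟩⁻¹ = x :=
      Subtype.ext (by
        show F.r 2 * (F.r 2 * (x : G) * F.r 2) * (F.r 2)⁻¹ = x
        rw [F.r_inv, r2_twice])
    rwa [h3] at h2
  haveI := hnil
  exact ⟨Nat.Coprime.of_dvd_left (Subgroup.card_dvd_of_le (sup_le hVa hVb)) hco,
    Group.nilpotent_of_mulEquiv (Subgroup.subgroupOfEquivOfLe (sup_le hVa hVb))⟩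

theorem five_case (hy : ∀ x ∈ K.Qa, ∀ y ∈ K.Qy, Commute x y) (e : K.L ≃* alternatingGroup (Fin 5)) : False := by
  obtain ⟨t, ⟨x, hx, rfl⟩, ht⟩ := K.Va_ne hy
  obtain ⟨c, hc⟩ : ∃ c, c = K.q ⟨F.e 2, K.e2_mem_Xc⟩ := ⟨_, rfl⟩
  obtain ⟨r, hr⟩ : ∃ r, r = K.q ⟨F.r 2, K.r2_mem_Xc⟩ := ⟨_, rfl⟩
  obtain ⟨α, hα⟩ : ∃ α, α = K.ψ ⟨B.a, K.a_mem_E⟩ := ⟨_, rfl⟩
  have hac : α c = c := by
    rw [hα, hc, ψ_q]
    exact congrArg K.q (Subtype.ext (by
      show B.a * F.e 2 * B.a⁻¹ = F.e 2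
      rw [K.E_comm K.a_mem_E K.e2_mem_E, mul_inv_cancel_right]))
  have hau : α (K.q x) = K.q x := by
    rw [hα, ψ_q]
    exact congrArg K.q (Subtype.ext (by
      show B.a * (x : G) * B.a⁻¹ = x
      rw [← (K.Qa_comm (mem_subgroupOf.1 hx)).1, mul_inv_cancel_right]))
  have har : α r = r * c := by
    rw [hα, hr, hc, ψ_q, ← map_mul]
    refine congrArg K.q (Subtype.ext ?_)
    show B.a * F.r 2 * B.a⁻¹ = F.r 2 * F.e 2
    have h1 : F.r 2 * B.a * F.r 2 * B.a⁻¹ = F.e 2 := by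
      show K.aa * B.a⁻¹ = F.e 2
      rw [K.aa_eq, ← F.toFrame.el_a, ← F.toFrame.el_neg, ← F.toFrame.el_add]
      exact congrArg F.el ((by decide +kernel :
        (![1, 1, -1] : Vec) + -(fun _ => 1) = evec 2))
    rw [← h1, ← mul_assoc, ← mul_assoc, ← mul_assoc, F.r_sq, one_mul]
  have hcyc : ∀ (n : ℕ) (v : K.L), α v = v → ((v * r) ^ n = 1 ↔ (v * r * c) ^ n = 1) := by
    intro n v hv
    have h : α ((v * r) ^ n) = (v * r * c) ^ n := by rw [map_pow, map_mul, hv, har, ← mul_assoc]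
    constructor
    · intro h1; rw [← h, h1, map_one]
    · intro h1; exact (map_eq_one_iff α α.injective).1 (h.trans h1)
  have hcu : α (c * K.q x * c⁻¹) = c * K.q x * c⁻¹ := by rw [map_mul, map_mul, map_inv, hac, hau]
  have huu : α (K.q x * (c * K.q x * c⁻¹)) = K.q x * (c * K.q x * c⁻¹) := by rw [map_mul, hau, hcu]
  have hue : c * K.q x * c⁻¹ ∈ K.Va := by
    rw [hc, ← map_inv, ← map_mul, ← map_mul]
    exact ⟨_, mem_subgroupOf.2 (K.E_norm_Qa K.e2_mem_E (mem_subgroupOf.1 hx)), rfl⟩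
  have hu : K.q x ∈ K.Va := ⟨x, hx, rfl⟩
  have hr2 : r * r = 1 := by
    rw [hr, ← map_mul, show (⟨F.r 2, K.r2_mem_Xc⟩ : ↥K.Xc) * ⟨F.r 2, K.r2_mem_Xc⟩ = 1 from
      Subtype.ext (F.r_sq 2), map_one]
  have hrc : r * c * r = c⁻¹ := by
    rw [hr, hc, ← map_mul, ← map_mul, ← map_inv]
    exact congrArg K.q (Subtype.ext K.r2_e2)
  have key : ∀ (n : ℕ) (v : K.L), α v = v →
      ((e v * e r) ^ n = 1 ↔ (e v * e r * e c) ^ n = 1) := by
    intro n v hv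
    rw [← map_mul, ← map_mul, ← map_pow, ← map_pow, e.map_eq_one_iff, e.map_eq_one_iff]
    exact hcyc n v hv
  have ev : e (c * K.q x * c⁻¹) = e c * e (K.q x) * (e c)⁻¹ := by rw [map_mul, map_mul, map_inv]
  have ew : e (K.q x * (c * K.q x * c⁻¹)) = e (K.q x) * (e c * e (K.q x) * (e c)⁻¹) := by rw [map_mul, ev]
  have k2 := fun n => key n _ hcu
  have k3 := fun n => key n _ huu
  rw [ev] at k2
  rw [ew] at k3
  refine five_orders (e c) ?_ ?_ (e (K.q x)) ?_ ?_ ?_ (e r) ?_ ?_ (key 2 _ hau) (key 3 _ hau) (key 5 _ hau)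
    (k2 2) (k2 3) (k2 5) (k3 2) (k3 3) (k3 5)
  · rw [← map_pow, hc, K.q_e2_three, map_one]
  · rw [Ne, e.map_eq_one_iff, hc]; exact K.q_e2_ne
  · rw [← map_mul, K.Va_sq hy hu, map_one]
  · rwa [Ne, e.map_eq_one_iff]
  · rw [← ev, ← map_mul, ← map_mul, K.Va_comm hy hu hue]
  · rw [← map_mul, hr2, map_one]
  · rw [← map_mul, ← map_mul, hrc, map_inv]

/-- **The two quaternion groups commute modulo the elementary eight.** -/
theorem comm_mod_Qy (hd : centralizer ({F.e 0 * F.e 1} : Set G) ≤ B.M)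
    (hy : ∀ x ∈ K.Qa, ∀ y ∈ K.Qy, Commute x y) :
    ∀ x ∈ K.Qa, ∀ y ∈ K.Qb, x * y * x⁻¹ * y⁻¹ ∈ K.Qy := by
  haveI : Fact (Nat.Prime 2) := ⟨Nat.prime_two⟩
  haveI : Fact (Nat.Prime 3) := ⟨Nat.prime_three⟩
  have hcl : ∀ u ∈ K.Va, ∀ v ∈ K.Vb, u * v = v * u := by
    have hX : Nat.card (zpowers (K.q ⟨F.e 2, K.e2_mem_Xc⟩)) = 3 := by
      rw [Nat.card_zpowers]
      exact orderOf_eq_prime K.q_e2_three K.q_e2_ne
    have hC : centralizer ((zpowers (K.q ⟨F.e 2, K.e2_mem_Xc⟩) : Subgroup K.L) : Set K.L) =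
        zpowers (K.q ⟨F.e 2, K.e2_mem_Xc⟩) := by
      refine le_antisymm (fun g hg => K.q_e2_cent (hg _ (mem_zpowers _)).symm) fun g hg y hy => ?_
      obtain ⟨i, rfl⟩ := mem_zpowers_iff.1 hg
      obtain ⟨j, rfl⟩ := mem_zpowers_iff.1 hy
      exact ((Commute.refl _).zpow_zpow j i).eq
    rcases Cfsg.Agent.S3331.result _ hX hC with ⟨N, hN, hnil, hco, hq⟩ | ⟨N, hN, hNc, hsq, ⟨e⟩⟩ | ⟨⟨e⟩⟩
    · obtain ⟨h1, h2⟩ := K.nilpotent_case hy N hN hnil hco (by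
        rcases hq with h | ⟨⟨e⟩⟩
        · rw [h]; norm_num
        · rw [Nat.card_congr e.toEquiv, Nat.card_perm, Nat.card_fin]; norm_num [Nat.factorial])
      exact K.comm_of_nilpotent hd hy h1 h2
    · haveI := hN
      by_cases hb : N = ⊥
      · subst hb
        exact (K.five_case hy (QuotientGroup.quotientBot.symm.trans e)).elim
      have hN2 : IsPGroup 2 N := fun n => ⟨1, Subtype.ext (by
        rw [SubgroupClass.coe_pow, pow_one]; exact hsq _ n.2)⟩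
      have hinv : ∀ f, N.map (K.ψ f).toMonoidHom = N := by
        intro f
        refine eq_of_le_of_card_ge ?_ (card_map_of_injective (MulEquiv.injective _)).ge
        intro w hw
        haveI : (N.map (K.ψ f).toMonoidHom).Normal := hN.map _ (MulEquiv.surjective _)
        have hwsq : ∀ v ∈ N.map (K.ψ f).toMonoidHom, v * v = 1 := by
          rintro _ ⟨v, hv, rfl⟩
          rw [← map_mul, ← pow_two, hsq v hv, map_one]
        by_contra hwN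
        obtain ⟨s, hs⟩ : ∃ s, s = e (QuotientGroup.mk' N w) := ⟨_, rfl⟩
        have hs2 : s * s = 1 := by rw [hs, ← map_mul, ← map_mul, hwsq w hw, map_one, map_one]
        have hs1 : s ≠ 1 := fun h => hwN (by
          rw [hs, e.map_eq_one_iff] at h
          exact (QuotientGroup.eq_one_iff w).1 h)
        obtain ⟨g, hg⟩ := five_four_normal s hs2 hs1
        obtain ⟨g', hg'⟩ := (e.surjective.comp (QuotientGroup.mk'_surjective N)) g
        refine hg ?_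
        rw [← hg', hs, Function.comp_apply, ← map_inv e, ← map_inv (QuotientGroup.mk' N), ← map_mul,
          ← map_mul, ← map_mul, ← map_mul, ← map_mul, ← map_mul, ← map_mul, ← map_mul,
          hwsq _ (mul_mem hw ((inferInstance : (N.map (K.ψ f).toMonoidHom).Normal).conj_mem w hw g')),
          map_one, map_one]
      have h2 : IsPGroup 2 ↥(K.Va ⊔ K.Vb) := by
        rcases K.classify hd (K.coprime_of_two hN2) hinv with h | h | h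
        · exact absurd h hb
        · exact (hN2.to_sup_of_normal_left K.Vb_two).to_le (sup_le_sup_right h _)
        · exact (K.Va_two.to_sup_of_normal_right hN2).to_le (sup_le_sup_left h _)
      exact K.comm_of_nilpotent hd hy (K.coprime_of_two h2) h2.isNilpotent
    · exfalso
      haveI : Fact (Nat.Prime 7) := ⟨by norm_num⟩
      have hc : Nat.card K.L = 168 := by
        rw [Nat.card_congr e.toEquiv]
        exact CfsgLib.Classical.card_psl_two_eq (ZMod.card 7) 168 (by norm_num)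
      letI : MulDistribMulAction ↥K.E K.L := MulDistribMulAction.compHom K.L K.ψ
      obtain ⟨S, hS⟩ := (show IsPGroup 3 ↥K.E from B.J_pgroup.to_le inf_le_left).nonempty_fixed_point_of_prime_not_dvd_card
        (Sylow 7 K.L) (not_three_dvd_sylow_seven hc)
      obtain ⟨k, hk⟩ := IsPGroup.iff_card.1 S.2
      have hSc : (Nat.card (S : Subgroup K.L)).Coprime 3 := by
        rw [hk]; exact Nat.Coprime.pow_left k (by norm_num)
      have hSinv : ∀ f, (S : Subgroup K.L).map (K.ψ f).toMonoidHom = S := fun f =>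
        congrArg (fun T : Sylow 7 K.L => (T : Subgroup K.L)) (hS f)
      rcases K.classify hd hSc hSinv with h | h | h
      · exact S.ne_bot_of_dvd_card (hc ▸ by norm_num) h
      all_goals
        obtain ⟨u, hu, hu1⟩ := K.Va_ne hy
      · have h2 : orderOf u ∣ 2 := orderOf_dvd_of_pow_eq_one (by rw [pow_two]; exact K.Va_sq hy hu)
        have h7 : orderOf u ∣ 7 ^ k := hk ▸ Subgroup.orderOf_dvd_natCard _ (h hu)
        exact hu1 (orderOf_eq_one_iff.1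
          (Nat.eq_one_of_dvd_coprimes (Nat.Coprime.pow_right k (by norm_num)) h2 h7))
      · obtain ⟨x, hx, rfl⟩ := hu
        have hxb : F.r 2 * (x : G) * F.r 2 ∈ K.Qb := K.mem_Qb.2 (by
          rw [r2_twice]; exact mem_subgroupOf.1 hx)
        obtain ⟨w, hw⟩ : ∃ w, w = K.q ⟨F.r 2 * (x : G) * F.r 2, K.Qb_le_Xc hy hxb⟩ := ⟨_, rfl⟩
        have hwV : w ∈ K.Vb := hw ▸ ⟨_, mem_subgroupOf.2 hxb, rfl⟩
        have hw2 : w ^ 2 = 1 := by
          rw [hw, ← map_pow, K.q_eq_one, SubgroupClass.coe_pow, r2_pow, pow_two (x : G)]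
          rcases K.Qa_sq (mem_subgroupOf.1 hx) with h' | h' <;> rw [h']
          · rw [mul_one, F.r_sq]; exact one_mem _
          · rw [K.r2_zz']; exact K.zz_mem_Qy
        have h2 : orderOf w ∣ 2 := orderOf_dvd_of_pow_eq_one hw2
        have h7 : orderOf w ∣ 7 ^ k := hk ▸ Subgroup.orderOf_dvd_natCard _ (h hwV)
        have hw1 : w = 1 := orderOf_eq_one_iff.1
          (Nat.eq_one_of_dvd_coprimes (Nat.Coprime.pow_right k (by norm_num)) h2 h7)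
        rw [hw, K.q_eq_one] at hw1
        refine hu1 (K.q_eq_one.2 ?_)
        have := K.r2_Qy hw1
        rw [r2_twice] at this
        rw [this]
        exact hw1
  intro x hx y hyb
  obtain ⟨u, hu⟩ : ∃ u : ↥K.Xc, u = ⟨x, K.Qa_le_Xc hy hx⟩ := ⟨_, rfl⟩
  obtain ⟨v, hv⟩ : ∃ v : ↥K.Xc, v = ⟨y, K.Qb_le_Xc hy hyb⟩ := ⟨_, rfl⟩
  have h := hcl (K.q u) ⟨u, mem_subgroupOf.2 (hu ▸ hx), rfl⟩ (K.q v) ⟨v, mem_subgroupOf.2 (hv ▸ hyb), rfl⟩
  have h2 : ((u * v * u⁻¹ * v⁻¹ : ↥K.Xc) : G) ∈ K.Qy := K.q_eq_one.1 (by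
    rw [map_mul, map_mul, map_mul, map_inv, map_inv, h, mul_inv_cancel_right, mul_inv_cancel])
  simpa [hu, hv] using h2

end SixChart

end CfsgLib.Recog.SpSixThree
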