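import Cfsg.Agent.Lib.Recog.SpSixThree.HSixBase
import Cfsg.Agent.Lib.Recog.SpSixThree.HPair
import Cfsg.Agent.Lib.Recog.SpSixThree.HCount
import Cfsg.Agent.Lib.Recog.SpSixThree.HModel
import Cfsg.Agent.Lib.Recog.SpSixThree.Close

/-!
# The case `C(e₂) = 3 × S₆`: the group is `Sp₆(2)`
-/

set_option autoImplicit false
set_option linter.unusedSectionVars false
set_option synthInstance.maxSize 20000

namespace CfsgLib.Recog.SpSixThree

open Equiv Subgroup

universe u v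

variable {G : Type u} [Group G] [Finite G] {B : Base G}

theorem six {FF : FullFrame B} (hS : FF.Six)
    (nb : ∀ K : SixChart FF, centralizer ({FF.e 0 * FF.e 1} : Set G) ≤ B.M →
      (∀ p ∈ K.Qa, ∀ q ∈ K.Qb, p * q = q * p) → (∀ x ∈ K.La, x ∈ K.Qy → x ∈ zpowers K.zz) → False)
    (ef : ∀ (K : SixChart FF) (c : K.Cfg), centralizer ({FF.e 0 * FF.e 1} : Set G) ≤ B.M → ∀ g ∈ K.Cz,
      ∃ w ∈ c.W, ∃ e ∈ K.E, ∃ t, K.IsT t ∧ g = w * e * t)
    (F₂ : Type v) [Field F₂] [Fintype F₂] (hF₂ : Fintype.card F₂ = 2) :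
    Nonempty (G ≃* Matrix.symplecticGroup (Fin 3) F₂) := by
  obtain ⟨K⟩ := exists_chart hS
  have hd : centralizer ({FF.e 0 * FF.e 1} : Set G) ≤ B.M := FF.cent_d
  have hy : ∀ x ∈ K.Qa, ∀ y ∈ K.Qy, Commute x y := by
    rcases K.La_inf_Qy_cases with h | hyL
    · exact fun x hx y hy => (h y hy x hx).symm
    · rcases K.La_inf_Qb_cases with h | hbL
      · exact (nb K hd (fun p hp q hq => (h q hq p hp).symm) hyL).elim
      · exact (K.not_small hd hbL hyL).elim
  obtain ⟨ψ, hinj, hgen⟩ := K.exists_hom_sp (K.comm_of_local hy (K.comm_mod_Qy hd hy))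
  have hab := K.comm_ab hgen hinj
  let c : K.Cfg :=
    { Zg := K.Qy
      cases := Or.inr rfl
      hab := hab
      hza := fun z hz p hp => (hy p hp z hz).eq.symm
      hy := fun _ _ hx => hx }
  refine K.iso_sp hinj hgen (fun g hg => ?_) F₂ hF₂
  obtain ⟨w, hw, e, he, t, ht, rfl⟩ := ef K c hd g hg
  obtain ⟨p, hp, q, hq, z, hz, rfl⟩ := hw
  refine mul_mem (mul_mem (mul_mem (mul_mem (K.Qa_le_range hgen hinj hp) (K.Qb_le_range hgen hinj hq))
    (K.Qy_le_range hgen hz)) (K.E_le_range hgen he)) ?_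
  have r := K.r_mem_range hgen
  rcases ht with rfl | rfl | rfl | rfl
  exacts [one_mem _, r 2, mul_mem (r 0) (r 1), mul_mem (mul_mem (r 0) (r 1)) (r 2)]

end CfsgLib.Recog.SpSixThree
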