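import Cfsg.Agent.Lib.Recog.SpSixThree.HomLocal
import Cfsg.Agent.Lib.Recog.SpSixThree.Sylow
import Cfsg.Agent.Lib.Recog.SpSixThree.Act
import Cfsg.Agent.Lib.Recog.SpSixThree.Cases
import Cfsg.Agent.Lib.Recog.SpSixThree.FramePlane
import Cfsg.Agent.Lib.Coprime.Generation

/-!
The centraliser of the involution `z`: the two quaternion groups, the elementary eight, and the covering of
the invariant `3'`-subgroups by them.
-/

set_option autoImplicit false
set_option linter.style.haveILetI false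
set_option linter.unusedSectionVars false
set_option synthInstance.maxSize 20000

namespace CfsgLib.Recog.SpSixThree

open Equiv Subgroup

universe u

/-- the exchange of the two blocks -/
def tauP : Perm (Fin 6) := swap 0 3 * swap 1 4 * swap 2 5

/-- the product of the two three-cycles -/
def cycP : Perm (Fin 6) := swap 0 1 * swap 1 2 * (swap 3 4 * swap 4 5)

/-- the elementary eight -/
def baseList : List (Perm (Fin 6)) :=
  [1, swap 0 3, swap 1 4, swap 2 5, swap 0 3 * swap 1 4, swap 0 3 * swap 2 5, swap 1 4 * swap 2 5, tauP]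

theorem base_facts :
    (∀ a ∈ baseList, ∀ b ∈ baseList, a * b ∈ baseList) ∧
    (∀ a ∈ baseList, a⁻¹ = a ∧ a * tauP = tauP * a ∧ cycP * a * cycP⁻¹ ∈ baseList) ∧
    baseList.Nodup := by decide +kernel

theorem base_two : ∀ σ : Perm (Fin 6), σ * tauP = tauP * σ → σ ^ 4 = 1 →
    (σ * (cycP * σ * cycP⁻¹)) ^ 4 = 1 → σ ∈ baseList := by decide +kernel

theorem base_irred : ∀ x ∈ baseList, x ≠ 1 → x ≠ tauP → ∀ y ∈ baseList,
    y ∈ [1, x, cycP * x * cycP⁻¹, x * (cycP * x * cycP⁻¹), tauP, tauP * x, tauP * (cycP * x * cycP⁻¹),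
      tauP * (x * (cycP * x * cycP⁻¹))] := by decide +kernel

theorem tau_exp : ∀ σ : Perm (Fin 6), σ * tauP = tauP * σ → σ ^ 12 = 1 := by decide +kernel

theorem sl_four : (∀ x y : SLT, x ^ 4 = 1 → y ^ 4 = 1 → (x * y) ^ 4 = 1) ∧
    (∀ x : SLT, x ^ 8 = 1 → x ^ 4 = 1) ∧ (∀ x : SLT, x * x = 1 → x = 1 ∨ x = -1) ∧
    (∀ x : SLT, x ^ 4 = 1 → (∀ y : SLT, y ^ 4 = 1 → x * y = y * x) → x = 1 ∨ x = -1) ∧
    ((Finset.univ : Finset SLT).filter fun x => x ^ 4 = 1).card = 8 := by decide +kernel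

theorem vec_E : ∀ v : Vec, v 0 = v 1 → v ≠ 0 → ∃ m : Fin 3,
    m.val • v = (fun _ => 1) ∨ m.val • v = (![1, 1, -1] : Vec) ∨ m.val • v = evec 2 ∨
      m.val • v = evec 0 + evec 1 := by decide +kernel

theorem vec_E_gen : ∀ v : Vec, v 0 = v 1 →
    ∃ i j : Fin 3, v = i.val • (fun _ => 1 : Vec) + j.val • evec 2 := by decide +kernel

theorem vec_E' : ∀ v : Vec, v 0 = v 1 →
    ∃ i j : Fin 3, v = i.val • (fun _ => 1 : Vec) + j.val • (![1, 1, -1] : Vec) := by decide +kernel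

theorem code_id : ∀ v : Vec, sact ((fun _ => false), 1) v = v := by decide +kernel

theorem code_swap : ∀ w : Code, (∀ v : Vec, v 0 = v 1 → sact w v = v) →
    w = ((fun _ => false), 1) ∨ w = ((fun _ => false), swap 0 1) := by decide +kernel

theorem code_sum : ∀ w : Code, (∀ v : Vec, sact w (fun j => v (swap (0 : Fin 3) 1 j)) =
      fun j => sact w v (swap (0 : Fin 3) 1 j)) →
    sact w (fun _ => 1) = (fun _ => 1) → (∀ v : Vec, sact w (sact w (sact w v)) = v) →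
    ∀ v : Vec, sact w v = v := by decide +kernel

theorem code_image : ∀ w : Code, sact w (fun _ => 1) = (fun _ => 1) →
    (∀ v : Vec, sact w (sact w (sact w v)) = v) → (∃ v : Vec, sact w v ≠ v) →
    ∀ v : Vec, v 0 + v 1 + v 2 = 0 → ∃ u : Vec, v = sact w u - u := by decide +kernel

theorem vec_sum_zero : Nat.card {v : Vec // v 0 + v 1 + v 2 = 0} = 9 := by
  rw [Nat.card_eq_fintype_card]; decide +kernel

theorem vec_diag : ∀ v : Vec, v 0 = v 1 → v 0 + v 1 + v 2 = 0 → ∃ k : Fin 3, v = k.val • (fun _ => 1 : Vec) := by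
  decide +kernel

variable {G : Type u} [Group G] [Finite G] {B : Base G} {F : FullFrame B}

namespace SixChart

variable (K : SixChart F)

/-- The involution. -/
def zz (_ : SixChart F) : G := F.p (swap 0 1)

/-- The second conjugate of `a` centralised by `zz`. -/
def aa (_ : SixChart F) : G := F.r 2 * B.a * F.r 2

/-- The part of `J` centralised by `zz`. -/
def E : Subgroup G := B.J ⊓ centralizer ({K.zz} : Set G)

/-- The quaternion group over `a`. -/
def Qa : Subgroup G := closure {x : G | x * B.a = B.a * x ∧ x * K.zz = K.zz * x ∧ x ^ 4 = 1}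

/-- The quaternion group over `aa`. -/
def Qb : Subgroup G := K.Qa.map (MulAut.conj (F.r 2)).toMonoidHom

/-- The elementary eight over `e 2`. -/
def Qy : Subgroup G := closure (K.φ '' {σ | σ ∈ baseList})

theorem zz_eq : K.zz = K.φ tauP := K.φ_p.symm

theorem zz_sq : K.zz * K.zz = 1 := by
  rw [K.zz_eq, ← map_mul, show tauP * tauP = 1 by decide +kernel, map_one]

theorem zz_inv : K.zz⁻¹ = K.zz := inv_eq_of_mul_eq_one_right K.zz_sq

theorem zz_ne : K.zz ≠ 1 := by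
  rw [K.zz_eq, ← map_one K.φ]
  exact fun e => absurd (K.φ_inj e) (by decide +kernel)

theorem zz_el (v : Vec) : K.zz * F.el v * K.zz⁻¹ = F.el (fun j => v (swap 0 1 j)) := by
  have := F.p_el (swap 0 1) v
  rwa [Equiv.symm_swap] at this

theorem el_mem_E {v : Vec} (hv : v 0 = v 1) : F.el v ∈ K.E := by
  refine ⟨F.toFrame.el_mem v, mem_centralizer_singleton_iff.2 ?_⟩
  have h : (fun j => v (swap (0 : Fin 3) 1 j)) = v := by
    funext j
    fin_cases j <;> simp [swap_apply_def, hv]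
  have := K.zz_el v
  rw [h] at this
  exact (mul_inv_eq_iff_eq_mul.1 this).symm

theorem exists_vec_E {x : G} (hx : x ∈ K.E) : ∃ v : Vec, v 0 = v 1 ∧ x = F.el v := by
  obtain ⟨v, rfl⟩ := F.toFrame.exists_el hx.1
  refine ⟨v, ?_, rfl⟩
  have h2 := K.zz_el v
  rw [← mem_centralizer_singleton_iff.1 hx.2, mul_inv_cancel_right] at h2
  have := congrFun (F.toFrame.el_inj.1 h2) 0
  simpa using this

theorem zz_a : K.zz * B.a = B.a * K.zz := by
  rw [← F.toFrame.el_a]
  exact (mem_centralizer_singleton_iff.1 (K.el_mem_E (v := fun _ => 1) rfl).2).symm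

theorem zz_mem_C : K.zz ∈ B.C := mem_centralizer_singleton_iff.2 K.zz_a

theorem zz_e2 : K.zz * F.e 2 = F.e 2 * K.zz := by
  rw [K.zz_eq]; exact K.φ_comm _

theorem r2_zz : F.r 2 * K.zz = K.zz * F.r 2 := by
  rw [K.zz_eq]
  conv_rhs => rw [← K.φ_r2 tauP, mul_assoc, F.r_sq, mul_one]

theorem r2_el (v : Vec) : F.r 2 * F.el v * F.r 2 = F.el (Function.update v 2 (-v 2)) := F.r_el 2 v

theorem aa_eq : K.aa = F.el (![1, 1, -1] : Vec) := by
  rw [aa, ← F.toFrame.el_a, r2_el]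
  congr 1
  funext j
  fin_cases j <;> simp [Function.update]

theorem aa_mem_E : K.aa ∈ K.E := by rw [K.aa_eq]; exact K.el_mem_E rfl

theorem a_mem_E : B.a ∈ K.E := by rw [← F.toFrame.el_a]; exact K.el_mem_E rfl

theorem e2_mem_E : F.e 2 ∈ K.E := K.el_mem_E (v := evec 2) (by decide)

theorem aa_cube : K.aa ^ 3 = 1 := B.J_exp _ K.aa_mem_E.1

theorem zz_mem_cent : K.zz ∈ centralizer ({K.zz} : Set G) := mem_centralizer_singleton_iff.2 rfl

theorem E_le_cent : K.E ≤ centralizer ({K.zz} : Set G) := inf_le_right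

theorem sl_zz : B.sl ⟨K.zz, K.zz_mem_C⟩ = -1 := by
  have h2 : B.sl ⟨K.zz, K.zz_mem_C⟩ * B.sl ⟨K.zz, K.zz_mem_C⟩ = 1 := by
    rw [← map_mul, show (⟨K.zz, K.zz_mem_C⟩ : B.C) * ⟨K.zz, K.zz_mem_C⟩ = 1 from Subtype.ext K.zz_sq, map_one]
  rcases sl_four.2.2.1 _ h2 with h | h
  · exfalso
    refine K.zz_ne ?_
    have hR := (B.mem_R_iff K.zz_mem_C).2 h
    have h3 := B.R_exp _ hR
    rwa [pow_succ, pow_two, K.zz_sq, one_mul] at h3
  · exact h

/-- The fixed points of `zz` on `R`. -/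
theorem R_cent {x : G} (hx : x ∈ B.R) (hc : x * K.zz = K.zz * x) : x ∈ zpowers B.a := by
  have hxM : x ∈ B.M := B.P0_le_M (B.R_le_P0 hx)
  -- the shape of `J ⊓ R`
  have hsum : ∀ v : Vec, F.el v ∈ B.R → v 0 + v 1 + v 2 = 0 := by
    obtain ⟨y, hyR, hyJ⟩ := B.exists_y
    obtain ⟨w, hw⟩ := F.toFrame.code (y : G) y.2
    have hfix : sact w (fun _ => 1) = (fun _ => 1) := by
      refine F.toFrame.el_inj.1 ((hw _).symm.trans ?_)
      show (y : G) * F.el (fun _ => 1) * (y : G)⁻¹ = F.el (fun _ => 1)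
      rw [F.toFrame.el_a, B.comm_a (B.R_le hyR), mul_inv_cancel_right]
    have hthree : ∀ v : Vec, sact w (sact w (sact w v)) = v := fun v => by
      refine F.toFrame.el_inj.1 ?_
      show F.el (sact w (sact w (sact w v))) = F.el v
      have hy3 : (y : G) * y * y = 1 := by
        have := B.R_exp _ hyR
        rwa [pow_succ, pow_two] at this
      calc F.el (sact w (sact w (sact w v))) = (y : G) * ((y : G) * ((y : G) * F.el v * (y : G)⁻¹) * (y : G)⁻¹) * (y : G)⁻¹ := by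
            unfold Frame.el; rw [hw, hw, hw]
        _ = ((y : G) * y * y) * F.el v * ((y : G) * y * y)⁻¹ := by group
        _ = F.el v := by rw [hy3]; group
    have hmove : ∃ v : Vec, sact w v ≠ v := by
      by_contra hcon
      push Not at hcon
      refine hyJ ?_
      rw [← B.cent_J]
      refine mem_centralizer_iff.2 fun j hj => ?_
      obtain ⟨v, rfl⟩ := F.toFrame.exists_el hj
      have := hw v
      rw [hcon v] at this
      exact (mul_inv_eq_iff_eq_mul.1 this).symm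
    let f : {v : Vec // v 0 + v 1 + v 2 = 0} → ↥(B.J ⊓ B.R) := fun v => ⟨F.el v.1, F.toFrame.el_mem _, by
      obtain ⟨u, hu⟩ := code_image w hfix hthree hmove v.1 v.2
      rw [hu, sub_eq_add_neg, F.toFrame.el_add, F.toFrame.el_neg]
      have e : F.el (sact w u) * (F.el u)⁻¹ = (y : G) * (F.el u * (y : G)⁻¹ * (F.el u)⁻¹) := by
        unfold Frame.el; rw [← hw]; group
      rw [e]
      exact mul_mem hyR ((mem_normalizer_iff.1 (B.C_le_norm_R (B.J_le (F.toFrame.el_mem u))) _).1 (inv_mem hyR))⟩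
    have hf : Function.Injective f := fun a b e => Subtype.ext (F.toFrame.el_inj.1 (congrArg Subtype.val e))
    haveI := Fintype.ofFinite ↥(B.J ⊓ B.R)
    have hb : Function.Bijective f := (Nat.bijective_iff_injective_and_card f).2
      ⟨hf, by rw [vec_sum_zero, B.card_J_inf_R]⟩
    intro v hv
    obtain ⟨⟨u, hu⟩, e⟩ := hb.2 ⟨F.el v, F.toFrame.el_mem v, hv⟩
    rw [← F.toFrame.el_inj.1 (congrArg Subtype.val e)]
    exact hu
  obtain ⟨w, hw⟩ := F.toFrame.code x hxM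
  have hcomm : ∀ v : Vec, sact w (fun j => v (swap (0 : Fin 3) 1 j)) = fun j => sact w v (swap (0 : Fin 3) 1 j) := by
    intro v
    refine F.toFrame.el_inj.1 ?_
    rw [← K.zz_el]
    unfold Frame.el
    rw [← hw, ← hw]
    show x * F.el _ * x⁻¹ = K.zz * (x * F.el v * x⁻¹) * K.zz⁻¹
    rw [← K.zz_el]
    calc x * (K.zz * F.el v * K.zz⁻¹) * x⁻¹ = (x * K.zz) * F.el v * (x * K.zz)⁻¹ := by group
      _ = (K.zz * x) * F.el v * (K.zz * x)⁻¹ := by rw [hc]
      _ = _ := by group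
  have hfix : sact w (fun _ => 1) = (fun _ => 1) := by
    refine F.toFrame.el_inj.1 ((hw _).symm.trans ?_)
    show x * F.el (fun _ => 1) * x⁻¹ = F.el (fun _ => 1)
    rw [F.toFrame.el_a, B.comm_a (B.R_le hx), mul_inv_cancel_right]
  have hthree : ∀ v : Vec, sact w (sact w (sact w v)) = v := fun v => by
    refine F.toFrame.el_inj.1 ?_
    show F.el (sact w (sact w (sact w v))) = F.el v
    have hx3 : x * x * x = 1 := by
      have := B.R_exp _ hx
      rwa [pow_succ, pow_two] at this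
    calc F.el (sact w (sact w (sact w v))) = x * (x * (x * F.el v * x⁻¹) * x⁻¹) * x⁻¹ := by
          unfold Frame.el; rw [hw, hw, hw]
      _ = (x * x * x) * F.el v * (x * x * x)⁻¹ := by group
      _ = F.el v := by rw [hx3]; group
  have hall := code_sum w hcomm hfix hthree
  have hxJ : x ∈ B.J := by
    rw [← B.cent_J]
    refine mem_centralizer_iff.2 fun j hj => ?_
    obtain ⟨v, rfl⟩ := F.toFrame.exists_el hj
    have := hw v
    rw [hall v] at this
    exact (mul_inv_eq_iff_eq_mul.1 this).symm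
  obtain ⟨v, hv, rfl⟩ := K.exists_vec_E ⟨hxJ, mem_centralizer_singleton_iff.2 hc⟩
  obtain ⟨k, rfl⟩ := vec_diag v hv (hsum v hx)
  rw [F.toFrame.el_nsmul]
  show F.el (fun _ => 1) ^ k.val ∈ _
  rw [F.toFrame.el_a]
  exact Subgroup.pow_mem _ (mem_zpowers _) _

theorem mem_C {x : G} (h : x * B.a = B.a * x) : x ∈ B.C := mem_centralizer_singleton_iff.2 h

/-- Elements of `C(a) ⊓ C(zz)` with trivial image. -/
theorem sl_one {x : G} (hx : x * B.a = B.a * x) (hz : x * K.zz = K.zz * x)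
    (h : B.sl ⟨x, mem_C hx⟩ = 1) : x ∈ zpowers B.a :=
  K.R_cent ((B.mem_R_iff (mem_C hx)).2 h) hz

/-- `C(a) ⊓ C(zz)` covers `SL₂(3)`. -/
theorem exists_lift (s : SLT) : ∃ x : G, ∃ hx : x * B.a = B.a * x, x * K.zz = K.zz * x ∧
    B.sl ⟨x, mem_C hx⟩ = s := by
  obtain ⟨⟨c, hc⟩, rfl⟩ := B.sl_surj s
  have hzi := K.zz_inv
  set z' := c * K.zz * c⁻¹ with hz'
  have hz'C : z' ∈ B.C := mul_mem (mul_mem hc K.zz_mem_C) (inv_mem hc)
  have ho : K.zz * z' ∈ B.R := by
    refine (B.mem_R_iff (mul_mem K.zz_mem_C hz'C)).2 ?_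
    rw [show (⟨K.zz * z', mul_mem K.zz_mem_C hz'C⟩ : B.C) =
      ⟨K.zz, K.zz_mem_C⟩ * (⟨c, hc⟩ * ⟨K.zz, K.zz_mem_C⟩ * ⟨c, hc⟩⁻¹) from Subtype.ext rfl, map_mul, map_mul,
      map_mul, map_inv, K.sl_zz, ← sl_neg_comm (B.sl ⟨c, hc⟩), mul_inv_cancel_right, sl_neg_sq]
  set o := K.zz * z' with ho'
  have hinv : K.zz * o * K.zz = o⁻¹ := by
    rw [ho', ← mul_assoc, K.zz_sq, one_mul, mul_inv_rev, hzi]
    congr 1
    rw [hz', mul_inv_rev, mul_inv_rev, inv_inv, hzi, mul_assoc]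
  have h3 : o * o * o = 1 := by
    have := B.R_exp _ ho
    rwa [pow_succ, pow_two] at this
  have hoi : o⁻¹ = o * o := inv_eq_of_mul_eq_one_right (by rw [← mul_assoc, h3])
  set t := o⁻¹ with ht
  have htC : t ∈ B.C := inv_mem (B.R_le ho)
  have ezt : K.zz * t = o * K.zz := by
    rw [← hinv, ← mul_assoc, ← mul_assoc, K.zz_sq, one_mul]
  have key : (t * c) * K.zz = K.zz * (t * c) := by
    have ecz : c * K.zz = K.zz * o * c := by
      rw [ho', ← mul_assoc, K.zz_sq, one_mul, hz', inv_mul_cancel_right]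
    calc (t * c) * K.zz = t * (c * K.zz) := mul_assoc ..
      _ = t * (K.zz * o * c) := by rw [ecz]
      _ = t * (K.zz * o * K.zz) * (K.zz * c) := by
        simp only [mul_assoc]; rw [← mul_assoc K.zz K.zz c, K.zz_sq, one_mul]
      _ = o * (K.zz * c) := by
        rw [hinv, show t * t = o by rw [hoi, ← mul_assoc, h3, one_mul]]
      _ = K.zz * (t * c) := by rw [← mul_assoc, ← mul_assoc, ezt]
  refine ⟨t * c, B.comm_a (mul_mem htC hc), key, ?_⟩
  rw [show (⟨t * c, mem_C (B.comm_a (mul_mem htC hc))⟩ : B.C) = ⟨t, htC⟩ * ⟨c, hc⟩ from Subtype.ext rfl,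
    map_mul, (B.mem_R_iff htC).1 (inv_mem ho), one_mul]

theorem Qa_comm {x : G} (hx : x ∈ K.Qa) : x * B.a = B.a * x ∧ x * K.zz = K.zz * x := by
  refine closure_induction (p := fun x _ => x * B.a = B.a * x ∧ x * K.zz = K.zz * x)
    (fun y hy => ⟨hy.1, hy.2.1⟩) ⟨Commute.one_left B.a, Commute.one_left K.zz⟩ (fun p q _ _ hp hq => ?_)
    (fun p _ hp => ?_) hx
  · exact ⟨(show Commute p B.a from hp.1).mul_left hq.1, (show Commute p K.zz from hp.2).mul_left hq.2⟩
  · exact ⟨(show Commute p B.a from hp.1).inv_left, (show Commute p K.zz from hp.2).inv_left⟩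

theorem Qa_sl {x : G} (hx : x ∈ K.Qa) : B.sl ⟨x, mem_C (K.Qa_comm hx).1⟩ ^ 4 = 1 := by
  suffices ∀ h : x * B.a = B.a * x, B.sl ⟨x, mem_C h⟩ ^ 4 = 1 from this (K.Qa_comm hx).1
  refine closure_induction (p := fun x _ => ∀ h : x * B.a = B.a * x, B.sl ⟨x, mem_C h⟩ ^ 4 = 1) ?_ ?_ ?_ ?_ hx
  · intro y hy h
    rw [← map_pow, show (⟨y, mem_C h⟩ : B.C) ^ 4 = 1 from Subtype.ext hy.2.2, map_one]
  · intro h
    rw [show (⟨1, mem_C h⟩ : B.C) = 1 from rfl, map_one, one_pow]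
  · intro p q hp hq ihp ihq h
    rw [show (⟨p * q, mem_C h⟩ : B.C) = ⟨p, mem_C (K.Qa_comm hp).1⟩ * ⟨q, mem_C (K.Qa_comm hq).1⟩ from rfl,
      map_mul]
    exact sl_four.1 _ _ (ihp (K.Qa_comm hp).1) (ihq (K.Qa_comm hq).1)
  · intro p hp ihp h
    rw [show (⟨p⁻¹, mem_C h⟩ : B.C) = (⟨p, mem_C (K.Qa_comm hp).1⟩ : B.C)⁻¹ from rfl, map_inv, inv_pow,
      ihp (K.Qa_comm hp).1, inv_one]

/-- `Qa` is a `2`-group. -/
theorem Qa_two : IsPGroup 2 K.Qa := by
  haveI : Fact (Nat.Prime 2) := ⟨Nat.prime_two⟩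
  haveI : Fact (Nat.Prime 3) := ⟨Nat.prime_three⟩
  let N : Subgroup G :=
    { carrier := {x | ∃ h : x * B.a = B.a * x, x * K.zz = K.zz * x ∧ B.sl ⟨x, mem_C h⟩ ^ 4 = 1}
      one_mem' := ⟨Commute.one_left B.a, Commute.one_left K.zz, by
        rw [show (⟨1, _⟩ : B.C) = 1 from rfl, map_one, one_pow]⟩
      mul_mem' := fun {p q} ⟨h1, h2, h3⟩ ⟨k1, k2, k3⟩ =>
        ⟨(show Commute p B.a from h1).mul_left k1, (show Commute p K.zz from h2).mul_left k2, by
          rw [show (⟨p * q, _⟩ : B.C) = ⟨p, mem_C h1⟩ * ⟨q, mem_C k1⟩ from rfl, map_mul]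
          exact sl_four.1 _ _ h3 k3⟩
      inv_mem' := fun {p} ⟨h1, h2, h3⟩ =>
        ⟨(show Commute p B.a from h1).inv_left, (show Commute p K.zz from h2).inv_left, by
          rw [show (⟨p⁻¹, _⟩ : B.C) = (⟨p, mem_C h1⟩ : B.C)⁻¹ from rfl, map_inv, inv_pow, h3, inv_one]⟩ }
  let ψ : N →* SLT := MonoidHom.mk' (fun x => B.sl ⟨x, mem_C x.2.1⟩) fun x y => by
    rw [← map_mul]; rfl
  have hker : ∀ x : N, ψ x = 1 → (x : G) ∈ zpowers B.a := fun x hx => K.sl_one x.2.1 x.2.2.1 hx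
  obtain ⟨S⟩ : Nonempty (Sylow 2 N) := inferInstance
  -- every element is a member of `S` times a power of `a`
  have ha : B.a ∈ N := ⟨rfl, K.zz_a.symm, by
    rw [(B.mem_R_iff (mem_C rfl)).1 B.a_mem_R, one_pow]⟩
  have hAn : ((zpowers B.a).subgroupOf N) ≤ Subgroup.center N := fun w hw => Subgroup.mem_center_iff.2 fun g =>
    Subtype.ext (by
      obtain ⟨k, hk⟩ := mem_zpowers_iff.1 (mem_subgroupOf.1 hw)
      show (g : G) * w = w * g
      rw [← hk]
      exact ((show Commute (g : G) B.a from g.2.1).zpow_right k).eq)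
  have hcard : Nat.card N ∣ 8 * Nat.card ((zpowers B.a).subgroupOf N) := by
    have h1 := Subgroup.card_eq_card_quotient_mul_card_subgroup ψ.ker
    have h2 : ψ.ker = (zpowers B.a).subgroupOf N := by
      ext x
      constructor
      · exact fun hx => mem_subgroupOf.2 (hker x hx)
      · intro hx
        obtain ⟨k, hk⟩ := mem_zpowers_iff.1 (mem_subgroupOf.1 hx)
        exact (B.mem_R_iff (mem_C x.2.1)).1 (by rw [← hk]; exact zpow_mem B.a_mem_R k)
    rw [h1, ← h2, Nat.card_congr (QuotientGroup.quotientKerEquivRange ψ).toEquiv]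
    refine Nat.mul_dvd_mul_right ?_ _
    have h3 : ψ.range ≤ ({ carrier := {s | s ^ 4 = 1}
                           one_mem' := one_pow 4
                           mul_mem' := fun hs ht => sl_four.1 _ _ hs ht
                           inv_mem' := fun {s} hs => by
                             show s⁻¹ ^ 4 = 1
                             rw [inv_pow, show s ^ 4 = 1 from hs, inv_one] } : Subgroup SLT) := by
      rintro _ ⟨x, rfl⟩; exact x.2.2.2
    refine (Subgroup.card_dvd_of_le h3).trans (dvd_of_eq ?_)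
    show Nat.card {s : SLT // s ^ 4 = 1} = 8
    rw [Nat.card_eq_fintype_card, Fintype.card_subtype, sl_four.2.2.2.2]
  have hSn : (S : Subgroup N).Normal := by
    refine Subgroup.normalizer_eq_top_iff.1 (eq_top_of_card_eq _ (Nat.dvd_antisymm (card_subgroup_dvd_card _) ?_))
    have hA : (zpowers B.a).subgroupOf N ≤ normalizer ((S : Subgroup N) : Set N) :=
      hAn.trans (Subgroup.center_le_normalizer _)
    have h3 : Nat.card ((zpowers B.a).subgroupOf N) = 3 := by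
      rw [Nat.card_congr (subgroupOfEquivOfLe (zpowers_le.2 ha)).toEquiv, Nat.card_zpowers, B.ha]
    rw [h3] at hcard
    have hsup : Nat.card ((zpowers B.a).subgroupOf N) * Nat.card (S : Subgroup N) ∣
        Nat.card (normalizer ((S : Subgroup N) : Set N)) := by
      obtain ⟨k, hk⟩ := IsPGroup.iff_card.1 S.isPGroup'
      refine Nat.Coprime.mul_dvd_of_dvd_of_dvd ?_ (card_dvd_of_le hA) (card_dvd_of_le le_normalizer)
      rw [h3, hk]
      exact Nat.Coprime.pow_right k (by norm_num)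
    refine dvd_trans ?_ hsup
    rw [h3]
    obtain ⟨d, hd⟩ := hcard
    have hN := Sylow.card_eq_multiplicity S
    have hdd : Nat.card N ∣ 3 * 2 ^ (Nat.card N).factorization 2 := by
      have hpos : Nat.card N ≠ 0 := Nat.card_pos.ne'
      have h24 : Nat.card N ∣ 2 ^ 3 * 3 := ⟨d, by rw [← hd]; norm_num⟩
      obtain ⟨u, v, hu, hv, e⟩ := (Nat.dvd_mul).1 h24
      obtain ⟨i, -, rfl⟩ := (Nat.dvd_prime_pow Nat.prime_two).1 hu
      rw [← e, mul_comm 3]
      refine Nat.mul_dvd_mul (pow_dvd_pow 2 ?_) hv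
      refine (Nat.Prime.pow_dvd_iff_le_factorization Nat.prime_two (e ▸ hpos)).1 (dvd_mul_right _ _)
    rw [hN]
    exact hdd
  refine (S.isPGroup'.map N.subtype).to_le ((closure_le _).2 fun x hx => ?_)
  have hxN : x ∈ N := ⟨hx.1, hx.2.1, by
    rw [← map_pow, show (⟨x, mem_C hx.1⟩ : B.C) ^ 4 = 1 from Subtype.ext hx.2.2, map_one]⟩
  obtain ⟨T, hT⟩ := (show IsPGroup 2 (zpowers (⟨x, hxN⟩ : N)) from fun y => ⟨2, Subtype.ext (Subtype.ext (by
    obtain ⟨k, hk⟩ := mem_zpowers_iff.1 y.2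
    simp only [Subgroup.coe_pow, Subgroup.coe_one, ← hk, Subgroup.coe_zpow]
    rw [show (2 : ℕ) ^ 2 = 4 by norm_num, ← zpow_natCast, ← zpow_mul, mul_comm, zpow_mul, zpow_natCast, hx.2.2,
      one_zpow]))⟩).exists_le_sylow
  haveI := hSn
  haveI := Sylow.unique_of_normal S hSn
  exact ⟨⟨x, hxN⟩, (Subsingleton.elim T S) ▸ hT (mem_zpowers _), rfl⟩

theorem Qa_inf_a {x : G} (hx : x ∈ K.Qa) (ha : x ∈ zpowers B.a) : x = 1 := by
  haveI : Fact (Nat.Prime 2) := ⟨Nat.prime_two⟩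
  obtain ⟨k, hk⟩ := K.Qa_two ⟨x, hx⟩
  have h2 : orderOf x ∣ 2 ^ k := orderOf_dvd_of_pow_eq_one (congrArg Subtype.val hk)
  have h3 : orderOf x ∣ 3 := by
    have := Subgroup.orderOf_dvd_natCard _ ha
    rwa [Nat.card_zpowers, B.ha] at this
  exact orderOf_eq_one_iff.1 (Nat.eq_one_of_dvd_coprimes (Nat.Coprime.pow_left k (by norm_num)) h2 h3)

theorem Qa_sl_inj {x y : G} (hx : x ∈ K.Qa) (hy : y ∈ K.Qa)
    (h : B.sl ⟨x, mem_C (K.Qa_comm hx).1⟩ = B.sl ⟨y, mem_C (K.Qa_comm hy).1⟩) : x = y := by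
  have hm := mul_mem hx (inv_mem hy)
  have := K.Qa_inf_a hm (K.sl_one (K.Qa_comm hm).1 (K.Qa_comm hm).2 (by
    rw [show (⟨x * y⁻¹, mem_C (K.Qa_comm hm).1⟩ : B.C) =
      ⟨x, mem_C (K.Qa_comm hx).1⟩ * (⟨y, mem_C (K.Qa_comm hy).1⟩ : B.C)⁻¹ from rfl,
      map_mul, map_inv, h, mul_inv_cancel]))
  exact mul_inv_eq_one.1 this

theorem exists_Qa {s : SLT} (hs : s ^ 4 = 1) : ∃ x, ∃ hx : x ∈ K.Qa, B.sl ⟨x, mem_C (K.Qa_comm hx).1⟩ = s := by
  obtain ⟨x, hxa, hxz, he⟩ := K.exists_lift s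
  have h4 : x ^ 4 ∈ zpowers B.a := by
    refine K.sl_one ((show Commute x B.a from hxa).pow_left 4) ((show Commute x K.zz from hxz).pow_left 4) ?_
    rw [show (⟨x ^ 4, _⟩ : B.C) = (⟨x, mem_C hxa⟩ : B.C) ^ 4 from rfl, map_pow, he, hs]
  have h12 : x ^ 12 = 1 := by
    obtain ⟨k, hk⟩ := mem_zpowers_iff.1 h4
    rw [show 12 = 4 * 3 from rfl, pow_mul, ← hk, ← zpow_natCast, ← zpow_mul, mul_comm, zpow_mul, zpow_natCast,
      B.a_three, one_zpow]
  have hm : x ^ 9 ∈ K.Qa := subset_closure ⟨((show Commute x B.a from hxa).pow_left 9).eq,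
    ((show Commute x K.zz from hxz).pow_left 9).eq, by rw [← pow_mul, show 9 * 4 = 12 * 3 from rfl, pow_mul, h12, one_pow]⟩
  refine ⟨_, hm, ?_⟩
  rw [show (⟨x ^ 9, _⟩ : B.C) = (⟨x, mem_C hxa⟩ : B.C) ^ 9 from rfl, map_pow, he,
    show 9 = 4 * 2 + 1 from rfl, pow_add, pow_mul, hs, one_pow, one_mul, pow_one]

theorem zz_mem_Qa : K.zz ∈ K.Qa := subset_closure ⟨K.zz_a, rfl, by
  rw [show 4 = 2 * 2 from rfl, pow_mul, pow_two K.zz, K.zz_sq, one_pow]⟩

theorem sl_Qa_zz (x : G) (h : x * B.a = B.a * x) (e : x = K.zz) : B.sl ⟨x, mem_C h⟩ = -1 := by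
  subst e; exact K.sl_zz

/-- The involutions of `Qa`. -/
theorem Qa_invol {x : G} (hx : x ∈ K.Qa) (h : x * x = 1) : x = 1 ∨ x = K.zz := by
  rcases sl_four.2.2.1 _ (show B.sl ⟨x, mem_C (K.Qa_comm hx).1⟩ * B.sl ⟨x, mem_C (K.Qa_comm hx).1⟩ = 1 by
    rw [← map_mul, show (⟨x, mem_C (K.Qa_comm hx).1⟩ : B.C) * ⟨x, mem_C (K.Qa_comm hx).1⟩ = 1 from
      Subtype.ext h, map_one]) with e | e
  · exact Or.inl (K.Qa_sl_inj hx (one_mem _) (by rw [e, show (⟨1, _⟩ : B.C) = 1 from rfl, map_one]))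
  · exact Or.inr (K.Qa_sl_inj hx K.zz_mem_Qa (by rw [e, K.sl_zz]))

/-- The centre of `Qa`. -/
theorem Qa_center {x : G} (hx : x ∈ K.Qa) (h : ∀ y ∈ K.Qa, x * y = y * x) : x = 1 ∨ x = K.zz := by
  rcases sl_four.2.2.2.1 _ (K.Qa_sl hx) (fun s hs => by
    obtain ⟨y, hy, rfl⟩ := K.exists_Qa hs
    rw [← map_mul, ← map_mul]
    exact congrArg B.sl (Subtype.ext (h y hy))) with e | e
  · exact Or.inl (K.Qa_sl_inj hx (one_mem _) (by rw [e, show (⟨1, _⟩ : B.C) = 1 from rfl, map_one]))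
  · exact Or.inr (K.Qa_sl_inj hx K.zz_mem_Qa (by rw [e, K.sl_zz]))

/-- The centraliser of `E` in the centraliser of `zz`. -/
theorem cent_E {x : G} (hz : x * K.zz = K.zz * x) (hc : ∀ e ∈ K.E, x * e = e * x) :
    x ∈ K.E ∨ x * K.zz ∈ K.E := by
  have hxM : x ∈ B.M := by
    refine F.toFrame.plane (F.toFrame.el_mem (fun _ => 1)) K.aa_mem_E.1 ?_ ?_ (mem_centralizer_iff.2 ?_)
    · rw [F.toFrame.el_a]; exact B.a_ne_one
    · rw [F.toFrame.el_a, K.aa_eq]
      intro hm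
      rcases B.mem_zpowers_a hm with e | e | e
      · rw [← F.toFrame.el_zero] at e
        exact absurd (F.toFrame.el_inj.1 e) (by decide +kernel)
      · rw [← F.toFrame.el_a] at e
        exact absurd (F.toFrame.el_inj.1 e) (by decide +kernel)
      · rw [← F.toFrame.el_a, ← F.toFrame.el_neg] at e
        exact absurd (F.toFrame.el_inj.1 e) (by decide +kernel)
    · rintro y (rfl | rfl)
      · exact (hc _ (F.toFrame.el_a.symm ▸ K.a_mem_E)).symm
      · exact (hc _ K.aa_mem_E).symm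
  obtain ⟨w, hw⟩ := F.toFrame.code x hxM
  have hfix : ∀ v : Vec, v 0 = v 1 → sact w v = v := fun v hv => by
    refine F.toFrame.el_inj.1 ((hw v).symm.trans ?_)
    show x * F.el v * x⁻¹ = F.el v
    rw [hc _ (K.el_mem_E hv), mul_inv_cancel_right]
  have key : ∀ y : G, (∀ v, y * F.el v * y⁻¹ = F.el v) → y * K.zz = K.zz * y → y ∈ K.E := by
    intro y hy hyz
    refine ⟨?_, mem_centralizer_singleton_iff.2 hyz⟩
    rw [← B.cent_J]
    refine mem_centralizer_iff.2 fun j hj => ?_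
    obtain ⟨v, rfl⟩ := F.toFrame.exists_el hj
    exact (mul_inv_eq_iff_eq_mul.1 (hy v)).symm
  rcases code_swap w hfix with rfl | rfl
  · refine Or.inl (key x (fun v => ?_) hz)
    have := hw v
    rwa [code_id v] at this
  · refine Or.inr (key _ (fun v => ?_) ((show Commute x K.zz from hz).mul_left (Commute.refl _)).eq)
    have h1 := hw (fun j => v (swap (0 : Fin 3) 1 j))
    rw [mul_inv_rev, show x * K.zz * F.el v * (K.zz⁻¹ * x⁻¹) = x * (K.zz * F.el v * K.zz⁻¹) * x⁻¹ by group,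
      K.zz_el]
    unfold Frame.el
    rw [h1]
    congr 2
    funext j
    simp [sact]

end SixChart

end CfsgLib.Recog.SpSixThree
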