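import Cfsg.Agent.Lib.Recog.SpSixThree.HCover
import Cfsg.Agent.Lib.Recog.SpSixThree.Cover

/-!
The centraliser of `Qa` in the centraliser of `z`, and the quotient by `z`: `Qa` is not self-centralising.
-/

set_option autoImplicit false
set_option linter.style.haveILetI false
set_option linter.unusedSectionVars false
set_option synthInstance.maxSize 20000

namespace CfsgLib.Recog.SpSixThree

open Equiv Subgroup

universe u

theorem sl_cent_all : ∀ x : SLT, (∀ y : SLT, y ^ 4 = 1 → x * y = y * x) → x = 1 ∨ x = -1 := by decide +kernel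

theorem sl_ex_four : ∃ s : SLT, s ^ 4 = 1 ∧ s ≠ 1 ∧ s ≠ -1 := by decide +kernel

theorem sl_comm_four : ∀ x y z : SLT, x ^ 4 = 1 → y ^ 4 = 1 → z ^ 4 = 1 →
    x⁻¹ * (y * x * y⁻¹) * z = z * (x⁻¹ * (y * x * y⁻¹)) := by decide +kernel

theorem code_no_inv : ∀ (π : Perm (Fin 3)) (k : Fin 3),
    sact (cmul cneg (cperm π)) (evec 2) ≠ evec 2 + k.val • (fun _ => 1 : Vec) := by decide +kernel

theorem code_swap_three : ∀ w : Code, (∀ v : Vec, v 0 = v 1 → sact w v = v) →
    (∀ v : Vec, sact w (sact w (sact w v)) = v) → ∀ v : Vec, sact w v = v := by decide +kernel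

variable {G : Type u} [Group G] [Finite G] {B : Base G} {F : FullFrame B}

namespace SixChart

variable (K : SixChart F)

/-- The elements of `C(a) ⊓ C(zz)` centralising `Qa`. -/
theorem cent_Qa_a {x : G} (ha : x * B.a = B.a * x) (hz : x * K.zz = K.zz * x)
    (hq : ∀ y ∈ K.Qa, x * y = y * x) : x ∈ zpowers B.a ∨ x * K.zz ∈ zpowers B.a := by
  rcases sl_cent_all (B.sl ⟨x, mem_C ha⟩) (fun s hs => by
    obtain ⟨y, hy, rfl⟩ := K.exists_Qa hs
    rw [← map_mul, ← map_mul]
    exact congrArg B.sl (Subtype.ext (hq y hy))) with e | e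
  · exact Or.inl (K.sl_one ha hz e)
  · refine Or.inr (K.sl_one ((show Commute x B.a from ha).mul_left K.zz_a).eq
      ((show Commute x K.zz from hz).mul_left (Commute.refl _)).eq ?_)
    rw [show (⟨x * K.zz, _⟩ : B.C) = ⟨x, mem_C ha⟩ * ⟨K.zz, K.zz_mem_C⟩ from rfl, map_mul, e, K.sl_zz, sl_neg_sq]

/-- No element centralising `Qa` and `zz` inverts `a`. -/
theorem no_inv {n : G} (hz : n * K.zz = K.zz * n) (hq : ∀ y ∈ K.Qa, n * y = y * n)
    (hi : n * B.a * n⁻¹ = B.a⁻¹) : False := by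
  set c := MulAut.conj n with hc
  have ca : c B.a = B.a⁻¹ := hi
  have cz : c K.zz = K.zz := by rw [hc, MulAut.conj_apply, hz, mul_inv_cancel_right]
  have cq : ∀ y ∈ K.Qa, c y = y := fun y hy => by rw [hc, MulAut.conj_apply, hq y hy, mul_inv_cancel_right]
  have ha2 : Commute (c (F.e 2)) B.a := by
    have h := (show Commute (F.e 2) B.a from K.E_comm K.e2_mem_E K.a_mem_E).map c
    rw [ca] at h
    exact Commute.inv_right_iff.1 h
  have hz2 : Commute (c (F.e 2)) K.zz := by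
    have h := (show Commute (F.e 2) K.zz from K.zz_e2.symm).map c
    rwa [cz] at h
  set w := (F.e 2)⁻¹ * c (F.e 2) with hw
  have hwa : Commute w B.a :=
    (show Commute (F.e 2) B.a from K.E_comm K.e2_mem_E K.a_mem_E).inv_left.mul_left ha2
  have hwz : Commute w K.zz := (show Commute (F.e 2) K.zz from K.zz_e2.symm).inv_left.mul_left hz2
  have hwq : ∀ y ∈ K.Qa, w * y = y * w := fun y hy => by
    have h1 : F.e 2 * y * (F.e 2)⁻¹ ∈ K.Qa := K.E_norm_Qa K.e2_mem_E hy
    have h2 : c (F.e 2) * y * (c (F.e 2))⁻¹ = F.e 2 * y * (F.e 2)⁻¹ := by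
      conv_lhs => rw [← cq y hy]
      rw [← map_inv, ← map_mul, ← map_mul, cq _ h1]
    refine mul_inv_eq_iff_eq_mul.1 ?_
    calc w * y * w⁻¹ = (F.e 2)⁻¹ * (c (F.e 2) * y * (c (F.e 2))⁻¹) * F.e 2 := by rw [hw]; group
      _ = y := by rw [h2]; group
  have he3 : F.e 2 ^ 3 = 1 := K.E_exp K.e2_mem_E
  have hce : Commute (F.e 2) (c (F.e 2)) := by
    -- both lie in the abelian group generated by `e 2`, `a`, `zz`
    rcases K.cent_Qa_a hwa.eq hwz.eq hwq with h | h
    · obtain ⟨k, hk⟩ := mem_zpowers_iff.1 h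
      rw [show c (F.e 2) = F.e 2 * w by rw [hw, mul_inv_cancel_left], ← hk]
      exact (Commute.refl _).mul_right ((show Commute (F.e 2) B.a from K.E_comm K.e2_mem_E K.a_mem_E).zpow_right k)
    · obtain ⟨k, hk⟩ := mem_zpowers_iff.1 h
      rw [show c (F.e 2) = F.e 2 * (B.a ^ k * K.zz⁻¹) by rw [hk, mul_inv_cancel_right, hw, mul_inv_cancel_left]]
      exact (Commute.refl _).mul_right
        (((show Commute (F.e 2) B.a from K.E_comm K.e2_mem_E K.a_mem_E).zpow_right k).mul_right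
          (show Commute (F.e 2) K.zz from K.zz_e2.symm).inv_right)
  have hw3 : w ^ 3 = 1 := by
    rw [hw, hce.inv_left.mul_pow, inv_pow, ← map_pow, he3, inv_one, map_one, one_mul]
  have hwE : w ∈ zpowers B.a := by
    rcases K.cent_Qa_a hwa.eq hwz.eq hwq with h | h
    · exact h
    · exfalso
      have h3 : (w * K.zz) ^ 3 = 1 := by
        obtain ⟨k, hk⟩ := mem_zpowers_iff.1 h
        rw [← hk, ← zpow_natCast, ← zpow_mul, mul_comm, zpow_mul, zpow_natCast, B.a_three, one_zpow]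
      rw [hwz.mul_pow, hw3, one_mul, pow_succ, pow_two, K.zz_sq, one_mul] at h3
      exact K.zz_ne h3
  have hae : Subgroup.zpowers B.a ≤ K.E := zpowers_le.2 K.a_mem_E
  -- `n` normalises `E`
  have hce2 : c (F.e 2) ∈ K.E := by
    rw [show c (F.e 2) = F.e 2 * w by rw [hw, mul_inv_cancel_left]]
    exact mul_mem K.e2_mem_E (hae hwE)
  have hM : n ∈ B.M := by
    have hJ : ∀ j ∈ B.J, c j ∈ B.J := by
      intro j hj
      have hcom : ∀ e ∈ K.E, Commute (c j) e := by
        intro e he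
        obtain ⟨v, hv, rfl⟩ := K.exists_vec_E he
        obtain ⟨i, k, e'⟩ := gen_a_e2 (F := F) v hv
        have h1 : Commute (c j) B.a := by
          have := (show Commute j B.a from B.comm_a (B.J_le hj)).map c
          rw [ca] at this
          exact Commute.inv_right_iff.1 this
        have h2 : Commute (c j) (c (F.e 2)) :=
          (show Commute j (F.e 2) from B.J_comm _ hj _ (F.toFrame.el_mem _)).map c
        have h3 : Commute (c j) (F.e 2) := by
          obtain ⟨m, hm⟩ := mem_zpowers_iff.1 hwE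
          rw [show F.e 2 = c (F.e 2) * w⁻¹ by rw [hw, mul_inv_rev, inv_inv, mul_inv_cancel_left], ← hm]
          exact h2.mul_right (h1.zpow_right m).inv_right
        rw [e']
        exact (h1.pow_right i).mul_right (h3.pow_right k)
      have hjM : c j ∈ B.M := by
        refine F.toFrame.plane (F.toFrame.el_mem (fun _ => 1)) K.aa_mem_E.1 ?_ ?_ (mem_centralizer_iff.2 ?_)
        · rw [F.toFrame.el_a]; exact B.a_ne_one
        · rw [F.toFrame.el_a, K.aa_eq]
          intro hm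
          rcases B.mem_zpowers_a hm with e | e | e
          · rw [← F.toFrame.el_zero] at e
            exact absurd (F.toFrame.el_inj.1 e) (by decide +kernel)
          · rw [← F.toFrame.el_a] at e
            exact absurd (F.toFrame.el_inj.1 e) (by decide +kernel)
          · rw [← F.toFrame.el_a, ← F.toFrame.el_neg] at e
            exact absurd (F.toFrame.el_inj.1 e) (by decide +kernel)
        · rintro y (rfl | rfl)
          · exact (hcom _ (F.toFrame.el_a.symm ▸ K.a_mem_E)).symm.eq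
          · exact (hcom _ K.aa_mem_E).symm.eq
      obtain ⟨u, hu⟩ := F.toFrame.code _ hjM
      have hfix : ∀ v : Vec, v 0 = v 1 → sact u v = v := fun v hv => by
        refine F.toFrame.el_inj.1 ((hu v).symm.trans ?_)
        show c j * F.el v * (c j)⁻¹ = F.el v
        rw [(hcom _ (K.el_mem_E hv)).eq, mul_inv_cancel_right]
      have hthree : ∀ v : Vec, sact u (sact u (sact u v)) = v := fun v => by
        refine F.toFrame.el_inj.1 ?_
        show F.el (sact u (sact u (sact u v))) = F.el v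
        have h3 : c j * c j * c j = 1 := by
          rw [← map_mul, ← map_mul, ← pow_two, ← pow_succ, B.J_exp _ hj, map_one]
        calc F.el (sact u (sact u (sact u v))) =
              c j * (c j * (c j * F.el v * (c j)⁻¹) * (c j)⁻¹) * (c j)⁻¹ := by
              unfold Frame.el; rw [hu, hu, hu]
          _ = (c j * c j * c j) * F.el v * (c j * c j * c j)⁻¹ := by group
          _ = F.el v := by rw [h3]; group
      have hall := code_swap_three u hfix hthree
      rw [← B.cent_J]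
      refine mem_centralizer_iff.2 fun y hy => ?_
      obtain ⟨v, rfl⟩ := F.toFrame.exists_el hy
      have := hu v
      rw [hall v] at this
      exact (mul_inv_eq_iff_eq_mul.1 this).symm
    refine B.mem_M_of_map (eq_of_le_of_card_ge ?_ (card_map_of_injective (MulAut.conj n).injective).ge)
    rintro _ ⟨j, hj, rfl⟩
    exact hJ j hj
  obtain ⟨u, hu⟩ := F.toFrame.code n hM
  have hone : sact u (fun _ => 1) = (fun _ => 2) := by
    refine F.toFrame.el_inj.1 ((hu _).symm.trans ?_)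
    show n * F.el (fun _ => 1) * n⁻¹ = F.el (fun _ => 2)
    rw [F.toFrame.el_a, hi, ← F.toFrame.el_a, ← F.toFrame.el_neg]
    congr 1
  obtain ⟨m, hm⟩ : ∃ m : Fin 3, w = B.a ^ m.val := by
    rcases B.mem_zpowers_a hwE with e | e | e
    · exact ⟨0, by rw [e]; exact (pow_zero _).symm⟩
    · exact ⟨1, by rw [e]; exact (pow_one _).symm⟩
    · refine ⟨2, e.trans (inv_eq_of_mul_eq_one_left ?_)⟩
      rw [← pow_succ]
      exact B.a_three
  refine code_no_inv u.2 m ?_
  rw [← code_inv_one u hone]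
  refine F.toFrame.el_inj.1 ((hu (evec 2)).symm.trans ?_)
  show c (F.e 2) = _
  rw [F.toFrame.el_add, F.toFrame.el_nsmul]
  show c (F.e 2) = F.e 2 * F.el (fun _ => 1) ^ m.val
  rw [F.toFrame.el_a, ← hm, hw, mul_inv_cancel_left]

/-- The centraliser of `Qa` in that of `zz`. -/
def La : Subgroup G := centralizer ({K.zz} : Set G) ⊓ centralizer (K.Qa : Set G)

theorem mem_La {x : G} : x ∈ K.La ↔ x * K.zz = K.zz * x ∧ ∀ y ∈ K.Qa, x * y = y * x := by
  rw [La, Subgroup.mem_inf, mem_centralizer_singleton_iff, mem_centralizer_iff]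
  exact and_congr_right fun _ => ⟨fun h y hy => (h y hy).symm, fun h y hy => (h y hy).symm⟩

theorem zz_mem_La : K.zz ∈ K.La := K.mem_La.2 ⟨rfl, fun _ hy => (K.Qa_comm hy).2.symm⟩

theorem a_mem_La : B.a ∈ K.La := K.mem_La.2 ⟨K.zz_a.symm, fun _ hy => (K.Qa_comm hy).1.symm⟩

theorem E_La {e x : G} (he : e ∈ K.E) (hx : x ∈ K.La) : e * x * e⁻¹ ∈ K.La := by
  obtain ⟨h1, h2⟩ := K.mem_La.1 hx
  have hez : Commute e K.zz := mem_centralizer_singleton_iff.1 he.2
  refine K.mem_La.2 ⟨((hez.mul_left h1).mul_left hez.inv_left).eq, fun y hy => ?_⟩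
  have h := h2 _ (K.E_norm_Qa (inv_mem he) hy)
  rw [inv_inv] at h
  calc e * x * e⁻¹ * y = e * (x * (e⁻¹ * y * e)) * e⁻¹ := by group
    _ = e * (e⁻¹ * y * e * x) * e⁻¹ := by rw [h]
    _ = y * (e * x * e⁻¹) := by group

theorem zz_pow {x : G} (hx : x ∈ zpowers K.zz) : x = 1 ∨ x = K.zz := by
  obtain ⟨k, rfl⟩ := mem_zpowers_iff.1 hx
  rcases Int.even_or_odd k with ⟨i, rfl⟩ | ⟨i, rfl⟩
  · left; rw [← two_mul, zpow_mul, zpow_two, K.zz_sq, one_zpow]
  · right; rw [zpow_add, zpow_mul, zpow_two, K.zz_sq, one_zpow, one_mul, zpow_one]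

theorem La_inf_Qa {x : G} (hx : x ∈ K.La) (ha : x ∈ K.Qa) : x = 1 ∨ x = K.zz :=
  K.Qa_center ha fun y hy => (K.mem_La.1 hx).2 y hy

/-- Structure of `La` over a `2`-subgroup covering its parts. -/
theorem La_struct (hd : centralizer ({F.e 0 * F.e 1} : Set G) ≤ B.M) {P₀ : Subgroup G} (hz : K.zz ∈ P₀)
    (hle : P₀ ≤ K.La) (h2 : IsPGroup 2 P₀) (hE : ∀ e ∈ K.E, ∀ p ∈ P₀, e * p * e⁻¹ ∈ P₀)
    (hb : ∀ x ∈ K.La, x ∈ K.Qb → x ∈ P₀) (hy : ∀ x ∈ K.La, x ∈ K.Qy → x ∈ P₀) :
    (∀ g ∈ K.La, ∀ p ∈ P₀, g * p * g⁻¹ ∈ P₀) ∧ ∀ g ∈ K.La, ∃ p ∈ P₀, ∃ k : ℤ, g = p * B.a ^ k := by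
  have hca : ∀ g ∈ K.La, g * B.a = B.a * g → ∃ u ∈ zpowers K.zz, ∃ k : ℤ, g = u * B.a ^ k := by
    intro g hg hga
    obtain ⟨h1, h2⟩ := K.mem_La.1 hg
    rcases K.cent_Qa_a hga h1 h2 with h | h <;> obtain ⟨k, hk⟩ := mem_zpowers_iff.1 h
    · exact ⟨1, one_mem _, k, by rw [hk, one_mul]⟩
    · refine ⟨K.zz, mem_zpowers _, k, ?_⟩
      rw [hk, h1, ← mul_assoc, K.zz_sq, one_mul]
  obtain ⟨hn, hdec⟩ := local_cover (B.J_pgroup.to_le (inf_le_left : K.E ≤ B.J)) (L := K.La) (U := zpowers K.zz)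
    (P₀ := P₀) (x := B.a) B.a_three B.a_ne_one (fun e he g hg => K.E_La he hg) (zpowers_le.2 K.zz_mem_La)
    (fun g hg u hu => by
      obtain ⟨k, rfl⟩ := mem_zpowers_iff.1 hu
      exact ((show Commute g K.zz from (K.mem_La.1 hg).1).zpow_right k).eq)
    (fun u hu => by
      rcases K.zz_pow hu with rfl | rfl
      · exact one_mul 1
      · exact K.zz_sq)
    K.a_mem_La
    (fun e he u hu => by
      obtain ⟨k, rfl⟩ := mem_zpowers_iff.1 hu
      rw [((show Commute e K.zz from mem_centralizer_singleton_iff.1 he.2).zpow_right k).eq, mul_inv_cancel_right]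
      exact hu)
    hca (zpowers_le.2 hz) hle h2 hE
    (fun T hT hUT hTL hTE => by
      refine (K.cover hd hT hTE (hTL.trans inf_le_left)).trans (sup_le (sup_le ?_ ?_) ?_)
      · intro x hx
        rcases K.La_inf_Qa (hTL hx.1) hx.2 with rfl | rfl
        exacts [one_mem _, hz]
      · exact fun x hx => hb x (hTL hx.1) hx.2
      · exact fun x hx => hy x (hTL hx.1) hx.2)
  refine ⟨hn, fun g hg => ?_⟩
  obtain ⟨p, hp, n, hn, rfl, h | h⟩ := hdec g hg
  · obtain ⟨u, hu, k, rfl⟩ := hca n hn (mul_inv_eq_iff_eq_mul.1 h)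
    exact ⟨p * u, mul_mem hp (zpowers_le.2 hz hu), k, (mul_assoc _ _ _).symm⟩
  · exact (K.no_inv (K.mem_La.1 hn).1 (K.mem_La.1 hn).2 h).elim

/-- An element inducing on `Qa` an automorphism trivial modulo `zz` is inner. -/
theorem exists_inner {g : G} (hg : g * K.zz = K.zz * g)
    (h : ∀ p ∈ K.Qa, g * p * g⁻¹ = p ∨ g * p * g⁻¹ = p * K.zz) : ∃ w ∈ K.Qa, g * w ∈ K.La := by
  obtain ⟨x, hx, hx1, hx2⟩ : ∃ x ∈ K.Qa, x ≠ 1 ∧ x ≠ K.zz := by
    obtain ⟨s, hs4, hs1, hs2⟩ := sl_ex_four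
    obtain ⟨x, hx, hxs⟩ := K.exists_Qa (s := s) hs4
    refine ⟨x, hx, fun e => ?_, fun e => ?_⟩ <;> subst e
    · rw [show (⟨(1 : G), _⟩ : B.C) = 1 from rfl, map_one] at hxs
      exact hs1 hxs.symm
    · rw [K.sl_zz] at hxs
      exact hs2 hxs.symm
  set y := F.e 2 * x * (F.e 2)⁻¹
  have hy : y ∈ K.Qa := K.E_norm_Qa K.e2_mem_E hx
  -- `x` and `y` generate
  have hgen : K.Qa ≤ closure {x, y} :=
    K.Qa_gen (subset_closure (Or.inr rfl)) (subset_closure (Or.inl rfl)) hx hx1 hx2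
  have hyx : x * y ≠ y * x := by
    intro e
    have hcx : ∀ t ∈ K.Qa, x * t = t * x := fun t ht => by
      refine closure_induction (p := fun t _ => x * t = t * x) ?_ (Commute.one_right x) ?_ ?_ (hgen ht)
      · rintro _ (rfl | rfl); exacts [rfl, e]
      · exact fun p q _ _ hp hq => ((show Commute x p from hp).mul_right hq).eq
      · exact fun p _ hp => ((show Commute x p from hp).inv_right).eq
    rcases K.Qa_center hx hcx with h | h
    · exact hx1 h
    · exact hx2 h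
  have hzzi := K.zz_inv
  have hcomm : ∀ p ∈ K.Qa, ∀ q ∈ K.Qa, p * q * p⁻¹ = q ∨ p * q * p⁻¹ = q * K.zz := by
    intro p hp q hq
    have hm : q⁻¹ * (p * q * p⁻¹) ∈ K.Qa := mul_mem (inv_mem hq) (mul_mem (mul_mem hp hq) (inv_mem hp))
    have hcm : ∀ t ∈ K.Qa, q⁻¹ * (p * q * p⁻¹) * t = t * (q⁻¹ * (p * q * p⁻¹)) := by
      intro t ht
      have := sl_comm_four _ _ _ (K.Qa_sl hq) (K.Qa_sl hp) (K.Qa_sl ht)
      simp only [← map_inv, ← map_mul] at this
      exact K.Qa_sl_inj (mul_mem hm ht) (mul_mem ht hm)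
        ((congrArg B.sl (Subtype.ext rfl)).trans (this.trans (congrArg B.sl (Subtype.ext rfl))))
    rcases K.Qa_center hm hcm with e | e
    · exact Or.inl (inv_mul_eq_one.1 e).symm
    · exact Or.inr (by rw [← e, mul_inv_cancel_left])
  have hxy : x * y * x⁻¹ = y * K.zz := (hcomm x hx y hy).resolve_left fun e =>
    hyx (mul_inv_eq_iff_eq_mul.1 e)
  have hyx' : y * x * y⁻¹ = x * K.zz := (hcomm y hy x hx).resolve_left fun e =>
    hyx (mul_inv_eq_iff_eq_mul.1 e).symm
  have hzx : x * K.zz = K.zz * x := (K.Qa_comm hx).2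
  have hzy : y * K.zz = K.zz * y := (K.Qa_comm hy).2
  have key : ∀ w ∈ K.Qa, g * w * x = x * (g * w) → g * w * y = y * (g * w) → g * w ∈ K.La := by
    intro w hw h1 h2
    refine K.mem_La.2 ⟨((show Commute g K.zz from hg).mul_left (K.Qa_comm hw).2).eq, fun t ht => ?_⟩
    refine closure_induction (p := fun t _ => g * w * t = t * (g * w)) ?_ (Commute.one_right (g * w)) ?_ ?_
      (hgen ht)
    · rintro _ (rfl | rfl); exacts [h1, h2]
    · exact fun p q _ _ hp hq => ((show Commute (g * w) p from hp).mul_right hq).eq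
    · exact fun p _ hp => ((show Commute (g * w) p from hp).inv_right).eq
  have step : ∀ w ∈ K.Qa, ∀ t ∈ K.Qa, g * w * t = (g * (w * t * w⁻¹) * g⁻¹) * (g * w) := by
    intro w _ t _; group
  have hgz : g * K.zz * g⁻¹ = K.zz := by rw [hg, mul_inv_cancel_right]
  have hzz : ∀ t : G, t * K.zz * K.zz = t := fun t => by rw [mul_assoc, K.zz_sq, mul_one]
  rcases h x hx with ex | ex <;> rcases h y hy with ey | ey
  · exact ⟨1, one_mem _, key 1 (one_mem _) (by rw [mul_one]; exact mul_inv_eq_iff_eq_mul.1 ex)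
      (by rw [mul_one]; exact mul_inv_eq_iff_eq_mul.1 ey)⟩
  · -- conjugation by `x` moves `y`
    refine ⟨x, hx, key x hx ?_ ?_⟩ <;> rw [step x hx _ (by assumption)]
    · rw [mul_inv_cancel_right, ex]
    · rw [hxy, show g * (y * K.zz) * g⁻¹ = g * y * g⁻¹ * (g * K.zz * g⁻¹) by group, ey, hgz, hzz]
  · refine ⟨y, hy, key y hy ?_ ?_⟩ <;> rw [step y hy _ (by assumption)]
    · rw [hyx', show g * (x * K.zz) * g⁻¹ = g * x * g⁻¹ * (g * K.zz * g⁻¹) by group, ex, hgz, hzz]
    · rw [mul_inv_cancel_right, ey]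
  · have hm : x * y ∈ K.Qa := mul_mem hx hy
    refine ⟨x * y, hm, key _ hm ?_ ?_⟩ <;> rw [step _ hm _ (by assumption)]
    · rw [show x * y * x * (x * y)⁻¹ = x * (y * x * y⁻¹) * x⁻¹ by group, hyx',
        show x * (x * K.zz) * x⁻¹ = x * (x * (K.zz * x⁻¹)) by group,
        show K.zz * x⁻¹ = x⁻¹ * K.zz from ((show Commute x K.zz from hzx).inv_left).eq.symm, mul_inv_cancel_left,
        show g * (x * K.zz) * g⁻¹ = g * x * g⁻¹ * (g * K.zz * g⁻¹) by group, ex, hgz, hzz]
    · rw [show x * y * y * (x * y)⁻¹ = x * y * x⁻¹ by group, hxy,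
        show g * (y * K.zz) * g⁻¹ = g * y * g⁻¹ * (g * K.zz * g⁻¹) by group, ey, hgz, hzz]

end SixChart

end CfsgLib.Recog.SpSixThree
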