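import Cfsg.Agent.Lib.Recog.SpSixThree.HSixNorm

/-!
The sixteen is normal modulo `z`: the centraliser of `z` is `W E T`, and `Qy` centralises `Qa`.
-/

set_option autoImplicit false
set_option linter.style.haveILetI false
set_option linter.unusedSectionVars false
set_option synthInstance.maxSize 20000

namespace CfsgLib.Recog.SpSixThree

open Equiv Subgroup

universe u

variable {G : Type u} [Group G] [Finite G] {B : Base G} {F : FullFrame B}

namespace SixChart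

namespace Cfg

variable {K : SixChart F} (c : Cfg K)

/-- The sixteen. -/
abbrev P : Subgroup K.Y := K.img c.PG

/-- The extension of `W` by the outer elements. -/
abbrev Sb : Subgroup K.Y := K.img c.S

theorem Sb_pgroup : IsPGroup 2 c.Sb :=
  (show IsPGroup 2 (c.S.subgroupOf K.Cz) from c.S_pgroup.comap_subtype).map K.pr

theorem Wb_le_Sb : c.Wb ≤ c.Sb := map_mono (comap_mono c.W_le_S)

theorem P_le_Wb : c.P ≤ c.Wb := map_mono (comap_mono c.PG_le_W)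

theorem Va_le_P : c.Va ≤ c.P := map_mono (comap_mono c.Qa_le_PG)

theorem Vb_le_P : c.Vb ≤ c.P := map_mono (comap_mono c.Qb_le_PG)

theorem Sb_two {g : K.Cz} (h : (g : G) ∈ c.S) : ∃ k : ℕ, K.pr g ^ 2 ^ k = 1 := by
  obtain ⟨k, hk⟩ := c.Sb_pgroup ⟨_, (K.mem_img c.zz_mem_S).2 h⟩
  exact ⟨k, congrArg Subtype.val hk⟩

theorem sylow (hd : centralizer ({F.e 0 * F.e 1} : Set G) ≤ B.M) : ∃ S : Sylow 2 K.Y, (S : Subgroup K.Y) = c.Sb := by
  haveI : Fact (Nat.Prime 2) := ⟨Nat.prime_two⟩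
  obtain ⟨S, hS⟩ := c.Sb_pgroup.exists_le_sylow
  refine ⟨S, le_antisymm ?_ hS⟩
  by_contra hne
  haveI : Group.IsNilpotent (S : Subgroup K.Y) := IsPGroup.isNilpotent S.2
  have hlt : c.Sb.subgroupOf S < ⊤ := lt_top_iff_ne_top.2 fun e => hne fun x hx => by
    have : (⟨x, hx⟩ : (S : Subgroup K.Y)) ∈ c.Sb.subgroupOf S := e ▸ mem_top _
    exact mem_subgroupOf.1 this
  obtain ⟨n, hn, hnS⟩ := SetLike.exists_of_lt (normalizerCondition_of_isNilpotent (c.Sb.subgroupOf S) hlt)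
  obtain ⟨g, hg⟩ := QuotientGroup.mk'_surjective K.zS (n : K.Y)
  have hgW : K.pr g ∈ normalizer (c.Wb : Set K.Y) := by
    refine c.weak fun y hy => ?_
    have hyS : y ∈ c.Sb := c.Wb_le_Sb hy
    have h := (mem_normalizer_iff.1 hn ⟨y, hS hyS⟩).1 (mem_subgroupOf.2 hyS)
    have e : ((n * ⟨y, hS hyS⟩ * n⁻¹ : (S : Subgroup K.Y)) : K.Y) = (n : K.Y) * y * (n : K.Y)⁻¹ := rfl
    have h' := mem_subgroupOf.1 h
    rw [e, ← hg] at h'
    exact h'
  obtain ⟨w, hw, e, he, t, ht, egt⟩ := c.NG_of_six hd fun y hy => c.six_of_norm hd hgW hy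
  have heS : K.pr ⟨e, K.E_mem_Cz he⟩ ∈ (S : Subgroup K.Y) := by
    have eg : (⟨e, K.E_mem_Cz he⟩ : K.Cz) =
        (⟨w, c.W_le_Cz hw⟩ : K.Cz)⁻¹ * g * (⟨t, K.mem_Cz.2 (IsT.comm_zz K ht)⟩ : K.Cz)⁻¹ :=
      Subtype.ext (by simp [egt, ← mul_assoc])
    rw [eg, map_mul, map_mul, map_inv, map_inv]
    refine mul_mem (mul_mem (inv_mem (hS ((K.mem_img c.zz_mem_S).2 (c.W_le_S hw)))) ?_)
      (inv_mem (hS ((K.mem_img c.zz_mem_S).2 (c.T_mem_S ht))))
    show K.pr g ∈ (S : Subgroup K.Y)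
    rw [show K.pr g = (n : K.Y) from hg]
    exact n.2
  obtain ⟨k, hk⟩ := S.2 ⟨_, heS⟩
  have h1 : K.pr ⟨e, K.E_mem_Cz he⟩ = 1 := orderOf_eq_one_iff.1 (Nat.eq_one_of_dvd_coprimes
    (Nat.Coprime.pow_left k (by norm_num : Nat.Coprime 2 3))
    (orderOf_dvd_of_pow_eq_one (congrArg Subtype.val hk))
    (orderOf_dvd_of_pow_eq_one (by
      rw [← map_pow, show (⟨e, K.E_mem_Cz he⟩ : K.Cz) ^ 3 = 1 from Subtype.ext (K.E_exp he), map_one])))
  have he1 : e = 1 := by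
    rcases K.pr_eq_one.1 h1 with h | h
    · exact h
    · exfalso
      have h3 := K.E_exp he
      rw [show e = K.zz from h, pow_succ, pow_two, K.zz_sq, one_mul] at h3
      exact K.zz_ne h3
  refine hnS (mem_subgroupOf.2 ?_)
  rw [← hg]
  refine (K.mem_img c.zz_mem_S).2 ?_
  rw [egt, he1, mul_one]
  exact ⟨w, hw, t, ht, rfl⟩

/-- Weak closure in every `2`-group. -/
theorem weak_any (hd : centralizer ({F.e 0 * F.e 1} : Set G) ≤ B.M) {T : Subgroup K.Y} (hT : IsPGroup 2 T)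
    (hW : c.Wb ≤ T) {f : K.Y} (hf : ∀ y ∈ c.Wb, f * y * f⁻¹ ∈ T) : f ∈ normalizer (c.Wb : Set K.Y) := by
  haveI : Fact (Nat.Prime 2) := ⟨Nat.prime_two⟩
  obtain ⟨S, hS⟩ := c.sylow hd
  obtain ⟨T', hT'⟩ := hT.exists_le_sylow
  obtain ⟨j, hj⟩ := MulAction.exists_smul_eq K.Y T' S
  have key : ∀ y ∈ T, j * y * j⁻¹ ∈ c.Sb := fun y hy => by
    rw [← hS, ← hj, Sylow.coe_subgroup_smul]
    exact ⟨y, hT' hy, rfl⟩
  have h1 := c.weak (f := j) fun y hy => key y (hW hy)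
  have h2 := c.weak (f := j * f) fun y hy => by
    rw [show j * f * y * (j * f)⁻¹ = j * (f * y * f⁻¹) * j⁻¹ by group]
    exact key _ (hf y hy)
  simpa using mul_mem (inv_mem h1) h2

/-- The class of the six. -/
def Kset : Set K.Y := {y | ∃ f : K.Y, c.IsSix (f * y * f⁻¹)}

theorem conj_Kset (g : K.Y) : ∀ x ∈ c.Kset, g * x * g⁻¹ ∈ c.Kset := by
  rintro x ⟨f, hf⟩
  exact ⟨f * g⁻¹, by rwa [show f * g⁻¹ * (g * x * g⁻¹) * (f * g⁻¹)⁻¹ = f * x * f⁻¹ by group]⟩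

theorem six_Kset {y : K.Y} (h : c.IsSix y) : y ∈ c.Kset := ⟨1, by simpa using h⟩

theorem mem_Kset (hd : centralizer ({F.e 0 * F.e 1} : Set G) ≤ B.M) {x : K.Y} (hx : x ∈ c.Sb) :
    x ∈ c.Kset ↔ c.IsSix x := by
  refine ⟨?_, c.six_Kset⟩
  rintro ⟨f, hf⟩
  haveI : Fact (Nat.Prime 2) := ⟨Nat.prime_two⟩
  obtain ⟨g, rfl⟩ := QuotientGroup.mk'_surjective K.zS x
  obtain ⟨F', rfl⟩ := QuotientGroup.mk'_surjective K.zS f
  have hsq : (g : G) * g = K.zz := by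
    have h := c.six_sq (g := F' * g * F'⁻¹) (by rw [map_mul, map_mul, map_inv]; exact hf)
    simp only [Subgroup.coe_mul, Subgroup.coe_inv] at h
    calc (g : G) * g = (F' : G)⁻¹ * ((F' : G) * g * (F' : G)⁻¹ * ((F' : G) * g * (F' : G)⁻¹)) * F' := by group
      _ = K.zz := by rw [h, mul_assoc, ← K.mem_Cz.1 F'.2, inv_mul_cancel_left]
  have hgW : (g : G) ∈ c.W := c.mem_W_of_sq ((K.mem_img c.zz_mem_S).1 hx) hsq
  have hxW : K.pr g ∈ c.Wb := (K.mem_img c.zz_mem_W).2 hgW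
  set x := K.pr g
  set h := (K.pr F')⁻¹
  set v := K.pr F' * x * (K.pr F')⁻¹ with hv
  have hvW : v ∈ c.Wb := c.six_mem_Wb hf
  have hcomm : ∀ a ∈ c.Wb, ∀ b ∈ c.Wb, a * b = b * a := fun a ha b hb =>
    K.img_comm (fun p hp q hq => c.W_comm hp hq) ha hb
  set C := centralizer ({x} : Set K.Y)
  have hWC : c.Wb ≤ C := fun y hy => mem_centralizer_singleton_iff.2 (hcomm y hy x hxW)
  set W' := c.Wb.map (MulAut.conj h).toMonoidHom
  have hW'C : W' ≤ C := by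
    rintro _ ⟨y, hy, rfl⟩
    refine mem_centralizer_singleton_iff.2 ?_
    have e : x = MulAut.conj h v := by
      rw [MulAut.conj_apply, hv]
      simp only [h, inv_inv]
      group
    rw [MulEquiv.coe_toMonoidHom, e, ← map_mul, ← map_mul, hcomm y hy v hvW]
  have hWp : IsPGroup 2 c.Wb := c.Sb_pgroup.to_le c.Wb_le_Sb
  obtain ⟨T₁, hT₁⟩ := (show IsPGroup 2 (c.Wb.subgroupOf C) from hWp.comap_subtype).exists_le_sylow
  obtain ⟨T₂, hT₂⟩ := (show IsPGroup 2 (W'.subgroupOf C) from (hWp.map _).comap_subtype).exists_le_sylow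
  obtain ⟨k, hk⟩ := MulAction.exists_smul_eq C T₂ T₁
  set T := (T₁ : Subgroup C).map C.subtype
  have hn := c.weak_any hd (T := T) (T₁.2.map _) (fun y hy => ⟨⟨y, hWC hy⟩, hT₁ (mem_subgroupOf.2 hy), rfl⟩)
    (f := (k : K.Y) * h) fun y hy => by
      refine ⟨k * ⟨MulAut.conj h y, hW'C ⟨y, hy, rfl⟩⟩ * k⁻¹, ?_, ?_⟩
      · rw [← hk, Sylow.coe_subgroup_smul]
        exact ⟨_, hT₂ (mem_subgroupOf.2 ⟨y, hy, rfl⟩), rfl⟩
      · simp [MulAut.conj_apply, mul_assoc]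
  have := c.six_of_norm hd hn hf
  have ek : (k : K.Y) * x * (k : K.Y)⁻¹ = x := by
    rw [mem_centralizer_singleton_iff.1 k.2, mul_inv_cancel_right]
  rwa [show (k : K.Y) * h * v * ((k : K.Y) * h)⁻¹ = x by
    conv_rhs => rw [← ek]
    rw [hv]
    simp only [h, mul_inv_rev, inv_inv]
    group] at this

theorem P_comm : ∀ a ∈ c.P, ∀ b ∈ c.P, a * b = b * a := fun _ ha _ hb =>
  K.img_comm (fun _ hx _ hy => c.W_comm (c.PG_le_W hx) (c.PG_le_W hy)) ha hb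

theorem P_exp : ∀ a ∈ c.P, a * a = 1 := fun _ ha => K.img_sq (fun _ hx => c.W_sq (c.PG_le_W hx)) ha

theorem P_decomp : ∀ p ∈ c.P, ∃ a ∈ c.Va, ∃ b ∈ c.Vb, p = a * b := by
  intro y hy
  obtain ⟨g, ⟨p, hp, q, hq, e⟩, rfl⟩ := K.exists_pr hy
  refine ⟨K.pr ⟨p, K.Qa_le_Cz hp⟩, (K.mem_img K.zz_mem_Qa).2 hp, K.pr ⟨q, K.Qb_le_Cz hq⟩,
    (K.mem_img K.zz_mem_Qb).2 hq, ?_⟩
  rw [← map_mul]
  exact congrArg K.pr (Subtype.ext e)

theorem unique {a a' b b' : K.Y} (ha : a ∈ c.Va) (ha' : a' ∈ c.Va) (hb : b ∈ c.Vb) (hb' : b' ∈ c.Vb)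
    (e : a * b = a' * b') : a = a' ∧ b = b' := by
  have h1 : a'⁻¹ * a = b' * b⁻¹ := by
    calc a'⁻¹ * a = a'⁻¹ * (a * b) * b⁻¹ := by group
      _ = b' * b⁻¹ := by rw [e]; group
  have h2 := c.disj (mul_mem (inv_mem ha') ha) (h1 ▸ mul_mem hb' (inv_mem hb))
  have h3 := (inv_mul_eq_one.1 h2).symm
  exact ⟨h3, mul_left_cancel (h3 ▸ e)⟩

theorem card_P : Nat.card c.P = 16 := by
  have hab : ∀ x : c.Va × c.Vb, (x.1 : K.Y) * x.2 ∈ c.P := fun x => mul_mem (c.Va_le_P x.1.2) (c.Vb_le_P x.2.2)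
  rw [← Nat.card_congr (Equiv.ofBijective (fun x : c.Va × c.Vb => (⟨_, hab x⟩ : c.P)) ⟨fun x y e => by
    obtain ⟨h1, h2⟩ := c.unique x.1.2 y.1.2 x.2.2 y.2.2 (congrArg Subtype.val e)
    exact Prod.ext (Subtype.ext h1) (Subtype.ext h2), fun p => by
    obtain ⟨a, ha, b, hb, e⟩ := c.P_decomp p p.2
    exact ⟨(⟨a, ha⟩, ⟨b, hb⟩), Subtype.ext e.symm⟩⟩), Nat.card_prod, K.card_img_Qa, K.card_img_Qb]

theorem six_mem_P {y : K.Y} (h : y ∈ c.Va ∨ y ∈ c.Vb) : y ∈ c.P := h.elim (fun e => c.Va_le_P e) fun e => c.Vb_le_P e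

theorem norm_P_of_NG {g : K.Cz} (hg : (g : G) ∈ c.NG) : K.pr g ∈ normalizer (c.P : Set K.Y) := by
  refine mem_normalizer_iff_map_conj_eq.2 (eq_of_le_of_card_ge ?_
    (card_map_of_injective (MulAut.conj (K.pr g)).injective).ge)
  rintro _ ⟨p, hp, rfl⟩
  obtain ⟨a, ha, b, hb, rfl⟩ := c.P_decomp p hp
  rw [map_mul]
  have key : ∀ y, y ∈ c.Va ∨ y ∈ c.Vb → K.pr g * y * (K.pr g)⁻¹ ∈ c.P := fun y hy => by
    by_cases h1 : y = 1
    · rw [h1, mul_one, mul_inv_cancel]; exact one_mem _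
    · exact c.six_mem_P (c.NG_six hg ⟨h1, hy⟩).2
  exact mul_mem (key a (Or.inl ha)) (key b (Or.inr hb))

theorem six_of_norm_P (hd : centralizer ({F.e 0 * F.e 1} : Set G) ≤ B.M) {n : K.Y}
    (hn : n ∈ normalizer (c.P : Set K.Y)) {y : K.Y} (hy : c.IsSix y) : c.IsSix (n * y * n⁻¹) :=
  (c.mem_Kset hd (c.Wb_le_Sb (c.P_le_Wb ((mem_normalizer_iff.1 hn y).1 (c.six_mem_P hy.2))))).1
    (c.conj_Kset n y (c.six_Kset hy))

theorem NG_of_norm_P (hd : centralizer ({F.e 0 * F.e 1} : Set G) ≤ B.M) {g : K.Cz}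
    (hn : K.pr g ∈ normalizer (c.P : Set K.Y)) : (g : G) ∈ c.NG :=
  c.NG_of_six hd fun _ hy => c.six_of_norm_P hd hn hy

theorem cent_Va_norm (hd : centralizer ({F.e 0 * F.e 1} : Set G) ≤ B.M) :
    centralizer (c.Va : Set K.Y) ≤ normalizer (c.P : Set K.Y) := by
  intro y hy
  obtain ⟨g, rfl⟩ := QuotientGroup.mk'_surjective K.zS y
  obtain ⟨w, hw, k, e⟩ := c.cent_Va hd (g := g) fun v hv => (mem_centralizer_iff.1 hy v hv).symm
  refine c.norm_P_of_NG ?_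
  rw [e]
  exact mul_mem (c.W_le_NG hw) (c.E_le_NG (zpow_mem K.a_mem_E k))

theorem cent_Vb_norm (hd : centralizer ({F.e 0 * F.e 1} : Set G) ≤ B.M) :
    centralizer (c.Vb : Set K.Y) ≤ normalizer (c.P : Set K.Y) := by
  intro y hy
  obtain ⟨g, rfl⟩ := QuotientGroup.mk'_surjective K.zS y
  obtain ⟨w, hw, k, e⟩ := c.cent_Va hd (c.r2_conj (g := g) fun v hv => (mem_centralizer_iff.1 hy v hv).symm)
  refine c.norm_P_of_NG ?_
  have hr := c.T_mem_NG (Or.inr (Or.inl rfl) : K.IsT (F.r 2))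
  have h := mul_mem (mul_mem hr (mul_mem (c.W_le_NG hw) (c.E_le_NG (zpow_mem K.a_mem_E k)))) hr
  rwa [← e, show F.r 2 * ((⟨F.r 2, K.r2_mem_Cz⟩ * g * ⟨F.r 2, K.r2_mem_Cz⟩ : K.Cz) : G) * F.r 2 = (g : G) from
    r2_twice _] at h

theorem cent_P_W (hd : centralizer ({F.e 0 * F.e 1} : Set G) ≤ B.M) {g : K.Cz}
    (h : K.pr g ∈ centralizer (c.P : Set K.Y)) : (g : G) ∈ c.W :=
  c.cent_P hd (fun v hv => (mem_centralizer_iff.1 h v (c.Va_le_P hv)).symm)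
    fun v hv => (mem_centralizer_iff.1 h v (c.Vb_le_P hv)).symm

theorem W_cent_P {g : K.Cz} (h : (g : G) ∈ c.W) : K.pr g ∈ centralizer (c.P : Set K.Y) :=
  mem_centralizer_iff.2 fun y hy => by
    obtain ⟨x, hx, rfl⟩ := K.exists_pr hy
    exact c.W_pr_comm (c.PG_le_W hx) h

theorem cent_P_sq (hd : centralizer ({F.e 0 * F.e 1} : Set G) ≤ B.M) {x : K.Y}
    (h : x ∈ centralizer (c.P : Set K.Y)) : x * x = 1 := by
  obtain ⟨g, rfl⟩ := QuotientGroup.mk'_surjective K.zS x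
  exact K.img_sq (fun p hp => c.W_sq hp) ((K.mem_img c.zz_mem_W).2 (c.cent_P_W hd h))

theorem odd_cent (hd : centralizer ({F.e 0 * F.e 1} : Set G) ≤ B.M) :
    ∀ x ∈ centralizer (c.P : Set K.Y), Odd (orderOf x) → x = 1 := fun x hx hodd => by
  have h2 := orderOf_dvd_of_pow_eq_one ((pow_two x).trans (c.cent_P_sq hd hx))
  rcases (Nat.dvd_prime Nat.prime_two).1 h2 with e | e
  · exact orderOf_eq_one_iff.1 e
  · exact absurd (e ▸ hodd) (by decide)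

theorem blocks_P (hd : centralizer ({F.e 0 * F.e 1} : Set G) ≤ B.M) {n : K.Y}
    (hn : n ∈ normalizer (c.P : Set K.Y)) :
    ((∀ v ∈ c.Va, n * v * n⁻¹ ∈ c.Va) ∧ ∀ v ∈ c.Vb, n * v * n⁻¹ ∈ c.Vb) ∨
      ((∀ v ∈ c.Va, n * v * n⁻¹ ∈ c.Vb) ∧ ∀ v ∈ c.Vb, n * v * n⁻¹ ∈ c.Va) := by
  obtain ⟨g, rfl⟩ := QuotientGroup.mk'_surjective K.zS n
  have key : ∀ (H H' : Subgroup G), K.zz ∈ H' → (∀ x ∈ H, (g : G) * x * (g : G)⁻¹ ∈ H') →
      ∀ v ∈ K.img H, K.pr g * v * (K.pr g)⁻¹ ∈ K.img H' := by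
    intro H H' hz' h v hv
    obtain ⟨x, hx, rfl⟩ := K.exists_pr hv
    rw [← map_inv, ← map_mul, ← map_mul]
    exact (K.mem_img hz').2 (h x hx)
  rcases c.NG_blocks (c.NG_of_norm_P hd hn) with ⟨h1, h2⟩ | ⟨h1, h2⟩
  · exact Or.inl ⟨key _ _ K.zz_mem_Qa h1, key _ _ K.zz_mem_Qb h2⟩
  · exact Or.inr ⟨key _ _ K.zz_mem_Qb h1, key _ _ K.zz_mem_Qa h2⟩

theorem signalizer (hd : centralizer ({F.e 0 * F.e 1} : Set G) ≤ B.M) (R : Subgroup K.Y)
    (hodd : Odd (Nat.card R)) (hn : normalizer (c.P : Set K.Y) ≤ normalizer (R : Set K.Y)) : R = ⊥ := by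
  haveI : Fact (Nat.Prime 3) := ⟨Nat.prime_three⟩
  have hRP : ∀ r ∈ R, r ∈ normalizer (c.P : Set K.Y) → r = 1 := by
    intro r hr hrN
    refine c.odd_cent hd r (mem_centralizer_iff.2 fun p hp => ?_) (hodd.of_dvd_nat (Subgroup.orderOf_dvd_natCard R hr))
    have h1 : r * p * r⁻¹ * p⁻¹ ∈ c.P := mul_mem ((mem_normalizer_iff.1 hrN p).1 hp) (inv_mem hp)
    have h2 : r * p * r⁻¹ * p⁻¹ ∈ R := by
      rw [show r * p * r⁻¹ * p⁻¹ = r * (p * r⁻¹ * p⁻¹) by group]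
      exact mul_mem hr ((mem_normalizer_iff.1 (hn (le_normalizer hp)) _).1 (inv_mem hr))
    have h3 : r * p * r⁻¹ * p⁻¹ = 1 := by
      have e2 := orderOf_dvd_of_pow_eq_one ((pow_two _).trans (c.P_exp _ h1))
      rcases (Nat.dvd_prime Nat.prime_two).1 e2 with e | e
      · exact orderOf_eq_one_iff.1 e
      · exact absurd (hodd.of_dvd_nat (Subgroup.orderOf_dvd_natCard R h2)) (by rw [e]; decide)
    exact (mul_inv_eq_iff_eq_mul.1 (mul_inv_eq_one.1 h3)).symm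
  set Eb := K.img K.E
  have hEN : Eb ≤ normalizer (c.P : Set K.Y) := by
    intro y hy
    obtain ⟨e, he, rfl⟩ := K.exists_pr hy
    exact c.norm_P_of_NG (c.E_le_NG he)
  have hER : Eb ≤ normalizer (R : Set K.Y) := hEN.trans hn
  have hE3 : IsPGroup 3 Eb := (show IsPGroup 3 (K.E.subgroupOf K.Cz) from
    (B.J_pgroup.to_le (inf_le_left : K.E ≤ B.J)).comap_subtype).map K.pr
  -- three does not divide the order
  have hnd : ¬ 3 ∣ Nat.card R := by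
    intro h3
    letI : MulDistribMulAction Eb R :=
      MulDistribMulAction.compHom R (R.normalizerMonoidHom.comp (inclusion hER))
    have hmod := card_sylow_modEq_one 3 R
    obtain ⟨S, hS⟩ := hE3.nonempty_fixed_point_of_prime_not_dvd_card (Sylow 3 R) fun h => by
      unfold Nat.ModEq at hmod
      omega
    set M := (S : Subgroup R).map R.subtype
    have hinv : ∀ e ∈ Eb, ∀ m ∈ M, e * m * e⁻¹ ∈ M := by
      rintro e he _ ⟨s, hs, rfl⟩
      refine ⟨(⟨e, he⟩ : Eb) • s, ?_, rfl⟩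
      rw [← congrArg (fun T : Sylow 3 R => (T : Subgroup R)) (hS ⟨e, he⟩)]
      exact ⟨s, hs, rfl⟩
    have hEM : Eb ≤ normalizer (M : Set K.Y) := fun e he => mem_normalizer_iff.2 fun m =>
      ⟨hinv e he m, fun h => by
        have := hinv e⁻¹ (inv_mem he) _ h
        rwa [inv_inv, show e⁻¹ * (e * m * e⁻¹) * e = m by group] at this⟩
    letI : MulDistribMulAction Eb M :=
      MulDistribMulAction.compHom M (M.normalizerMonoidHom.comp (inclusion hEM))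
    have hMc : 3 ∣ Nat.card M := by
      rw [card_map_of_injective R.subtype_injective]
      exact S.dvd_card_of_dvd_card h3
    obtain ⟨m, hm, hm1⟩ := hE3.exists_fixed_point_of_prime_dvd_card_of_fixed_point M hMc
      (a := 1) fun e => smul_one e
    obtain ⟨g, hg⟩ := QuotientGroup.mk'_surjective K.zS (m : K.Y)
    have hc : ∀ e : G, ∀ he : e ∈ K.E, e * g = g * e := by
      intro e he
      have h1 := congrArg Subtype.val (hm ⟨K.pr ⟨e, K.E_mem_Cz he⟩, ⟨⟨e, K.E_mem_Cz he⟩, mem_subgroupOf.2 he, rfl⟩⟩)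
      refine K.commute_of_mod (K.E_exp he) (K.mem_Cz.1 (K.E_mem_Cz he)) ?_
      have h1' : K.pr ⟨e, K.E_mem_Cz he⟩ * (m : K.Y) * (K.pr ⟨e, K.E_mem_Cz he⟩)⁻¹ = m := h1
      rw [← hg, ← map_inv, ← map_mul, ← map_mul] at h1'
      exact K.pr_eq.1 h1'
    refine hm1 (Subtype.ext ?_).symm
    show (m : K.Y) = 1
    refine hRP m (map_subtype_le _ m.2) (hEN ?_)
    rw [← hg]
    rcases K.cent_E (x := (g : G)) (K.mem_Cz.1 g.2) (fun e he => (hc e he).symm) with h | h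
    · exact ⟨g, mem_subgroupOf.2 h, rfl⟩
    · exact ⟨⟨(g : G) * K.zz, K.E_mem_Cz h⟩, mem_subgroupOf.2 h, K.pr_eq.2 (Or.inr rfl)⟩
  -- the preimage
  set T := (R.comap K.pr).map K.Cz.subtype
  have hTC : T ≤ K.Cz := map_subtype_le _
  have hmemT : ∀ g : K.Cz, (g : G) ∈ T ↔ K.pr g ∈ R := fun g =>
    ⟨fun ⟨w, hw, e⟩ => Subtype.ext e ▸ hw, fun h => ⟨g, h, rfl⟩⟩
  have hzT : K.zz ∈ T := (hmemT ⟨K.zz, K.mem_Cz.2 rfl⟩).2 (by rw [K.pr_eq_one.2 (Or.inr rfl)]; exact one_mem _)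
  have himg : K.img T = R := by
    ext y
    obtain ⟨g, rfl⟩ := QuotientGroup.mk'_surjective K.zS y
    rw [K.mem_img hzT]
    exact hmemT g
  have hT3 : (Nat.card T).Coprime 3 := by
    rw [← K.card_img hzT hTC, himg]
    exact Nat.Coprime.mul_left (by norm_num) ((Nat.Prime.coprime_iff_not_dvd Nat.prime_three).2 hnd).symm
  have hTE : ∀ e ∈ K.E, ∀ x ∈ T, e * x * e⁻¹ ∈ T := by
    intro e he x hx
    refine (hmemT ⟨_, mul_mem (mul_mem (K.E_mem_Cz he) (hTC hx)) (inv_mem (K.E_mem_Cz he))⟩).2 ?_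
    have hx' : K.pr ⟨x, hTC hx⟩ ∈ R := (hmemT ⟨x, hTC hx⟩).1 hx
    have h := (mem_normalizer_iff.1 (hER ⟨⟨e, K.E_mem_Cz he⟩, mem_subgroupOf.2 he, rfl⟩) _).1 hx'
    rwa [← map_inv, ← map_mul, ← map_mul] at h
  have h2 : ∀ x ∈ T, (x * x = 1 ∨ x * x = K.zz) → x ∈ zpowers K.zz := by
    intro x hx hxx
    have hx' : K.pr ⟨x, hTC hx⟩ ∈ R := (hmemT ⟨x, hTC hx⟩).1 hx
    have e2 : orderOf (K.pr ⟨x, hTC hx⟩) ∣ 2 := orderOf_dvd_of_pow_eq_one (by
      rw [pow_two, ← map_mul]; exact K.pr_eq_one.2 hxx)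
    rcases (Nat.dvd_prime Nat.prime_two).1 e2 with e | e
    · exact zz_or K (K.pr_eq_one.1 (orderOf_eq_one_iff.1 e))
    · exact absurd (hodd.of_dvd_nat (Subgroup.orderOf_dvd_natCard R hx')) (by rw [e]; decide)
  have hle : T ≤ zpowers K.zz := (K.cover hd hT3 hTE hTC).trans (sup_le (sup_le
    (fun x hx => h2 x hx.1 (K.Qa_square hx.2)) (fun x hx => h2 x hx.1 (K.Qb_sq hx.2)))
    (fun x hx => h2 x hx.1 (Or.inl (K.Qy_comm hx.2).2.2.2)))
  rw [eq_bot_iff]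
  intro y hy
  obtain ⟨g, rfl⟩ := QuotientGroup.mk'_surjective K.zS y
  exact mem_bot.2 (K.pr_eq_one.2 (K.zz_pow (hle ((hmemT g).2 hy))))

/-- An element centralising the first four-group whose square centralises the sixteen centralises it. -/
theorem cent_a_cent_P (hd : centralizer ({F.e 0 * F.e 1} : Set G) ≤ B.M) {x : K.Y}
    (hxx : x * x ∈ centralizer (c.P : Set K.Y)) (h : ∀ v ∈ c.Va, x * v = v * x) :
    x ∈ centralizer (c.P : Set K.Y) := by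
  obtain ⟨g, rfl⟩ := QuotientGroup.mk'_surjective K.zS x
  refine c.W_cent_P (c.cent_Va_W hd h ?_)
  rw [← map_mul] at hxx
  exact c.cent_P_W hd hxx

theorem cent_b_cent_P (hd : centralizer ({F.e 0 * F.e 1} : Set G) ≤ B.M) {x : K.Y}
    (hxx : x * x ∈ centralizer (c.P : Set K.Y)) (h : ∀ v ∈ c.Vb, x * v = v * x) :
    x ∈ centralizer (c.P : Set K.Y) := by
  obtain ⟨g, rfl⟩ := QuotientGroup.mk'_surjective K.zS x
  refine c.W_cent_P (c.cent_Vb_W hd h ?_)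
  rw [← map_mul] at hxx
  exact c.cent_P_W hd hxx

theorem swap_no_fix {n u : K.Y} (h : ∀ v ∈ c.Va, n * v * n⁻¹ ∈ c.Vb) (hu : u ∈ c.Va) (hnu : n * u = u * n) :
    u = 1 := by
  refine c.disj hu ?_
  have := h u hu
  rwa [hnu, mul_inv_cancel_right] at this

/-- Fixed points on a four-group. -/
theorem four_fix {V : Subgroup K.Y} (hV : Nat.card V = 4) (hV2 : ∀ x ∈ V, x * x = 1) {n : K.Y}
    (hn : ∀ v ∈ V, n * v * n⁻¹ ∈ V) (hnn : ∀ v ∈ V, n * n * v = v * (n * n)) : ∃ u ∈ V, u ≠ 1 ∧ n * u = u * n := by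
  obtain ⟨v, hv, hv1, -⟩ := Six.exists_other hV 1
  by_cases h : n * v * n⁻¹ = v
  · exact ⟨v, hv, hv1, mul_inv_eq_iff_eq_mul.1 h⟩
  have hvc : ∀ a ∈ V, ∀ b ∈ V, a * b = b * a := fun a ha b hb => by
    have h := hV2 _ (mul_mem ha hb)
    rw [← inv_eq_of_mul_eq_one_right h, mul_inv_rev, inv_eq_of_mul_eq_one_right (hV2 a ha),
      inv_eq_of_mul_eq_one_right (hV2 b hb)]
  refine ⟨v * (n * v * n⁻¹), mul_mem hv (hn v hv), fun e => h ?_, ?_⟩
  · rw [eq_inv_of_mul_eq_one_right e, inv_eq_of_mul_eq_one_right (hV2 v hv)]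
  · refine mul_inv_eq_iff_eq_mul.1 ?_
    rw [show n * (v * (n * v * n⁻¹)) * n⁻¹ = n * v * n⁻¹ * (n * n * v * (n * n)⁻¹) by group, hnn v hv,
      mul_inv_cancel_right, hvc _ (hn v hv) v hv]

/-- The transposition on a block. -/
theorem four_move {V : Subgroup K.Y} (hV : Nat.card V = 4) (hV2 : ∀ x ∈ V, x * x = 1) {n u : K.Y} (hu : u ∈ V)
    (hu1 : u ≠ 1) (hnu : n * u = u * n) (hne : ¬ ∀ v ∈ V, n * v = v * n) :
    ∀ v ∈ V, n * v = v * n → v = 1 ∨ v = u := by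
  intro v hv hnv
  by_contra hcon
  push Not at hcon
  refine hne fun x hx => ?_
  rcases Six.four_cases hV hV2 hu hu1 hv hcon.1 hcon.2 hx with rfl | rfl | rfl | rfl
  · rw [mul_one, one_mul]
  · exact hnu
  · exact hnv
  · exact ((show Commute n u from hnu).mul_right hnv).eq

theorem Va_sq : ∀ x ∈ c.Va, x * x = 1 := fun x hx => c.P_exp x (c.Va_le_P hx)

theorem Vb_sq : ∀ x ∈ c.Vb, x * x = 1 := fun x hx => c.P_exp x (c.Vb_le_P hx)

theorem mem_cent_iff {x p : K.Y} (hxx : x * x = 1) : x * p = p * x ↔ x * p * x = p := by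
  constructor
  · intro h; rw [h, mul_assoc, hxx, mul_one]
  · intro h
    conv_rhs => rw [← h]
    rw [mul_assoc _ x x, hxx, mul_one]

theorem no_quad (hd : centralizer ({F.e 0 * F.e 1} : Set G) ≤ B.M) :
    ∀ x ∈ normalizer (c.P : Set K.Y), ∀ y ∈ normalizer (c.P : Set K.Y), x * x = 1 → y * y = 1 →
    x * y = y * x → x ∉ centralizer (c.P : Set K.Y) → y ∉ centralizer (c.P : Set K.Y) →
    x * y ∉ centralizer (c.P : Set K.Y) → (∀ p ∈ c.P, p * x = x * p ↔ p * y = y * p) → False := by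
  intro x hx y hy hxx hyy hxy hxC hyC hxyC hfix
  have hsq : ∀ z : K.Y, z * z = 1 → z * z ∈ centralizer (c.P : Set K.Y) := fun z hz => hz ▸ one_mem _
  have hz2 : x * y * (x * y) = 1 := by rw [(show Commute x y from hxy).symm.mul_mul_mul_comm, hxx, hyy, one_mul]
  have hxi : x⁻¹ = x := inv_eq_of_mul_eq_one_right hxx
  have hyi : y⁻¹ = y := inv_eq_of_mul_eq_one_right hyy
  refine hxyC (c.cent_a_cent_P hd (hsq _ hz2) ?_)
  rcases c.blocks_P hd hx with ⟨xa, -⟩ | ⟨xa, xb⟩ <;> rcases c.blocks_P hd hy with ⟨ya, -⟩ | ⟨ya, yb⟩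
  · obtain ⟨u, hu, hu1, hxu⟩ := four_fix K.card_img_Qa c.Va_sq xa fun v _ => by rw [hxx, one_mul, mul_one]
    have hyu : y * u = u * y := ((hfix u (c.Va_le_P hu)).1 hxu.symm).symm
    have mx := four_move K.card_img_Qa c.Va_sq hu hu1 hxu fun h => hxC (c.cent_a_cent_P hd (hsq x hxx) h)
    have my := four_move K.card_img_Qa c.Va_sq hu hu1 hyu fun h => hyC (c.cent_a_cent_P hd (hsq y hyy) h)
    obtain ⟨v, hv, hv1, hvu⟩ := Six.exists_other K.card_img_Qa u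
    have img : ∀ n : K.Y, (∀ w ∈ c.Va, n * w * n⁻¹ ∈ c.Va) → n * u = u * n →
        (∀ w ∈ c.Va, n * w = w * n → w = 1 ∨ w = u) → n * v * n⁻¹ = u * v := by
      intro n hn hnu hm
      rcases Six.four_cases K.card_img_Qa c.Va_sq hu hu1 hv hv1 hvu (hn v hv) with e | e | e | e
      · exact absurd (conj_eq_one_iff.1 e) hv1
      · refine absurd (mul_left_cancel (mul_right_cancel (b := n⁻¹) (e.trans ?_))) hvu
        rw [hnu, mul_inv_cancel_right]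
      · exact absurd ((hm v hv (mul_inv_eq_iff_eq_mul.1 e)).resolve_left hv1) hvu
      · exact e
    intro w hw
    have hxyv : x * y * v = v * (x * y) := by
      refine mul_inv_eq_iff_eq_mul.1 ?_
      rw [mul_inv_rev, show x * y * v * (y⁻¹ * x⁻¹) = x * (y * v * y⁻¹) * x⁻¹ by group, img y ya hyu my,
        show x * (u * v) * x⁻¹ = x * u * x⁻¹ * (x * v * x⁻¹) by group, img x xa hxu mx, hxu, mul_inv_cancel_right,
        ← mul_assoc, c.Va_sq u hu, one_mul]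
    rcases Six.four_cases K.card_img_Qa c.Va_sq hu hu1 hv hv1 hvu hw with e | e | e | e <;> rw [e]
    · rw [mul_one, one_mul]
    · exact ((show Commute x u from hxu).mul_left hyu).eq
    · exact hxyv
    · exact (((show Commute x u from hxu).mul_left hyu).mul_right hxyv).eq
  · exfalso
    obtain ⟨u, hu, hu1, hxu⟩ := four_fix K.card_img_Qa c.Va_sq xa fun v _ => by rw [hxx, one_mul, mul_one]
    exact hu1 (c.swap_no_fix ya hu ((hfix u (c.Va_le_P hu)).1 hxu.symm).symm)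
  · exfalso
    obtain ⟨u, hu, hu1, hyu⟩ := four_fix K.card_img_Qa c.Va_sq ya fun v _ => by rw [hyy, one_mul, mul_one]
    exact hu1 (c.swap_no_fix xa hu ((hfix u (c.Va_le_P hu)).2 hyu.symm).symm)
  · intro v hv
    have hb : x * v * x ∈ c.Vb := by have := xa v hv; rwa [hxi] at this
    have hP : v * (x * v * x) ∈ c.P := mul_mem (c.Va_le_P hv) (c.Vb_le_P hb)
    have hcx : v * (x * v * x) * x = x * (v * (x * v * x)) := by
      rw [mul_assoc v, mul_assoc (x * v) x x, hxx, mul_one, c.P_comm v (c.Va_le_P hv) _ (c.Vb_le_P hb)]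
      rw [← mul_assoc x (x * v * x) v, ← mul_assoc x (x * v) x, ← mul_assoc x x v, hxx, one_mul, mul_assoc v x v]
    have hcy := (mem_cent_iff hyy).1 ((hfix _ hP).1 hcx).symm
    have e : y * v * y * (y * (x * v * x) * y) = v * (x * v * x) := by
      rw [show y * v * y * (y * (x * v * x) * y) = y * v * (y * y) * (x * v * x) * y by group, hyy, mul_one]
      rw [← hcy]
      group
    have h1 : y * v * y ∈ c.Vb := by have := ya v hv; rwa [hyi] at this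
    have h2 : y * (x * v * x) * y ∈ c.Va := by have := yb _ hb; rwa [hyi] at this
    rw [c.P_comm _ (c.Vb_le_P h1) _ (c.Va_le_P h2)] at e
    have e2 := (c.unique h2 hv h1 hb e).1
    refine (mem_cent_iff hz2).2 ?_
    calc x * y * v * (x * y) = y * x * v * (x * y) := by rw [hxy]
      _ = y * (x * v * x) * y := by group
      _ = v := e2

theorem mem_Sb_six (hd : centralizer ({F.e 0 * F.e 1} : Set G) ≤ B.M) {S : Sylow 2 K.Y}
    (hS : (S : Subgroup K.Y) = c.Sb) :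
    ∀ x ∈ (S : Subgroup K.Y), x ∈ c.Kset ↔ x ≠ 1 ∧ (x ∈ c.Va ∨ x ∈ c.Vb) := fun x hx =>
  c.mem_Kset hd (hS ▸ hx)

/-- The configuration in the quotient. -/
noncomputable def six (hd : centralizer ({F.e 0 * F.e 1} : Set G) ≤ B.M) : Six K.Y where
  P := c.P
  Va := c.Va
  Vb := c.Vb
  K := c.Kset
  S := (c.sylow hd).choose
  comm := c.P_comm
  exp := c.P_exp
  card_P := c.card_P
  le_a := c.Va_le_P
  le_b := c.Vb_le_P
  card_a := K.card_img_Qa
  card_b := K.card_img_Qb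
  disj := fun _ ha hb => c.disj ha hb
  decomp := c.P_decomp
  conj_K := c.conj_Kset
  P_le_S := (c.sylow hd).choose_spec.symm ▸ c.P_le_Wb.trans c.Wb_le_Sb
  mem_K := c.mem_Sb_six hd (c.sylow hd).choose_spec
  cent_a := c.cent_Va_norm hd
  cent_b := c.cent_Vb_norm hd
  odd_cent := c.odd_cent hd
  signalizer := c.signalizer hd
  no_quad := c.no_quad hd

theorem norm_Qy_NG (hd : centralizer ({F.e 0 * F.e 1} : Set G) ≤ B.M) (hZ : c.Zg = K.Qy) {g : K.Cz}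
    (hg : ∀ z ∈ K.Qy, (g : G) * z * (g : G)⁻¹ ∈ K.Qy) : (g : G) ∈ c.NG := by
  have hgQ : K.Qy.map (MulAut.conj (g : G)).toMonoidHom = K.Qy := by
    refine eq_of_le_of_card_ge ?_ (card_map_of_injective (MulAut.conj (g : G)).injective).ge
    rintro _ ⟨y, hy, rfl⟩
    exact hg y hy
  have hL : ∀ y ∈ Ly K, (g : G) * y * (g : G)⁻¹ ∈ Ly K := by
    intro y hy
    obtain ⟨h1, h2⟩ := mem_Ly.1 hy
    refine mem_Ly.2 ⟨(((show Commute (g : G) K.zz from K.mem_Cz.1 g.2).mul_left h1).mul_left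
      (show Commute (g : G) K.zz from K.mem_Cz.1 g.2).inv_left).eq, fun z hz => ?_⟩
    obtain ⟨z', hz', rfl⟩ := (hgQ.symm ▸ hz : z ∈ K.Qy.map (MulAut.conj (g : G)).toMonoidHom)
    rw [MulEquiv.coe_toMonoidHom, MulAut.conj_apply,
      show (g : G) * y * (g : G)⁻¹ * (g * z' * (g : G)⁻¹) = g * (y * z') * (g : G)⁻¹ by group, h2 z' hz']
    group
  have hW : ∀ x ∈ c.W, (g : G) * x * (g : G)⁻¹ ∈ c.W := by
    intro x hx
    set W' := c.W.map (MulAut.conj (g : G)).toMonoidHom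
    have hW2 : IsPGroup 2 W' := (c.S_pgroup.to_le c.W_le_S).map _
    set x' := (g : G) * x * (g : G)⁻¹
    have hx' : x' ∈ W' := ⟨x, hx, rfl⟩
    have hnorm : ∀ y ∈ Ly K, ∀ u ∈ c.W, y * u * y⁻¹ ∈ c.W := by
      intro y hy u hu
      obtain ⟨w, hw, k, rfl | rfl⟩ := c.Ly_form hd hZ hy
      · rw [show w * F.e 2 ^ k * u * (w * F.e 2 ^ k)⁻¹ = w * (F.e 2 ^ k * u * (F.e 2 ^ k)⁻¹) * w⁻¹ by group]
        exact c.W_conj hw (c.E_W (zpow_mem K.e2_mem_E k) hu)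
      · rw [show w * F.e 2 ^ k * F.r 2 * u * (w * F.e 2 ^ k * F.r 2)⁻¹ =
          w * (F.e 2 ^ k * (F.r 2 * u * (F.r 2)⁻¹) * (F.e 2 ^ k)⁻¹) * w⁻¹ by group]
        exact c.W_conj hw (c.E_W (zpow_mem K.e2_mem_E k) (c.T_W (Or.inr (Or.inl rfl)) hu))
    have hW'n : ∀ y ∈ Ly K, ∀ u ∈ W', y * u * y⁻¹ ∈ W' := by
      rintro y hy _ ⟨u, hu, rfl⟩
      have hgl : (g : G)⁻¹ * y * g ∈ Ly K := by
        have hmap : (Ly K).map (MulAut.conj (g : G)).toMonoidHom = Ly K := by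
          refine eq_of_le_of_card_ge ?_ (card_map_of_injective (MulAut.conj (g : G)).injective).ge
          rintro _ ⟨z, hz, rfl⟩
          exact hL z hz
        obtain ⟨z, hz, rfl⟩ := (hmap.symm ▸ hy : y ∈ (Ly K).map (MulAut.conj (g : G)).toMonoidHom)
        simpa [mul_assoc] using hz
      refine ⟨_, hnorm _ hgl u hu, ?_⟩
      simp only [MulEquiv.coe_toMonoidHom, MulAut.conj_apply]
      group
    -- a `2`-element with a nontrivial part of order three is absurd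
    have key : ∀ w ∈ c.W, ∀ k : ℤ, w * F.e 2 ^ k ∈ W' → F.e 2 ^ k = 1 := by
      intro w hw k hm
      obtain ⟨j, hj⟩ := hW2 ⟨_, hm⟩
      have hj' : (w * F.e 2 ^ k) ^ 2 ^ j = 1 := congrArg Subtype.val hj
      have hind : ∀ n : ℕ, ∃ w' ∈ c.W, (w * F.e 2 ^ k) ^ n = w' * (F.e 2 ^ k) ^ n := by
        intro n
        induction n with
        | zero => exact ⟨1, one_mem _, by rw [pow_zero, pow_zero, one_mul]⟩
        | succ n ih =>
          obtain ⟨w', hw', e⟩ := ih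
          refine ⟨w' * ((F.e 2 ^ k) ^ n * w * ((F.e 2 ^ k) ^ n)⁻¹),
            mul_mem hw' (c.E_W (pow_mem (zpow_mem K.e2_mem_E k) n) hw), ?_⟩
          rw [pow_succ, e, pow_succ]
          group
      obtain ⟨w', hw', e⟩ := hind (2 ^ j)
      rw [hj'] at e
      have hmem : (F.e 2 ^ k) ^ 2 ^ j ∈ c.W := by rw [eq_inv_of_mul_eq_one_right e.symm]; exact inv_mem hw'
      obtain ⟨i, hi⟩ := (c.S_pgroup.to_le c.W_le_S) ⟨_, hmem⟩
      have hi' : ((F.e 2 ^ k) ^ 2 ^ j) ^ 2 ^ i = 1 := congrArg Subtype.val hi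
      rw [← pow_mul, ← pow_add] at hi'
      exact orderOf_eq_one_iff.1 (Nat.eq_one_of_dvd_coprimes
        (Nat.Coprime.pow_left (j + i) (by norm_num : Nat.Coprime 2 3))
        (orderOf_dvd_of_pow_eq_one hi') (orderOf_dvd_of_pow_eq_one (K.E_exp (zpow_mem K.e2_mem_E k))))
    obtain ⟨w, hw, k, e | e⟩ := c.Ly_form hd hZ (hL x (c.W_le_Ly hZ hx))
    · have h1 := key w hw k (e ▸ hx')
      rw [show x' = w * F.e 2 ^ k from e, h1, mul_one]
      exact hw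
    · exfalso
      have hm : F.e 2 * x' * (F.e 2)⁻¹ * x'⁻¹ ∈ W' :=
        mul_mem (hW'n _ e2_mem_Ly _ hx') (inv_mem hx')
      have e' : F.e 2 * x' * (F.e 2)⁻¹ * x'⁻¹ = F.e 2 * w * (F.e 2)⁻¹ * ((F.e 2 ^ (2 : ℤ)) * w⁻¹ * (F.e 2 ^ (2 : ℤ))⁻¹) *
          F.e 2 ^ (2 : ℤ) := by
        rw [show x' = w * F.e 2 ^ k * F.r 2 from e]
        have hr : F.r 2 * (F.e 2)⁻¹ = F.e 2 * F.r 2 := by
          rw [← K.r2_e2, ← mul_assoc, ← mul_assoc, F.r_sq, one_mul]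
        calc F.e 2 * (w * F.e 2 ^ k * F.r 2) * (F.e 2)⁻¹ * (w * F.e 2 ^ k * F.r 2)⁻¹ =
              F.e 2 * w * F.e 2 ^ k * (F.r 2 * (F.e 2)⁻¹) * (F.r 2)⁻¹ * (F.e 2 ^ k)⁻¹ * w⁻¹ := by group
          _ = F.e 2 * w * F.e 2 * w⁻¹ := by rw [hr]; group
          _ = _ := by group
      have hwW : F.e 2 * w * (F.e 2)⁻¹ * ((F.e 2 ^ (2 : ℤ)) * w⁻¹ * (F.e 2 ^ (2 : ℤ))⁻¹) ∈ c.W :=
        mul_mem (c.E_W K.e2_mem_E hw) (c.E_W (zpow_mem K.e2_mem_E _) (inv_mem hw))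
      have h2 := key _ hwW 2 (e' ▸ hm)
      have h3 := K.E_exp K.e2_mem_E
      rw [pow_succ, ← zpow_natCast, show ((2 : ℕ) : ℤ) = 2 from rfl, h2, one_mul] at h3
      exact (K.sl_e2 (K.E_comm K.e2_mem_E K.a_mem_E)).2 (by
        rw [show (⟨F.e 2, _⟩ : B.C) = 1 from Subtype.ext h3, map_one])
  have hn : K.pr g ∈ normalizer (c.Wb : Set K.Y) := by
    refine c.weak fun y hy => c.Wb_le_Sb ?_
    obtain ⟨x, hx, rfl⟩ := K.exists_pr hy
    rw [← map_inv, ← map_mul, ← map_mul]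
    exact (K.mem_img c.zz_mem_W).2 (hW x hx)
  exact c.NG_of_six hd fun y hy => c.six_of_norm hd hn hy

/-- The third group in the quotient. -/
abbrev Zb : Subgroup K.Y := K.img c.Zg

theorem third (hd : centralizer ({F.e 0 * F.e 1} : Set G) ≤ B.M) : Nonempty (Six.Third (c.six hd)) := by
  have hzP : ∀ y, y ∈ c.P → y ∈ c.Zb → y = 1 := by
    intro y hy hz
    obtain ⟨g, rfl⟩ := QuotientGroup.mk'_surjective K.zS y
    obtain ⟨p, hp, q, hq, e⟩ := (K.mem_img c.zz_mem_PG).1 hy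
    have hg := (K.mem_img c.zz_mem).1 hz
    obtain ⟨h1, h2, -⟩ := K.triple hp hq (inv_mem (c.le_Qy hg)) (Or.inl (by rw [← e, mul_inv_cancel]))
    refine K.pr_eq_one.2 (K.zz_pow ?_)
    rw [e]
    exact mul_mem (zz_or K h1) (zz_or K h2)
  refine ⟨{
    Z := c.Zb
    le_cent := ?_
    norm := ?_
    card_le := ?_
    expZ := fun y hy => K.img_sq (fun x hx => Or.inl (K.Qy_comm (c.le_Qy hx)).2.2.2) hy
    disj_Z := hzP
    split := ?_
    cent_Z := ?_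
    outer := ?_ }⟩
  · intro y hy
    obtain ⟨g, hg, rfl⟩ := K.exists_pr hy
    exact c.W_cent_P (c.Zg_le_W hg)
  · intro n hn y hy
    obtain ⟨g, rfl⟩ := QuotientGroup.mk'_surjective K.zS n
    obtain ⟨z, hz, rfl⟩ := K.exists_pr hy
    rw [← map_inv, ← map_mul, ← map_mul]
    refine (K.mem_img c.zz_mem).2 ?_
    obtain ⟨w, hw, e, he, t, ht, egt⟩ := c.NG_of_norm_P hd hn
    show (g : G) * z * (g : G)⁻¹ ∈ c.Zg
    rw [egt, show w * e * t * z * (w * e * t)⁻¹ = w * (e * (t * z * t⁻¹) * e⁻¹) * w⁻¹ by group]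
    set z' := e * (t * z * t⁻¹) * e⁻¹
    have hz' : z' ∈ c.Zg := c.E_Zg he (c.T_Zg ht hz)
    obtain ⟨p, hp, q, hq, z₀, hz₀, rfl⟩ := hw
    rw [show p * q * z₀ * z' * (p * q * z₀)⁻¹ = p * (q * (z₀ * z' * z₀⁻¹) * q⁻¹) * p⁻¹ by group,
      K.Qy_abelian (c.le_Qy hz₀) (c.le_Qy hz'), mul_inv_cancel_right, ← c.hzb hz' hq, mul_inv_cancel_right,
      ← c.hza _ hz' _ hp, mul_inv_cancel_right]
    exact hz'
  · have h1 := K.card_img c.zz_mem (c.le_Qy.trans K.Qy_le_Cz)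
    have h2 : Nat.card c.Zg ≤ 8 := by
      refine (card_le_of_le c.le_Qy).trans ?_
      let f : K.Qy → {σ : Perm (Fin 6) // σ ∈ baseList} := fun x =>
        ⟨(K.mem_Qy.1 x.2).choose, (K.mem_Qy.1 x.2).choose_spec.1⟩
      have hf : Function.Injective f := fun x y e => Subtype.ext (by
        rw [← (K.mem_Qy.1 x.2).choose_spec.2, ← (K.mem_Qy.1 y.2).choose_spec.2]
        exact congrArg K.φ (congrArg Subtype.val e))
      refine (Nat.card_le_card_of_injective f hf).trans ?_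
      rw [Nat.card_congr (Equiv.subtypeEquivRight (q := fun σ => σ ∈ baseList.toFinset)
        fun σ => List.mem_toFinset.symm), Nat.card_eq_finsetCard, List.toFinset_card_of_nodup base_facts.2.2]
      rfl
    show Nat.card (K.img c.Zg) ≤ 4
    omega
  · intro x hx
    obtain ⟨g, rfl⟩ := QuotientGroup.mk'_surjective K.zS x
    obtain ⟨p, hp, q, hq, z, hz, e⟩ := c.cent_P_W hd hx
    refine ⟨K.pr ⟨p * q, mul_mem (K.Qa_le_Cz hp) (K.Qb_le_Cz hq)⟩, (K.mem_img c.zz_mem_PG).2 ⟨p, hp, q, hq, rfl⟩,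
      K.pr ⟨z, K.Qy_le_Cz (c.le_Qy hz)⟩, (K.mem_img c.zz_mem).2 hz, ?_⟩
    rw [← map_mul]
    exact congrArg K.pr (Subtype.ext e)
  · intro hne y hy
    have hZ : c.Zg = K.Qy := c.cases.resolve_left fun e => hne ((eq_bot_iff_forall _).2 fun u hu => by
      obtain ⟨z, hz, rfl⟩ := K.exists_pr hu
      rw [e] at hz
      exact K.pr_eq_one.2 (K.zz_pow hz))
    obtain ⟨g, rfl⟩ := QuotientGroup.mk'_surjective K.zS y
    refine c.norm_P_of_NG (c.norm_Qy_NG hd hZ fun z hz => ?_)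
    have h := mem_centralizer_iff.1 hy (K.pr ⟨z, K.Qy_le_Cz hz⟩) ((K.mem_img c.zz_mem).2 (hZ ▸ hz))
    rw [← map_mul, ← map_mul] at h
    rcases K.pr_eq.1 h.symm with e | e <;> simp only [Subgroup.coe_mul] at e
    · rw [e, mul_inv_cancel_right]; exact hz
    · rw [e, show z * (g : G) * K.zz = z * ((g : G) * K.zz) from mul_assoc _ _ _, K.mem_Cz.1 g.2, ← mul_assoc,
        mul_inv_cancel_right]
      exact mul_mem hz K.zz_mem_Qy
  · intro u hu hu1 i hi hii hiC hiu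
    rcases c.blocks_P hd hi with ⟨ha, hb⟩ | ⟨ha, -⟩
    swap
    · exact absurd (c.swap_no_fix ha hu hiu) hu1
    have hii' : ∀ v ∈ c.P, i * i * v = v * (i * i) := fun v hv => (mem_centralizer_iff.1 hii v hv).symm
    obtain ⟨v, hv, hv1, hiv⟩ := four_fix K.card_img_Qb c.Vb_sq hb fun w hw => hii' w (c.Vb_le_P hw)
    have ma := four_move K.card_img_Qa c.Va_sq hu hu1 hiu fun h => hiC (c.cent_a_cent_P hd hii h)
    have mb := four_move K.card_img_Qb c.Vb_sq hv hv1 hiv fun h => hiC (c.cent_b_cent_P hd hii h)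
    refine ⟨v, hv, hv1, fun p hp => ⟨fun e => ?_, ?_⟩⟩
    · obtain ⟨a, haV, b, hbV, rfl⟩ := c.P_decomp p hp
      have e' : i * a * i⁻¹ * (i * b * i⁻¹) = a * b := by
        rw [show i * a * i⁻¹ * (i * b * i⁻¹) = i * (a * b) * i⁻¹ by group, ← e, mul_inv_cancel_right]
      obtain ⟨e1, e2⟩ := c.unique (ha a haV) haV (hb b hbV) hbV e'
      rcases ma a haV (mul_inv_eq_iff_eq_mul.1 e1) with rfl | rfl <;>
        rcases mb b hbV (mul_inv_eq_iff_eq_mul.1 e2) with rfl | rfl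
      · exact Or.inl (one_mul 1)
      · exact Or.inr (Or.inr (Or.inl (one_mul _)))
      · exact Or.inr (Or.inl (mul_one _))
      · exact Or.inr (Or.inr (Or.inr rfl))
    · rintro (rfl | rfl | rfl | rfl)
      · rw [mul_one, one_mul]
      · exact hiu.symm
      · exact hiv.symm
      · exact (((show Commute i u from hiu).mul_right hiv).eq).symm

/-- The centraliser of `zz`. -/
theorem exists_form (hd : centralizer ({F.e 0 * F.e 1} : Set G) ≤ B.M) {g : G} (hg : g ∈ K.Cz) :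
    ∃ w ∈ c.W, ∃ e ∈ K.E, ∃ t, K.IsT t ∧ g = w * e * t := by
  obtain ⟨T⟩ := c.third hd
  obtain ⟨p, hp, hp1, hp2⟩ := K.exists_Qa_four
  have hq : F.r 2 * p * F.r 2 ∈ K.Qb := K.mem_Qb.2 (by rw [r2_twice]; exact hp)
  have htop := Six.normal_top T (u₀ := K.pr ⟨p, K.Qa_le_Cz hp⟩) ((K.mem_img K.zz_mem_Qa).2 hp)
    (fun e => (K.pr_eq_one.1 e).elim hp1 hp2) (v₀ := K.pr ⟨_, K.Qb_le_Cz hq⟩) ((K.mem_img K.zz_mem_Qb).2 hq)
    (fun e => (K.pr_eq_one.1 e).elim (fun e' => hp1 (by rw [← r2_twice (F := F) p, (show F.r 2 * p * F.r 2 = 1 from e'), mul_one, F.r_sq]))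
      fun e' => hp2 (by rw [← r2_twice (F := F) p, (show F.r 2 * p * F.r 2 = K.zz from e'), K.r2_zz']))
  exact c.NG_of_norm_P hd (g := ⟨g, hg⟩) (show K.pr ⟨g, hg⟩ ∈ (c.six hd).N by rw [htop]; exact mem_top _)

end Cfg

/-- `Qy` centralises `Qa` in the second case. -/
theorem not_caseB (K : SixChart F) (hd : centralizer ({F.e 0 * F.e 1} : Set G) ≤ B.M)
    (hab : ∀ p ∈ K.Qa, ∀ q ∈ K.Qb, p * q = q * p)
    (hy : ∀ x ∈ K.La, x ∈ K.Qy → x ∈ zpowers K.zz) : False := by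
  let c : Cfg K :=
    { Zg := zpowers K.zz
      cases := Or.inl rfl
      hab := hab
      hza := fun z hz p hp => by
        rcases K.zz_pow hz with rfl | rfl
        · rw [one_mul, mul_one]
        · exact (K.Qa_comm hp).2.symm
      hy := hy }
  -- an element fixing the blocks
  obtain ⟨y, hy', hy1, hy2, hfix⟩ : ∃ y ∈ K.Qy, y ≠ 1 ∧ y ≠ K.zz ∧ ∀ x ∈ K.Qa, y * x * y⁻¹ ∈ K.Qa := by
    obtain ⟨σ, hσ, hσ1, hσ2⟩ : ∃ σ ∈ baseList, σ ≠ 1 ∧ σ ≠ tauP := by decide +kernel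
    set y₁ := K.φ σ
    have h1 : y₁ ∈ K.Qy := K.mem_Qy.2 ⟨σ, hσ, rfl⟩
    set y₂ := B.a * y₁ * B.a⁻¹
    have h2 : y₂ ∈ K.Qy := K.E_norm_Qy K.a_mem_E h1
    have hy11 : y₁ ≠ 1 ∧ y₁ ≠ K.zz :=
      ⟨fun e => hσ1 (K.φ_inj (e.trans (map_one _).symm)), fun e => hσ2 (K.φ_inj (e.trans K.zz_eq))⟩
    have hy21 : y₂ ≠ 1 ∧ y₂ ≠ K.zz := by
      refine ⟨fun e => hy11.1 (conj_eq_one_iff.1 e), fun e => hy11.2 ?_⟩
      rw [mul_inv_eq_iff_eq_mul, K.zz_a] at e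
      exact mul_left_cancel e
    rcases c.NG_blocks (c.exists_form hd (K.Qy_le_Cz h1)) with ⟨b1, -⟩ | ⟨b1, b1'⟩
    · exact ⟨y₁, h1, hy11.1, hy11.2, b1⟩
    rcases c.NG_blocks (c.exists_form hd (K.Qy_le_Cz h2)) with ⟨b2, -⟩ | ⟨b2, -⟩
    · exact ⟨y₂, h2, hy21.1, hy21.2, b2⟩
    have hprod : y₁ * y₂ ≠ 1 ∧ y₁ * y₂ ≠ K.zz := by
      constructor <;> intro e <;>
        (have e' : σ * (cycP * σ * cycP⁻¹) = 1 ∨ σ * (cycP * σ * cycP⁻¹) = tauP := by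
          first
          | exact Or.inl (K.φ_inj (by rw [map_mul, ← K.a_φ, map_one]; exact e))
          | exact Or.inr (K.φ_inj (by rw [map_mul, ← K.a_φ, ← K.zz_eq]; exact e))
         exact (base_a_move σ hσ e').elim hσ1 hσ2)
    refine ⟨y₁ * y₂, mul_mem h1 h2, hprod.1, hprod.2, fun x hx => ?_⟩
    rw [show y₁ * y₂ * x * (y₁ * y₂)⁻¹ = y₁ * (y₂ * x * y₂⁻¹) * y₁⁻¹ by group]
    exact b1' _ (b2 x hx)
  obtain ⟨hyz, hye, -, hyy⟩ := K.Qy_comm hy'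
  have hyC : y ∈ K.Cz := K.Qy_le_Cz hy'
  set Y1 := K.pr ⟨y, hyC⟩ with hY1
  set E1 := K.pr ⟨F.e 2, K.e2_mem_Cz⟩ with hE1
  have hYE : Y1 * E1 = E1 * Y1 := by rw [hY1, hE1, ← map_mul, ← map_mul]; exact congrArg K.pr (Subtype.ext hye)
  have hYY : Y1 * Y1 = 1 := by rw [hY1, ← map_mul]; exact K.pr_eq_one.2 (Or.inl hyy)
  have hYi : Y1⁻¹ = Y1 := inv_eq_of_mul_eq_one_right hYY
  have hmap : ∀ v ∈ c.Va, Y1 * v * Y1 ∈ c.Va := fun v hv => by
    obtain ⟨x, hx, rfl⟩ := K.exists_pr hv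
    rw [show Y1 * K.pr x * Y1 = Y1 * K.pr x * Y1⁻¹ by rw [hYi], hY1, ← map_inv, ← map_mul, ← map_mul]
    exact (K.mem_img K.zz_mem_Qa).2 (hfix _ hx)
  obtain ⟨u, hu, hu1, hyu⟩ := Cfg.four_fix K.card_img_Qa c.Va_sq (n := Y1)
    (fun v hv => by rw [hYi]; exact hmap v hv) fun v _ => by rw [hYY, one_mul, mul_one]
  set u' := E1 * u * E1⁻¹ with hu'
  have hu'V : u' ∈ c.Va := by
    obtain ⟨x, hx, e⟩ := K.exists_pr hu
    rw [hu', hE1, ← e, ← map_inv, ← map_mul, ← map_mul]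
    exact (K.mem_img K.zz_mem_Qa).2 (K.E_norm_Qa K.e2_mem_E hx)
  have hu'1 : u' ≠ 1 := fun e => hu1 (conj_eq_one_iff.1 e)
  have hne : u' ≠ u := by
    intro e
    obtain ⟨x, hx, ex⟩ := K.exists_pr hu
    rw [hu', hE1, ← ex, ← map_inv, ← map_mul, ← map_mul] at e
    have hx1 : (x : G) ≠ 1 := fun h => hu1 (by rw [← ex]; exact K.pr_eq_one.2 (Or.inl h))
    have hx2 : (x : G) ≠ K.zz := fun h => hu1 (by rw [← ex]; exact K.pr_eq_one.2 (Or.inr h))
    rcases K.pr_eq.1 e with e' | e'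
    · exact (K.e2_moves hx hx1 hx2).1 e'
    · exact (K.e2_moves hx hx1 hx2).2 e'
  have hyu' : Y1 * u' = u' * Y1 := by
    calc Y1 * u' = Y1 * E1 * u * E1⁻¹ := by rw [hu']; group
      _ = E1 * (Y1 * u) * E1⁻¹ := by rw [hYE]; group
      _ = E1 * (u * Y1) * E1⁻¹ := by rw [hyu]
      _ = E1 * u * (Y1 * E1⁻¹) := by group
      _ = E1 * u * (E1⁻¹ * Y1) := by rw [((show Commute Y1 E1 from hYE).inv_right).eq]
      _ = u' * Y1 := by rw [hu']; group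
  have hcent : ∀ v ∈ c.Va, Y1 * v = v * Y1 := fun v hv => by
    rcases Six.four_cases K.card_img_Qa c.Va_sq hu hu1 hu'V hu'1 hne hv with rfl | rfl | rfl | rfl
    · rw [mul_one, one_mul]
    · exact hyu
    · exact hyu'
    · exact ((show Commute Y1 u from hyu).mul_right hyu').eq
  have hW := c.cent_Va_W hd (g := ⟨y, hyC⟩) hcent (by
    show y * y ∈ c.W
    rw [hyy]
    exact one_mem _)
  obtain ⟨p, hp, q, hq, z, hz, e⟩ := hW
  have hz' : z = 1 ∨ z = K.zz := K.zz_pow hz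
  have hyP : p * q * y = 1 ∨ p * q * y = K.zz := by
    have e' : y = p * q * z := e
    have e2 : p * q * z * y = 1 := by rw [← e', hyy]
    rcases hz' with rfl | rfl
    · left; rwa [mul_one] at e2
    · right
      rw [mul_assoc (p * q), ← hyz, ← mul_assoc] at e2
      exact (eq_inv_of_mul_eq_one_left e2).trans K.zz_inv
  exact (K.triple hp hq hy' hyP).2.2.elim hy1 hy2

end SixChart

end CfsgLib.Recog.SpSixThree
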