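import Cfsg.Agent.Lib.Recog.SpSixThree.HY

/-!
The group `W = Qa Qb Z` in the centraliser of `z`, the four outer elements, and their squares.
-/

set_option autoImplicit false
set_option linter.style.haveILetI false
set_option linter.unusedSectionVars false
set_option synthInstance.maxSize 20000

namespace CfsgLib.Recog.SpSixThree

open Equiv Subgroup

universe u

/-- the exchange of the two blocks of sign changes -/
def rhoP : Perm (Fin 6) := swap 1 2 * swap 4 5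

theorem rho_facts : (∀ σ ∈ baseList, rhoP * σ * rhoP ∈ baseList) ∧ rhoP * rhoP = 1 ∧
    rhoP * tauP = tauP * rhoP ∧
    ∀ σ ∈ baseList, σ * (rhoP * σ * rhoP) = 1 ∨ σ * (rhoP * σ * rhoP) ≠ tauP := by decide +kernel

theorem tau_cent_dec : ∀ σ : Perm (Fin 6), σ * tauP = tauP * σ →
    ∃ b ∈ baseList, ∃ i : Fin 3, σ = b * cycP ^ i.val ∨ σ = b * cycP ^ i.val * rhoP := by decide +kernel

theorem vec_flip : ∀ v : Vec, v 0 = v 1 → (Function.update (Function.update v 1 (-v 1)) 0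
    (-(Function.update v 1 (-v 1)) 0) : Vec) 0 = (Function.update (Function.update v 1 (-v 1)) 0
    (-(Function.update v 1 (-v 1)) 0) : Vec) 1 := by decide +kernel

theorem sl_no_fix : ∀ x : SLT, x * x = -1 → ∀ y : SLT, y ^ 3 = 1 → y ≠ 1 →
    (x * (y * x * y⁻¹) = y⁻¹ * x * y ∧ x * (y⁻¹ * x * y) ≠ y * x * y⁻¹) ∨
    (x * (y⁻¹ * x * y) = y * x * y⁻¹ ∧ x * (y * x * y⁻¹) ≠ y⁻¹ * x * y) := by decide +kernel

theorem sl_sq : ∀ x : SLT, x ^ 4 = 1 → x ≠ 1 → x ≠ -1 → x * x = -1 ∧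
    ∀ y : SLT, y ^ 3 = 1 → y ≠ 1 → y * x * y⁻¹ ≠ x ∧ y * x * y⁻¹ ≠ x * -1 := by decide +kernel

variable {G : Type u} [Group G] [Finite G] {B : Base G} {F : FullFrame B}

namespace SixChart

variable (K : SixChart F)

/-- the product of the first two sign changes -/
def uu (_ : SixChart F) : G := F.r 0 * F.r 1

theorem uu_eq : K.uu = K.φ rhoP := by rw [uu, rhoP, map_mul, K.φ_r0, K.φ_r1]

theorem uu_sq : K.uu * K.uu = 1 := by rw [K.uu_eq, ← map_mul, rho_facts.2.1, map_one]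

theorem uu_inv : K.uu⁻¹ = K.uu := inv_eq_of_mul_eq_one_right K.uu_sq

theorem uu_zz : K.uu * K.zz = K.zz * K.uu := by
  rw [K.uu_eq, K.zz_eq, ← map_mul, ← map_mul, rho_facts.2.2.1]

theorem uu_r2 : K.uu * F.r 2 = F.r 2 * K.uu := by rw [K.uu_eq]; exact (K.φ_r2' rhoP).symm.eq

/-- the four outer elements -/
def IsT (t : G) : Prop := t = 1 ∨ t = F.r 2 ∨ t = K.uu ∨ t = K.uu * F.r 2

theorem IsT.mul {s t : G} (hs : K.IsT s) (ht : K.IsT t) : K.IsT (s * t) := by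
  have hu := K.uu_sq
  have hr := F.r_sq 2
  have hc := K.uu_r2
  rcases hs with rfl | rfl | rfl | rfl <;> rcases ht with rfl | rfl | rfl | rfl
  · exact Or.inl (one_mul 1)
  · exact Or.inr (Or.inl (one_mul _))
  · exact Or.inr (Or.inr (Or.inl (one_mul _)))
  · exact Or.inr (Or.inr (Or.inr (one_mul _)))
  · exact Or.inr (Or.inl (mul_one _))
  · exact Or.inl hr
  · exact Or.inr (Or.inr (Or.inr hc.symm))
  · refine Or.inr (Or.inr (Or.inl ?_))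
    rw [hc, ← mul_assoc, hr, one_mul]
  · exact Or.inr (Or.inr (Or.inl (mul_one _)))
  · exact Or.inr (Or.inr (Or.inr rfl))
  · exact Or.inl hu
  · refine Or.inr (Or.inl ?_)
    rw [← mul_assoc, hu, one_mul]
  · exact Or.inr (Or.inr (Or.inr (mul_one _)))
  · refine Or.inr (Or.inr (Or.inl ?_))
    rw [mul_assoc, hr, mul_one]
  · refine Or.inr (Or.inl ?_)
    rw [mul_assoc, ← hc, ← mul_assoc, hu, one_mul]
  · refine Or.inl ?_
    rw [show K.uu * F.r 2 * (K.uu * F.r 2) = K.uu * (F.r 2 * K.uu) * F.r 2 by group, ← hc, ← mul_assoc K.uu, hu,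
      one_mul, hr]

theorem IsT.sq {t : G} (ht : K.IsT t) : t * t = 1 := by
  rcases ht with rfl | rfl | rfl | rfl
  · exact one_mul 1
  · exact F.r_sq 2
  · exact K.uu_sq
  · rw [show K.uu * F.r 2 * (K.uu * F.r 2) = K.uu * (F.r 2 * K.uu) * F.r 2 by group, ← K.uu_r2, ← mul_assoc K.uu,
      K.uu_sq, one_mul, F.r_sq]

theorem IsT.inv_eq {t : G} (ht : K.IsT t) : t⁻¹ = t := inv_eq_of_mul_eq_one_right (IsT.sq K ht)

theorem IsT.comm_zz {t : G} (ht : K.IsT t) : t * K.zz = K.zz * t := by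
  rcases ht with rfl | rfl | rfl | rfl
  · rw [one_mul, mul_one]
  · exact K.r2_zz
  · exact K.uu_zz
  · exact ((show Commute K.uu K.zz from K.uu_zz).mul_left K.r2_zz).eq

theorem uu_el {v : Vec} (hv : v 0 = v 1) :
    K.uu * F.el v * K.uu⁻¹ ∈ K.E := by
  have e : K.uu * F.el v * K.uu⁻¹ = F.el (Function.update (Function.update v 1 (-v 1)) 0
      (-(Function.update v 1 (-v 1)) 0)) := by
    rw [uu, mul_inv_rev, F.r_inv, F.r_inv, show F.r 0 * F.r 1 * F.el v * (F.r 1 * F.r 0) =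
      F.r 0 * (F.r 1 * F.el v * F.r 1) * F.r 0 by group]
    unfold Frame.el
    rw [F.r_el, F.r_el]
  rw [e]
  exact K.el_mem_E (vec_flip v hv)

theorem IsT.conj_E {t e : G} (ht : K.IsT t) (he : e ∈ K.E) : t * e * t⁻¹ ∈ K.E := by
  have hr : ∀ e ∈ K.E, F.r 2 * e * (F.r 2)⁻¹ ∈ K.E := fun e he => by rw [F.r_inv]; exact K.r2_E he
  have hu : ∀ e ∈ K.E, K.uu * e * K.uu⁻¹ ∈ K.E := fun e he => by
    obtain ⟨v, hv, rfl⟩ := K.exists_vec_E he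
    exact K.uu_el hv
  rcases ht with rfl | rfl | rfl | rfl
  · simpa using he
  · exact hr e he
  · exact hu e he
  · have := hu _ (hr e he)
    rwa [show K.uu * (F.r 2 * e * (F.r 2)⁻¹) * K.uu⁻¹ = K.uu * F.r 2 * e * (K.uu * F.r 2)⁻¹ by group] at this

theorem uu_a : K.uu * B.a * K.uu⁻¹ = K.aa⁻¹ := by
  rw [uu, mul_inv_rev, F.r_inv, F.r_inv, ← F.toFrame.el_a, show F.r 0 * F.r 1 * F.el (fun _ => 1) * (F.r 1 * F.r 0) =
    F.r 0 * (F.r 1 * F.el (fun _ => 1) * F.r 1) * F.r 0 by group, K.aa_eq, ← F.toFrame.el_neg]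
  unfold Frame.el
  rw [F.r_el, F.r_el]
  congr 2
  decide +kernel

theorem uu_aa : K.uu * K.aa * K.uu⁻¹ = B.a⁻¹ := by
  have h := congrArg (fun x => K.uu * x⁻¹ * K.uu⁻¹) K.uu_a
  rw [K.uu_inv] at h
  simp only [inv_inv, mul_inv_rev, K.uu_inv] at h
  rw [K.uu_inv, ← h, show K.uu * (K.uu * (B.a⁻¹ * K.uu)) * K.uu = (K.uu * K.uu) * B.a⁻¹ * (K.uu * K.uu) by group,
    K.uu_sq, one_mul, mul_one]

theorem mem_Qb_of {x : G} (h1 : x * K.aa = K.aa * x) (h2 : x * K.zz = K.zz * x) (h4 : x ^ 4 = 1) : x ∈ K.Qb := by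
  refine K.mem_Qb.2 (subset_closure ?_)
  have e1 := r2_commute (F := F) h1
  have e2 := r2_commute (F := F) h2
  rw [K.r2_conj_a] at e1
  rw [K.r2_zz'] at e2
  exact ⟨e1, e2, by rw [r2_pow, h4, mul_one, F.r_sq]⟩

/-- A map fixing `zz` and sending `a` to a power of `a` or of `aa` maps `Qa` accordingly. -/
theorem conj_Qa {g : G} (hg : g * K.zz = K.zz * g) {x : G} (hx : x ∈ K.Qa) :
    ((g * B.a * g⁻¹ = B.a ∨ g * B.a * g⁻¹ = B.a⁻¹) → g * x * g⁻¹ ∈ K.Qa) ∧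
    ((g * B.a * g⁻¹ = K.aa ∨ g * B.a * g⁻¹ = K.aa⁻¹) → g * x * g⁻¹ ∈ K.Qb) := by
  have key : ∀ (H : Subgroup G) (b : G), (g * B.a * g⁻¹ = b ∨ g * B.a * g⁻¹ = b⁻¹) →
      (∀ y, y * b = b * y → y * K.zz = K.zz * y → y ^ 4 = 1 → y ∈ H) → g * x * g⁻¹ ∈ H := by
    intro H b hb hmem
    have hle : K.Qa.map (MulAut.conj g).toMonoidHom ≤ H := by
      rw [Qa, MonoidHom.map_closure, closure_le]
      rintro _ ⟨y, ⟨h1, h2, h4⟩, rfl⟩
      refine hmem _ ?_ ?_ ?_ <;> rw [MulEquiv.coe_toMonoidHom, MulAut.conj_apply]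
      · have h := (show Commute y B.a from h1).map (MulAut.conj g)
        rw [MulAut.conj_apply, MulAut.conj_apply] at h
        rcases hb with e | e <;> rw [e] at h
        · exact h.eq
        · exact (Commute.inv_right_iff.1 h).eq
      · have hgz : Commute g K.zz := hg
        exact ((hgz.mul_left h2).mul_left hgz.inv_left).eq
      · rw [conj_pow, h4, mul_one, mul_inv_cancel]
    exact hle ⟨x, hx, rfl⟩
  exact ⟨fun h => key _ _ h fun y h1 h2 h4 => subset_closure ⟨h1, h2, h4⟩,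
    fun h => key _ _ h fun y h1 h2 h4 => K.mem_Qb_of h1 h2 h4⟩

theorem r2_a : F.r 2 * B.a * (F.r 2)⁻¹ = K.aa := by rw [F.r_inv]; rfl

theorem T_swap {t : G} (ht : t = F.r 2 ∨ t = K.uu) :
    (∀ x ∈ K.Qa, t * x * t⁻¹ ∈ K.Qb) ∧ ∀ x ∈ K.Qb, t * x * t⁻¹ ∈ K.Qa := by
  have h1 : ∀ x ∈ K.Qa, t * x * t⁻¹ ∈ K.Qb := by
    intro x hx
    rcases ht with rfl | rfl
    · exact (K.conj_Qa K.r2_zz hx).2 (Or.inl K.r2_a)
    · exact (K.conj_Qa K.uu_zz hx).2 (Or.inr K.uu_a)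
  refine ⟨h1, fun x hx => ?_⟩
  have h : t * x * t⁻¹ = (t * F.r 2) * (F.r 2 * x * F.r 2) * (t * F.r 2)⁻¹ := by
    rw [mul_inv_rev, F.r_inv]
    simp only [mul_assoc]
    rw [← mul_assoc (F.r 2) (F.r 2), F.r_sq, one_mul, ← mul_assoc (F.r 2) (F.r 2), F.r_sq, one_mul]
  rw [h]
  refine (K.conj_Qa ((show Commute t K.zz from ?_).mul_left K.r2_zz).eq (K.mem_Qb.1 hx)).1 ?_
  · rcases ht with rfl | rfl
    · exact K.r2_zz
    · exact K.uu_zz
  · rw [mul_inv_rev, show t * F.r 2 * B.a * ((F.r 2)⁻¹ * t⁻¹) = t * (F.r 2 * B.a * (F.r 2)⁻¹) * t⁻¹ by group, K.r2_a]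
    rcases ht with rfl | rfl
    · rw [F.r_inv, K.r2_conj_a]; exact Or.inl rfl
    · exact Or.inr K.uu_aa

theorem T_fix {t : G} (ht : t = 1 ∨ t = K.uu * F.r 2) :
    (∀ x ∈ K.Qa, t * x * t⁻¹ ∈ K.Qa) ∧ ∀ x ∈ K.Qb, t * x * t⁻¹ ∈ K.Qb := by
  rcases ht with rfl | rfl
  · exact ⟨fun x hx => by simpa using hx, fun x hx => by simpa using hx⟩
  obtain ⟨r1, r2⟩ := K.T_swap (Or.inl rfl)
  obtain ⟨u1, u2⟩ := K.T_swap (t := K.uu) (Or.inr rfl)
  refine ⟨fun x hx => ?_, fun x hx => ?_⟩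
  · have := u2 _ (r1 x hx)
    rwa [show K.uu * (F.r 2 * x * (F.r 2)⁻¹) * K.uu⁻¹ = K.uu * F.r 2 * x * (K.uu * F.r 2)⁻¹ by group] at this
  · have := u1 _ (r2 x hx)
    rwa [show K.uu * (F.r 2 * x * (F.r 2)⁻¹) * K.uu⁻¹ = K.uu * F.r 2 * x * (K.uu * F.r 2)⁻¹ by group] at this

theorem IsT.conj_Qy {t x : G} (ht : K.IsT t) (hx : x ∈ K.Qy) :
    t * x * t⁻¹ ∈ K.Qy ∧ (x * (t * x * t⁻¹) = 1 ∨ x * (t * x * t⁻¹) ≠ K.zz) := by
  obtain ⟨σ, hσ, rfl⟩ := K.mem_Qy.1 hx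
  have hr : F.r 2 * K.φ σ * (F.r 2)⁻¹ = K.φ σ := by rw [F.r_inv]; exact K.φ_r2 σ
  have hu : K.uu * K.φ σ * K.uu⁻¹ = K.φ (rhoP * σ * rhoP) := by
    rw [K.uu_inv, K.uu_eq, map_mul, map_mul]
  have hs : K.φ σ * K.φ σ = 1 := (K.Qy_comm (K.mem_Qy.2 ⟨σ, hσ, rfl⟩)).2.2.2
  have hb : K.φ (rhoP * σ * rhoP) ∈ K.Qy := K.mem_Qy.2 ⟨_, rho_facts.1 σ hσ, rfl⟩
  have hd : K.φ σ * K.φ (rhoP * σ * rhoP) = 1 ∨ K.φ σ * K.φ (rhoP * σ * rhoP) ≠ K.zz := by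
    rcases rho_facts.2.2.2 σ hσ with e | e
    · exact Or.inl (by rw [← map_mul, e, map_one])
    · exact Or.inr fun h => e (K.φ_inj (by rw [map_mul, h, K.zz_eq]))
  rcases ht with rfl | rfl | rfl | rfl
  · rw [one_mul, inv_one, mul_one]
    exact ⟨K.mem_Qy.2 ⟨σ, hσ, rfl⟩, Or.inl hs⟩
  · rw [hr]
    exact ⟨K.mem_Qy.2 ⟨σ, hσ, rfl⟩, Or.inl hs⟩
  · rw [hu]
    exact ⟨hb, hd⟩
  · rw [show K.uu * F.r 2 * K.φ σ * (K.uu * F.r 2)⁻¹ = K.uu * (F.r 2 * K.φ σ * (F.r 2)⁻¹) * K.uu⁻¹ by group,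
      hr, hu]
    exact ⟨hb, hd⟩

theorem Qa_four {x : G} (hx : x ∈ K.Qa) (h1 : x ≠ 1) (h2 : x ≠ K.zz) : x * x = K.zz :=
  (K.Qa_square hx).resolve_left fun e => (K.Qa_invol hx e).elim h1 h2

theorem Qb_sq {x : G} (hx : x ∈ K.Qb) : x * x = 1 ∨ x * x = K.zz := by
  have h := K.Qa_square (K.mem_Qb.1 hx)
  rw [r2_map] at h
  rcases h with h | h
  · exact Or.inl (by rw [← r2_twice (F := F) (x * x), h, mul_one, F.r_sq])
  · exact Or.inr (by rw [← r2_twice (F := F) (x * x), h, K.r2_zz'])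

theorem Qb_four {x : G} (hx : x ∈ K.Qb) (h1 : x ≠ 1) (h2 : x ≠ K.zz) : x * x = K.zz := by
  have h := K.Qa_four (K.mem_Qb.1 hx) (fun e => h1 (by rw [← r2_twice (F := F) x, e, mul_one, F.r_sq]))
    fun e => h2 (by rw [← r2_twice (F := F) x, e, K.r2_zz'])
  rw [r2_map] at h
  rw [← r2_twice (F := F) (x * x), h, K.r2_zz']

theorem Qa_commutator {p q : G} (hp : p ∈ K.Qa) (hq : q ∈ K.Qa) : p * q = q * p ∨ p * q = q * p * K.zz := by
  have hm : q⁻¹ * (p * q * p⁻¹) ∈ K.Qa := mul_mem (inv_mem hq) (mul_mem (mul_mem hp hq) (inv_mem hp))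
  have hcm : ∀ t ∈ K.Qa, q⁻¹ * (p * q * p⁻¹) * t = t * (q⁻¹ * (p * q * p⁻¹)) := by
    intro t ht
    have := sl_comm_four _ _ _ (K.Qa_sl hq) (K.Qa_sl hp) (K.Qa_sl ht)
    simp only [← map_inv, ← map_mul] at this
    exact K.Qa_sl_inj (mul_mem hm ht) (mul_mem ht hm)
      ((congrArg B.sl (Subtype.ext rfl)).trans (this.trans (congrArg B.sl (Subtype.ext rfl))))
  rcases K.Qa_center hm hcm with e | e
  · exact Or.inl (mul_inv_eq_iff_eq_mul.1 (inv_mul_eq_one.1 e).symm)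
  · refine Or.inr ?_
    have e' : p * q * p⁻¹ = q * K.zz := inv_mul_eq_iff_eq_mul.1 e
    rw [mul_inv_eq_iff_eq_mul.1 e', mul_assoc, ← (K.Qa_comm hp).2, mul_assoc]

theorem Qb_commutator {p q : G} (hp : p ∈ K.Qb) (hq : q ∈ K.Qb) : p * q = q * p ∨ p * q = q * p * K.zz := by
  rcases K.Qa_commutator (K.mem_Qb.1 hp) (K.mem_Qb.1 hq) with h | h <;> rw [r2_map, r2_map] at h
  · exact Or.inl (by rw [← r2_twice (F := F) (p * q), h, r2_twice])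
  · refine Or.inr ?_
    rw [← r2_twice (F := F) (p * q), h]
    conv_lhs => rw [← K.r2_zz', r2_map, r2_twice]

theorem Qb_cent_a {q : G} (hq : q ∈ K.Qb) (h : q * B.a = B.a * q) : q = 1 ∨ q = K.zz := by
  have hE : ∀ e ∈ K.E, q * e = e * q := K.commute_E_of_two K.gen_a_aa h (K.Qb_comm hq).1
  have hE' : ∀ e ∈ K.E, F.r 2 * q * F.r 2 * e = e * (F.r 2 * q * F.r 2) := by
    intro e he
    have := r2_commute (F := F) (hE _ (K.r2_E he))
    rwa [r2_twice] at this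
  rcases K.Qa_cent_E (K.mem_Qb.1 hq) hE' with e | e
  · exact Or.inl (by rw [← r2_twice (F := F) q, e, mul_one, F.r_sq])
  · exact Or.inr (by rw [← r2_twice (F := F) q, e, K.r2_zz'])

theorem zz_or {x : G} (hx : x = 1 ∨ x = K.zz) : x ∈ zpowers K.zz :=
  hx.elim (fun e => e ▸ one_mem _) fun e => e ▸ mem_zpowers _

/-- Uniqueness of the decomposition. -/
theorem triple {p q z : G} (hp : p ∈ K.Qa) (hq : q ∈ K.Qb) (hz : z ∈ K.Qy)
    (h : p * q * z = 1 ∨ p * q * z = K.zz) : (p = 1 ∨ p = K.zz) ∧ (q = 1 ∨ q = K.zz) ∧ (z = 1 ∨ z = K.zz) := by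
  have hqz : q * z = p⁻¹ ∨ q * z = p⁻¹ * K.zz := by
    rcases h with h | h
    · exact Or.inl (eq_inv_of_mul_eq_one_right (by rw [← mul_assoc]; exact h))
    · exact Or.inr (by rw [← h, mul_assoc p, inv_mul_cancel_left])
  have hca : q * z * B.a = B.a * (q * z) := by
    have hpa : Commute p B.a := (K.Qa_comm hp).1
    rcases hqz with e | e <;> rw [e]
    · exact hpa.inv_left.eq
    · exact (hpa.inv_left.mul_left K.zz_a).eq
  -- the commutator lies in both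
  have hz1 := K.E_norm_Qy K.a_mem_E hz
  have hq1 := K.E_norm_Qb K.a_mem_E hq
  have e1 : q⁻¹ * (B.a * q * B.a⁻¹) = z * (B.a * z * B.a⁻¹)⁻¹ := by
    have e2 : B.a * q * B.a⁻¹ * (B.a * z * B.a⁻¹) = q * z := by
      rw [show B.a * q * B.a⁻¹ * (B.a * z * B.a⁻¹) = B.a * (q * z) * B.a⁻¹ by group, ← hca, mul_inv_cancel_right]
    calc q⁻¹ * (B.a * q * B.a⁻¹) = q⁻¹ * (B.a * q * B.a⁻¹ * (B.a * z * B.a⁻¹)) * (B.a * z * B.a⁻¹)⁻¹ := by group
      _ = z * (B.a * z * B.a⁻¹)⁻¹ := by rw [e2, inv_mul_cancel_left]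
  have hq2 : q = 1 ∨ q = K.zz := by
    rcases K.Qb_inf_Qy (mul_mem (inv_mem hq) hq1) (e1 ▸ mul_mem hz (inv_mem hz1)) with e | e
    · exact K.Qb_cent_a hq (mul_inv_eq_iff_eq_mul.1 (inv_mul_eq_one.1 e).symm).symm
    · exfalso
      have e3 : B.a * q * B.a⁻¹ = q * K.zz := inv_mul_eq_iff_eq_mul.1 e
      have hz' : B.a * K.zz * B.a⁻¹ = K.zz := by rw [← K.zz_a, mul_inv_cancel_right]
      have hf : MulAut.conj B.a q = q * K.zz := e3
      have hfz : MulAut.conj B.a K.zz = K.zz := hz'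
      have e4 : MulAut.conj B.a (MulAut.conj B.a (MulAut.conj B.a q)) = q * K.zz * K.zz * K.zz := by
        simp only [hf, hfz, map_mul]
      rw [← MulAut.mul_apply, ← MulAut.mul_apply, ← map_mul, ← map_mul, ← pow_two, ← pow_succ,
        B.a_three, map_one, MulAut.one_apply, mul_assoc q, K.zz_sq, mul_one] at e4
      exact K.zz_ne (left_eq_mul.1 e4)
  have hz2 : z = 1 ∨ z = K.zz := by
    have hpz : z = p⁻¹ * q⁻¹ ∨ z = p⁻¹ * K.zz * q⁻¹ := by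
      rcases hq2 with rfl | rfl
      · rcases hqz with e | e <;> rw [one_mul] at e
        · exact Or.inl (by rw [e, inv_one, mul_one])
        · exact Or.inr (by rw [e, inv_one, mul_one])
      · rcases hqz with e | e
        · refine Or.inl ?_
          rw [K.zz_inv, ← e, (K.Qy_comm hz).1.symm, mul_assoc, K.zz_sq, mul_one]
        · refine Or.inr ?_
          rw [K.zz_inv, ← e, (K.Qy_comm hz).1.symm, mul_assoc, K.zz_sq, mul_one]
    have hqa : q ∈ K.Qa := by rcases hq2 with rfl | rfl; exacts [one_mem _, K.zz_mem_Qa]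
    refine K.Qa_inf_Qy ?_ hz
    rcases hpz with e | e <;> rw [e]
    · exact mul_mem (inv_mem hp) (inv_mem hqa)
    · exact mul_mem (mul_mem (inv_mem hp) K.zz_mem_Qa) (inv_mem hqa)
  refine ⟨?_, hq2, hz2⟩
  rcases hq2 with rfl | rfl <;> rcases hz2 with rfl | rfl <;>
    simp only [mul_one, mul_assoc p, K.zz_sq] at h <;> rcases h with h | h
  · exact Or.inl h
  · exact Or.inr h
  · exact Or.inr ((eq_inv_of_mul_eq_one_left h).trans K.zz_inv)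
  · exact Or.inl (mul_eq_right.1 h)
  · exact Or.inr ((eq_inv_of_mul_eq_one_left h).trans K.zz_inv)
  · exact Or.inl (mul_eq_right.1 h)
  · exact Or.inl h
  · exact Or.inr h

/-- The two configurations: `Z` is `<zz>` or `Qy`. -/
structure Cfg where
  /-- The third group. -/
  Zg : Subgroup G
  cases : Zg = zpowers K.zz ∨ Zg = K.Qy
  hab : ∀ p ∈ K.Qa, ∀ q ∈ K.Qb, p * q = q * p
  hza : ∀ z ∈ Zg, ∀ p ∈ K.Qa, z * p = p * z
  hy : ∀ x ∈ K.La, x ∈ K.Qy → x ∈ Zg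

namespace Cfg

variable {K} (c : Cfg K)

theorem zz_mem : K.zz ∈ c.Zg := by
  rcases c.cases with e | e <;> rw [e]
  exacts [mem_zpowers _, K.zz_mem_Qy]

theorem le_Qy : c.Zg ≤ K.Qy := by
  rcases c.cases with e | e <;> rw [e]
  exact zpowers_le.2 K.zz_mem_Qy

theorem hzb {z q : G} (hz : z ∈ c.Zg) (hq : q ∈ K.Qb) : z * q = q * z := by
  have h := r2_commute (F := F) (c.hza z hz _ (K.mem_Qb.1 hq))
  rwa [r2_twice, K.r2_Qy (c.le_Qy hz)] at h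

theorem T_Zg {t z : G} (ht : K.IsT t) (hz : z ∈ c.Zg) : t * z * t⁻¹ ∈ c.Zg := by
  rcases c.cases with e | e <;> rw [e] at hz ⊢
  · obtain ⟨k, rfl⟩ := mem_zpowers_iff.1 hz
    rw [((show Commute t K.zz from IsT.comm_zz K ht).zpow_right k).eq, mul_inv_cancel_right]
    exact hz
  · exact (IsT.conj_Qy K ht hz).1

theorem E_Zg {e z : G} (he : e ∈ K.E) (hz : z ∈ c.Zg) : e * z * e⁻¹ ∈ c.Zg := by
  rcases c.cases with e' | e' <;> rw [e'] at hz ⊢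
  · obtain ⟨k, rfl⟩ := mem_zpowers_iff.1 hz
    rw [((show Commute e K.zz from mem_centralizer_singleton_iff.1 he.2).zpow_right k).eq, mul_inv_cancel_right]
    exact hz
  · exact K.E_norm_Qy he hz

theorem mul_three {p q z p' q' z' : G} (hq : q ∈ K.Qb) (hz : z ∈ c.Zg) (hp' : p' ∈ K.Qa)
    (hq' : q' ∈ K.Qb) : p * q * z * (p' * q' * z') = p * p' * (q * q') * (z * z') := by
  calc p * q * z * (p' * q' * z') = p * q * (z * p') * q' * z' := by group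
    _ = p * q * (p' * z) * q' * z' := by rw [c.hza z hz p' hp']
    _ = p * (q * p') * (z * q') * z' := by group
    _ = p * (p' * q) * (q' * z) * z' := by rw [← c.hab p' hp' q hq, c.hzb hz hq']
    _ = p * p' * (q * q') * (z * z') := by group

/-- The group `W`. -/
def W : Subgroup G where
  carrier := {x | ∃ p ∈ K.Qa, ∃ q ∈ K.Qb, ∃ z ∈ c.Zg, x = p * q * z}
  one_mem' := ⟨1, one_mem _, 1, one_mem _, 1, one_mem _, by rw [one_mul, one_mul]⟩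
  mul_mem' := by
    rintro _ _ ⟨p, hp, q, hq, z, hz, rfl⟩ ⟨p', hp', q', hq', z', hz', rfl⟩
    exact ⟨_, mul_mem hp hp', _, mul_mem hq hq', _, mul_mem hz hz', c.mul_three hq hz hp' hq'⟩
  inv_mem' := by
    rintro _ ⟨p, hp, q, hq, z, hz, rfl⟩
    refine ⟨_, inv_mem hp, _, inv_mem hq, _, inv_mem hz, inv_eq_of_mul_eq_one_right ?_⟩
    rw [c.mul_three hq hz (inv_mem hp) (inv_mem hq), mul_inv_cancel, mul_inv_cancel, mul_inv_cancel, one_mul,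
      one_mul]

theorem mem_W {x : G} : x ∈ c.W ↔ ∃ p ∈ K.Qa, ∃ q ∈ K.Qb, ∃ z ∈ c.Zg, x = p * q * z := Iff.rfl

theorem Qa_le_W : K.Qa ≤ c.W := fun p hp => ⟨p, hp, 1, one_mem _, 1, one_mem _, by rw [mul_one, mul_one]⟩

theorem Qb_le_W : K.Qb ≤ c.W := fun q hq => ⟨1, one_mem _, q, hq, 1, one_mem _, by rw [one_mul, mul_one]⟩

theorem Zg_le_W : c.Zg ≤ c.W := fun z hz => ⟨1, one_mem _, 1, one_mem _, z, hz, by rw [one_mul, one_mul]⟩

theorem W_le_Cz : c.W ≤ K.Cz := by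
  rintro _ ⟨p, hp, q, hq, z, hz, rfl⟩
  exact mul_mem (mul_mem (K.Qa_le_Cz hp) (K.Qb_le_Cz hq)) (K.Qy_le_Cz (c.le_Qy hz))

theorem E_W {e x : G} (he : e ∈ K.E) (hx : x ∈ c.W) : e * x * e⁻¹ ∈ c.W := by
  obtain ⟨p, hp, q, hq, z, hz, rfl⟩ := hx
  exact ⟨_, K.E_norm_Qa he hp, _, K.E_norm_Qb he hq, _, c.E_Zg he hz, by group⟩

theorem T_W {t x : G} (ht : K.IsT t) (hx : x ∈ c.W) : t * x * t⁻¹ ∈ c.W := by
  obtain ⟨p, hp, q, hq, z, hz, rfl⟩ := hx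
  have e : t * (p * q * z) * t⁻¹ = t * p * t⁻¹ * (t * q * t⁻¹) * (t * z * t⁻¹) := by group
  rw [e]
  rcases ht with rfl | rfl | rfl | rfl
  · exact ⟨_, (K.T_fix (Or.inl rfl)).1 p hp, _, (K.T_fix (Or.inl rfl)).2 q hq, _, c.T_Zg (Or.inl rfl) hz, rfl⟩
  · obtain ⟨h1, h2⟩ := K.T_swap (t := F.r 2) (Or.inl rfl)
    exact ⟨_, h2 q hq, _, h1 p hp, _, c.T_Zg (Or.inr (Or.inl rfl)) hz, by rw [c.hab _ (h2 q hq) _ (h1 p hp)]⟩
  · obtain ⟨h1, h2⟩ := K.T_swap (t := K.uu) (Or.inr rfl)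
    exact ⟨_, h2 q hq, _, h1 p hp, _, c.T_Zg (Or.inr (Or.inr (Or.inl rfl))) hz,
      by rw [c.hab _ (h2 q hq) _ (h1 p hp)]⟩
  · obtain ⟨h1, h2⟩ := K.T_fix (t := K.uu * F.r 2) (Or.inr rfl)
    exact ⟨_, h1 p hp, _, h2 q hq, _, c.T_Zg (Or.inr (Or.inr (Or.inr rfl))) hz, rfl⟩

/-- `W` extended by the outer elements. -/
def S : Subgroup G where
  carrier := {x | ∃ w ∈ c.W, ∃ t, K.IsT t ∧ x = w * t}
  one_mem' := ⟨1, one_mem _, 1, Or.inl rfl, (one_mul 1).symm⟩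
  mul_mem' := by
    rintro _ _ ⟨w, hw, t, ht, rfl⟩ ⟨w', hw', t', ht', rfl⟩
    exact ⟨_, mul_mem hw (c.T_W ht hw'), _, IsT.mul K ht ht', by group⟩
  inv_mem' := by
    rintro _ ⟨w, hw, t, ht, rfl⟩
    refine ⟨_, c.T_W ht (inv_mem hw), t, ht, ?_⟩
    rw [mul_inv_rev, inv_mul_cancel_right, IsT.inv_eq K ht]

theorem mem_S {x : G} : x ∈ c.S ↔ ∃ w ∈ c.W, ∃ t, K.IsT t ∧ x = w * t := Iff.rfl

theorem W_le_S : c.W ≤ c.S := fun w hw => ⟨w, hw, 1, Or.inl rfl, (mul_one w).symm⟩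

theorem T_mem_S {t : G} (ht : K.IsT t) : t ∈ c.S := ⟨1, one_mem _, t, ht, (one_mul t).symm⟩

theorem S_le_Cz : c.S ≤ K.Cz := by
  rintro _ ⟨w, hw, t, ht, rfl⟩
  exact mul_mem (c.W_le_Cz hw) (K.mem_Cz.2 (IsT.comm_zz K ht))

/-- Squares of elements of `W`. -/
theorem W_sq {x : G} (hx : x ∈ c.W) : x * x = 1 ∨ x * x = K.zz := by
  obtain ⟨p, hp, q, hq, z, hz, rfl⟩ := hx
  rw [c.mul_three hq hz hp hq, (K.Qy_comm (c.le_Qy hz)).2.2.2, mul_one]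
  rcases K.Qa_square hp with e | e <;> rcases K.Qb_sq hq with e' | e' <;> rw [e, e'] <;>
    simp [K.zz_sq]

theorem W_comm {x y : G} (hx : x ∈ c.W) (hy : y ∈ c.W) : x * y = y * x ∨ x * y = y * x * K.zz := by
  obtain ⟨p, hp, q, hq, z, hz, rfl⟩ := hx
  obtain ⟨p', hp', q', hq', z', hz', rfl⟩ := hy
  rw [c.mul_three hq hz hp' hq', c.mul_three hq' hz' hp hq, K.Qy_abelian (c.le_Qy hz) (c.le_Qy hz')]
  have cz : ∀ {g : G}, g ∈ K.Cz → Commute K.zz g := fun h => (show Commute _ K.zz from K.mem_Cz.1 h).symm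
  have hzY : z' * z ∈ K.Cz := mul_mem (K.Qy_le_Cz (c.le_Qy hz')) (K.Qy_le_Cz (c.le_Qy hz))
  have hqC : q' * q ∈ K.Cz := K.Qb_le_Cz (mul_mem hq' hq)
  rcases K.Qa_commutator hp hp' with e | e <;> rcases K.Qb_commutator hq hq' with e' | e' <;> rw [e, e']
  · exact Or.inl rfl
  · refine Or.inr ?_
    rw [← mul_assoc (p' * p) (q' * q) K.zz, mul_assoc _ K.zz (z' * z), (cz hzY).eq, ← mul_assoc]
  · refine Or.inr ?_
    rw [mul_assoc (p' * p) K.zz, (cz hqC).eq, ← mul_assoc (p' * p) (q' * q) K.zz, mul_assoc _ K.zz (z' * z),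
      (cz hzY).eq, ← mul_assoc]
  · refine Or.inl ?_
    rw [mul_assoc (p' * p) K.zz, (cz (mul_mem hqC (K.mem_Cz.2 rfl))).eq, mul_assoc (q' * q) K.zz K.zz, K.zz_sq,
      mul_one]

theorem S_pgroup : IsPGroup 2 c.S := by
  rintro ⟨x, w, hw, t, ht, rfl⟩
  refine ⟨3, Subtype.ext ?_⟩
  show (w * t) ^ 2 ^ 3 = 1
  have h1 : w * t * (w * t) ∈ c.W := by
    have := mul_mem hw (c.T_W ht hw)
    rwa [IsT.inv_eq K ht, show w * (t * w * t) = w * t * (w * t) by group] at this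
  have e8 : (w * t) ^ 2 ^ 3 = (w * t * (w * t) * (w * t * (w * t))) ^ 2 := by
    simp [pow_succ, mul_assoc]
  rw [e8]
  rcases c.W_sq h1 with e | e <;> rw [e]
  · exact one_pow 2
  · rw [pow_two, K.zz_sq]

/-- An element of `Qa` of order four is moved by the inverting element. -/
theorem no_fix {p : G} (hp : p ∈ K.Qa) (h1 : p ≠ 1) (h2 : p ≠ K.zz) :
    K.uu * F.r 2 * p * (K.uu * F.r 2)⁻¹ ≠ p := by
  intro h
  set s := K.uu * F.r 2 with hs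
  have he : F.e 2 * B.a = B.a * F.e 2 := K.E_comm K.e2_mem_E K.a_mem_E
  obtain ⟨e3, e1⟩ := K.sl_e2 he
  have hse : s * F.e 2 * s⁻¹ = (F.e 2)⁻¹ := by
    have h1 : K.uu * F.e 2 * K.uu⁻¹ = F.e 2 := by
      rw [K.uu_eq, show K.φ rhoP * F.e 2 = F.e 2 * K.φ rhoP from K.φ_comm rhoP, mul_inv_cancel_right]
    have h3 : K.uu * (F.e 2)⁻¹ * K.uu⁻¹ = (F.e 2)⁻¹ := by
      conv_rhs => rw [← h1]
      group
    rw [hs, mul_inv_rev, show K.uu * F.r 2 * F.e 2 * ((F.r 2)⁻¹ * K.uu⁻¹) =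
      K.uu * (F.r 2 * F.e 2 * (F.r 2)⁻¹) * K.uu⁻¹ by group, F.r_inv, K.r2_e2, h3]
  set p' := F.e 2 * p * (F.e 2)⁻¹ with hp'
  set p'' := (F.e 2)⁻¹ * p * F.e 2 with hp''
  have hp'Q : p' ∈ K.Qa := K.E_norm_Qa K.e2_mem_E hp
  have hp''Q : p'' ∈ K.Qa := by
    have := K.E_norm_Qa (inv_mem K.e2_mem_E) hp
    rwa [inv_inv] at this
  have sp' : MulAut.conj s p' = p'' := by
    rw [MulAut.conj_apply, hp', show s * (F.e 2 * p * (F.e 2)⁻¹) * s⁻¹ =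
      (s * F.e 2 * s⁻¹) * (s * p * s⁻¹) * (s * F.e 2 * s⁻¹)⁻¹ by group, hse, h, inv_inv]
  have sp'' : MulAut.conj s p'' = p' := by
    rw [MulAut.conj_apply, hp'', show s * ((F.e 2)⁻¹ * p * F.e 2) * s⁻¹ =
      (s * F.e 2 * s⁻¹)⁻¹ * (s * p * s⁻¹) * (s * F.e 2 * s⁻¹) by group, hse, h, inv_inv]
  have sp : MulAut.conj s p = p := h
  have n1 : B.sl ⟨p, mem_C (K.Qa_comm hp).1⟩ * B.sl ⟨p, mem_C (K.Qa_comm hp).1⟩ = -1 := by
    rw [← map_mul]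
    exact K.sl_Qa_zz _ ((show Commute p B.a from (K.Qa_comm hp).1).mul_left (K.Qa_comm hp).1).eq (K.Qa_four hp h1 h2)
  have ep' : B.sl ⟨p', mem_C (K.Qa_comm hp'Q).1⟩ =
      B.sl ⟨F.e 2, mem_C he⟩ * B.sl ⟨p, mem_C (K.Qa_comm hp).1⟩ * (B.sl ⟨F.e 2, mem_C he⟩)⁻¹ := by
    rw [← map_inv, ← map_mul, ← map_mul]; exact congrArg B.sl (Subtype.ext rfl)
  have ep'' : B.sl ⟨p'', mem_C (K.Qa_comm hp''Q).1⟩ =
      (B.sl ⟨F.e 2, mem_C he⟩)⁻¹ * B.sl ⟨p, mem_C (K.Qa_comm hp).1⟩ * B.sl ⟨F.e 2, mem_C he⟩ := by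
    rw [← map_inv, ← map_mul, ← map_mul]; exact congrArg B.sl (Subtype.ext rfl)
  rcases sl_no_fix _ n1 _ e3 e1 with ⟨ha, hb⟩ | ⟨ha, hb⟩ <;> rw [← ep', ← ep''] at ha hb <;>
    rw [← map_mul] at ha hb
  · have e : p * p' = p'' := K.Qa_sl_inj (mul_mem hp hp'Q) hp''Q ((congrArg B.sl (Subtype.ext rfl)).trans ha)
    have := congrArg (MulAut.conj s) e
    rw [map_mul, sp, sp', sp''] at this
    exact hb (congrArg B.sl (Subtype.ext this))
  · have e : p * p'' = p' := K.Qa_sl_inj (mul_mem hp hp''Q) hp'Q ((congrArg B.sl (Subtype.ext rfl)).trans ha)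
    have := congrArg (MulAut.conj s) e
    rw [map_mul, sp, sp', sp''] at this
    exact hb (congrArg B.sl (Subtype.ext this))

theorem mul_s_zz {p : G} (hp : p ∈ K.Qa)
    (hm : p * (K.uu * F.r 2 * p * (K.uu * F.r 2)⁻¹) = 1 ∨ p * (K.uu * F.r 2 * p * (K.uu * F.r 2)⁻¹) = K.zz) :
    p * (K.uu * F.r 2 * p * (K.uu * F.r 2)⁻¹) = 1 := by
  rcases hm with e | e
  · exact e
  set s := K.uu * F.r 2
  have hcz : s * K.zz * s⁻¹ = K.zz := by
    rw [IsT.comm_zz K (Or.inr (Or.inr (Or.inr rfl))), mul_inv_cancel_right]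
  by_cases h1 : p = 1
  · rw [h1, one_mul, mul_one, mul_inv_cancel]
  by_cases h2 : p = K.zz
  · rw [h2, hcz, K.zz_sq]
  exfalso
  refine no_fix hp h1 h2 ?_
  have e' : s * p * s⁻¹ = p⁻¹ * K.zz := by rw [← e, inv_mul_cancel_left]
  rw [e']
  conv_rhs => rw [← inv_inv p]
  refine (eq_inv_of_mul_eq_one_left ?_)
  rw [show p⁻¹ * K.zz * p⁻¹ = p⁻¹ * (K.zz * p⁻¹) by group,
    ← ((show Commute p K.zz from (K.Qa_comm hp).2).inv_left).eq, ← mul_assoc, ← mul_inv_rev, K.Qa_four hp h1 h2,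
    K.zz_inv, K.zz_sq]

theorem swap_case {p q z t : G} (hp : p ∈ K.Qa) (hq : q ∈ K.Qb) (hz : z ∈ c.Zg) (ht : t = F.r 2 ∨ t = K.uu)
    (hzy : t * z * t⁻¹ ∈ K.Qy)
    (hzz1 : z * (t * z * t⁻¹) = 1 ∨ z * (t * z * t⁻¹) = K.zz → z * (t * z * t⁻¹) = 1)
    (h : p * q * z * (t * p * t⁻¹ * (t * q * t⁻¹) * (t * z * t⁻¹)) = 1 ∨
      p * q * z * (t * p * t⁻¹ * (t * q * t⁻¹) * (t * z * t⁻¹)) = K.zz) :
    p * q * z * (t * p * t⁻¹ * (t * q * t⁻¹) * (t * z * t⁻¹)) = 1 := by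
  obtain ⟨h1, h2⟩ := K.T_swap ht
  have htT : K.IsT t := ht.elim (fun e => Or.inr (Or.inl e)) fun e => Or.inr (Or.inr (Or.inl e))
  rw [← c.hab _ (h2 q hq) _ (h1 p hp), c.mul_three hq hz (h2 q hq) (h1 p hp)] at h ⊢
  obtain ⟨ha, hb, hy⟩ := K.triple (mul_mem hp (h2 q hq)) (mul_mem hq (h1 p hp)) (mul_mem (c.le_Qy hz) hzy) h
  rw [hzz1 hy, mul_one]
  set ε := p * (t * q * t⁻¹) with hε
  have htt : t * t = 1 := IsT.sq K htT
  have hti : t⁻¹ = t := IsT.inv_eq K htT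
  have hcε : ∀ g ∈ K.Cz, g * ε = ε * g := fun g hg => by
    rcases ha with e | e <;> rw [e]
    · rw [one_mul, mul_one]
    · exact K.mem_Cz.1 hg
  have e1 : t * q * t⁻¹ = p⁻¹ * ε := by rw [hε, inv_mul_cancel_left]
  have hεC : ε * ε = 1 := by rcases ha with e | e <;> rw [e]; exacts [one_mul 1, K.zz_sq]
  have htC : t ∈ K.Cz := K.mem_Cz.2 (IsT.comm_zz K htT)
  have e2 : q = (t * p * t⁻¹)⁻¹ * ε := by
    calc q = t * (t * q * t⁻¹) * t := by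
          rw [hti, show t * (t * q * t) * t = (t * t) * q * (t * t) by group, htt, one_mul, mul_one]
      _ = t * p⁻¹ * (ε * t) := by rw [e1]; group
      _ = t * p⁻¹ * (t * ε) := by rw [hcε t htC]
      _ = (t * p * t⁻¹)⁻¹ * ε := by rw [mul_inv_rev, mul_inv_rev, inv_inv, hti]; group
  have e3 : q * (t * p * t⁻¹) = ε := by
    rw [e2, mul_assoc, ← hcε _ (K.Qb_le_Cz (h1 p hp)), inv_mul_cancel_left]
  rw [e3, hεC]

/-- The outer elements with square in `<zz>` are involutions. -/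
theorem outer_sq {w t : G} (hw : w ∈ c.W) (ht : K.IsT t) (ht1 : t ≠ 1)
    (h : w * t * (w * t) = 1 ∨ w * t * (w * t) = K.zz) : w * t * (w * t) = 1 := by
  obtain ⟨p, hp, q, hq, z, hz, rfl⟩ := hw
  have e : p * q * z * t * (p * q * z * t) = p * q * z * (t * p * t⁻¹ * (t * q * t⁻¹) * (t * z * t⁻¹)) := by
    calc p * q * z * t * (p * q * z * t) = p * q * z * (t * (p * q * z) * t) := by group
      _ = p * q * z * (t * (p * q * z) * t⁻¹) := by rw [IsT.inv_eq K ht]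
      _ = _ := by group
  rw [e] at h ⊢
  have hzt := c.T_Zg ht hz
  obtain ⟨hzy, hzc⟩ := IsT.conj_Qy K ht (c.le_Qy hz)
  have hzz1 : z * (t * z * t⁻¹) = 1 ∨ z * (t * z * t⁻¹) = K.zz → z * (t * z * t⁻¹) = 1 :=
    fun h => h.elim id fun e => hzc.elim id fun n => absurd e n
  rcases ht with rfl | rfl | rfl | rfl
  · exact absurd rfl ht1
  · exact swap_case c hp hq hz (Or.inl rfl) hzy hzz1 h
  · exact swap_case c hp hq hz (Or.inr rfl) hzy hzz1 h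
  ·
    obtain ⟨h1, h2⟩ := K.T_fix (t := K.uu * F.r 2) (Or.inr rfl)
    rw [c.mul_three hq hz (h1 p hp) (h2 q hq)] at h ⊢
    obtain ⟨ha, hb, hy⟩ := K.triple (mul_mem hp (h1 p hp)) (mul_mem hq (h2 q hq))
      (mul_mem (c.le_Qy hz) hzy) h
    rw [mul_s_zz hp ha, hzz1 hy, one_mul, mul_one]
    -- conjugate the statement for `Qa` by `r 2`
    have hqa := K.mem_Qb.1 hq
    have hs : F.r 2 * (K.uu * F.r 2 * q * (K.uu * F.r 2)⁻¹) * F.r 2 =
        K.uu * F.r 2 * (F.r 2 * q * F.r 2) * (K.uu * F.r 2)⁻¹ := by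
      rw [mul_inv_rev, F.r_inv, K.uu_inv]
      calc F.r 2 * (K.uu * F.r 2 * q * (F.r 2 * K.uu)) * F.r 2 =
            (F.r 2 * K.uu) * (F.r 2 * q * F.r 2) * (K.uu * F.r 2) := by group
        _ = K.uu * F.r 2 * (F.r 2 * q * F.r 2) * (F.r 2 * K.uu) := by rw [K.uu_r2]
    have h' := mul_s_zz hqa (by
      rw [← hs, r2_map]
      rcases hb with e' | e' <;> rw [e']
      · exact Or.inl (by rw [mul_one, F.r_sq])
      · exact Or.inr K.r2_zz')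
    rw [← hs, r2_map] at h'
    rw [← r2_twice (F := F) (q * _), h', mul_one, F.r_sq]

end Cfg

end SixChart

end CfsgLib.Recog.SpSixThree
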