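import Cfsg.Agent.Lib.Recog.SpSixThree.Six

/-!
The sixteen generated by the two four-groups is normal: the centralizer of the involution is a two-local
subgroup.
-/

set_option autoImplicit false
set_option linter.style.haveILetI false
set_option linter.unusedSectionVars false

namespace CfsgLib.Recog.SpSixThree.Six

open Subgroup CfsgLib.Invol

universe u

variable {G : Type u} [Group G] [Finite G]

/-- The third four-group and the shape of the fixed points of outer elements. -/
structure Third (h : Six G) where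
  /-- The third four-group (trivial if the sixteen is self-centralising). -/
  Z : Subgroup G
  le_cent : Z ≤ centralizer (h.P : Set G)
  norm : ∀ n ∈ h.N, ∀ y ∈ Z, n * y * n⁻¹ ∈ Z
  card_le : Nat.card Z ≤ 4
  expZ : ∀ y ∈ Z, y * y = 1
  disj_Z : ∀ x, x ∈ h.P → x ∈ Z → x = 1
  split : ∀ c ∈ centralizer (h.P : Set G), ∃ p ∈ h.P, ∃ y ∈ Z, c = p * y
  cent_Z : Z ≠ ⊥ → centralizer (Z : Set G) ≤ h.N
  outer : ∀ u ∈ h.Va, u ≠ 1 → ∀ x ∈ h.N, x * x ∈ centralizer (h.P : Set G) →
    x ∉ centralizer (h.P : Set G) → x * u = u * x →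
    ∃ v ∈ h.Vb, v ≠ 1 ∧ ∀ p ∈ h.P, p * x = x * p ↔ p = 1 ∨ p = u ∨ p = v ∨ p = u * v

variable {h : Six G} (T : Third h)

include T

theorem split_unique {p p' y y' : G} (hp : p ∈ h.P) (hp' : p' ∈ h.P) (hy : y ∈ T.Z) (hy' : y' ∈ T.Z)
    (e : p * y = p' * y') : p = p' := by
  have h1 : p'⁻¹ * p = y' * y⁻¹ := by
    calc p'⁻¹ * p = p'⁻¹ * (p * y) * y⁻¹ := by group
      _ = y' * y⁻¹ := by rw [e]; group
  exact (inv_mul_eq_one.1 (T.disj_Z _ (mul_mem (inv_mem hp') hp) (h1 ▸ mul_mem hy' (inv_mem hy)))).symm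

theorem fixed_mixed {u v x n : G} (hu : u ∈ h.Va) (hu1 : u ≠ 1) (hv : v ∈ h.Vb) (hv1 : v ≠ 1)
    (hx : ∀ p ∈ h.P, p * x = x * p ↔ p = 1 ∨ p = u ∨ p = v ∨ p = u * v) (hn : n ∈ h.N)
    (hnx : ∀ p ∈ h.P, (n * p * n⁻¹) * x = x * (n * p * n⁻¹) ↔ p * x = x * p) :
    n * (u * v) = (u * v) * n := by
  refine conj_fix ?_
  have hP : u * v ∈ h.P := mul_mem (h.le_a hu) (h.le_b hv)
  have h1 := (hx _ (h.conj_P hn hP)).1 ((hnx _ hP).2 ((hx _ hP).2 (Or.inr (Or.inr (Or.inr rfl)))))
  have hne : u * v ≠ 1 := fun e => (h.mul_notMem hu hu1 hv hv1).1 (by rw [e]; exact one_mem _)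
  have hK : u * v ∉ h.K := fun e => by
    rcases (h.K_of_mem hP e).2 with e' | e'
    · exact (h.mul_notMem hu hu1 hv hv1).1 e'
    · exact (h.mul_notMem hu hu1 hv hv1).2 e'
  have hK' : n * (u * v) * n⁻¹ ∉ h.K := fun e => hK (by simpa [mul_assoc] using h.conj_K n⁻¹ _ e)
  rcases h1 with e | e | e | e
  · exact absurd (by simpa using e) hne
  · rw [e] at hK'; exact absurd (h.six_K hu1 (Or.inl hu)) hK'
  · rw [e] at hK'; exact absurd (h.six_K hv1 (Or.inr hv)) hK'
  · exact e

theorem four_Z {y z x : G} (hy : y ∈ T.Z) (hy1 : y ≠ 1) (hz : z ∈ T.Z) (hz1 : z ≠ 1) (hne : z ≠ y)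
    (hx : x ∈ T.Z) : x = 1 ∨ x = y ∨ x = z ∨ x = y * z := by
  classical
  haveI := Fintype.ofFinite T.Z
  have h4 : Nat.card T.Z = 4 := by
    refine le_antisymm T.card_le ?_
    have n1 : y * z ≠ 1 := fun e =>
      hne ((eq_inv_of_mul_eq_one_right e).trans (inv_eq_of_mul_eq_one_right (T.expZ y hy)))
    have n2 : y * z ≠ y := fun e => hz1 (mul_eq_left.1 e)
    have n3 : y * z ≠ z := fun e => hy1 (mul_eq_right.1 e)
    have h5 : ({⟨1, one_mem _⟩, ⟨y, hy⟩, ⟨z, hz⟩, ⟨y * z, mul_mem hy hz⟩} : Finset T.Z).card = 4 := by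
      rw [Finset.card_insert_of_notMem, Finset.card_insert_of_notMem, Finset.card_insert_of_notMem,
        Finset.card_singleton] <;>
        simp [Subtype.ext_iff, Ne.symm hy1, Ne.symm hz1, Ne.symm n1, Ne.symm n2, Ne.symm n3, Ne.symm hne]
    rw [Nat.card_eq_fintype_card, ← h5]
    exact Finset.card_le_univ _
  exact four_cases h4 T.expZ hy hy1 hz hz1 hne hx

/-- The centraliser of an element of the third four-group. -/
theorem cent_le_Z {y : G} (hy : y ∈ T.Z) (hy1 : y ≠ 1) {u₀ v₀ : G} (hu0 : u₀ ∈ h.Va) (hu01 : u₀ ≠ 1)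
    (hv0 : v₀ ∈ h.Vb) (hv01 : v₀ ≠ 1) : centralizer ({y} : Set G) ≤ h.N := by
  haveI : Fact (Nat.Prime 2) := ⟨Nat.prime_two⟩
  have hC := h.closed
  set C := centralizer ({y} : Set G) with hCdef
  have hyC : y ∈ C := mem_cent.2 rfl
  have hyy := T.expZ y hy
  have hyP : ∀ p ∈ h.P, p * y = y * p := fun p hp => mem_centralizer_iff.1 (T.le_cent hy) p hp
  have hPC : ∀ p ∈ h.P, p ∈ C := fun p hp => mem_cent.2 (hyP p hp)
  have hyN : y ∈ h.N := centralizer_le_normalizer _ (T.le_cent hy)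
  set A : Subgroup C := zpowers ⟨y, hyC⟩ with hA
  have hcentral : ∀ m : C, m * ⟨y, hyC⟩ = ⟨y, hyC⟩ * m := fun m => Subtype.ext (mem_cent.1 m.2)
  haveI hAn : A.Normal := ⟨fun x hx m => by
    obtain ⟨k, rfl⟩ := mem_zpowers_iff.1 hx
    rw [(Commute.zpow_right (hcentral m) k).eq, mul_inv_cancel_right]
    exact zpow_mem (mem_zpowers _) k⟩
  let f : C →* C ⧸ A := QuotientGroup.mk' A
  have hfA : ∀ x z : C, f x = f z → (x : G) = z ∨ (x : G) = z * y := by
    intro x z e
    obtain ⟨k, hk⟩ := mem_zpowers_iff.1 (QuotientGroup.eq.1 e.symm)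
    have e2 : (z : G)⁻¹ * x = y ^ k := by
      have := congrArg Subtype.val hk
      simpa using this.symm
    have e3 : (x : G) = z * y ^ k := by rw [← e2, mul_inv_cancel_left]
    obtain ⟨j, rfl | rfl⟩ := Int.even_or_odd' k
    · exact Or.inl (by rw [e3, zpow_mul, zpow_two, hyy, one_zpow, mul_one])
    · exact Or.inr (by rw [e3, zpow_add, zpow_mul, zpow_two, hyy, one_zpow, one_mul, zpow_one])
  have hfy : f ⟨y, hyC⟩ = 1 := (QuotientGroup.eq_one_iff _).2 (mem_zpowers _)
  -- coset representatives stay in the normaliser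
  have hNy : ∀ x z : C, f x = f z → (z : G) ∈ h.N → (x : G) ∈ h.N := fun x z e hz => by
    rcases hfA x z e with e' | e' <;> rw [e']
    · exact hz
    · exact mul_mem hz hyN
  have hPy : ∀ x z : C, f x = f z → (x : G) ∈ h.P → (z : G) ∈ h.P → (x : G) = z := fun x z e hx hz => by
    rcases hfA x z e with e' | e'
    · exact e'
    · exfalso
      refine hy1 (T.disj_Z y ?_ hy)
      exact (mul_mem_cancel_left hz).1 (e' ▸ hx)
  set PC : Subgroup C := h.P.subgroupOf C with hPCdef
  set Pb := PC.map f with hPb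
  have hmemPb : ∀ p ∈ h.P, ∀ hp : p ∈ C, f ⟨p, hp⟩ ∈ Pb := fun p hp hpc => ⟨⟨p, hpc⟩, mem_subgroupOf.2 hp, rfl⟩
  have hnormPb : ∀ g : C, f g ∈ normalizer (Pb : Set (C ⧸ A)) → (g : G) ∈ h.N := by
    intro g hg
    obtain ⟨x, hx, e⟩ := (mem_normalizer_iff.1 hg _).1 (hmemPb u₀ (h.le_a hu0) (hPC _ (h.le_a hu0)))
    refine hC.mem_norm (h.le_a hu0) hu01 ?_
    exact hNy (g * ⟨u₀, hPC _ (h.le_a hu0)⟩ * g⁻¹) x (by rw [e, map_mul, map_mul, map_inv])
      (hC.le_norm (mem_subgroupOf.1 hx))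
  have hNPb : ∀ g : C, (g : G) ∈ h.N → f g ∈ normalizer (Pb : Set (C ⧸ A)) := by
    intro g hg
    refine Subgroup.le_normalizer_map f ⟨g, mem_normalizer_iff.2 fun x => ?_, rfl⟩
    rw [hPCdef, mem_subgroupOf, mem_subgroupOf]
    exact mem_normalizer_iff.1 hg x
  have hclosed : Closed Pb := by
    refine ⟨?_, ?_, ?_, ?_⟩
    · rintro _ ⟨a, ha, rfl⟩ _ ⟨b, hb, rfl⟩
      rw [← map_mul, ← map_mul]
      exact congrArg f (Subtype.ext (h.comm _ (mem_subgroupOf.1 ha) _ (mem_subgroupOf.1 hb)))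
    · rintro _ ⟨a, ha, rfl⟩
      rw [← map_mul, show a * a = 1 from Subtype.ext (h.exp _ (mem_subgroupOf.1 ha)), map_one]
    · rintro _ ⟨a, ha, rfl⟩ gq hg
      obtain ⟨g, rfl⟩ := QuotientGroup.mk'_surjective A gq
      change f g * f a * (f g)⁻¹ ∈ _ at hg
      show f g * f a * (f g)⁻¹ ∈ _
      rw [← map_inv, ← map_mul, ← map_mul] at hg ⊢
      have := hC.strong _ (mem_subgroupOf.1 ha) g (hnormPb _ hg)
      exact hmemPb _ this (g * a * g⁻¹).2
    · rintro _ ⟨a, ha, rfl⟩ ha1 gq hg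
      obtain ⟨g, rfl⟩ := QuotientGroup.mk'_surjective A gq
      refine hNPb g (hC.mem_norm (mem_subgroupOf.1 ha) (fun e => ha1 ?_) ?_)
      · rw [show a = 1 from Subtype.ext e, map_one]
      · refine hNy (g * a * g⁻¹) a ?_ (hC.le_norm (mem_subgroupOf.1 ha))
        rw [map_mul, map_mul, map_inv, show f g * f a = f a * f g from mem_cent.1 hg, mul_inv_cancel_right]
  have huC := hPC _ (h.le_a hu0)
  have hwP : u₀ * v₀ ∈ h.P := mul_mem (h.le_a hu0) (h.le_b hv0)
  have hwC := hPC _ hwP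
  have hf1 : ∀ p ∈ h.P, ∀ hp : p ∈ C, p ≠ 1 → f ⟨p, hp⟩ ≠ 1 := fun p hp hpc hp1 e =>
    hp1 (hPy ⟨p, hpc⟩ 1 (by rw [e, map_one]) hp (one_mem _))
  have hw1 : u₀ * v₀ ≠ 1 := fun e => (h.mul_notMem hu0 hu01 hv0 hv01).1 (by rw [e]; exact one_mem _)
  have htop : normalizer (Pb : Set (C ⧸ A)) = ⊤ := by
    refine hclosed.normal (hmemPb _ (h.le_a hu0) huC) (hf1 _ (h.le_a hu0) huC hu01) (hmemPb _ hwP hwC)
      (hf1 _ hwP hwC hw1) ?_ ?_
    · intro hc
      obtain ⟨gq, hg⟩ := isConj_iff.1 hc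
      obtain ⟨g, rfl⟩ := QuotientGroup.mk'_surjective A gq
      change f g * f _ * (f g)⁻¹ = f _ at hg
      rw [← map_inv, ← map_mul, ← map_mul] at hg
      have hP := hC.strong u₀ (h.le_a hu0) g (hNy _ ⟨u₀ * v₀, hwC⟩ hg (hC.le_norm hwP))
      have e := hPy _ ⟨u₀ * v₀, hwC⟩ hg hP hwP
      have hK : u₀ * v₀ ∈ h.K := by
        rw [show u₀ * v₀ = (g : G) * u₀ * (g : G)⁻¹ from e.symm]
        exact h.conj_K g u₀ (h.six_K hu01 (Or.inl hu0))
      rcases (h.K_of_mem hwP hK).2 with e' | e'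
      · exact (h.mul_notMem hu0 hu01 hv0 hv01).1 e'
      · exact (h.mul_notMem hu0 hu01 hv0 hv01).2 e'
    · intro iq hio hiu
      obtain ⟨i, rfl⟩ := QuotientGroup.mk'_surjective A iq
      change orderOf (f i) = 2 at hio
      change f i * f _ = f _ * f i at hiu
      show centralizer ({f i} : Set (C ⧸ A)) ≤ _
      have hconj : ((i * ⟨u₀, huC⟩ * i⁻¹ : C) : G) ∈ h.N :=
        hNy _ ⟨u₀, huC⟩ (by rw [map_mul, map_mul, map_inv, hiu, mul_inv_cancel_right]) (hC.le_norm (h.le_a hu0))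
      have hiN : (i : G) ∈ h.N := hC.mem_norm (h.le_a hu0) hu01 hconj
      have hiu' : (i : G) * u₀ = u₀ * i := conj_fix (hPy (i * ⟨u₀, huC⟩ * i⁻¹) ⟨u₀, huC⟩
        (by rw [map_mul, map_mul, map_inv, hiu, mul_inv_cancel_right]) (h.conj_P hiN (h.le_a hu0)) (h.le_a hu0))
      have hii : ((i : G) * i) ∈ centralizer (h.P : Set G) := by
        rcases hfA (i * i) 1 (by rw [map_mul, invol_mul_self hio, map_one]) with e | e
        · rw [show (i : G) * i = 1 from e]; exact one_mem _
        · rw [show (i : G) * i = y by simpa using e]; exact T.le_cent hy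
      have hcardPb : ∀ D : Subgroup G, D ≤ h.P → (∀ p ∈ D, p * (i : G) = i * p) →
          Nat.card D ≤ Nat.card ↥(Pb ⊓ centralizer ({f i} : Set (C ⧸ A))) := by
        intro D hD hDi
        refine Nat.card_le_card_of_injective (fun p : D => ⟨f ⟨p, hPC _ (hD p.2)⟩, hmemPb _ (hD p.2) _, ?_⟩) ?_
        · refine mem_cent.2 ?_
          rw [← map_mul, ← map_mul]
          exact congrArg f (Subtype.ext (hDi p p.2))
        · intro p q e
          exact Subtype.ext (hPy ⟨p, hPC _ (hD p.2)⟩ ⟨q, hPC _ (hD q.2)⟩ (congrArg Subtype.val e) (hD p.2)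
            (hD q.2))
      by_cases hiC : (i : G) ∈ centralizer (h.P : Set G)
      · obtain ⟨p, hp, z, hz, e⟩ := T.split _ hiC
        by_cases hp1 : p = 1
        · rw [hp1, one_mul] at e
          have hz1 : z ≠ 1 := fun e1 => by
            rw [show i = 1 from Subtype.ext (e.trans e1), map_one, orderOf_one] at hio
            omega
          have hzy : z ≠ y := fun e1 => by
            rw [show i = ⟨y, hyC⟩ from Subtype.ext (e.trans e1), hfy, orderOf_one] at hio
            omega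
          intro gq hg
          obtain ⟨g, rfl⟩ := QuotientGroup.mk'_surjective A gq
          have hgy : (g : G) * y * (g : G)⁻¹ = y := by rw [mem_cent.1 g.2, mul_inv_cancel_right]
          have hgz : (g : G) * z * (g : G)⁻¹ = z ∨ (g : G) * z * (g : G)⁻¹ = z * y := by
            rw [← e]
            exact hfA (g * i * g⁻¹) i (by
              rw [map_mul, map_mul, map_inv, show f g * f i = f i * f g from mem_cent.1 hg,
                mul_inv_cancel_right])
          refine hNPb g (h.mem_norm_of fun q hq => T.cent_Z (fun e1 => hy1 ((mem_bot).1 (e1 ▸ hy))) ?_)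
          have hc : ∀ w ∈ T.Z, Commute ((g : G) * q * (g : G)⁻¹) ((g : G) * w * (g : G)⁻¹) := fun w hw => by
            have h0 : Commute q w := mem_centralizer_iff.1 (T.le_cent hw) q hq
            show _ * _ = _ * _
            rw [show (g : G) * q * (g : G)⁻¹ * ((g : G) * w * (g : G)⁻¹) = g * (q * w) * (g : G)⁻¹ by group,
              h0.eq]
            group
          have hy' := hc y hy
          rw [hgy] at hy'
          have hz' : Commute ((g : G) * q * (g : G)⁻¹) z := by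
            rcases hgz with e1 | e1
            · exact e1 ▸ hc z hz
            · have h1 := hc z hz
              rw [e1] at h1
              have := h1.mul_right hy'
              rwa [mul_assoc z y y, hyy, mul_one] at this
          refine mem_centralizer_iff.2 fun w hw => ?_
          rcases four_Z T hy hy1 hz hz1 hzy hw with e1 | e1 | e1 | e1 <;> rw [e1]
          · rw [one_mul, mul_one]
          · exact hy'.eq.symm
          · exact hz'.eq.symm
          · exact (hy'.mul_right hz').eq.symm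
        · have hip : ∀ q ∈ h.P, q * (i : G) = i * q := fun q hq => mem_centralizer_iff.1 hiC q hq
          refine hclosed.cent_le (hNPb i hiN) ?_ (hmemPb p hp (hPC p hp)) (hf1 p hp _ hp1) ?_ ?_
          · have := hcardPb h.P le_rfl hip
            rw [h.card_P] at this
            omega
          · rw [← map_mul, ← map_mul]
            exact congrArg f (Subtype.ext (hip p hp))
          · intro nq hnq hni
            obtain ⟨n, rfl⟩ := QuotientGroup.mk'_surjective A nq
            have hnN := hnormPb n hnq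
            change f n * f i = f i * f n at hni
            show f n * f _ = f _ * f n
            rw [← map_mul, ← map_mul]
            refine congrArg f (Subtype.ext (conj_fix ?_))
            have e2 : ((n * i * n⁻¹ : C) : G) = ((n : G) * p * (n : G)⁻¹) * ((n : G) * z * (n : G)⁻¹) := by
              simp [e, mul_assoc]
            rcases hfA (n * i * n⁻¹) i (by rw [map_mul, map_mul, map_inv, hni, mul_inv_cancel_right]) with
              e1 | e1 <;> rw [e2, e] at e1
            · exact split_unique T (h.conj_P hnN hp) hp (T.norm _ hnN z hz) hz e1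
            · rw [mul_assoc p z y] at e1
              exact split_unique T (h.conj_P hnN hp) hp (T.norm _ hnN z hz) (mul_mem hz hy) e1
      · obtain ⟨v, hv, hv1, hx⟩ := T.outer u₀ hu0 hu01 i hiN hii hiC hiu'
        have hP' : u₀ * v ∈ h.P := mul_mem (h.le_a hu0) (h.le_b hv)
        refine hclosed.cent_le (hNPb i hiN) ?_ (hmemPb _ hP' (hPC _ hP')) (hf1 _ hP' _ fun e =>
          (h.mul_notMem hu0 hu01 hv hv1).1 (by rw [e]; exact one_mem _)) ?_ ?_
        · refine le_trans ?_ (hcardPb (h.P ⊓ centralizer ({(i : G)} : Set G)) inf_le_left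
            fun p hp => mem_cent.1 hp.2)
          exact four_le_fixed h.comm h.exp h.card_P hiN fun p hp => (mem_centralizer_iff.1 hii p hp).symm
        · rw [← map_mul, ← map_mul]
          exact congrArg f (Subtype.ext ((hx _ hP').2 (Or.inr (Or.inr (Or.inr rfl)))))
        · intro nq hnq hni
          obtain ⟨n, rfl⟩ := QuotientGroup.mk'_surjective A nq
          have hnN := hnormPb n hnq
          change f n * f i = f i * f n at hni
          show f n * f _ = f _ * f n
          rw [← map_mul, ← map_mul]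
          refine congrArg f (Subtype.ext (fixed_mixed T hu0 hu01 hv hv1 hx hnN fun p hp => ?_))
          have key : ∀ q ∈ h.P, q * ((n * i * n⁻¹ : C) : G) = ((n * i * n⁻¹ : C) : G) * q ↔ q * (i : G) = i * q := by
            intro q hq
            rcases hfA (n * i * n⁻¹) i (by rw [map_mul, map_mul, map_inv, hni, mul_inv_cancel_right]) with
              e1 | e1 <;> rw [e1]
            rw [← mul_assoc, mul_assoc (i : G) y q, ← hyP q hq, ← mul_assoc]
            exact mul_left_inj y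
          rw [← key _ (h.conj_P hnN hp)]
          simp only [Subgroup.coe_mul, InvMemClass.coe_inv, mul_assoc, inv_mul_cancel_left, mul_right_inj]
          rw [← mul_assoc, ← mul_assoc, mul_left_inj]
  intro g hg
  exact hnormPb ⟨g, hg⟩ (htop ▸ mem_top _)

/-- The sixteen is normal. -/
theorem normal_top {u₀ v₀ : G} (hu0 : u₀ ∈ h.Va) (hu01 : u₀ ≠ 1) (hv0 : v₀ ∈ h.Vb) (hv01 : v₀ ≠ 1) :
    h.N = ⊤ := by
  have hC := h.closed
  have hwP : u₀ * v₀ ∈ h.P := mul_mem (h.le_a hu0) (h.le_b hv0)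
  refine hC.normal (h.le_a hu0) hu01 hwP
    (fun e => (h.mul_notMem hu0 hu01 hv0 hv01).1 (by rw [e]; exact one_mem _)) ?_ ?_
  · intro hc
    obtain ⟨g, hg⟩ := isConj_iff.1 hc
    have hK : u₀ * v₀ ∈ h.K := hg ▸ h.conj_K g u₀ (h.six_K hu01 (Or.inl hu0))
    rcases (h.K_of_mem hwP hK).2 with e' | e'
    · exact (h.mul_notMem hu0 hu01 hv0 hv01).1 e'
    · exact (h.mul_notMem hu0 hu01 hv0 hv01).2 e'
  intro i hio hiu
  have hiN : i ∈ h.N := h.cent (h.le_a hu0) hu01 (mem_cent.2 hiu)
  have hii : i * i = 1 := invol_mul_self hio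
  have h4 : 4 ≤ Nat.card ↥(h.P ⊓ centralizer ({i} : Set G)) :=
    four_le_fixed h.comm h.exp h.card_P hiN fun p _ => by rw [hii, one_mul, mul_one]
  by_cases hiC : i ∈ centralizer (h.P : Set G)
  · obtain ⟨p, hp, z, hz, e⟩ := T.split i hiC
    by_cases hp1 : p = 1
    · rw [hp1, one_mul] at e
      subst e
      exact cent_le_Z T hz (invol_ne_one hio) hu0 hu01 hv0 hv01
    · refine hC.cent_le hiN h4 hp hp1 (mem_centralizer_iff.1 hiC p hp) fun n hn hni => conj_fix ?_
      have e1 : (n * p * n⁻¹) * (n * z * n⁻¹) = p * z := by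
        rw [show n * p * n⁻¹ * (n * z * n⁻¹) = n * (p * z) * n⁻¹ by group, ← e, hni, mul_inv_cancel_right]
      exact split_unique T (h.conj_P hn hp) hp (T.norm n hn z hz) hz e1
  · obtain ⟨v, hv, hv1, hx⟩ := T.outer u₀ hu0 hu01 i hiN (by rw [hii]; exact one_mem _) hiC hiu
    have hP' : u₀ * v ∈ h.P := mul_mem (h.le_a hu0) (h.le_b hv)
    refine hC.cent_le hiN h4 hP' (fun e => (h.mul_notMem hu0 hu01 hv hv1).1 (by rw [e]; exact one_mem _))
      ((hx _ hP').2 (Or.inr (Or.inr (Or.inr rfl)))) fun n hn hni => fixed_mixed T hu0 hu01 hv hv1 hx hn ?_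
    intro p hp
    have hc : n⁻¹ * i * n = i := by rw [mul_assoc, ← hni, inv_mul_cancel_left]
    constructor
    · intro e
      calc p * i = p * (n⁻¹ * i * n) := by rw [hc]
        _ = n⁻¹ * (n * p * n⁻¹ * i) * n := by group
        _ = n⁻¹ * (i * (n * p * n⁻¹)) * n := by rw [e]
        _ = (n⁻¹ * i * n) * p := by group
        _ = i * p := by rw [hc]
    · intro e
      calc n * p * n⁻¹ * i = n * (p * (n⁻¹ * i * n)) * n⁻¹ := by group
        _ = n * (p * i) * n⁻¹ := by rw [hc]
        _ = n * ((n⁻¹ * i * n) * p) * n⁻¹ := by rw [e, hc]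
        _ = i * (n * p * n⁻¹) := by group

end CfsgLib.Recog.SpSixThree.Six
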