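import Cfsg.Agent.Lib.Recog.SpSixThree.HSixBase
import Cfsg.Agent.Lib.Recog.SpSixThree.TwoLocal

/-!
The stabiliser of the six and the weak closure of `W` modulo `z`.
-/

set_option autoImplicit false
set_option linter.style.haveILetI false
set_option linter.unusedSectionVars false
set_option synthInstance.maxSize 20000

namespace CfsgLib.Recog.SpSixThree

open Equiv Subgroup

universe u

theorem base_self_cent : ∀ σ : Perm (Fin 6), (∀ τ ∈ baseList, σ * τ = τ * σ) → σ ∈ baseList := by decide +kernel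

theorem base_a_move : ∀ σ ∈ baseList, σ * (cycP * σ * cycP⁻¹) = 1 ∨ σ * (cycP * σ * cycP⁻¹) = tauP →
    σ = 1 ∨ σ = tauP := by decide +kernel

variable {G : Type u} [Group G] [Finite G] {B : Base G} {F : FullFrame B}

namespace SixChart

variable (K : SixChart F)

/-- Commuting up to `zz` with an element of order three is commuting. -/
theorem commute_of_mod {x y : G} (hx : x ^ 3 = 1) (hxz : x * K.zz = K.zz * x)
    (h : x * y * x⁻¹ = y ∨ x * y * x⁻¹ = y * K.zz) : x * y = y * x := by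
  rcases h with h | h
  · exact mul_inv_eq_iff_eq_mul.1 h
  exfalso
  have hf : MulAut.conj x y = y * K.zz := h
  have hfz : MulAut.conj x K.zz = K.zz := by rw [MulAut.conj_apply, hxz, mul_inv_cancel_right]
  have e4 : MulAut.conj x (MulAut.conj x (MulAut.conj x y)) = y * K.zz * K.zz * K.zz := by
    simp only [hf, hfz, map_mul]
  rw [← MulAut.mul_apply, ← MulAut.mul_apply, ← map_mul, ← map_mul, ← pow_two, ← pow_succ,
    hx, map_one, MulAut.one_apply, mul_assoc y, K.zz_sq, mul_one] at e4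
  exact K.zz_ne (left_eq_mul.1 e4)

theorem E_mem_Cz {e : G} (he : e ∈ K.E) : e ∈ K.Cz := he.2

theorem a_mem_Cz : B.a ∈ K.Cz := K.E_mem_Cz K.a_mem_E

theorem e2_mem_Cz : F.e 2 ∈ K.Cz := K.E_mem_Cz K.e2_mem_E

/-- The inverting element. -/
def sInv : G := K.uu * F.r 2

theorem sInv_T : K.IsT K.sInv := Or.inr (Or.inr (Or.inr rfl))

theorem sInv_mem_Cz : K.sInv ∈ K.Cz := K.mem_Cz.2 (IsT.comm_zz K K.sInv_T)

theorem sInv_e2 : K.sInv * F.e 2 * K.sInv⁻¹ = (F.e 2)⁻¹ := by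
  have h1 : K.uu * F.e 2 * K.uu⁻¹ = F.e 2 := by
    rw [K.uu_eq, show K.φ rhoP * F.e 2 = F.e 2 * K.φ rhoP from K.φ_comm rhoP, mul_inv_cancel_right]
  have h3 : K.uu * (F.e 2)⁻¹ * K.uu⁻¹ = (F.e 2)⁻¹ := by
    conv_rhs => rw [← h1]
    group
  rw [sInv, mul_inv_rev, show K.uu * F.r 2 * F.e 2 * ((F.r 2)⁻¹ * K.uu⁻¹) =
    K.uu * (F.r 2 * F.e 2 * (F.r 2)⁻¹) * K.uu⁻¹ by group, F.r_inv, K.r2_e2, h3]

theorem exists_Qa_four : ∃ p ∈ K.Qa, p ≠ 1 ∧ p ≠ K.zz := by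
  obtain ⟨s, hs4, hs1, hs2⟩ := sl_ex_four
  obtain ⟨x, hx, hxs⟩ := K.exists_Qa (s := s) hs4
  refine ⟨x, hx, fun e => ?_, fun e => ?_⟩ <;> subst e
  · rw [show (⟨(1 : G), _⟩ : B.C) = 1 from rfl, map_one] at hxs
    exact hs1 hxs.symm
  · rw [K.sl_zz] at hxs
    exact hs2 hxs.symm

/-- `e 2` moves the elements of order four of `Qa`, modulo `zz`. -/
theorem e2_moves {p : G} (hp : p ∈ K.Qa) (h1 : p ≠ 1) (h2 : p ≠ K.zz) :
    F.e 2 * p * (F.e 2)⁻¹ ≠ p ∧ F.e 2 * p * (F.e 2)⁻¹ ≠ p * K.zz := by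
  have hne : F.e 2 * p ≠ p * F.e 2 := by
    intro e
    have hE : ∀ f ∈ K.E, p * f = f * p := K.commute_E_of_two (gen_a_e2 (F := F)) (K.Qa_comm hp).1 e.symm
    rcases K.Qa_cent_E hp hE with e' | e'
    · exact h1 e'
    · exact h2 e'
  refine ⟨fun e => hne (mul_inv_eq_iff_eq_mul.1 e), fun e => hne ?_⟩
  exact K.commute_of_mod (K.E_exp K.e2_mem_E) K.zz_e2.symm (Or.inr e)

theorem r2_mem_Cz : F.r 2 ∈ K.Cz := K.mem_Cz.2 K.r2_zz

namespace Cfg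

variable {K} (c : Cfg K)

theorem W_conj {g x : G} (hg : g ∈ c.W) (hx : x ∈ c.W) : g * x * g⁻¹ ∈ c.W := mul_mem (mul_mem hg hx) (inv_mem hg)

/-- The group `W E T`. -/
def NG : Subgroup G where
  carrier := {x | ∃ w ∈ c.W, ∃ e ∈ K.E, ∃ t, K.IsT t ∧ x = w * e * t}
  one_mem' := ⟨1, one_mem _, 1, one_mem _, 1, Or.inl rfl, by rw [one_mul, one_mul]⟩
  mul_mem' := by
    rintro _ _ ⟨w, hw, e, he, t, ht, rfl⟩ ⟨w', hw', e', he', t', ht', rfl⟩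
    exact ⟨_, mul_mem hw (c.E_W he (c.T_W ht hw')), _, mul_mem he (IsT.conj_E K ht he'), _, IsT.mul K ht ht',
      by group⟩
  inv_mem' := by
    rintro _ ⟨w, hw, e, he, t, ht, rfl⟩
    refine ⟨_, c.T_W ht (c.E_W (inv_mem he) (inv_mem hw)), _, IsT.conj_E K ht (inv_mem he), t, ht, ?_⟩
    calc (w * e * t)⁻¹ = t * e⁻¹ * w⁻¹ := by rw [mul_inv_rev, mul_inv_rev, IsT.inv_eq K ht, mul_assoc]
      _ = _ := by group

theorem mem_NG {x : G} : x ∈ c.NG ↔ ∃ w ∈ c.W, ∃ e ∈ K.E, ∃ t, K.IsT t ∧ x = w * e * t := Iff.rfl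

theorem W_le_NG : c.W ≤ c.NG := fun w hw => ⟨w, hw, 1, one_mem _, 1, Or.inl rfl, by rw [mul_one, mul_one]⟩

theorem E_le_NG : K.E ≤ c.NG := fun e he => ⟨1, one_mem _, e, he, 1, Or.inl rfl, by rw [one_mul, mul_one]⟩

theorem T_mem_NG {t : G} (ht : K.IsT t) : t ∈ c.NG := ⟨1, one_mem _, 1, one_mem _, t, ht, by rw [one_mul, one_mul]⟩

theorem S_le_NG : c.S ≤ c.NG := by
  rintro _ ⟨w, hw, t, ht, rfl⟩
  exact mul_mem (c.W_le_NG hw) (c.T_mem_NG ht)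

theorem NG_le_Cz : c.NG ≤ K.Cz := by
  rintro _ ⟨w, hw, e, he, t, ht, rfl⟩
  exact mul_mem (mul_mem (c.W_le_Cz hw) (K.E_mem_Cz he)) (K.mem_Cz.2 (IsT.comm_zz K ht))

/-- The two blocks are fixed or exchanged. -/
theorem NG_blocks {g : G} (hg : g ∈ c.NG) :
    ((∀ x ∈ K.Qa, g * x * g⁻¹ ∈ K.Qa) ∧ ∀ x ∈ K.Qb, g * x * g⁻¹ ∈ K.Qb) ∨
      ((∀ x ∈ K.Qa, g * x * g⁻¹ ∈ K.Qb) ∧ ∀ x ∈ K.Qb, g * x * g⁻¹ ∈ K.Qa) := by
  obtain ⟨w, hw, e, he, t, ht, rfl⟩ := hg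
  have hW : (∀ x ∈ K.Qa, w * x * w⁻¹ ∈ K.Qa) ∧ ∀ x ∈ K.Qb, w * x * w⁻¹ ∈ K.Qb := by
    obtain ⟨p, hp, q, hq, z, hz, rfl⟩ := hw
    refine ⟨fun x hx => ?_, fun x hx => ?_⟩
    · rw [show p * q * z * x * (p * q * z)⁻¹ = p * (q * (z * x * z⁻¹) * q⁻¹) * p⁻¹ by group, c.hza z hz x hx,
        mul_inv_cancel_right, ← c.hab x hx q hq, mul_inv_cancel_right]
      exact mul_mem (mul_mem hp hx) (inv_mem hp)
    · rw [show p * q * z * x * (p * q * z)⁻¹ = p * (q * (z * x * z⁻¹) * q⁻¹) * p⁻¹ by group, c.hzb hz hx,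
        mul_inv_cancel_right, c.hab p hp _ (mul_mem (mul_mem hq hx) (inv_mem hq)), mul_inv_cancel_right]
      exact mul_mem (mul_mem hq hx) (inv_mem hq)
  have he1 : ∀ x, w * e * t * x * (w * e * t)⁻¹ = w * (e * (t * x * t⁻¹) * e⁻¹) * w⁻¹ := fun x => by group
  rcases ht with rfl | rfl | rfl | rfl
  · refine Or.inl ⟨fun x hx => ?_, fun x hx => ?_⟩ <;> rw [he1]
    · exact hW.1 _ (K.E_norm_Qa he ((K.T_fix (Or.inl rfl)).1 x hx))
    · exact hW.2 _ (K.E_norm_Qb he ((K.T_fix (Or.inl rfl)).2 x hx))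
  · obtain ⟨h1, h2⟩ := K.T_swap (t := F.r 2) (Or.inl rfl)
    refine Or.inr ⟨fun x hx => ?_, fun x hx => ?_⟩ <;> rw [he1]
    · exact hW.2 _ (K.E_norm_Qb he (h1 x hx))
    · exact hW.1 _ (K.E_norm_Qa he (h2 x hx))
  · obtain ⟨h1, h2⟩ := K.T_swap (t := K.uu) (Or.inr rfl)
    refine Or.inr ⟨fun x hx => ?_, fun x hx => ?_⟩ <;> rw [he1]
    · exact hW.2 _ (K.E_norm_Qb he (h1 x hx))
    · exact hW.1 _ (K.E_norm_Qa he (h2 x hx))
  · obtain ⟨h1, h2⟩ := K.T_fix (t := K.uu * F.r 2) (Or.inr rfl)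
    refine Or.inl ⟨fun x hx => ?_, fun x hx => ?_⟩ <;> rw [he1]
    · exact hW.1 _ (K.E_norm_Qa he (h1 x hx))
    · exact hW.2 _ (K.E_norm_Qb he (h2 x hx))

/-- The product of the two quaternion groups. -/
def PG : Subgroup G where
  carrier := {x | ∃ p ∈ K.Qa, ∃ q ∈ K.Qb, x = p * q}
  one_mem' := ⟨1, one_mem _, 1, one_mem _, (one_mul 1).symm⟩
  mul_mem' := by
    rintro _ _ ⟨p, hp, q, hq, rfl⟩ ⟨p', hp', q', hq', rfl⟩
    refine ⟨_, mul_mem hp hp', _, mul_mem hq hq', ?_⟩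
    calc p * q * (p' * q') = p * (q * p') * q' := by group
      _ = p * (p' * q) * q' := by rw [← c.hab p' hp' q hq]
      _ = p * p' * (q * q') := by group
  inv_mem' := by
    rintro _ ⟨p, hp, q, hq, rfl⟩
    exact ⟨_, inv_mem hp, _, inv_mem hq, by rw [mul_inv_rev, c.hab _ (inv_mem hp) _ (inv_mem hq)]⟩

theorem Qa_le_PG : K.Qa ≤ c.PG := fun p hp => ⟨p, hp, 1, one_mem _, (mul_one p).symm⟩

theorem Qb_le_PG : K.Qb ≤ c.PG := fun q hq => ⟨1, one_mem _, q, hq, (one_mul q).symm⟩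

theorem PG_le_W : c.PG ≤ c.W := by
  rintro _ ⟨p, hp, q, hq, rfl⟩
  exact ⟨p, hp, q, hq, 1, one_mem _, (mul_one _).symm⟩

theorem zz_mem_PG : K.zz ∈ c.PG := c.Qa_le_PG K.zz_mem_Qa

theorem zz_mem_W : K.zz ∈ c.W := c.Qa_le_W K.zz_mem_Qa

theorem zz_mem_S : K.zz ∈ c.S := c.W_le_S c.zz_mem_W

/-- The first four-group. -/
abbrev Va (_ : Cfg K) : Subgroup K.Y := K.img K.Qa

/-- The second four-group. -/
abbrev Vb (_ : Cfg K) : Subgroup K.Y := K.img K.Qb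

/-- `W` modulo `zz`. -/
abbrev Wb : Subgroup K.Y := K.img c.W

/-- The six. -/
def IsSix (y : K.Y) : Prop := y ≠ 1 ∧ (y ∈ c.Va ∨ y ∈ c.Vb)

theorem six_iff (g : K.Cz) :
    c.IsSix (K.pr g) ↔ ((g : G) ≠ 1 ∧ (g : G) ≠ K.zz) ∧ ((g : G) ∈ K.Qa ∨ (g : G) ∈ K.Qb) := by
  rw [IsSix, Ne, K.pr_eq_one, not_or, K.mem_img K.zz_mem_Qa, K.mem_img K.zz_mem_Qb]

theorem six_sq {g : K.Cz} (h : c.IsSix (K.pr g)) : (g : G) * g = K.zz := by
  obtain ⟨⟨h1, h2⟩, h3 | h3⟩ := (c.six_iff g).1 h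
  exacts [K.Qa_four h3 h1 h2, K.Qb_four h3 h1 h2]

theorem six_mem_Wb {y : K.Y} (h : c.IsSix y) : y ∈ c.Wb := by
  obtain ⟨g, rfl⟩ := QuotientGroup.mk'_surjective K.zS y
  obtain ⟨-, h3 | h3⟩ := (c.six_iff g).1 h
  exacts [(K.mem_img c.zz_mem_W).2 (c.Qa_le_W h3), (K.mem_img c.zz_mem_W).2 (c.Qb_le_W h3)]

theorem disj {y : K.Y} (ha : y ∈ c.Va) (hb : y ∈ c.Vb) : y = 1 := by
  obtain ⟨g, rfl⟩ := QuotientGroup.mk'_surjective K.zS y
  exact K.pr_eq_one.2 (K.Qa_inf_Qb ((K.mem_img K.zz_mem_Qa).1 ha) ((K.mem_img K.zz_mem_Qb).1 hb))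

theorem mixed {a b : K.Y} (ha : a ∈ c.Va) (ha1 : a ≠ 1) (hb : b ∈ c.Vb) (hb1 : b ≠ 1) : ¬ c.IsSix (a * b) := by
  rintro ⟨-, h | h⟩
  · exact hb1 (c.disj (by simpa using mul_mem (inv_mem ha) h) hb)
  · exact ha1 (c.disj ha (by simpa [mul_assoc] using mul_mem h (inv_mem hb)))

theorem NG_six {g : K.Cz} (hg : (g : G) ∈ c.NG) {y : K.Y} (hy : c.IsSix y) :
    c.IsSix (K.pr g * y * (K.pr g)⁻¹) := by
  obtain ⟨x, rfl⟩ := QuotientGroup.mk'_surjective K.zS y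
  obtain ⟨⟨h1, h2⟩, h3⟩ := (c.six_iff x).1 hy
  rw [← map_inv, ← map_mul, ← map_mul, c.six_iff]
  simp only [Subgroup.coe_mul, Subgroup.coe_inv]
  refine ⟨⟨fun e => h1 (conj_eq_one_iff.1 e), fun e => h2 ?_⟩, ?_⟩
  · rw [mul_inv_eq_iff_eq_mul, ← K.mem_Cz.1 g.2] at e
    exact mul_left_cancel e
  · rcases c.NG_blocks hg with ⟨ha, hb⟩ | ⟨ha, hb⟩ <;> rcases h3 with h3 | h3
    exacts [Or.inl (ha _ h3), Or.inr (hb _ h3), Or.inr (ha _ h3), Or.inl (hb _ h3)]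

/-- Elements centralising the first four-group. -/
theorem cent_Va (hd : centralizer ({F.e 0 * F.e 1} : Set G) ≤ B.M) {g : K.Cz}
    (h : ∀ v ∈ c.Va, K.pr g * v = v * K.pr g) : ∃ w ∈ c.W, ∃ k : ℤ, (g : G) = w * B.a ^ k := by
  obtain ⟨p, hp, k, w, hw, e⟩ := K.cent_img_Qa hd (P₀ := c.W ⊓ K.La)
    ⟨c.zz_mem_W, K.zz_mem_La⟩ inf_le_right (c.S_pgroup.to_le (inf_le_left.trans c.W_le_S))
    (fun e he p hp => ⟨c.E_W he hp.1, K.E_La he hp.2⟩)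
    (fun x hx hxb => ⟨c.Qb_le_W hxb, hx⟩) (fun x hx hxy => ⟨c.Zg_le_W (c.hy x hx hxy), hx⟩) h
  refine ⟨p * w, mul_mem hp.1 (c.Qa_le_W hw), k, ?_⟩
  rw [e, mul_assoc p, ((show Commute B.a w from (K.Qa_comm hw).1.symm).zpow_left k).eq, ← mul_assoc]

theorem cent_Va_W (hd : centralizer ({F.e 0 * F.e 1} : Set G) ≤ B.M) {g : K.Cz}
    (h : ∀ v ∈ c.Va, K.pr g * v = v * K.pr g) (h2 : (g : G) * g ∈ c.W) : (g : G) ∈ c.W := by
  obtain ⟨w, hw, k, e⟩ := c.cent_Va hd h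
  have hak : B.a ^ k ∈ K.E := zpow_mem K.a_mem_E k
  have h3 : B.a ^ k * B.a ^ k ∈ c.W := by
    have e' : B.a ^ k * B.a ^ k = (B.a ^ k * w * (B.a ^ k)⁻¹)⁻¹ * (w⁻¹ * ((g : G) * g)) := by rw [e]; group
    rw [e']
    exact mul_mem (inv_mem (c.E_W hak hw)) (mul_mem (inv_mem hw) h2)
  have h4 : B.a ^ k * B.a ^ k = 1 := by
    haveI : Fact (Nat.Prime 2) := ⟨Nat.prime_two⟩
    obtain ⟨j, hj⟩ := (c.S_pgroup.to_le c.W_le_S) ⟨_, h3⟩
    exact orderOf_eq_one_iff.1 (Nat.eq_one_of_dvd_coprimes (Nat.Coprime.pow_left j (by norm_num : Nat.Coprime 2 3))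
      (orderOf_dvd_of_pow_eq_one (congrArg Subtype.val hj)) (orderOf_dvd_of_pow_eq_one (K.E_exp (mul_mem hak hak))))
  have h5 : B.a ^ k = 1 := by
    have := K.E_exp hak
    rwa [pow_succ, pow_two, h4, one_mul] at this
  rw [e, h5, mul_one]
  exact hw

theorem r2_conj {g : K.Cz} (h : ∀ v ∈ c.Vb, K.pr g * v = v * K.pr g) :
    ∀ v ∈ c.Va, K.pr (⟨F.r 2, K.r2_mem_Cz⟩ * g * ⟨F.r 2, K.r2_mem_Cz⟩) * v =
      v * K.pr (⟨F.r 2, K.r2_mem_Cz⟩ * g * ⟨F.r 2, K.r2_mem_Cz⟩) := by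
  intro v hv
  obtain ⟨x, rfl⟩ := QuotientGroup.mk'_surjective K.zS v
  set r : K.Cz := ⟨F.r 2, K.r2_mem_Cz⟩
  have hr : K.pr r * K.pr r = 1 := by rw [← map_mul]; exact K.pr_eq_one.2 (Or.inl (F.r_sq 2))
  have hxb : K.pr (r * x * r) ∈ c.Vb := (K.mem_img K.zz_mem_Qb).2 (K.mem_Qb.2 (by
    show F.r 2 * (F.r 2 * (x : G) * F.r 2) * F.r 2 ∈ K.Qa
    rw [r2_twice]; exact (K.mem_img K.zz_mem_Qa).1 hv))
  have e := h _ hxb
  simp only [map_mul] at e ⊢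
  calc K.pr r * K.pr g * K.pr r * K.pr x = K.pr r * (K.pr g * (K.pr r * K.pr x * K.pr r)) * K.pr r := by
        simp only [mul_assoc, hr, mul_one]
    _ = K.pr r * (K.pr r * K.pr x * K.pr r * K.pr g) * K.pr r := by rw [e]
    _ = K.pr x * (K.pr r * K.pr g * K.pr r) := by
        simp only [← mul_assoc, hr, one_mul]

theorem cent_Vb_W (hd : centralizer ({F.e 0 * F.e 1} : Set G) ≤ B.M) {g : K.Cz}
    (h : ∀ v ∈ c.Vb, K.pr g * v = v * K.pr g) (h2 : (g : G) * g ∈ c.W) : (g : G) ∈ c.W := by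
  have hT : ∀ x ∈ c.W, F.r 2 * x * F.r 2 ∈ c.W := fun x hx => by
    have := c.T_W (Or.inr (Or.inl rfl) : K.IsT (F.r 2)) hx
    rwa [F.r_inv] at this
  have h3 := c.cent_Va_W hd (c.r2_conj h) (by
    show F.r 2 * (g : G) * F.r 2 * (F.r 2 * (g : G) * F.r 2) ∈ c.W
    rw [r2_map]; exact hT _ h2)
  have := hT _ h3
  rwa [show F.r 2 * ((⟨F.r 2, K.r2_mem_Cz⟩ * g * ⟨F.r 2, K.r2_mem_Cz⟩ : K.Cz) : G) * F.r 2 = (g : G) from
    r2_twice _] at this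

/-- Elements of `W` act trivially modulo `zz`. -/
theorem W_pr_comm {g h : K.Cz} (hg : (g : G) ∈ c.W) (hh : (h : G) ∈ c.W) : K.pr g * K.pr h = K.pr h * K.pr g := by
  rw [← map_mul, ← map_mul]
  exact K.pr_eq.2 (c.W_comm hg hh)

/-- The centraliser of the sixteen is `W`. -/
theorem cent_P (hd : centralizer ({F.e 0 * F.e 1} : Set G) ≤ B.M) {g : K.Cz}
    (ha : ∀ v ∈ c.Va, K.pr g * v = v * K.pr g) (hb : ∀ v ∈ c.Vb, K.pr g * v = v * K.pr g) : (g : G) ∈ c.W := by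
  obtain ⟨w, hw, k, e⟩ := c.cent_Va hd ha
  suffices h1 : B.a ^ k = 1 by rw [e, h1, mul_one]; exact hw
  obtain ⟨p, hp, hp1, hp2⟩ := K.exists_Qa_four
  set q := F.r 2 * p * F.r 2
  have hq : q ∈ K.Qb := K.mem_Qb.2 (by rw [r2_twice]; exact hp)
  have hak : B.a ^ k ∈ K.E := zpow_mem K.a_mem_E k
  have eg : g = ⟨w, c.W_le_Cz hw⟩ * ⟨B.a ^ k, K.E_mem_Cz hak⟩ := Subtype.ext e
  have h := hb (K.pr ⟨q, K.Qb_le_Cz hq⟩) ((K.mem_img K.zz_mem_Qb).2 hq)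
  rw [eg, map_mul, mul_assoc, ← mul_assoc (K.pr ⟨q, K.Qb_le_Cz hq⟩),
    c.W_pr_comm (g := ⟨q, K.Qb_le_Cz hq⟩) (h := ⟨w, c.W_le_Cz hw⟩) (c.Qb_le_W hq) hw, mul_assoc] at h
  have h' := mul_left_cancel h
  rw [← map_mul, ← map_mul] at h'
  have hcom : B.a ^ k * q = q * B.a ^ k := by
    refine K.commute_of_mod (K.E_exp hak) (K.mem_Cz.1 (K.E_mem_Cz hak)) ?_
    rcases K.pr_eq.1 h' with e' | e' <;> simp only [Subgroup.coe_mul] at e'
    · exact Or.inl (mul_inv_eq_iff_eq_mul.2 e')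
    · refine Or.inr (mul_inv_eq_iff_eq_mul.2 ?_)
      rw [e', mul_assoc q, K.mem_Cz.1 (K.E_mem_Cz hak), ← mul_assoc]
  by_contra hne
  have hqa : q * B.a = B.a * q := by
    rcases B.mem_zpowers_a (show B.a ^ k ∈ zpowers B.a from zpow_mem (mem_zpowers _) k) with e' | e' | e'
    · exact absurd e' hne
    · rw [e'] at hcom; exact hcom.symm
    · rw [e'] at hcom; exact (Commute.inv_left_iff.1 (show Commute B.a⁻¹ q from hcom)).eq.symm
  rcases K.Qb_cent_a hq hqa with e' | e'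
  · exact hp1 (by rw [← r2_twice (F := F) p, show F.r 2 * p * F.r 2 = 1 from e', mul_one, F.r_sq])
  · exact hp2 (by rw [← r2_twice (F := F) p, show F.r 2 * p * F.r 2 = K.zz from e', K.r2_zz'])

/-- The elements preserving the six. -/
theorem NG_of_six (hd : centralizer ({F.e 0 * F.e 1} : Set G) ≤ B.M) {g : K.Cz}
    (h : ∀ y, c.IsSix y → c.IsSix (K.pr g * y * (K.pr g)⁻¹)) : (g : G) ∈ c.NG := by
  have hV2 : ∀ v ∈ c.Va, v * v = 1 := fun v hv => K.img_sq (fun x hx => K.Qa_square hx) hv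
  -- an element mapping the first four-group into itself
  have hfix : ∀ g : K.Cz, (∀ v ∈ c.Va, K.pr g * v * (K.pr g)⁻¹ ∈ c.Va) → (g : G) ∈ c.NG := by
    intro g hg
    obtain ⟨p, hp, hp1, hp2⟩ := K.exists_Qa_four
    set ec : K.Cz := ⟨F.e 2, K.e2_mem_Cz⟩
    set p' := F.e 2 * p * (F.e 2)⁻¹ with hp'
    have hp'Q : p' ∈ K.Qa := K.E_norm_Qa K.e2_mem_E hp
    set v := K.pr ⟨p, K.Qa_le_Cz hp⟩ with hv
    set E2 := MulAut.conj (K.pr ec) with hE2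
    have hvV : v ∈ c.Va := (K.mem_img K.zz_mem_Qa).2 hp
    have hv1 : v ≠ 1 := fun e => (K.pr_eq_one.1 e).elim hp1 hp2
    set v' := E2 v with hv'
    have hv'eq : v' = K.pr ⟨p', K.Qa_le_Cz hp'Q⟩ := by
      rw [hv', hE2, hv, MulAut.conj_apply, ← map_inv, ← map_mul, ← map_mul]; rfl
    have hv'V : v' ∈ c.Va := hv'eq ▸ (K.mem_img K.zz_mem_Qa).2 hp'Q
    have hv'1 : v' ≠ 1 := fun e => hv1 (E2.injective (e.trans (map_one E2).symm))
    have hne : v' ≠ v := fun e => by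
      rw [hv'eq, hv] at e
      rcases K.pr_eq.1 e with e' | e'
      · exact (K.e2_moves hp hp1 hp2).1 e'
      · exact (K.e2_moves hp hp1 hp2).2 e'
    have four : ∀ x ∈ c.Va, x = 1 ∨ x = v ∨ x = v' ∨ x = v * v' := fun x hx =>
      Six.four_cases K.card_img_Qa hV2 hvV hv1 hv'V hv'1 hne hx
    have hvv' : v' * v = v * v' := K.img_comm (fun x hx y hy => K.Qa_commutator hx hy) hv'V hvV
    have hec3 : ∀ x, E2 (E2 (E2 x)) = x := fun x => by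
      rw [hE2, ← MulAut.mul_apply, ← MulAut.mul_apply, ← map_mul, ← map_mul, ← map_mul, ← map_mul,
        K.pr_eq_one.2 (Or.inl ?_), map_one, MulAut.one_apply]
      show F.e 2 * F.e 2 * F.e 2 = 1
      rw [← pow_two, ← pow_succ]
      exact K.E_exp K.e2_mem_E
    have hE2v' : E2 v' = v * v' := by
      have hm : E2 v' ∈ c.Va := by
        rw [hv'eq, hE2, MulAut.conj_apply, ← map_inv, ← map_mul, ← map_mul]
        exact (K.mem_img K.zz_mem_Qa).2 (K.E_norm_Qa K.e2_mem_E hp'Q)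
      rcases four _ hm with e | e | e | e
      · exact absurd (E2.injective (e.trans (map_one E2).symm)) hv'1
      · exfalso
        have := hec3 v
        rw [← hv', e] at this
        exact hne this
      · exact absurd (E2.injective e) hne
      · exact e
    have hE2vv : E2 (v * v') = v := by rw [← hE2v', hv', hec3]
    -- centralising the two generators
    have hcent : ∀ x : K.Cz, K.pr x * v * (K.pr x)⁻¹ = v → K.pr x * v' * (K.pr x)⁻¹ = v' → (x : G) ∈ c.NG := by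
      intro x h1 h2
      obtain ⟨w, hw, k, e⟩ := c.cent_Va hd (g := x) fun u hu => by
        have h1' := mul_inv_eq_iff_eq_mul.1 h1
        have h2' := mul_inv_eq_iff_eq_mul.1 h2
        rcases four u hu with rfl | rfl | rfl | rfl
        · rw [mul_one, one_mul]
        · exact h1'
        · exact h2'
        · exact ((show Commute _ v from h1').mul_right h2').eq
      rw [e]
      exact mul_mem (c.W_le_NG hw) (c.E_le_NG (zpow_mem K.a_mem_E k))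
    have heNG : (ec : G) ∈ c.NG := c.E_le_NG K.e2_mem_E
    have hconj : ∀ g h : K.Cz, MulAut.conj (K.pr (g * h)) = MulAut.conj (K.pr g) * MulAut.conj (K.pr h) :=
      fun g h => by rw [map_mul, map_mul]
    -- fixing `v`
    have hcase : ∀ x : K.Cz, (∀ u ∈ c.Va, K.pr x * u * (K.pr x)⁻¹ ∈ c.Va) → K.pr x * v * (K.pr x)⁻¹ = v →
        (x : G) ∈ c.NG := by
      intro x hxV hx
      rcases four _ (hxV v' hv'V) with e | e | e | e
      · exact absurd (conj_eq_one_iff.1 e) hv'1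
      · exact absurd (mul_left_cancel (mul_right_cancel (e.trans hx.symm))) hne
      · exact hcent x hx e
      -- adjust by an inverting element fixing `v`
      set S2 := MulAut.conj (K.pr ⟨K.sInv, K.sInv_mem_Cz⟩) with hS2
      have hSV : ∀ u ∈ c.Va, S2 u ∈ c.Va := fun u hu => by
        obtain ⟨t, ht, rfl⟩ := K.exists_pr hu
        rw [hS2, MulAut.conj_apply, ← map_inv, ← map_mul, ← map_mul]
        exact (K.mem_img K.zz_mem_Qa).2 ((K.T_fix (Or.inr rfl)).1 _ ht)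
      have hSE : ∀ y, S2 (E2 y) = E2 (E2 (S2 y)) := fun y => by
        have e1 : K.pr ⟨K.sInv, K.sInv_mem_Cz⟩ * K.pr ec =
            (K.pr ec * K.pr ec) * K.pr ⟨K.sInv, K.sInv_mem_Cz⟩ := by
          rw [← map_mul, ← map_mul, ← map_mul]
          refine congrArg K.pr (Subtype.ext ?_)
          show K.sInv * F.e 2 = F.e 2 * F.e 2 * K.sInv
          have := K.E_exp K.e2_mem_E
          rw [← mul_inv_eq_iff_eq_mul, K.sInv_e2]
          exact inv_eq_of_mul_eq_one_right (by rw [← mul_assoc, ← pow_two, ← pow_succ]; exact this)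
        simp only [hS2, hE2, MulAut.conj_apply]
        calc K.pr ⟨K.sInv, K.sInv_mem_Cz⟩ * (K.pr ec * y * (K.pr ec)⁻¹) * (K.pr ⟨K.sInv, K.sInv_mem_Cz⟩)⁻¹ =
              (K.pr ⟨K.sInv, K.sInv_mem_Cz⟩ * K.pr ec) * y * (K.pr ⟨K.sInv, K.sInv_mem_Cz⟩ * K.pr ec)⁻¹ := by group
          _ = _ := by rw [e1]; group
      obtain ⟨s', hs'NG, hs'v, hs'v'⟩ : ∃ s' : K.Cz, (s' : G) ∈ c.NG ∧ K.pr s' * v * (K.pr s')⁻¹ = v ∧
          K.pr s' * (v * v') * (K.pr s')⁻¹ = v' := by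
        have hTNG : K.sInv ∈ c.NG := c.T_mem_NG K.sInv_T
        rcases four _ (hSV v hvV) with e' | e' | e' | e'
        · exact absurd (S2.injective (e'.trans (map_one S2).symm)) hv1
        · refine ⟨⟨K.sInv, K.sInv_mem_Cz⟩, hTNG, e', ?_⟩
          show S2 (v * v') = v'
          rw [← hE2v', hv', hSE, hSE, e', hec3]
        · refine ⟨ec * ec * ⟨K.sInv, K.sInv_mem_Cz⟩, mul_mem (mul_mem heNG heNG) hTNG, ?_, ?_⟩ <;>
            rw [← MulAut.conj_apply, hconj, hconj, MulAut.mul_apply, MulAut.mul_apply,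
              ← hS2, ← hE2]
          · rw [e', hE2v', hE2vv]
          · rw [← hE2v', hv', hSE, hSE, e', hec3, hE2v', hE2vv, ← hv']
        · refine ⟨ec * ⟨K.sInv, K.sInv_mem_Cz⟩, mul_mem heNG hTNG, ?_, ?_⟩ <;>
            rw [← MulAut.conj_apply, hconj, MulAut.mul_apply, ← hS2, ← hE2]
          · rw [e', hE2vv]
          · rw [← hE2v', hv', hSE, hSE, e', hec3, hE2vv, ← hv']
      have hsx : ((s' * x : K.Cz) : G) ∈ c.NG := by
        refine hcent _ ?_ ?_ <;> rw [← MulAut.conj_apply, hconj, MulAut.mul_apply, MulAut.conj_apply (K.pr x)]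
        · rw [hx]; exact hs'v
        · rw [e]; exact hs'v'
      rw [show (x : G) = (s' : G)⁻¹ * ((s' * x : K.Cz) : G) by simp]
      exact mul_mem (inv_mem hs'NG) hsx
    rcases four _ (hg v hvV) with e | e | e | e
    · exact absurd (conj_eq_one_iff.1 e) hv1
    · exact hcase g hg e
    all_goals
      have hE2V : ∀ u ∈ c.Va, E2 u ∈ c.Va := fun u hu => by
        obtain ⟨t, ht, rfl⟩ := K.exists_pr hu
        rw [hE2, MulAut.conj_apply, ← map_inv, ← map_mul, ← map_mul]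
        exact (K.mem_img K.zz_mem_Qa).2 (K.E_norm_Qa K.e2_mem_E ht)
    · have := hcase (ec * ec * g) (fun u hu => by
        rw [← MulAut.conj_apply, hconj, hconj, MulAut.mul_apply, MulAut.mul_apply,
          MulAut.conj_apply (K.pr g)]
        exact hE2V _ (hE2V _ (hg u hu))) (by
        rw [← MulAut.conj_apply, hconj, hconj, MulAut.mul_apply, MulAut.mul_apply,
          MulAut.conj_apply (K.pr g), e, ← hE2, hE2v', hE2vv])
      simpa [mul_assoc] using mul_mem (inv_mem (mul_mem heNG heNG)) this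
    · have := hcase (ec * g) (fun u hu => by
        rw [← MulAut.conj_apply, hconj, MulAut.mul_apply, MulAut.conj_apply (K.pr g)]
        exact hE2V _ (hg u hu)) (by
        rw [← MulAut.conj_apply, hconj, MulAut.mul_apply, MulAut.conj_apply (K.pr g), e, ← hE2, hE2vv])
      simpa using mul_mem (inv_mem heNG) this
  -- the image of the first four-group
  have hblock : (∀ v ∈ c.Va, K.pr g * v * (K.pr g)⁻¹ ∈ c.Va) ∨ (∀ v ∈ c.Va, K.pr g * v * (K.pr g)⁻¹ ∈ c.Vb) := by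
    by_contra hcon
    push Not at hcon
    obtain ⟨⟨v, hv, hv'⟩, u, hu, hu'⟩ := hcon
    have img : ∀ v ∈ c.Va, v ≠ 1 → K.pr g * v * (K.pr g)⁻¹ ∈ c.Va ∨ K.pr g * v * (K.pr g)⁻¹ ∈ c.Vb :=
      fun v hv hv1 => (h v ⟨hv1, Or.inl hv⟩).2
    have hv1 : v ≠ 1 := fun e => hv' (by rw [e, mul_one, mul_inv_cancel]; exact one_mem _)
    have hu1 : u ≠ 1 := fun e => hu' (by rw [e, mul_one, mul_inv_cancel]; exact one_mem _)
    have hvb := (img v hv hv1).resolve_left hv'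
    have hua := (img u hu hu1).resolve_right hu'
    have huv : u * v ≠ 1 := fun e => by
      rw [eq_inv_of_mul_eq_one_left e, inv_eq_of_mul_eq_one_right (hV2 v hv)] at hua
      exact hv1 (conj_eq_one_iff.1 (c.disj hua hvb))
    refine c.mixed hua (fun e => hu1 (conj_eq_one_iff.1 e)) hvb (fun e => hv1 (conj_eq_one_iff.1 e)) ?_
    rw [show K.pr g * u * (K.pr g)⁻¹ * (K.pr g * v * (K.pr g)⁻¹) = K.pr g * (u * v) * (K.pr g)⁻¹ by group]
    exact h _ ⟨huv, Or.inl (mul_mem hu hv)⟩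
  rcases hblock with hb | hb
  · exact hfix g hb
  · set r : K.Cz := ⟨F.r 2, K.r2_mem_Cz⟩
    have := hfix (r * g) fun v hv => by
      obtain ⟨t, ht, e⟩ := K.exists_pr (hb v hv)
      rw [map_mul, show K.pr r * K.pr g * v * (K.pr r * K.pr g)⁻¹ =
        K.pr r * (K.pr g * v * (K.pr g)⁻¹) * (K.pr r)⁻¹ by group, ← e, ← map_inv, ← map_mul, ← map_mul]
      exact (K.mem_img K.zz_mem_Qa).2 ((K.T_swap (Or.inl rfl)).2 _ ht)
    simpa [r, ← mul_assoc] using mul_mem (inv_mem (c.T_mem_NG (Or.inr (Or.inl rfl) : K.IsT (F.r 2)))) this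

/-- The elements of `S` with square `zz` lie in `W`. -/
theorem mem_W_of_sq {g : G} (hg : g ∈ c.S) (h : g * g = K.zz) : g ∈ c.W := by
  obtain ⟨w, hw, t, ht, rfl⟩ := hg
  by_cases ht1 : t = 1
  · rw [ht1, mul_one]; exact hw
  · exact absurd ((c.outer_sq hw ht ht1 (Or.inr h)).symm.trans h) K.zz_ne.symm

/-- Weak closure of `W` in `S`. -/
theorem weak {f : K.Y} (hf : ∀ y ∈ c.Wb, f * y * f⁻¹ ∈ K.img c.S) : f ∈ normalizer (c.Wb : Set K.Y) := by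
  obtain ⟨f, rfl⟩ := QuotientGroup.mk'_surjective K.zS f
  have key : ∀ x : K.Cz, (x : G) ∈ c.W → ((x : G) = 1 ∨ (x : G) = K.zz ∨ (x : G) * x = K.zz) →
      K.pr f * K.pr x * (K.pr f)⁻¹ ∈ c.Wb := by
    intro x hx h
    rcases h with h | h | h
    · rw [K.pr_eq_one.2 (Or.inl h), mul_one, mul_inv_cancel]; exact one_mem _
    · rw [K.pr_eq_one.2 (Or.inr h), mul_one, mul_inv_cancel]; exact one_mem _
    have hS := hf _ ((K.mem_img c.zz_mem_W).2 hx)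
    rw [← map_inv, ← map_mul, ← map_mul] at hS ⊢
    refine (K.mem_img c.zz_mem_W).2 (c.mem_W_of_sq ((K.mem_img c.zz_mem_S).1 hS) ?_)
    show (f : G) * x * (f : G)⁻¹ * ((f : G) * x * (f : G)⁻¹) = K.zz
    rw [show (f : G) * x * (f : G)⁻¹ * ((f : G) * x * (f : G)⁻¹) = (f : G) * (x * x) * (f : G)⁻¹ by group, h,
      K.mem_Cz.1 f.2, mul_inv_cancel_right]
  obtain ⟨p₀, hp₀, hp₁, hp₂⟩ := K.exists_Qa_four
  have hle : ∀ y ∈ c.Wb, K.pr f * y * (K.pr f)⁻¹ ∈ c.Wb := by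
    intro y hy
    obtain ⟨g, hg, rfl⟩ := K.exists_pr hy
    obtain ⟨p, hp, q, hq, z, hz, e⟩ := hg
    have k1 := key ⟨p, K.Qa_le_Cz hp⟩ (c.Qa_le_W hp) (by
      by_cases h1 : p = 1
      · exact Or.inl h1
      by_cases h2 : p = K.zz
      · exact Or.inr (Or.inl h2)
      exact Or.inr (Or.inr (K.Qa_four hp h1 h2)))
    have k2 := key ⟨q, K.Qb_le_Cz hq⟩ (c.Qb_le_W hq) (by
      by_cases h1 : q = 1
      · exact Or.inl h1
      by_cases h2 : q = K.zz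
      · exact Or.inr (Or.inl h2)
      exact Or.inr (Or.inr (K.Qb_four hq h1 h2)))
    have hzC : z ∈ K.Cz := K.Qy_le_Cz (c.le_Qy hz)
    have k3 := key ⟨p₀, K.Qa_le_Cz hp₀⟩ (c.Qa_le_W hp₀) (Or.inr (Or.inr (K.Qa_four hp₀ hp₁ hp₂)))
    have k4 := key ⟨p₀ * z, mul_mem (K.Qa_le_Cz hp₀) hzC⟩ (mul_mem (c.Qa_le_W hp₀) (c.Zg_le_W hz))
      (Or.inr (Or.inr (by
        show p₀ * z * (p₀ * z) = K.zz
        rw [(show Commute z p₀ from c.hza z hz p₀ hp₀).mul_mul_mul_comm, (K.Qy_comm (c.le_Qy hz)).2.2.2, mul_one,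
          K.Qa_four hp₀ hp₁ hp₂])))
    have eg : g = ⟨p, K.Qa_le_Cz hp⟩ * ⟨q, K.Qb_le_Cz hq⟩ * ((⟨p₀, K.Qa_le_Cz hp₀⟩)⁻¹ *
        ⟨p₀ * z, mul_mem (K.Qa_le_Cz hp₀) hzC⟩) := Subtype.ext (by simp [e])
    have := mul_mem (mul_mem k1 k2) (mul_mem (inv_mem k3) k4)
    rw [eg]
    simp only [map_mul, map_inv] at this ⊢
    convert this using 1
    group
  have he : c.Wb.map (MulAut.conj (K.pr f)).toMonoidHom = c.Wb := by
    refine eq_of_le_of_card_ge ?_ (card_map_of_injective (MulAut.conj (K.pr f)).injective).ge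
    rintro _ ⟨y, hy, rfl⟩
    exact hle y hy
  exact mem_normalizer_iff_map_conj_eq.2 he

/-- Elements of `W` with square `zz`, when `Z = <zz>`. -/
theorem six_of_sq {g : K.Cz} (hg : (g : G) ∈ c.PG) (h : (g : G) * g = K.zz) : c.IsSix (K.pr g) := by
  obtain ⟨p, hp, q, hq, e⟩ := hg
  have hpq : Commute q p := (c.hab p hp q hq).symm
  rw [e, hpq.mul_mul_mul_comm] at h
  rw [c.six_iff, e]
  refine ⟨⟨fun h' => ?_, fun h' => ?_⟩, ?_⟩
  · have := h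
    rw [← hpq.mul_mul_mul_comm, h', one_mul] at this
    exact K.zz_ne this.symm
  · have := h
    rw [← hpq.mul_mul_mul_comm, h', K.zz_sq] at this
    exact K.zz_ne this.symm
  by_cases hp1 : p = 1 ∨ p = K.zz
  · refine Or.inr (mul_mem ?_ hq)
    rcases hp1 with rfl | rfl
    exacts [one_mem _, K.zz_mem_Qb]
  by_cases hq1 : q = 1 ∨ q = K.zz
  · refine Or.inl (mul_mem hp ?_)
    rcases hq1 with rfl | rfl
    exacts [one_mem _, K.zz_mem_Qa]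
  exfalso
  push Not at hp1 hq1
  rw [K.Qa_four hp hp1.1 hp1.2, K.Qb_four hq hq1.1 hq1.2, K.zz_sq] at h
  exact K.zz_ne h.symm

/-- The centraliser of `Qy` in that of `zz`. -/
def Ly (K : SixChart F) : Subgroup G := centralizer ({K.zz} : Set G) ⊓ centralizer (K.Qy : Set G)

theorem mem_Ly {y : G} : y ∈ Ly K ↔ y * K.zz = K.zz * y ∧ ∀ z ∈ K.Qy, y * z = z * y := by
  rw [Ly, Subgroup.mem_inf, mem_centralizer_singleton_iff, mem_centralizer_iff]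
  exact and_congr_right fun _ => ⟨fun h z hz => (h z hz).symm, fun h z hz => (h z hz).symm⟩

theorem W_le_Ly (hZ : c.Zg = K.Qy) : c.W ≤ Ly K := by
  rintro _ ⟨p, hp, q, hq, z, hz, rfl⟩
  refine mem_Ly.2 ⟨K.mem_Cz.1 (c.W_le_Cz ⟨p, hp, q, hq, z, hz, rfl⟩), fun y hy => ?_⟩
  have hyZ : y ∈ c.Zg := hZ.symm ▸ hy
  exact ((((show Commute y p from c.hza y hyZ p hp).symm).mul_left
    (show Commute y q from c.hzb hyZ hq).symm).mul_left (K.Qy_abelian (c.le_Qy hz) hy)).eq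

theorem e2_mem_Ly : F.e 2 ∈ Ly K := mem_Ly.2 ⟨K.zz_e2.symm, fun _ hz => (K.Qy_comm hz).2.1.symm⟩

theorem r2_mem_Ly : F.r 2 ∈ Ly K := mem_Ly.2 ⟨K.r2_zz, fun _ hz => (K.Qy_comm hz).2.2.1.eq⟩

/-- The centraliser of `Qy` is `W` extended by `<e 2, r 2>`. -/
theorem Ly_form (hd : centralizer ({F.e 0 * F.e 1} : Set G) ≤ B.M) (hZ : c.Zg = K.Qy) {g : G} (hg : g ∈ Ly K) :
    ∃ w ∈ c.W, ∃ k : ℤ, g = w * F.e 2 ^ k ∨ g = w * F.e 2 ^ k * F.r 2 := by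
  have hE : ∀ e ∈ K.E, ∀ y ∈ Ly K, e * y * e⁻¹ ∈ Ly K := fun e he y hy => by
    obtain ⟨h1, h2⟩ := mem_Ly.1 hy
    have hez : Commute e K.zz := mem_centralizer_singleton_iff.1 he.2
    refine mem_Ly.2 ⟨((hez.mul_left h1).mul_left hez.inv_left).eq, fun z hz => ?_⟩
    have h := h2 _ (K.E_norm_Qy (inv_mem he) hz)
    rw [inv_inv] at h
    calc e * y * e⁻¹ * z = e * (y * (e⁻¹ * z * e)) * e⁻¹ := by group
      _ = e * (e⁻¹ * z * e * y) * e⁻¹ := by rw [h]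
      _ = z * (e * y * e⁻¹) := by group
  have he2ne : F.e 2 ≠ 1 := fun e => (K.sl_e2 (K.E_comm K.e2_mem_E K.a_mem_E)).2 (by
    rw [show (⟨F.e 2, _⟩ : B.C) = 1 from Subtype.ext e, map_one])
  have hQW : K.Qy ≤ c.W := fun y hy => c.Zg_le_W (hZ.symm ▸ hy)
  have hcent : ∀ g ∈ Ly K, g * F.e 2 = F.e 2 * g → ∃ u ∈ K.Qy, ∃ k : ℤ, g = u * F.e 2 ^ k := by
    intro g hg hge
    obtain ⟨n, σ, rfl⟩ := K.dec g hge
    have hne : ∀ ρ, Commute (F.e 2 ^ n.val) (K.φ ρ) := fun ρ =>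
      ((show Commute (K.φ ρ) (F.e 2) from K.φ_comm ρ).symm).pow_left _
    refine ⟨K.φ σ, K.mem_Qy.2 ⟨σ, base_self_cent σ fun τ hτ => K.φ_inj ?_, rfl⟩, (n.val : ℤ), ?_⟩
    · rw [map_mul, map_mul]
      have h := (mem_Ly.1 hg).2 _ (K.mem_Qy.2 ⟨τ, hτ, rfl⟩)
      rw [mul_assoc, ← mul_assoc (K.φ τ), ← (hne τ).eq, mul_assoc] at h
      exact mul_left_cancel h
    · rw [zpow_natCast]; exact (hne σ).eq
  obtain ⟨-, hdec⟩ := local_cover (B.J_pgroup.to_le (inf_le_left : K.E ≤ B.J)) (L := Ly K) (U := K.Qy) (P₀ := c.W)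
    (x := F.e 2) (K.E_exp K.e2_mem_E) he2ne hE (hQW.trans (c.W_le_Ly hZ))
    (fun g hg u hu => (mem_Ly.1 hg).2 u hu) (fun u hu => (K.Qy_comm hu).2.2.2) e2_mem_Ly
    (fun e he u hu => K.E_norm_Qy he hu) hcent hQW (c.W_le_Ly hZ)
    (c.S_pgroup.to_le c.W_le_S) (fun e he p hp => c.E_W he hp)
    (fun T hT _ hTL hTE => (K.cover hd hT hTE (hTL.trans inf_le_left)).trans (sup_le (sup_le
      (inf_le_right.trans c.Qa_le_W) (inf_le_right.trans c.Qb_le_W)) (inf_le_right.trans hQW)))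
  obtain ⟨p, hp, n, hn, rfl, h | h⟩ := hdec g hg
  · obtain ⟨u, hu, k, rfl⟩ := hcent n hn (mul_inv_eq_iff_eq_mul.1 h)
    exact ⟨p * u, mul_mem hp (hQW hu), k, Or.inl (mul_assoc _ _ _).symm⟩
  · have hrn : n * F.r 2 ∈ Ly K := mul_mem hn r2_mem_Ly
    have hce : n * F.r 2 * F.e 2 = F.e 2 * (n * F.r 2) := by
      refine mul_inv_eq_iff_eq_mul.1 ?_
      rw [mul_inv_rev, show n * F.r 2 * F.e 2 * ((F.r 2)⁻¹ * n⁻¹) = n * (F.r 2 * F.e 2 * (F.r 2)⁻¹) * n⁻¹ by group,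
        F.r_inv, K.r2_e2, show n * (F.e 2)⁻¹ * n⁻¹ = (n * F.e 2 * n⁻¹)⁻¹ by group, h, inv_inv]
    obtain ⟨u, hu, k, e⟩ := hcent _ hrn hce
    exact ⟨p * u, mul_mem hp (hQW hu), k, Or.inr (by
      rw [show p * u * F.e 2 ^ k * F.r 2 = p * (u * F.e 2 ^ k * F.r 2) by group, ← e, mul_assoc, F.r_sq, mul_one])⟩

/-- An element of the normaliser of `W` maps the product of the two quaternion groups into itself. -/
theorem norm_PG (hd : centralizer ({F.e 0 * F.e 1} : Set G) ≤ B.M) {f : K.Cz}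
    (hW : ∀ x ∈ c.W, (f : G) * x * (f : G)⁻¹ ∈ c.W) {x : G} (hx : x ∈ c.PG) :
    (f : G) * x * (f : G)⁻¹ ∈ c.PG := by
  rcases c.cases with hZ | hZ
  · have hle : c.W ≤ c.PG := by
      rintro _ ⟨p, hp, q, hq, z, hz, rfl⟩
      refine mul_mem (mul_mem (c.Qa_le_PG hp) (c.Qb_le_PG hq)) ?_
      rw [hZ] at hz
      exact zpowers_le.2 c.zz_mem_PG hz
    exact hle (hW x (c.PG_le_W hx))
  set L := Ly K with hLdef
  have memL : ∀ y, y ∈ L ↔ y * K.zz = K.zz * y ∧ ∀ z ∈ K.Qy, y * z = z * y := fun y => mem_Ly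
  have hWL : c.W ≤ L := c.W_le_Ly hZ
  have he2L : F.e 2 ∈ L := e2_mem_Ly
  -- commutators with `L` lie in the product of the two
  have hPzz : ∀ u v : G, u ∈ c.W → v ∈ c.W → u * v * u⁻¹ * v⁻¹ ∈ c.PG := fun u v hu hv => by
    rcases c.W_comm hu hv with e | e <;> rw [e]
    · rw [mul_inv_cancel_right, mul_inv_cancel]; exact one_mem _
    · have hzu : K.zz * u⁻¹ = u⁻¹ * K.zz := ((show Commute u K.zz from K.mem_Cz.1 (c.W_le_Cz hu)).inv_left).eq.symm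
      rw [mul_assoc (v * u), hzu, ← mul_assoc (v * u), mul_inv_cancel_right,
        K.mem_Cz.1 (c.W_le_Cz hv), mul_inv_cancel_right]
      exact c.zz_mem_PG
  have hPW : ∀ u ∈ c.W, ∀ y ∈ c.PG, u * y * u⁻¹ ∈ c.PG := fun u hu y hy => by
    have := mul_mem (hPzz u y hu (c.PG_le_W hy)) hy
    rwa [inv_mul_cancel_right] at this
  have hgood : ∀ g ∈ L, ∀ w ∈ c.W, g * w * g⁻¹ * w⁻¹ ∈ c.PG := by
    have hcomp : ∀ g h : G, (∀ w ∈ c.W, h * w * h⁻¹ ∈ c.W) → (∀ w ∈ c.W, g * w * g⁻¹ * w⁻¹ ∈ c.PG) →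
        (∀ w ∈ c.W, h * w * h⁻¹ * w⁻¹ ∈ c.PG) → ∀ w ∈ c.W, g * h * w * (g * h)⁻¹ * w⁻¹ ∈ c.PG := by
      intro g h hh hg1 hh1 w hw
      have := mul_mem (hg1 _ (hh w hw)) (hh1 w hw)
      rwa [show g * (h * w * h⁻¹) * g⁻¹ * (h * w * h⁻¹)⁻¹ * (h * w * h⁻¹ * w⁻¹) =
        g * h * w * (g * h)⁻¹ * w⁻¹ by group] at this
    have he2 : ∀ w ∈ c.W, F.e 2 * w * (F.e 2)⁻¹ * w⁻¹ ∈ c.PG := by
      rintro _ ⟨p, hp, q, hq, z, hz, rfl⟩
      have ez : F.e 2 * z * (F.e 2)⁻¹ = z := by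
        rw [← (K.Qy_comm (c.le_Qy hz)).2.1, mul_inv_cancel_right]
      rw [show F.e 2 * (p * q * z) * (F.e 2)⁻¹ * (p * q * z)⁻¹ =
        F.e 2 * p * (F.e 2)⁻¹ * (F.e 2 * q * (F.e 2)⁻¹) * (F.e 2 * z * (F.e 2)⁻¹) * z⁻¹ * (q⁻¹ * p⁻¹) by group,
        ez, mul_inv_cancel_right]
      exact mul_mem (mul_mem (c.Qa_le_PG (K.E_norm_Qa K.e2_mem_E hp)) (c.Qb_le_PG (K.E_norm_Qb K.e2_mem_E hq)))
        (mul_mem (inv_mem (c.Qb_le_PG hq)) (inv_mem (c.Qa_le_PG hp)))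
    have hr2 : ∀ w ∈ c.W, F.r 2 * w * (F.r 2)⁻¹ * w⁻¹ ∈ c.PG := by
      rintro _ ⟨p, hp, q, hq, z, hz, rfl⟩
      have ez : F.r 2 * z * (F.r 2)⁻¹ = z := by rw [F.r_inv]; exact K.r2_Qy (c.le_Qy hz)
      rw [show F.r 2 * (p * q * z) * (F.r 2)⁻¹ * (p * q * z)⁻¹ =
        F.r 2 * p * (F.r 2)⁻¹ * (F.r 2 * q * (F.r 2)⁻¹) * (F.r 2 * z * (F.r 2)⁻¹) * z⁻¹ * (q⁻¹ * p⁻¹) by group,
        ez, mul_inv_cancel_right]
      obtain ⟨h1, h2⟩ := K.T_swap (t := F.r 2) (Or.inl rfl)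
      exact mul_mem (mul_mem (c.Qb_le_PG (h1 p hp)) (c.Qa_le_PG (h2 q hq)))
        (mul_mem (inv_mem (c.Qb_le_PG hq)) (inv_mem (c.Qa_le_PG hp)))
    have hzp : ∀ k : ℤ, ∀ w ∈ c.W, F.e 2 ^ k * w * (F.e 2 ^ k)⁻¹ * w⁻¹ ∈ c.PG := by
      have hnat : ∀ n : ℕ, ∀ w ∈ c.W, F.e 2 ^ n * w * (F.e 2 ^ n)⁻¹ * w⁻¹ ∈ c.PG := fun n => by
        induction n with
        | zero => intro w _; rw [pow_zero, one_mul, inv_one, mul_one, mul_inv_cancel]; exact one_mem _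
        | succ n ih =>
          intro w hw
          rw [pow_succ]
          exact hcomp _ _ (fun w hw => c.E_W K.e2_mem_E hw) ih he2 w hw
      intro k w hw
      obtain ⟨n, hn⟩ : ∃ n : ℕ, F.e 2 ^ k = F.e 2 ^ n := by
        refine ⟨(k % 3).toNat, ?_⟩
        rw [← zpow_natCast, Int.toNat_of_nonneg (Int.emod_nonneg _ (by norm_num))]
        conv_lhs => rw [← Int.emod_add_ediv_mul k 3, zpow_add, mul_comm (k / 3), zpow_mul,
          show F.e 2 ^ (3 : ℤ) = 1 from (zpow_natCast (F.e 2) 3).trans (K.E_exp K.e2_mem_E), one_zpow, mul_one]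
      rw [hn]
      exact hnat n w hw
    intro g hg
    obtain ⟨p, hp, k, rfl | rfl⟩ := c.Ly_form hd hZ hg
    · exact hcomp p _ (fun w hw => c.E_W (zpow_mem K.e2_mem_E k) hw) (fun w hw => hPzz p w hp hw) (hzp k)
    · exact hcomp _ _ (fun w hw => c.T_W (Or.inr (Or.inl rfl)) hw)
        (hcomp p _ (fun w hw => c.E_W (zpow_mem K.e2_mem_E k) hw) (fun w hw => hPzz p w hp hw) (hzp k)) hr2
  -- `f` normalises `Qy` and hence `L`
  have hfz : (f : G) * K.zz = K.zz * f := K.mem_Cz.1 f.2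
  have hWsurj : ∀ y ∈ c.W, ∃ w ∈ c.W, (f : G) * w * (f : G)⁻¹ = y := by
    have he : c.W.map (MulAut.conj (f : G)).toMonoidHom = c.W := by
      refine eq_of_le_of_card_ge ?_ (card_map_of_injective (MulAut.conj (f : G)).injective).ge
      rintro _ ⟨y, hy, rfl⟩
      exact hW y hy
    intro y hy
    rw [← he] at hy
    obtain ⟨w, hw, e⟩ := hy
    exact ⟨w, hw, e⟩
  have hQy : ∀ z ∈ K.Qy, (f : G) * z * (f : G)⁻¹ ∈ K.Qy := by
    intro z hz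
    have hzW : z ∈ c.W := c.Zg_le_W (hZ.symm ▸ hz)
    obtain ⟨p, hp, q, hq, z', hz', e⟩ := hW z hzW
    have hcen : ∀ y ∈ c.W, (f : G) * z * (f : G)⁻¹ * y = y * ((f : G) * z * (f : G)⁻¹) := by
      intro y hy
      obtain ⟨w, hw, rfl⟩ := hWsurj y hy
      have hzw : z * w = w * z := (((memL w).1 (hWL hw)).2 z hz).symm
      calc (f : G) * z * (f : G)⁻¹ * ((f : G) * w * (f : G)⁻¹) = f * (z * w) * (f : G)⁻¹ := by group
        _ = f * (w * z) * (f : G)⁻¹ := by rw [hzw]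
        _ = _ := by group
    rw [e] at hcen ⊢
    have hp' : ∀ y ∈ K.Qa, p * y = y * p := fun y hy => by
      have h := hcen y (c.Qa_le_W hy)
      rw [mul_assoc, c.hza z' hz' y hy, ← mul_assoc, mul_assoc p, ← c.hab y hy q hq, ← mul_assoc,
        ← mul_assoc y, ← mul_assoc y] at h
      exact mul_right_cancel (mul_right_cancel h)
    have hq' : ∀ y ∈ K.Qb, q * y = y * q := fun y hy => by
      have h := hcen y (c.Qb_le_W hy)
      rw [mul_assoc, c.hzb hz' hy, ← mul_assoc, ← mul_assoc y, ← mul_assoc y, ← c.hab p hp y hy,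
        mul_assoc p q y, mul_assoc p y q] at h
      exact mul_left_cancel (mul_right_cancel h)
    have hz'y := c.le_Qy hz'
    have h1 : p = 1 ∨ p = K.zz := K.Qa_center hp hp'
    have h2 : q = 1 ∨ q = K.zz := by
      have := K.Qa_center (K.mem_Qb.1 hq) fun y hy => by
        have := r2_commute (F := F) (hq' _ (K.mem_Qb.2 (by rw [r2_twice]; exact hy) : F.r 2 * y * F.r 2 ∈ K.Qb))
        rwa [r2_twice] at this
      rcases this with h | h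
      · exact Or.inl (by rw [← r2_twice (F := F) q, h, mul_one, F.r_sq])
      · exact Or.inr (by rw [← r2_twice (F := F) q, h, K.r2_zz'])
    refine mul_mem (mul_mem ?_ ?_) hz'y
    · rcases h1 with rfl | rfl; exacts [one_mem _, K.zz_mem_Qy]
    · rcases h2 with rfl | rfl; exacts [one_mem _, K.zz_mem_Qy]
  have he2f : (f : G) * F.e 2 * (f : G)⁻¹ ∈ L := by
    refine (memL _).2 ⟨?_, fun z hz => ?_⟩
    · exact ((show Commute (f : G) K.zz from hfz).mul_left K.zz_e2.symm |>.mul_left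
        (show Commute (f : G) K.zz from hfz).inv_left).eq
    · have he : K.Qy.map (MulAut.conj (f : G)).toMonoidHom = K.Qy := by
        refine eq_of_le_of_card_ge ?_ (card_map_of_injective (MulAut.conj (f : G)).injective).ge
        rintro _ ⟨y, hy, rfl⟩
        exact hQy y hy
      obtain ⟨y, hy, rfl⟩ := (he.symm ▸ hz : z ∈ K.Qy.map (MulAut.conj (f : G)).toMonoidHom)
      rw [MulEquiv.coe_toMonoidHom, ← MulAut.conj_apply, ← map_mul, ← map_mul, (K.Qy_comm hy).2.1.symm]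
  -- every element of the product is a commutator with `e 2`
  let δ : c.PG → c.PG := fun y => ⟨F.e 2 * y * (F.e 2)⁻¹ * (y : G)⁻¹, hgood _ he2L _ (c.PG_le_W y.2)⟩
  have hδ : ∀ y ∈ c.PG, ∃ u ∈ c.PG, y = F.e 2 * u * (F.e 2)⁻¹ * u⁻¹ ∨ y = F.e 2 * u * (F.e 2)⁻¹ * u⁻¹ * K.zz := by
    rintro _ ⟨p, hp, q, hq, rfl⟩
    have hd1 : ∀ (H : Subgroup G), K.zz ∈ H → H ≤ K.Cz → (∀ e ∈ K.E, ∀ u ∈ H, e * u * e⁻¹ ∈ H) →
        (∀ u ∈ H, F.e 2 * u = u * F.e 2 → u ∈ zpowers K.zz) → ∀ y ∈ H, ∃ u ∈ H,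
          y = F.e 2 * u * (F.e 2)⁻¹ * u⁻¹ ∨ y = F.e 2 * u * (F.e 2)⁻¹ * u⁻¹ * K.zz := by
      intro H hzH hH hEH hcH y hy
      let d : K.img H → K.img H := fun u => ⟨K.pr ⟨F.e 2, K.e2_mem_Cz⟩ * u * (K.pr ⟨F.e 2, K.e2_mem_Cz⟩)⁻¹ * (u : K.Y)⁻¹, by
        obtain ⟨t, ht, e⟩ := K.exists_pr u.2
        rw [← e, ← map_inv, ← map_inv, ← map_mul, ← map_mul, ← map_mul]
        exact (K.mem_img hzH).2 (mul_mem (hEH _ K.e2_mem_E _ ht) (inv_mem ht))⟩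
      have hdi : Function.Injective d := fun u v e => by
        have e' : K.pr ⟨F.e 2, K.e2_mem_Cz⟩ * u * (K.pr ⟨F.e 2, K.e2_mem_Cz⟩)⁻¹ * (u : K.Y)⁻¹ =
            K.pr ⟨F.e 2, K.e2_mem_Cz⟩ * v * (K.pr ⟨F.e 2, K.e2_mem_Cz⟩)⁻¹ * (v : K.Y)⁻¹ := congrArg Subtype.val e
        obtain ⟨t, ht, et⟩ := K.exists_pr (mul_mem (inv_mem v.2) u.2)
        have hfix : K.pr ⟨F.e 2, K.e2_mem_Cz⟩ * K.pr t * (K.pr ⟨F.e 2, K.e2_mem_Cz⟩)⁻¹ = K.pr t := by
          rw [et]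
          set E := K.pr ⟨F.e 2, K.e2_mem_Cz⟩
          calc E * ((v : K.Y)⁻¹ * u) * E⁻¹ = (E * v * E⁻¹)⁻¹ * (E * u * E⁻¹ * (u : K.Y)⁻¹) * u := by group
            _ = (v : K.Y)⁻¹ * u := by rw [e']; group
        rw [← map_inv, ← map_mul, ← map_mul] at hfix
        have hc := K.commute_of_mod (K.E_exp K.e2_mem_E) K.zz_e2.symm (K.pr_eq.1 hfix)
        have h1 : K.pr t = 1 := K.pr_eq_one.2 (K.zz_pow (hcH _ ht hc))
        exact Subtype.ext (inv_mul_eq_one.1 (et.symm.trans h1)).symm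
      obtain ⟨u, hu⟩ := Finite.injective_iff_surjective.1 hdi ⟨K.pr ⟨y, hH hy⟩, (K.mem_img hzH).2 hy⟩
      obtain ⟨t, ht, et⟩ := K.exists_pr u.2
      refine ⟨t, ht, ?_⟩
      have e' : K.pr ⟨F.e 2, K.e2_mem_Cz⟩ * u * (K.pr ⟨F.e 2, K.e2_mem_Cz⟩)⁻¹ * (u : K.Y)⁻¹ =
          K.pr ⟨y, hH hy⟩ := congrArg Subtype.val hu
      rw [← et, ← map_inv, ← map_inv, ← map_mul, ← map_mul, ← map_mul] at e'
      exact K.pr_eq.1 e'.symm
    obtain ⟨u, hu, eu⟩ := hd1 K.Qa K.zz_mem_Qa K.Qa_le_Cz (fun e he x hx => K.E_norm_Qa he hx)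
      (fun u hu h => zz_or K (K.Qa_cent_E hu (K.commute_E_of_two (gen_a_e2 (F := F)) (K.Qa_comm hu).1 h.symm))) p hp
    obtain ⟨v, hv, ev⟩ := hd1 K.Qb K.zz_mem_Qb K.Qb_le_Cz (fun e he x hx => K.E_norm_Qb he hx)
      (fun u hu h => by
        refine zz_or K (K.Qb_cent_a hu ?_)
        have h1 : Commute u (F.e 2) := h.symm
        have h2 : Commute u K.aa := (K.Qb_comm hu).1
        have e : B.a = K.aa * (F.e 2) ^ 2 := by
          rw [K.aa_eq, ← F.toFrame.el_a]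
          show F.el _ = _ * F.toFrame.el (evec 2) ^ 2
          rw [← F.toFrame.el_nsmul, ← F.toFrame.el_add]
          exact congrArg _ (by decide +kernel)
        rw [e]
        exact (h2.mul_right (h1.pow_right 2)).eq) q hq
    have hsplit : F.e 2 * (u * v) * (F.e 2)⁻¹ * (u * v)⁻¹ =
        F.e 2 * u * (F.e 2)⁻¹ * u⁻¹ * (F.e 2 * v * (F.e 2)⁻¹ * v⁻¹) := by
      have h1 : F.e 2 * v * (F.e 2)⁻¹ * v⁻¹ ∈ K.Qb := mul_mem (K.E_norm_Qb K.e2_mem_E hv) (inv_mem hv)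
      rw [show F.e 2 * (u * v) * (F.e 2)⁻¹ * (u * v)⁻¹ =
        F.e 2 * u * (F.e 2)⁻¹ * ((F.e 2 * v * (F.e 2)⁻¹ * v⁻¹) * u⁻¹) by group, ← c.hab _ (inv_mem hu) _ h1]
      group
    refine ⟨u * v, mul_mem (c.Qa_le_PG hu) (c.Qb_le_PG hv), ?_⟩
    have hz : ∀ g ∈ K.Cz, K.zz * g = g * K.zz := fun g hg => (K.mem_Cz.1 hg).symm
    have h1C : F.e 2 * v * (F.e 2)⁻¹ * v⁻¹ ∈ K.Cz :=
      mul_mem (K.Qb_le_Cz (K.E_norm_Qb K.e2_mem_E hv)) (inv_mem (K.Qb_le_Cz hv))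
    rw [hsplit]
    rcases eu with eu | eu <;> rcases ev with ev | ev
    · exact Or.inl (congrArg₂ (· * ·) eu ev)
    · exact Or.inr ((congrArg₂ (· * ·) eu ev).trans (mul_assoc _ _ _).symm)
    · exact Or.inr ((congrArg₂ (· * ·) eu ev).trans (by rw [mul_assoc, hz _ h1C, ← mul_assoc]))
    · exact Or.inl ((congrArg₂ (· * ·) eu ev).trans (by
        rw [mul_assoc _ K.zz, hz _ (mul_mem h1C (K.mem_Cz.2 rfl)), mul_assoc _ K.zz K.zz, K.zz_sq, mul_one]))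
  obtain ⟨u, hu, hxu⟩ := hδ x hx
  have hm := hgood _ he2f _ (hW u (c.PG_le_W hu))
  rw [show (f : G) * F.e 2 * (f : G)⁻¹ * ((f : G) * u * (f : G)⁻¹) * ((f : G) * F.e 2 * (f : G)⁻¹)⁻¹ *
    ((f : G) * u * (f : G)⁻¹)⁻¹ = (f : G) * (F.e 2 * u * (F.e 2)⁻¹ * u⁻¹) * (f : G)⁻¹ by group] at hm
  rcases hxu with e | e <;> rw [e]
  · exact hm
  · rw [show (f : G) * (F.e 2 * u * (F.e 2)⁻¹ * u⁻¹ * K.zz) * (f : G)⁻¹ =
      (f : G) * (F.e 2 * u * (F.e 2)⁻¹ * u⁻¹) * (f : G)⁻¹ * ((f : G) * K.zz * (f : G)⁻¹) by group, hfz,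
      mul_inv_cancel_right]
    exact mul_mem hm c.zz_mem_PG

/-- The normaliser of `W` preserves the six. -/
theorem six_of_norm (hd : centralizer ({F.e 0 * F.e 1} : Set G) ≤ B.M) {f : K.Y}
    (hf : f ∈ normalizer (c.Wb : Set K.Y)) {y : K.Y} (hy : c.IsSix y) : c.IsSix (f * y * f⁻¹) := by
  obtain ⟨f, rfl⟩ := QuotientGroup.mk'_surjective K.zS f
  obtain ⟨g, rfl⟩ := QuotientGroup.mk'_surjective K.zS y
  rw [← map_inv, ← map_mul, ← map_mul]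
  have hW : ∀ x ∈ c.W, (f : G) * x * (f : G)⁻¹ ∈ c.W := fun x hx => by
    have h := (mem_normalizer_iff.1 hf _).1 ((K.mem_img c.zz_mem_W).2 (show ((⟨x, c.W_le_Cz hx⟩ : K.Cz) : G) ∈ c.W from hx))
    rw [← map_inv, ← map_mul, ← map_mul] at h
    exact (K.mem_img c.zz_mem_W).1 h
  have hsq := c.six_sq hy
  obtain ⟨-, h3⟩ := (c.six_iff g).1 hy
  refine c.six_of_sq (c.norm_PG hd hW (h3.elim (fun h => c.Qa_le_PG h) fun h => c.Qb_le_PG h)) ?_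
  show (f : G) * g * (f : G)⁻¹ * ((f : G) * g * (f : G)⁻¹) = K.zz
  rw [show (f : G) * g * (f : G)⁻¹ * ((f : G) * g * (f : G)⁻¹) = (f : G) * (g * g) * (f : G)⁻¹ by group, hsq,
    K.mem_Cz.1 f.2, mul_inv_cancel_right]

end Cfg

end SixChart

end CfsgLib.Recog.SpSixThree
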