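import Cfsg.Agent.Lib.Recog.SpSixThree.HQuot

/-!
The centraliser of `z` modulo `z`, and the case in which `Qa` commutes with neither of the other two groups.
-/

set_option autoImplicit false
set_option linter.style.haveILetI false
set_option linter.unusedSectionVars false
set_option synthInstance.maxSize 20000

namespace CfsgLib.Recog.SpSixThree

open Equiv Subgroup

universe u

variable {G : Type u} [Group G] [Finite G] {B : Base G} {F : FullFrame B}

namespace SixChart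

variable (K : SixChart F)

/-- The centraliser of `zz`. -/
abbrev Cz : Subgroup G := centralizer ({K.zz} : Set G)

/-- The subgroup of `zz` in its centraliser. -/
abbrev zS : Subgroup K.Cz := (zpowers K.zz).subgroupOf K.Cz

instance : K.zS.Normal := ⟨fun u hu g => by
  have h1 : (g : G) * u * (g : G)⁻¹ = u := by
    obtain ⟨k, hk⟩ := mem_zpowers_iff.1 (mem_subgroupOf.1 hu)
    rw [← hk, ((show Commute (g : G) K.zz from mem_centralizer_singleton_iff.1 g.2).zpow_right k).eq,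
      mul_inv_cancel_right]
  exact mem_subgroupOf.2 (by simpa [h1] using mem_subgroupOf.1 hu)⟩

/-- The centraliser of `zz` modulo `zz`. -/
abbrev Y : Type u := ↥K.Cz ⧸ K.zS

/-- The projection. -/
abbrev pr : ↥K.Cz →* K.Y := QuotientGroup.mk' K.zS

/-- The image of a subgroup. -/
def img (H : Subgroup G) : Subgroup K.Y := (H.subgroupOf K.Cz).map K.pr

theorem mem_Cz {g : G} : g ∈ K.Cz ↔ g * K.zz = K.zz * g := mem_centralizer_singleton_iff

theorem pr_eq_one {g : K.Cz} : K.pr g = 1 ↔ (g : G) = 1 ∨ (g : G) = K.zz := by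
  rw [show K.pr g = 1 ↔ g ∈ K.zS from QuotientGroup.eq_one_iff g, mem_subgroupOf]
  exact ⟨fun h => K.zz_pow h, fun h => h.elim (fun e => e ▸ one_mem _) fun e => e ▸ mem_zpowers _⟩

theorem pr_eq {g h : K.Cz} : K.pr g = K.pr h ↔ (g : G) = h ∨ (g : G) = h * K.zz := by
  rw [show (K.pr g = K.pr h ↔ K.pr (h⁻¹ * g) = 1) by rw [map_mul, map_inv, inv_mul_eq_one, eq_comm], K.pr_eq_one,
    Subgroup.coe_mul, Subgroup.coe_inv]
  exact or_congr (inv_mul_eq_one.trans eq_comm) inv_mul_eq_iff_eq_mul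

theorem mem_img {H : Subgroup G} (hz : K.zz ∈ H) {g : K.Cz} : K.pr g ∈ K.img H ↔ (g : G) ∈ H := by
  constructor
  · rintro ⟨h, hh, e⟩
    rcases K.pr_eq.1 e.symm with e' | e' <;> rw [e']
    exacts [mem_subgroupOf.1 hh, mul_mem (mem_subgroupOf.1 hh) hz]
  · exact fun h => ⟨g, mem_subgroupOf.2 h, rfl⟩

theorem exists_pr {H : Subgroup G} {y : K.Y} (hy : y ∈ K.img H) : ∃ g : K.Cz, (g : G) ∈ H ∧ K.pr g = y := by
  obtain ⟨g, hg, rfl⟩ := hy
  exact ⟨g, mem_subgroupOf.1 hg, rfl⟩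

theorem card_img {H : Subgroup G} (hz : K.zz ∈ H) (hH : H ≤ K.Cz) : 2 * Nat.card (K.img H) = Nat.card H := by
  have h1 := Subgroup.relIndex_ker K.pr (K := H.subgroupOf K.Cz)
  rw [QuotientGroup.ker_mk'] at h1
  have h2 := (K.zS.subgroupOf (H.subgroupOf K.Cz)).card_mul_index
  rw [show (K.zS.subgroupOf (H.subgroupOf K.Cz)).index = Nat.card (K.img H) from h1,
    Nat.card_congr (subgroupOfEquivOfLe hH).toEquiv] at h2
  rw [← h2]
  congr 1
  rw [Nat.card_congr (subgroupOfEquivOfLe (fun u hu => mem_subgroupOf.2 (zpowers_le.2 hz (mem_subgroupOf.1 hu)))).toEquiv,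
    Nat.card_congr (subgroupOfEquivOfLe (zpowers_le.2 (K.mem_Cz.2 rfl))).toEquiv, Nat.card_zpowers]
  exact (orderOf_eq_prime (by rw [pow_two]; exact K.zz_sq) K.zz_ne).symm

theorem Qa_le_Cz : K.Qa ≤ K.Cz := fun _ h => K.mem_Cz.2 (K.Qa_comm h).2

theorem Qb_le_Cz : K.Qb ≤ K.Cz := fun _ h => K.mem_Cz.2 (K.Qb_comm h).2

theorem Qy_le_Cz : K.Qy ≤ K.Cz := fun _ h => K.mem_Cz.2 (K.Qy_comm h).1

theorem card_Qa_eight : Nat.card K.Qa = 8 := by
  have e : Nat.card K.Qa = Nat.card {s : SLT // s ^ 4 = 1} :=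
    Nat.card_congr (Equiv.ofBijective (fun x : K.Qa => (⟨B.sl ⟨x, mem_C (K.Qa_comm x.2).1⟩, K.Qa_sl x.2⟩ :
      {s : SLT // s ^ 4 = 1})) ⟨fun x y e => Subtype.ext (K.Qa_sl_inj x.2 y.2 (congrArg Subtype.val e)),
      fun s => by
        obtain ⟨x, hx, e⟩ := K.exists_Qa s.2
        exact ⟨⟨x, hx⟩, Subtype.ext e⟩⟩)
  rw [e, Nat.card_eq_fintype_card, Fintype.card_subtype, sl_four.2.2.2.2]

theorem card_Qb : Nat.card K.Qb = 8 := by
  rw [Qb, card_map_of_injective (MulAut.conj (F.r 2)).injective, K.card_Qa_eight]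

theorem card_img_Qa : Nat.card (K.img K.Qa) = 4 := by
  have := K.card_img K.zz_mem_Qa K.Qa_le_Cz
  rw [K.card_Qa_eight] at this
  omega

theorem card_img_Qb : Nat.card (K.img K.Qb) = 4 := by
  have := K.card_img K.zz_mem_Qb K.Qb_le_Cz
  rw [K.card_Qb] at this
  omega

theorem Qa_square {x : G} (hx : x ∈ K.Qa) : x * x = 1 ∨ x * x = K.zz := by
  refine K.Qa_invol (mul_mem hx hx) (K.Qa_sl_inj (mul_mem (mul_mem hx hx) (mul_mem hx hx)) (one_mem _) ?_)
  have h4 := K.Qa_sl hx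
  rw [← map_pow] at h4
  rw [show (⟨(1 : G), _⟩ : B.C) = 1 from rfl, map_one, ← h4]
  refine congrArg B.sl (Subtype.ext ?_)
  show x * x * (x * x) = x ^ 4
  rw [← mul_assoc, pow_succ, pow_succ, pow_two]

theorem img_sq {H : Subgroup G} (h : ∀ x ∈ H, x * x = 1 ∨ x * x = K.zz) {y : K.Y} (hy : y ∈ K.img H) : y * y = 1 := by
  obtain ⟨g, hg, rfl⟩ := K.exists_pr hy
  rw [← map_mul]
  exact K.pr_eq_one.2 (h g hg)

theorem img_comm {H H' : Subgroup G} (h : ∀ x ∈ H, ∀ y ∈ H', x * y = y * x ∨ x * y = y * x * K.zz) {u v : K.Y}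
    (hu : u ∈ K.img H) (hv : v ∈ K.img H') : u * v = v * u := by
  obtain ⟨g, hg, rfl⟩ := K.exists_pr hu
  obtain ⟨g', hg', rfl⟩ := K.exists_pr hv
  rw [← map_mul, ← map_mul]
  exact K.pr_eq.2 (h g hg g' hg')

/-- The centraliser of the first four-group. -/
theorem cent_img_Qa (hd : centralizer ({F.e 0 * F.e 1} : Set G) ≤ B.M) {P₀ : Subgroup G} (hz : K.zz ∈ P₀)
    (hle : P₀ ≤ K.La) (h2 : IsPGroup 2 P₀) (hE : ∀ e ∈ K.E, ∀ p ∈ P₀, e * p * e⁻¹ ∈ P₀)
    (hb : ∀ x ∈ K.La, x ∈ K.Qb → x ∈ P₀) (hy : ∀ x ∈ K.La, x ∈ K.Qy → x ∈ P₀) {g : K.Cz}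
    (hg : ∀ v ∈ K.img K.Qa, K.pr g * v = v * K.pr g) :
    ∃ p ∈ P₀, ∃ k : ℤ, ∃ w ∈ K.Qa, (g : G) = p * B.a ^ k * w := by
  have hin : ∀ p ∈ K.Qa, (g : G) * p * (g : G)⁻¹ = p ∨ (g : G) * p * (g : G)⁻¹ = p * K.zz := by
    intro p hp
    have h := hg (K.pr ⟨p, K.Qa_le_Cz hp⟩) ((K.mem_img K.zz_mem_Qa).2 hp)
    rw [← map_mul, ← map_mul] at h
    rcases K.pr_eq.1 h with e | e <;> simp only [Subgroup.coe_mul] at e
    · exact Or.inl (mul_inv_eq_iff_eq_mul.2 e)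
    · refine Or.inr (mul_inv_eq_iff_eq_mul.2 ?_)
      rw [e, mul_assoc, mul_assoc, show (g : G) * K.zz = K.zz * g from K.mem_Cz.1 g.2]
  obtain ⟨w, hw, hgw⟩ := K.exists_inner (K.mem_Cz.1 g.2) hin
  obtain ⟨p, hp, k, e⟩ := (K.La_struct hd hz hle h2 hE hb hy).2 _ hgw
  exact ⟨p, hp, k, w⁻¹, inv_mem hw, by rw [← e, mul_inv_cancel_right]⟩

theorem r2_not_φ {σ : Perm (Fin 6)} (e : K.φ σ = F.r 2) : False := by
  have h1 : F.r 2 * F.e 2 = F.e 2 * F.r 2 := by rw [← e]; exact K.φ_comm σ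
  have h2 := K.r2_e2
  rw [h1, mul_assoc, F.r_sq, mul_one] at h2
  have h3 : F.e 2 * F.e 2 = 1 := by
    nth_rewrite 2 [h2]
    exact mul_inv_cancel _
  have := F.toFrame.e_cube 2
  rw [h3, one_mul, ← F.toFrame.el_zero] at this
  exact absurd (F.toFrame.el_inj.1 this) (by decide +kernel)

/-- `Qy` extended by `r 2`. -/
def Qyr : Subgroup G := closure ((K.Qy : Set G) ∪ {F.r 2})

theorem Qyr_le_Cz : K.Qyr ≤ K.Cz := (closure_le _).2 (by
  rintro x (h | rfl)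
  exacts [K.Qy_le_Cz h, K.mem_Cz.2 K.r2_zz])

theorem Qyr_abelian : ∀ x ∈ K.Qyr, ∀ y ∈ K.Qyr, x * y = y * x := by
  have hgen : ∀ x ∈ (K.Qy : Set G) ∪ {F.r 2}, ∀ y ∈ (K.Qy : Set G) ∪ {F.r 2}, x * y = y * x := by
    rintro x (hx | rfl) y (hy | rfl)
    exacts [K.Qy_abelian hx hy, (K.Qy_comm hx).2.2.1.eq.symm, (K.Qy_comm hy).2.2.1.eq, rfl]
  have h1 : ∀ x ∈ (K.Qy : Set G) ∪ {F.r 2}, ∀ y ∈ K.Qyr, x * y = y * x := fun x hx y hy => by
    refine closure_induction (p := fun y _ => x * y = y * x) (hgen x hx) (Commute.one_right x) ?_ ?_ hy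
    · exact fun p q _ _ hp hq => ((show Commute x p from hp).mul_right hq).eq
    · exact fun p _ hp => ((show Commute x p from hp).inv_right).eq
  intro x hx y hy
  refine closure_induction (p := fun x _ => x * y = y * x) (fun z hz => h1 z hz y hy) (Commute.one_left y) ?_ ?_ hx
  · exact fun p q _ _ hp hq => ((show Commute p y from hp).mul_left hq).eq
  · exact fun p _ hp => ((show Commute p y from hp).inv_left).eq

theorem Qyr_sq {x : G} (hx : x ∈ K.Qyr) : x * x = 1 := by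
  refine closure_induction (p := fun x _ => x * x = 1) ?_ (one_mul 1) (fun p q hp hq ihp ihq => ?_)
    (fun p _ ih => ?_) hx
  · rintro x (h | rfl)
    exacts [(K.Qy_comm h).2.2.2, F.r_sq 2]
  · rw [(show Commute p q from K.Qyr_abelian p hp q hq).symm.mul_mul_mul_comm, ihp, ihq, one_mul]
  · rw [← mul_inv_rev, ih, inv_one]

theorem card_Qyr : 16 ≤ Nat.card K.Qyr := by
  classical
  let f : {σ : Perm (Fin 6) // σ ∈ baseList} × Bool → K.Qyr := fun x =>
    ⟨K.φ x.1.1 * (if x.2 then F.r 2 else 1), mul_mem (subset_closure (Or.inl (K.mem_Qy.2 ⟨_, x.1.2, rfl⟩))) (by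
      split
      exacts [subset_closure (Or.inr rfl), one_mem _])⟩
  have hf : Function.Injective f := by
    rintro ⟨⟨σ, hσ⟩, b⟩ ⟨⟨τ, hτ⟩, c⟩ e
    have e' : K.φ σ * (if b then F.r 2 else 1) = K.φ τ * (if c then F.r 2 else 1) := congrArg Subtype.val e
    cases b <;> cases c <;> simp only [Bool.false_eq_true, if_false, if_true, mul_one] at e'
    · cases K.φ_inj e'; rfl
    · exact (K.r2_not_φ (σ := τ⁻¹ * σ) (by rw [map_mul, map_inv, e', inv_mul_cancel_left])).elim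
    · exact (K.r2_not_φ (σ := σ⁻¹ * τ) (by rw [map_mul, map_inv, ← e', inv_mul_cancel_left])).elim
    · cases K.φ_inj (mul_right_cancel e'); rfl
  refine le_trans ?_ (Nat.card_le_card_of_injective f hf)
  rw [Nat.card_prod, Nat.card_eq_fintype_card (α := Bool), Fintype.card_bool,
    Nat.card_congr (Equiv.subtypeEquivRight (q := fun σ => σ ∈ baseList.toFinset) fun σ => List.mem_toFinset.symm),
    Nat.card_eq_finsetCard, List.toFinset_card_of_nodup base_facts.2.2]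
  rfl

/-- `Qa` commutes with one of the other two. -/
theorem not_small (hd : centralizer ({F.e 0 * F.e 1} : Set G) ≤ B.M)
    (hb : ∀ x ∈ K.La, x ∈ K.Qb → x ∈ zpowers K.zz) (hy : ∀ x ∈ K.La, x ∈ K.Qy → x ∈ zpowers K.zz) : False := by
  refine no_eight (K.img K.Qa) (K.img K.Qyr) K.card_img_Qa
    (fun v hv => K.img_sq (fun x hx => K.Qa_square hx) hv) ?_
    (fun a ha b hb => K.img_comm (fun x hx y hy => Or.inl (K.Qyr_abelian x hx y hy)) ha hb)
    (fun w hw => K.img_sq (fun x hx => Or.inl (K.Qyr_sq hx)) hw) ?_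
  · intro y hy2 hk
    obtain ⟨g, rfl⟩ := QuotientGroup.mk'_surjective K.zS y
    obtain ⟨m, hm⟩ := hk
    obtain ⟨p, hp, k, w, hw, e⟩ := K.cent_img_Qa hd (P₀ := zpowers K.zz) (mem_zpowers _)
      (zpowers_le.2 K.zz_mem_La)
      (IsPGroup.of_card (n := 1) (by
        rw [Nat.card_zpowers, orderOf_eq_prime (by rw [pow_two]; exact K.zz_sq) K.zz_ne, pow_one]))
      (fun e' he p hp => by
        obtain ⟨j, rfl⟩ := mem_zpowers_iff.1 hp
        rw [((show Commute e' K.zz from mem_centralizer_singleton_iff.1 he.2).zpow_right j).eq,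
          mul_inv_cancel_right]
        exact hp) hb hy hy2
    have hpC : p ∈ K.Cz := zpowers_le.2 (K.mem_Cz.2 rfl) hp
    have haC : B.a ∈ K.Cz := K.mem_Cz.2 K.zz_a.symm
    have eg : K.pr g = K.pr ⟨B.a, haC⟩ ^ k * K.pr ⟨w, K.Qa_le_Cz hw⟩ := by
      rw [← map_zpow, ← map_mul]
      refine K.pr_eq.2 ?_
      simp only [Subgroup.coe_mul, Subgroup.coe_zpow]
      rcases K.zz_pow hp with hp' | hp' <;> rw [hp'] at e
      · exact Or.inl (by rw [e, one_mul])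
      · refine Or.inr ?_
        rw [e, mul_assoc, ← ((show Commute (B.a ^ k * w) K.zz from
          (((show Commute B.a K.zz from K.zz_a.symm).zpow_left k).mul_left (K.Qa_comm hw).2))).eq, mul_assoc]
    have hv : K.pr ⟨w, K.Qa_le_Cz hw⟩ ∈ K.img K.Qa := (K.mem_img K.zz_mem_Qa).2 hw
    have hcomm : Commute (K.pr ⟨B.a, haC⟩ ^ k) (K.pr ⟨w, K.Qa_le_Cz hw⟩) := by
      refine Commute.zpow_left ((show Commute (⟨B.a, haC⟩ : K.Cz) ⟨w, K.Qa_le_Cz hw⟩ from
        Subtype.ext (K.Qa_comm hw).1.symm).map K.pr) k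
    have hm' : K.pr g ^ 2 ^ (m + 1) = 1 := by rw [pow_succ, pow_mul, hm, one_pow]
    rw [eg, hcomm.mul_pow, pow_succ, pow_mul (K.pr ⟨w, _⟩), mul_comm (2 ^ m) 2, pow_mul,
      pow_two (K.pr ⟨w, _⟩ ^ 2 ^ m), ← (Commute.refl (K.pr ⟨w, K.Qa_le_Cz hw⟩)).mul_pow,
      K.img_sq (fun x hx => K.Qa_square hx) hv, one_pow, mul_one] at hm'
    have h3 : (K.pr ⟨B.a, haC⟩ ^ k) ^ 3 = 1 := by
      rw [← map_zpow, ← map_pow, ← map_one K.pr]
      refine congrArg K.pr (Subtype.ext ?_)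
      simp only [Subgroup.coe_pow, Subgroup.coe_zpow, Subgroup.coe_one]
      rw [← zpow_natCast, ← zpow_mul, mul_comm, zpow_mul, zpow_natCast, B.a_three, one_zpow]
    have h1 : K.pr ⟨B.a, haC⟩ ^ k = 1 := orderOf_eq_one_iff.1 (Nat.eq_one_of_dvd_coprimes
      (Nat.Coprime.pow_left (m + 1) (by norm_num : Nat.Coprime 2 3))
      (orderOf_dvd_of_pow_eq_one (by rw [pow_succ, mul_comm (2 ^ m) 2, pow_mul]; exact hm'))
      (orderOf_dvd_of_pow_eq_one h3))
    rw [eg, h1, one_mul]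
    exact hv
  · have h1 := K.card_img (H := K.Qyr) (subset_closure (Or.inl K.zz_mem_Qy)) K.Qyr_le_Cz
    have h2 := K.card_Qyr
    omega

/-- Irreducibility gives the alternatives. -/
theorem La_inf_Qb_cases : (∀ x ∈ K.Qb, ∀ y ∈ K.Qa, x * y = y * x) ∨ ∀ x ∈ K.La, x ∈ K.Qb → x ∈ zpowers K.zz := by
  refine or_iff_not_imp_right.2 fun h => ?_
  push Not at h
  obtain ⟨x, hx, hxb, hne⟩ := h
  have := K.Qb_irred (N := K.La) (fun e he y hy => K.E_La he hy) hx hxb (fun e => hne (e ▸ one_mem _))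
    fun e => hne (e ▸ mem_zpowers _)
  exact fun y hy z hz => (K.mem_La.1 (this hy)).2 z hz

theorem La_inf_Qy_cases : (∀ x ∈ K.Qy, ∀ y ∈ K.Qa, x * y = y * x) ∨ ∀ x ∈ K.La, x ∈ K.Qy → x ∈ zpowers K.zz := by
  refine or_iff_not_imp_right.2 fun h => ?_
  push Not at h
  obtain ⟨x, hx, hxy, hne⟩ := h
  have := K.Qy_irred (N := K.La) (fun y hy => K.E_La K.a_mem_E hy) hx K.zz_mem_La hxy
    (fun e => hne (e ▸ one_mem _)) fun e => hne (e ▸ mem_zpowers _)
  exact fun y hy z hz => (K.mem_La.1 (this hy)).2 z hz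

end SixChart

end CfsgLib.Recog.SpSixThree
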