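import Cfsg.Agent.Lib.Recog.CentTwelve.SpHom

/-!
The coded group `Sp(6,2)` from seven elements with the Coxeter relations of type `E7`.
-/

set_option autoImplicit false
set_option maxRecDepth 100000
set_option maxHeartbeats 1000000

namespace CfsgLib.Recog.SpSixThree.Hom

open Equiv Subgroup
open CfsgLib.Golay CfsgLib.Golay.E8Cox
open CfsgLib.Recog.Profile.SpBits (Sp code_one)
open CfsgLib.Recog.CentTwelve.SpHom (bgen bcodes code_bgen W7 W7_comm W7_coe b7 exists_model simple_model b7_facts)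

theorem w7_sq : w7 * w7 = 1 := by decide +kernel

theorem W7_mul_self : W7 * W7 = 1 := Subtype.ext (by rw [Subgroup.coe_mul, W7_coe]; exact w7_sq)

universe u

/-- Seven elements with the relations of `E7` and no centralising involution give the coded group. -/
theorem exists_sp_hom {G : Type u} [Group G] (g : Fin 7 → G)
    (hrel : ∀ i j, (g i * g j) ^ mE (e7 i) (e7 j) = 1) (hne : g 0 ≠ 1)
    (hc : ∀ c, (∀ i, Commute c (g i)) → c * c = 1 → c = 1) :
    ∃ ψ : Sp →* G, Function.Injective ψ ∧ ∀ i : Fin 7, ψ (bgen i) = g i := by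
  obtain ⟨Ψ, hΨ⟩ := exists_hom e7 (Fin.succ_injective _) g hrel
  obtain ⟨Φ, hΦ, hfac⟩ := exists_model
  have hW : Ψ W7 = 1 := by
    refine hc _ (fun i => ?_) (by rw [← map_mul, W7_mul_self, map_one])
    rw [← hΨ i]
    exact (show Commute W7 (sW e7 i) from W7_comm i).map Ψ
  obtain ⟨ψ, hψ⟩ := hfac Ψ hW
  have hgen : ∀ i : Fin 7, ψ (bgen i) = g i := fun i => by
    rw [← hΨ i, ← hψ, hΦ]
    rfl
  refine ⟨ψ, ?_, hgen⟩
  haveI := simple_model
  rw [← MonoidHom.ker_eq_bot_iff]
  refine (inferInstance : ψ.ker.Normal).eq_bot_or_eq_top.resolve_right fun h => hne ?_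
  rw [← hgen 0, ← MonoidHom.mem_ker, h]
  exact Subgroup.mem_top _

end CfsgLib.Recog.SpSixThree.Hom
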