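import Cfsg.Agent.Lib.Recog.SpSixThree.Chart
import Cfsg.Agent.Lib.Recog.SpSixThree.Hom

/-!
The seven reflections in the charts and the map from `Sp(6,2)`, given the one relation outside the charts.
-/

set_option autoImplicit false
set_option linter.unusedSectionVars false
set_option maxRecDepth 100000
set_option maxHeartbeats 1000000

namespace CfsgLib.Recog.SpSixThree

open Equiv
open CfsgLib.Golay CfsgLib.Golay.E8Cox

universe u

/-- the cycle taking the last plane to the first -/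
def cyc0 : Perm (Fin 3) := swap 0 1 * swap 1 2

/-- the exchange of the last two planes -/
def cyc1 : Perm (Fin 3) := swap 1 2

/-- the reflections inside the chart of the first frame element -/
def inC0 (i : Fin 7) : Option (Perm (Fin 6)) :=
  [some (swap 1 2), some (swap 0 1), some (swap 0 3), some (swap 3 4), none, none, some (swap 4 5)].getD i.val none

/-- the reflections inside the chart of the second frame element -/
def inC1 (i : Fin 7) : Option (Perm (Fin 6)) :=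
  [none, none, none, some (swap 3 4), some (swap 0 3), some (swap 0 1), some (swap 4 5)].getD i.val none

/-- the reflections inside the chart of the third frame element -/
def inC2 (i : Fin 7) : Option (Perm (Fin 6)) :=
  [some (swap 4 5), some (swap 3 4), none, none, none, some (swap 0 1), none].getD i.val none

theorem cyc_facts : cyc0 0 = 1 ∧ cyc0 1 = 2 ∧ cyc0 2 = 0 ∧ cyc1 0 = 0 ∧ cyc1 1 = 2 ∧ cyc1 2 = 1 := by
  decide

theorem chart_rel (c : Fin 7 → Option (Perm (Fin 6))) (hc : c = inC0 ∨ c = inC1 ∨ c = inC2) :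
    ∀ i j a b, c i = some a → c j = some b → (a * b) ^ mE (e7 i) (e7 j) = 1 := by
  have h : ∀ i j, ((inC0 i).all fun a => (inC0 j).all fun b => decide ((a * b) ^ mE (e7 i) (e7 j) = 1)) = true ∧
      ((inC1 i).all fun a => (inC1 j).all fun b => decide ((a * b) ^ mE (e7 i) (e7 j) = 1)) = true ∧
      ((inC2 i).all fun a => (inC2 j).all fun b => decide ((a * b) ^ mE (e7 i) (e7 j) = 1)) = true := by
    decide +kernel
  intro i j a b ha hb
  obtain ⟨h0, h1, h2⟩ := h i j
  rcases hc with rfl | rfl | rfl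
  · simpa [ha, hb] using h0
  · simpa [ha, hb] using h1
  · simpa [ha, hb] using h2

theorem cover_facts : ∀ i j : Fin 7,
    ((inC0 i).isSome = true ∧ (inC0 j).isSome = true) ∨ ((inC1 i).isSome = true ∧ (inC1 j).isSome = true) ∨
    ((inC2 i).isSome = true ∧ (inC2 j).isSome = true) ∨
    (((i, j) ∈ [((2 : Fin 7), (4 : Fin 7)), (4, 2), (2, 5), (5, 2), (4, 0), (0, 4), (4, 1), (1, 4)]) ∧
      mE (e7 i) (e7 j) = 2) := by decide +kernel

theorem cent_small : ∀ σ : Perm (Fin 6), σ * swap 0 1 = swap 0 1 * σ → σ * swap 3 4 = swap 3 4 * σ →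
    σ * swap 4 5 = swap 4 5 * σ → σ = 1 ∨ σ = swap 0 1 := by decide +kernel

variable {G : Type u} [Group G] [Finite G] {B : Base G} {F : FullFrame B}

namespace SixChart

variable (K : SixChart F)

/-- the conjugate chart -/
def conjChart (π : Perm (Fin 3)) : Perm (Fin 6) →* G := (MulAut.conj (F.p π)).toMonoidHom.comp K.φ

theorem conjChart_one : K.conjChart 1 = K.φ := MonoidHom.ext fun σ => by
  show F.p 1 * K.φ σ * (F.p 1)⁻¹ = K.φ σ
  rw [map_one]; group

theorem conjChart_inj (π : Perm (Fin 3)) : Function.Injective (K.conjChart π) :=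
  (MulAut.conj (F.p π)).injective.comp K.φ_inj

theorem φ_swap01 : K.φ (swap 0 1) = F.e 0 * F.r 0 := by
  rw [← K.φ_e0, ← K.φ_r0, ← map_mul, mul_assoc, swap_mul_self, mul_one]

theorem φ_swap34 : K.φ (swap 3 4) = F.e 1 * F.r 1 := by
  rw [← K.φ_e1, ← K.φ_r1, ← map_mul, mul_assoc, swap_mul_self, mul_one]

theorem conjChart_vals (π : Perm (Fin 3)) :
    K.conjChart π (swap 1 2) = F.r (π 0) ∧ K.conjChart π (swap 0 1) = F.e (π 0) * F.r (π 0) ∧
    K.conjChart π (swap 4 5) = F.r (π 1) ∧ K.conjChart π (swap 3 4) = F.e (π 1) * F.r (π 1) := by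
  have hc : ∀ x, K.conjChart π x = MulAut.conj (F.p π) (K.φ x) := fun x => rfl
  have he : ∀ k, MulAut.conj (F.p π) (F.e k) = F.e (π k) := fun k => by rw [MulAut.conj_apply, F.p_e]
  have hr : ∀ k, MulAut.conj (F.p π) (F.r k) = F.r (π k) := fun k => by rw [MulAut.conj_apply, F.p_r]
  refine ⟨?_, ?_, ?_, ?_⟩
  · rw [hc, K.φ_r0, hr]
  · rw [hc, K.φ_swap01, map_mul, he, hr]
  · rw [hc, K.φ_r1, hr]
  · rw [hc, K.φ_swap34, map_mul, he, hr]

/-- a chart commutes with the plane it centralises -/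
theorem conjChart_cross (π : Perm (Fin 3)) (σ : Perm (Fin 6)) :
    Commute (K.conjChart π σ) (F.r (π 2)) ∧ Commute (K.conjChart π σ) (F.e (π 2) * F.r (π 2)) := by
  have h1 : Commute (K.φ σ) (F.r 2) := by
    show K.φ σ * F.r 2 = F.r 2 * K.φ σ
    conv_lhs => rw [← K.φ_r2 σ]
    rw [mul_assoc, F.r_sq, mul_one]
  have h2 : Commute (K.φ σ) (F.e 2) := K.φ_comm σ
  have he : MulAut.conj (F.p π) (F.e 2) = F.e (π 2) := by rw [MulAut.conj_apply, F.p_e]
  have hr : MulAut.conj (F.p π) (F.r 2) = F.r (π 2) := by rw [MulAut.conj_apply, F.p_r]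
  have hc : K.conjChart π σ = MulAut.conj (F.p π) (K.φ σ) := rfl
  constructor
  · rw [hc, ← hr]; exact h1.map _
  · rw [hc, ← hr, ← he, ← map_mul]; exact (h2.mul_right h1).map _

/-- the seven reflections -/
def gen (i : Fin 7) : G :=
  [F.r 1, F.e 1 * F.r 1, K.conjChart cyc0 (swap 0 3), F.e 2 * F.r 2, K.conjChart cyc1 (swap 0 3),
    F.e 0 * F.r 0, F.r 2].getD i.val 1

theorem gen_in (i : Fin 7) :
    (∀ a, inC0 i = some a → K.gen i = K.conjChart cyc0 a) ∧
    (∀ a, inC1 i = some a → K.gen i = K.conjChart cyc1 a) ∧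
    (∀ a, inC2 i = some a → K.gen i = K.φ a) := by
  obtain ⟨c00, c01, -, c10, c11, -⟩ := cyc_facts
  obtain ⟨a0, b0, a0', b0'⟩ := K.conjChart_vals cyc0
  obtain ⟨a1, b1, a1', b1'⟩ := K.conjChart_vals cyc1
  rw [c00] at a0 b0
  rw [c01] at a0' b0'
  rw [c10] at a1 b1
  rw [c11] at a1' b1'
  fin_cases i <;> refine ⟨fun a ha => ?_, fun a ha => ?_, fun a ha => ?_⟩ <;>
    simp [inC0, inC1, inC2] at ha <;> subst ha <;>
    first
    | rfl
    | exact a0.symm
    | exact b0.symm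
    | exact a0'.symm
    | exact b0'.symm
    | exact a1.symm
    | exact b1.symm
    | exact a1'.symm
    | exact b1'.symm
    | exact K.φ_r1.symm
    | exact K.φ_swap34.symm
    | exact K.φ_swap01.symm

theorem gen_sq (i : Fin 7) : K.gen i * K.gen i = 1 := by
  have h := cover_facts i i
  have hm : mE (e7 i) (e7 i) = 1 := by revert i; decide +kernel
  have key : ∀ (ψ : Perm (Fin 6) →* G) (c : Fin 7 → Option (Perm (Fin 6))),
      (c = inC0 ∨ c = inC1 ∨ c = inC2) → (∀ a, c i = some a → K.gen i = ψ a) → (c i).isSome = true →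
      K.gen i * K.gen i = 1 := fun ψ c hc hψ hs => by
    obtain ⟨a, ha⟩ := Option.isSome_iff_exists.1 hs
    rw [hψ a ha, ← map_mul]
    have := chart_rel c hc i i a a ha ha
    rw [hm, pow_one] at this
    rw [this, map_one]
  rcases h with ⟨h, -⟩ | ⟨h, -⟩ | ⟨h, -⟩ | ⟨-, h⟩
  · exact key _ _ (Or.inl rfl) (K.gen_in i).1 h
  · exact key _ _ (Or.inr (Or.inl rfl)) (K.gen_in i).2.1 h
  · exact key _ _ (Or.inr (Or.inr rfl)) (K.gen_in i).2.2 h
  · rw [hm] at h; omega

/-- the relations of `E7` -/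
theorem gen_rel (hcomm : Commute (K.gen 2) (K.gen 4)) (i j : Fin 7) :
    (K.gen i * K.gen j) ^ mE (e7 i) (e7 j) = 1 := by
  have key : ∀ (ψ : Perm (Fin 6) →* G) (c : Fin 7 → Option (Perm (Fin 6))),
      (c = inC0 ∨ c = inC1 ∨ c = inC2) → (∀ k a, c k = some a → K.gen k = ψ a) →
      (c i).isSome = true → (c j).isSome = true →
      (K.gen i * K.gen j) ^ mE (e7 i) (e7 j) = 1 := fun ψ c hc hψ hi hj => by
    obtain ⟨a, ha⟩ := Option.isSome_iff_exists.1 hi
    obtain ⟨b, hb⟩ := Option.isSome_iff_exists.1 hj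
    rw [hψ i a ha, hψ j b hb, ← map_mul, ← map_pow, chart_rel c hc i j a b ha hb, map_one]
  rcases cover_facts i j with ⟨h, h'⟩ | ⟨h, h'⟩ | ⟨h, h'⟩ | ⟨hl, hm⟩
  · exact key _ _ (Or.inl rfl) (fun k => (K.gen_in k).1) h h'
  · exact key _ _ (Or.inr (Or.inl rfl)) (fun k => (K.gen_in k).2.1) h h'
  · exact key _ _ (Or.inr (Or.inr rfl)) (fun k => (K.gen_in k).2.2) h h'
  rw [hm]
  obtain ⟨-, -, c02, -, -, c12⟩ := cyc_facts
  have x0 := K.conjChart_cross cyc0 (swap 0 3)
  have x1 := K.conjChart_cross cyc1 (swap 0 3)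
  rw [c02] at x0
  rw [c12] at x1
  have h25 : Commute (K.gen 2) (K.gen 5) := x0.2
  have h40 : Commute (K.gen 4) (K.gen 0) := x1.1
  have h41 : Commute (K.gen 4) (K.gen 1) := x1.2
  have hc : Commute (K.gen i) (K.gen j) := by
    simp only [List.mem_cons, List.not_mem_nil, or_false, Prod.mk.injEq] at hl
    rcases hl with ⟨rfl, rfl⟩ | ⟨rfl, rfl⟩ | ⟨rfl, rfl⟩ | ⟨rfl, rfl⟩ | ⟨rfl, rfl⟩ | ⟨rfl, rfl⟩ |
      ⟨rfl, rfl⟩ | ⟨rfl, rfl⟩
    exacts [hcomm, hcomm.symm, h25, h25.symm, h40, h40.symm, h41, h41.symm]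
  rw [hc.mul_pow, pow_two, pow_two, K.gen_sq, K.gen_sq, one_mul]

theorem φ_cap {σ : Perm (Fin 6)} (h : K.φ σ ∈ Subgroup.zpowers (F.e 2)) : σ = 1 := by
  obtain ⟨t, ht⟩ := Subgroup.mem_zpowers_iff.1 h
  refine K.φ_inj ?_
  rw [map_one]
  have h1 : MulAut.conj (F.r 2) (K.φ σ) = K.φ σ := by rw [MulAut.conj_apply, F.r_inv, K.φ_r2]
  have h2 : MulAut.conj (F.r 2) (K.φ σ) = (K.φ σ)⁻¹ := by
    rw [← ht, map_zpow, MulAut.conj_apply, F.r_inv, F.r_e_self, inv_zpow]
  have h3 : K.φ σ * K.φ σ = 1 := by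
    have := h1.symm.trans h2
    conv_lhs => arg 1; rw [this]
    exact inv_mul_cancel _
  have h4 : K.φ σ * K.φ σ * K.φ σ = 1 := by
    rw [← ht, ← zpow_add, ← zpow_add, show t + t + t = ((3 : ℕ) : ℤ) * t by push_cast; ring, zpow_mul,
      zpow_natCast, pow_succ, pow_two, F.toFrame.e_cube, one_zpow]
  rwa [h3, one_mul] at h4

/-- no involution centralises the seven -/
theorem gen_cent {c : G} (hc : ∀ i, Commute c (K.gen i)) (hc2 : c * c = 1) : c = 1 := by
  have he : K.gen 3 * K.gen 6 = F.e 2 := by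
    show F.e 2 * F.r 2 * F.r 2 = F.e 2
    rw [mul_assoc, F.r_sq, mul_one]
  have hce : Commute c (F.e 2) := he ▸ (hc 3).mul_right (hc 6)
  obtain ⟨n, σ, rfl⟩ := K.dec c hce.eq
  have hcom : Commute (F.e 2 ^ n.val) (K.φ σ) := ((show Commute (K.φ σ) (F.e 2) from K.φ_comm σ).symm).pow_left _
  have hsq : F.e 2 ^ (n.val + n.val) * K.φ (σ * σ) = 1 := by
    rw [map_mul, pow_add, ← hc2]
    exact hcom.mul_mul_mul_comm _ _
  have hσ : σ * σ = 1 := K.φ_cap (by
    rw [eq_inv_of_mul_eq_one_right hsq]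
    exact inv_mem (pow_mem (Subgroup.mem_zpowers _) _))
  rw [hσ, map_one, mul_one] at hsq
  have hn : n = 0 := by
    have key : ∀ m : Fin 3, m ≠ 0 → F.e 2 ^ (m.val + m.val) ≠ 1 := by
      have h1 : F.e 2 ≠ 1 := by
        rw [← F.toFrame.el_zero]
        exact fun e => (evec_facts.2.2.2.1 2 0 (by decide)).1 (F.toFrame.el_inj.1 e)
      intro m hm e
      refine h1 ?_
      have h3 : F.e 2 ^ 3 = 1 := by rw [pow_succ, pow_two, F.toFrame.e_cube]
      fin_cases m
      · exact absurd rfl hm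
      · calc F.e 2 = F.e 2 ^ 3 * (F.e 2 ^ 2)⁻¹ := by group
          _ = 1 := by rw [h3, show F.e 2 ^ 2 = 1 from e, inv_one, mul_one]
      · calc F.e 2 = F.e 2 ^ 4 * (F.e 2 ^ 3)⁻¹ := by group
          _ = 1 := by rw [h3, show F.e 2 ^ 4 = 1 from e, inv_one, mul_one]
    by_contra hn
    exact key n hn hsq
  subst hn
  simp only [Fin.val_zero, pow_zero, one_mul] at hc ⊢
  have tr : ∀ (i : Fin 7) (a : Perm (Fin 6)), inC2 i = some a → σ * a = a * σ := fun i a ha => K.φ_inj (by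
    rw [map_mul, map_mul, ← (K.gen_in i).2.2 a ha]
    exact (hc i).eq)
  rcases cent_small σ (tr 5 _ rfl) (tr 1 _ rfl) (tr 0 _ rfl) with rfl | rfl
  · exact map_one _
  exfalso
  have h := (hc 4).eq
  rw [← (K.gen_in 5).2.2 _ rfl, (K.gen_in 5).2.1 _ rfl, (K.gen_in 4).2.1 _ rfl, ← map_mul, ← map_mul] at h
  exact absurd (K.conjChart_inj _ h) (by decide +kernel)

/-- the map from `Sp(6,2)` -/
theorem exists_hom_sp (hcomm : Commute (K.gen 2) (K.gen 4)) :
    ∃ ψ : Profile.SpBits.Sp →* G, Function.Injective ψ ∧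
      ∀ i : Fin 7, ψ (CentTwelve.SpHom.bgen i) = K.gen i := by
  refine Hom.exists_sp_hom K.gen (K.gen_rel hcomm) ?_ fun c hc h2 => K.gen_cent hc h2
  rw [(K.gen_in 0).1 _ rfl]
  exact fun h => absurd (K.conjChart_inj _ (h.trans (map_one _).symm)) (by decide +kernel)

end SixChart

end CfsgLib.Recog.SpSixThree
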