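import Cfsg.Agent.Lib.Recog.SpSixThree.Defs
import Mathlib.GroupTheory.Sylow
import Mathlib.GroupTheory.IndexNormal

/-!
# The Heisenberg group `R = O₃(C(a))` under the abelian subgroup `J`

Elementwise facts: commutators in `R`, the centralizers in `C(a)` of the elements of `J ∩ R`,
fusion of the elements of order three of `C(a)` into `J`, and the determinant of an element
inverting `a`.
-/

set_option autoImplicit false
set_option Elab.async false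
set_option linter.unusedSectionVars false

namespace CfsgLib.Recog.SpSixThree

open Subgroup

/-- The commutator `u v u⁻¹ v⁻¹`. -/
def qc {G : Type*} [Group G] (u v : G) : G := u * v * u⁻¹ * v⁻¹

theorem qc_mul_left_id {G : Type*} [Group G] (u v w : G) :
    qc (u * v) w = u * qc v w * u⁻¹ * qc u w := by unfold qc; group

theorem qc_mul_right_id {G : Type*} [Group G] (u v w : G) :
    qc u (v * w) = qc u v * (v * qc u w * v⁻¹) := by unfold qc; group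

theorem qc_eq_one {G : Type*} [Group G] {u v : G} : qc u v = 1 ↔ u * v = v * u := by
  unfold qc
  rw [mul_inv_eq_one, mul_inv_eq_iff_eq_mul]

theorem conj_qc {G : Type*} [Group G] (g u v : G) :
    g * qc u v * g⁻¹ = qc (g * u * g⁻¹) (g * v * g⁻¹) := by unfold qc; group

theorem three_cosets {G : Type*} [Group G] [Finite G] {H K : Subgroup G} (hle : H ≤ K)
    (hc : Nat.card K = 3 * Nat.card H) {w : G} (hwK : w ∈ K) (hw : w ∉ H) (hw3 : w ^ 3 = 1)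
    {k : G} (hk : k ∈ K) : ∃ h ∈ H, ∃ n < 3, k = h * w ^ n := by
  have hne : ∀ n, 0 < n → n < 3 → w ^ n ∉ H := by
    intro n h0 h3 hn
    interval_cases n
    · exact hw (by simpa using hn)
    · refine hw ?_
      have h := H.inv_mem hn
      rwa [inv_eq_of_mul_eq_one_right (a := w ^ 2) (b := w) (by rw [← pow_succ]; exact hw3)] at h
  let f : H × Fin 3 → K := fun p => ⟨(p.1 : G) * w ^ (p.2 : ℕ), K.mul_mem (hle p.1.2) (K.pow_mem hwK _)⟩
  have hf : Function.Injective f := by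
    rintro ⟨h, m⟩ ⟨h', m'⟩ he
    have he' : (h : G) * w ^ (m : ℕ) = h' * w ^ (m' : ℕ) := congrArg Subtype.val he
    have key : ∀ (p q : H) (i j : ℕ), i ≤ j → j < 3 → (p : G) * w ^ i = q * w ^ j → i = j := by
      intro p q i j hij hj hpq
      by_contra hne'
      refine hne (j - i) (by omega) (by omega) ?_
      have : w ^ (j - i) = (q : G)⁻¹ * p := by
        rw [pow_sub w hij, show w ^ j = (q : G)⁻¹ * (p * w ^ i) by rw [hpq]; group]
        group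
      rw [this]
      exact H.mul_mem (H.inv_mem q.2) p.2
    have hm : (m : ℕ) = m' := by
      rcases Nat.le_total (m : ℕ) (m' : ℕ) with hl | hl
      · exact key h h' m m' hl m'.2 he'
      · exact (key h' h m' m hl m.2 he'.symm).symm
    obtain rfl : m = m' := Fin.ext hm
    rw [Subtype.ext (mul_right_cancel he') (a1 := h) (a2 := h')]
  have hb : Function.Bijective f := by
    refine (Nat.bijective_iff_injective_and_card f).2 ⟨hf, ?_⟩
    rw [Nat.card_prod, Nat.card_eq_fintype_card (α := Fin 3), Fintype.card_fin, hc, mul_comm]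
  obtain ⟨⟨h, m⟩, hm⟩ := hb.2 ⟨k, hk⟩
  exact ⟨h, h.2, m, m.2, (congrArg Subtype.val hm).symm⟩

namespace Base

variable {G : Type*} [Group G] [Finite G] (B : Base G)

/-- The centre of `R`. -/
abbrev Za : Subgroup G := Subgroup.zpowers B.a

/-- The facts about the configuration used here. -/
structure NFacts : Prop where
  aR : B.a ∈ B.R
  aJ : B.a ∈ B.J
  RC : B.R ≤ B.C
  Cnorm : B.C ≤ Subgroup.normalizer (B.R : Set G)
  Rcen : B.R ⊓ Subgroup.centralizer (B.R : Set G) = Subgroup.zpowers B.a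
  nat : ∀ g ∈ B.C, (∀ x ∈ B.R, g * x * g⁻¹ * x⁻¹ ∈ Subgroup.zpowers B.a) → g ∈ B.R
  cardC : Nat.card B.C = 648
  cardCM : Nat.card ↥(B.C ⊓ B.M) = 162
  centJ : Subgroup.centralizer (B.J : Set G) = B.J
  syl : ∃ P : Sylow 3 G, (P : Subgroup G) ≤ B.C ∧ B.J ≤ P ∧ B.R ≤ P ∧ Nat.card P = 81
  fusion : ∀ x ∈ B.J, ∀ y ∈ B.J, ∀ g : G, g * x * g⁻¹ = y → ∃ m ∈ B.M, m * x * m⁻¹ = y

variable {B}
variable (h : B.NFacts)

theorem mem_C {g : G} : g ∈ B.C ↔ g * B.a = B.a * g := Subgroup.mem_centralizer_singleton_iff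

theorem za_conj {g z : G} (hg : g ∈ B.C) (hz : z ∈ B.Za) : g * z * g⁻¹ = z := by
  obtain ⟨n, rfl⟩ := mem_zpowers_iff.1 hz
  rw [mul_inv_eq_iff_eq_mul]
  exact ((show Commute g B.a from mem_C.1 hg).zpow_right n).eq

theorem za_comm {g z : G} (hg : g ∈ B.C) (hz : z ∈ B.Za) : g * z = z * g :=
  mul_inv_eq_iff_eq_mul.1 (za_conj hg hz)

theorem za_cases {z : G} (hz : z ∈ B.Za) : z = 1 ∨ z = B.a ∨ z = B.a⁻¹ := by
  obtain ⟨n, rfl⟩ := mem_zpowers_iff.1 hz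
  rw [← zpow_mod_orderOf, B.ha]
  rcases (by omega : n % ((3 : ℕ) : ℤ) = 0 ∨ n % ((3 : ℕ) : ℤ) = 1 ∨ n % ((3 : ℕ) : ℤ) = 2) with h | h | h <;>
    rw [h]
  · exact Or.inl (zpow_zero _)
  · exact Or.inr (Or.inl (zpow_one _))
  · refine Or.inr (Or.inr ?_)
    rw [zpow_ofNat]
    exact (inv_eq_of_mul_eq_one_left (by
      rw [← pow_succ, show 2 + 1 = orderOf B.a by rw [B.ha], pow_orderOf_eq_one])).symm

theorem za_three {z : G} (hz : z ∈ B.Za) : z ^ 3 = 1 := by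
  obtain ⟨n, rfl⟩ := mem_zpowers_iff.1 hz
  rw [← zpow_natCast, ← zpow_mul, mul_comm, zpow_mul, zpow_natCast,
    show 3 = orderOf B.a from B.ha.symm, pow_orderOf_eq_one, one_zpow]

include h in
theorem za_le_R : B.Za ≤ B.R := zpowers_le.2 h.aR

theorem card_za : Nat.card B.Za = 3 := by rw [Nat.card_zpowers, B.ha]

theorem J_C : B.J ≤ B.C := B.J_le

theorem J_M : B.J ≤ B.M := le_normalizer

include h in
theorem qc_mem {u v : G} (hu : u ∈ B.R) (hv : v ∈ B.R) : qc u v ∈ B.Za := by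
  haveI : Fact (Nat.Prime 3) := ⟨Nat.prime_three⟩
  have h9 : Nat.card (↥B.R ⧸ Subgroup.center ↥B.R) = 3 ^ 2 := by
    have h1 := (Subgroup.center ↥B.R).card_eq_card_quotient_mul_card_subgroup
    rw [B.R_card, B.R_ext.2] at h1
    omega
  have hq := IsPGroup.commutative_of_card_eq_prime_sq h9 (QuotientGroup.mk ⟨u, hu⟩)
    (QuotientGroup.mk ⟨v, hv⟩)
  have hc : (⟨u, hu⟩ * ⟨v, hv⟩ * (⟨u, hu⟩ : B.R)⁻¹ * (⟨v, hv⟩ : B.R)⁻¹) ∈ Subgroup.center ↥B.R := by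
    rw [← QuotientGroup.eq_one_iff]
    simp only [QuotientGroup.mk_mul, QuotientGroup.mk_inv]
    rw [hq]
    group
  show qc u v ∈ Subgroup.zpowers B.a
  rw [← h.Rcen]
  refine ⟨?_, fun y hy => ?_⟩
  · exact B.R.mul_mem (B.R.mul_mem (B.R.mul_mem hu hv) (B.R.inv_mem hu)) (B.R.inv_mem hv)
  · exact congrArg Subtype.val (Subgroup.mem_center_iff.1 hc ⟨y, hy⟩)

include h in
theorem qc_mul_left {u v w : G} (hu : u ∈ B.R) (hv : v ∈ B.R) (hw : w ∈ B.R) :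
    qc (u * v) w = qc u w * qc v w := by
  rw [qc_mul_left_id, za_conj (h.RC hu) (qc_mem h hv hw),
    za_comm (h.RC (za_le_R h (qc_mem h hv hw))) (qc_mem h hu hw)]

include h in
theorem qc_mul_right {u v w : G} (hu : u ∈ B.R) (hv : v ∈ B.R) (hw : w ∈ B.R) :
    qc u (v * w) = qc u v * qc u w := by
  rw [qc_mul_right_id, za_conj (h.RC hv) (qc_mem h hu hw)]

include h in
theorem qc_pow_right {u v : G} (hu : u ∈ B.R) (hv : v ∈ B.R) :
    ∀ n : ℕ, qc u (v ^ n) = qc u v ^ n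
  | 0 => by unfold qc; group
  | n + 1 => by
    rw [pow_succ, qc_mul_right h hu (B.R.pow_mem hv n) hv, qc_pow_right hu hv n, pow_succ]

include h in
theorem qc_pow_left {u v : G} (hu : u ∈ B.R) (hv : v ∈ B.R) :
    ∀ n : ℕ, qc (u ^ n) v = qc u v ^ n
  | 0 => by unfold qc; group
  | n + 1 => by
    rw [pow_succ, qc_mul_left h (B.R.pow_mem hu n) hu hv, qc_pow_left hu hv n, pow_succ]

theorem qc_za_left {z v : G} (hz : z ∈ B.Za) (hv : v ∈ B.C) : qc z v = 1 :=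
  qc_eq_one.2 (za_comm hv hz).symm

theorem qc_za_right {u z : G} (hu : u ∈ B.C) (hz : z ∈ B.Za) : qc u z = 1 :=
  qc_eq_one.2 (za_comm hu hz)

/-! ## `J ∩ R` -/

include h in
theorem card_I : Nat.card ↥(B.J ⊓ B.R) = 9 := by
  obtain ⟨P, -, hJP, hRP, hP⟩ := h.syl
  have h1 : Nat.card ↥(B.J ⊓ B.R) ∣ 27 := B.J_card ▸ card_dvd_of_le inf_le_left
  have hne : Nat.card ↥(B.J ⊓ B.R) ≠ 27 := fun he => by
    have hJ : B.J ⊓ B.R = B.J := eq_of_le_of_card_ge inf_le_left (by rw [B.J_card, he])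
    have hR : B.J ⊓ B.R = B.R := eq_of_le_of_card_ge inf_le_right (by rw [B.R_card, he])
    have hJR : B.R = B.J := hR.symm.trans hJ
    have hle : B.R ≤ B.Za := (le_inf le_rfl (fun x hx y hy =>
      B.J_comm y (hJR ▸ hy) x (hJR ▸ hx))).trans_eq h.Rcen
    have := Nat.card_le_card_of_injective (inclusion hle) (inclusion_injective hle)
    rw [B.R_card, card_za] at this
    omega
  have hprod : Nat.card B.J * Nat.card B.R ≤ Nat.card ↥(B.J ⊓ B.R) * Nat.card (P : Subgroup G) := by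
    have hri : B.J.relIndex B.R ≤ B.J.relIndex (P : Subgroup G) :=
      relIndex_le_of_le_right hRP (by simp [relIndex, index_ne_zero_of_finite])
    have e1 := (B.J.subgroupOf B.R).card_mul_index
    have e2 := (B.J.subgroupOf (P : Subgroup G)).card_mul_index
    rw [show Nat.card (B.J.subgroupOf B.R) = Nat.card ↥(B.J ⊓ B.R) by
      rw [← inf_subgroupOf_right, Nat.card_congr (subgroupOfEquivOfLe inf_le_right).toEquiv]] at e1
    rw [Nat.card_congr (subgroupOfEquivOfLe hJP).toEquiv] at e2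
    rw [← e1, ← e2]
    calc Nat.card B.J * (Nat.card ↥(B.J ⊓ B.R) * B.J.relIndex B.R)
        ≤ Nat.card B.J * (Nat.card ↥(B.J ⊓ B.R) * B.J.relIndex (P : Subgroup G)) :=
          Nat.mul_le_mul_left _ (Nat.mul_le_mul_left _ hri)
      _ = Nat.card ↥(B.J ⊓ B.R) * (Nat.card B.J * B.J.relIndex (P : Subgroup G)) := by ring
  rw [B.J_card, B.R_card, hP] at hprod
  rcases (Nat.dvd_prime_pow Nat.prime_three).1 (show _ ∣ 3 ^ 3 from h1) with ⟨k, hk, hk'⟩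
  interval_cases k <;> omega

include h in
theorem exists_r : ∃ r ∈ B.R, r ∉ B.J := by
  by_contra hc
  push Not at hc
  have := card_I h
  rw [inf_eq_right.2 (show B.R ≤ B.J from hc), B.R_card] at this
  omega

include h in
theorem exists_b : ∃ b ∈ B.J, b ∉ B.R := by
  by_contra hc
  push Not at hc
  have := card_I h
  rw [inf_eq_left.2 (show B.J ≤ B.R from hc), B.J_card] at this
  omega

include h in
theorem R_cases {r : G} (hr : r ∈ B.R) (hrJ : r ∉ B.J) {u : G} (hu : u ∈ B.R) :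
    ∃ i, (i ∈ B.J ∧ i ∈ B.R) ∧ ∃ n < 3, u = i * r ^ n := by
  obtain ⟨i, hi, n, hn, he⟩ := three_cosets (inf_le_right : B.J ⊓ B.R ≤ B.R)
    (by rw [B.R_card, card_I h]) hr (fun hc => hrJ hc.1) (B.R_exp r hr) hu
  exact ⟨i, hi, n, hn, he⟩

include h in
theorem I_cases {w : G} (hwJ : w ∈ B.J) (hwR : w ∈ B.R) (hw : w ∉ B.Za) {i : G} (hiJ : i ∈ B.J)
    (hiR : i ∈ B.R) : ∃ z ∈ B.Za, ∃ n < 3, i = z * w ^ n :=
  three_cosets (K := B.J ⊓ B.R) (le_inf (zpowers_le.2 h.aJ) (za_le_R h))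
    (by rw [card_za, card_I h]) ⟨hwJ, hwR⟩ hw (B.R_exp w hwR) ⟨hiJ, hiR⟩

include h in
theorem za_le_J : B.Za ≤ B.J := zpowers_le.2 h.aJ

include h in
theorem exists_x : ∃ x ∈ B.J, x ∈ B.R ∧ x ∉ B.Za := by
  by_contra hc
  push Not at hc
  have hle : B.J ⊓ B.R ≤ B.Za := fun x hx => hc x hx.1 hx.2
  have := Nat.card_le_card_of_injective (inclusion hle) (inclusion_injective hle)
  rw [card_za, card_I h] at this
  omega

include h in
theorem nondeg {x r : G} (hxJ : x ∈ B.J) (hxR : x ∈ B.R) (hx : x ∉ B.Za) (hr : r ∈ B.R)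
    (hrJ : r ∉ B.J) : qc x r ≠ 1 := fun hc => by
  refine hx (show x ∈ Subgroup.zpowers B.a from h.Rcen ▸ ⟨hxR, fun y hy => ?_⟩)
  obtain ⟨i, hi, n, -, rfl⟩ := R_cases h hr hrJ hy
  exact ((show Commute i x from B.J_comm i hi.1 x hxJ).mul_left
    ((show Commute r x from (qc_eq_one.1 hc).symm).pow_left n)).eq

include h in
theorem pow_inj {x r : G} (hxJ : x ∈ B.J) (hxR : x ∈ B.R) (hx : x ∉ B.Za) (hr : r ∈ B.R)
    (hrJ : r ∉ B.J) {n : ℕ} (hn : n < 3) (he : qc x r ^ n = qc x r) : n = 1 := by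
  have h1 := nondeg h hxJ hxR hx hr hrJ
  interval_cases n
  · exact absurd (pow_zero (qc x r) ▸ he).symm h1
  · rfl
  · exact absurd (by simpa [pow_two] using he) h1

include h in
theorem R_le_M : B.R ≤ B.M := by
  haveI : Fact (Nat.Prime 3) := ⟨Nat.prime_three⟩
  obtain ⟨P, -, hJP, hRP, hP⟩ := h.syl
  have hn : (B.J.subgroupOf (P : Subgroup G)).Normal := by
    refine Subgroup.normal_of_index_eq_minFac_card ?_
    have hi := (B.J.subgroupOf (P : Subgroup G)).card_mul_index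
    rw [Nat.card_congr (subgroupOfEquivOfLe hJP).toEquiv, B.J_card, hP] at hi
    rw [hP, show (81 : ℕ) = 3 ^ 4 from rfl, Nat.pow_minFac (by norm_num), Nat.Prime.minFac_eq Nat.prime_three]
    omega
  intro r hr
  haveI := hn
  exact le_normalizer_of_normal_subgroupOf hJP (hRP hr)

include h in
theorem qc_b_r {b r : G} (hb : b ∈ B.J) (hbR : b ∉ B.R) (hr : r ∈ B.R) (hrJ : r ∉ B.J) :
    qc b r ∈ B.J ∧ qc b r ∈ B.R ∧ qc b r ∉ B.Za := by
  have hR : qc b r ∈ B.R :=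
    B.R.mul_mem ((mem_normalizer_iff.1 (h.Cnorm (J_C hb)) r).1 hr) (B.R.inv_mem hr)
  have hJ : qc b r ∈ B.J := by
    have he : qc b r = b * (r * b⁻¹ * r⁻¹) := by unfold qc; group
    rw [he]
    exact B.J.mul_mem hb ((mem_normalizer_iff.1 (R_le_M h hr) b⁻¹).1 (B.J.inv_mem hb))
  refine ⟨hJ, hR, fun hz => hbR (h.nat b (J_C hb) fun u hu => ?_)⟩
  obtain ⟨i, hi, n, -, rfl⟩ := R_cases h hr hrJ hu
  have hbi : b * i * b⁻¹ = i := by rw [B.J_comm b hb i hi.1, mul_inv_cancel_right]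
  have hbr : b * r * b⁻¹ = qc b r * r := by unfold qc; group
  have hpow : b * r ^ n * b⁻¹ = qc b r ^ n * r ^ n := by
    rw [← conj_pow, hbr, (show Commute _ r from (za_comm (h.RC hr) hz).symm).mul_pow]
  rw [show b * (i * r ^ n) * b⁻¹ = (b * i * b⁻¹) * (b * r ^ n * b⁻¹) by group, hbi, hpow,
    show i * (qc b r ^ n * r ^ n) * (i * r ^ n)⁻¹ = i * qc b r ^ n * i⁻¹ by group,
    za_conj (h.RC hi.2) (B.Za.pow_mem hz n)]
  exact B.Za.pow_mem hz n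

/-- The centralizer in `C(a)` of an element of `(J ∩ R) - Z`. -/
theorem cent_x (h : B.NFacts) {x g : G} (hxJ : x ∈ B.J) (hxR : x ∈ B.R) (hx : x ∉ B.Za)
    (hg : g ∈ B.C) (hgx : g * x = x * g) : g ∈ B.J := by
  obtain ⟨r, hr, hrJ⟩ := exists_r h
  obtain ⟨b, hb, hbR⟩ := exists_b h
  obtain ⟨hvJ, hvR, hvZ⟩ := qc_b_r h hb hbR hr hrJ
  have hu : g * r * g⁻¹ ∈ B.R := (mem_normalizer_iff.1 (h.Cnorm hg) r).1 hr
  obtain ⟨i, hi, n, hn, hie⟩ := R_cases h hr hrJ hu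
  have hfix : qc x (g * r * g⁻¹) = qc x r := by
    conv_lhs => rw [← mul_inv_eq_iff_eq_mul.2 hgx]
    rw [← conj_qc, za_conj hg (qc_mem h hxR hr)]
  rw [hie, qc_mul_right h hxR hi.2 (B.R.pow_mem hr n), qc_eq_one.2 (B.J_comm x hxJ i hi.1), one_mul,
    qc_pow_right h hxR hr] at hfix
  obtain rfl := pow_inj h hxJ hxR hx hr hrJ hn hfix
  rw [pow_one] at hie
  obtain ⟨z, hz, k, -, hik⟩ := I_cases h hvJ hvR hvZ hi.1 hi.2
  -- correct `g` by a power of `b`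
  have hbk : ∀ m : ℕ, b ^ m * r * (b ^ m)⁻¹ = qc b r ^ m * r := by
    intro m
    induction m with
    | zero => simp
    | succ m ih =>
      rw [pow_succ', show b * b ^ m * r * (b * b ^ m)⁻¹ = b * (b ^ m * r * (b ^ m)⁻¹) * b⁻¹ by group,
        ih, show b * (qc b r ^ m * r) * b⁻¹ = (b * qc b r ^ m * b⁻¹) * (b * r * b⁻¹) by group,
        B.J_comm b hb _ (B.J.pow_mem hvJ m), mul_inv_cancel_right,
        show b * r * b⁻¹ = qc b r * r by unfold qc; group, ← mul_assoc, pow_succ]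
  obtain ⟨g', hg'⟩ : ∃ g', g' = (b ^ k)⁻¹ * g := ⟨_, rfl⟩
  have hbkC : b ^ k ∈ B.C := B.C.pow_mem (J_C hb) k
  have hgC : g' ∈ B.C := hg' ▸ B.C.mul_mem (B.C.inv_mem hbkC) hg
  have hgxx : g' * x * g'⁻¹ = x := by
    rw [hg', show (b ^ k)⁻¹ * g * x * ((b ^ k)⁻¹ * g)⁻¹ = (b ^ k)⁻¹ * (g * x * g⁻¹) * b ^ k by group,
      mul_inv_eq_iff_eq_mul.2 hgx, mul_assoc, B.J_comm x hxJ _ (B.J.pow_mem hb k), ← mul_assoc,
      inv_mul_cancel, one_mul]
  have hgr : g' * r * g'⁻¹ = z * r := by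
    rw [hg', show (b ^ k)⁻¹ * g * r * ((b ^ k)⁻¹ * g)⁻¹ = (b ^ k)⁻¹ * (g * r * g⁻¹) * b ^ k by group,
      hie, hik, show (b ^ k)⁻¹ * (z * qc b r ^ k * r) * b ^ k =
        ((b ^ k)⁻¹ * z * b ^ k) * ((b ^ k)⁻¹ * (qc b r ^ k * r) * b ^ k) by group, ← hbk k,
      show (b ^ k)⁻¹ * (b ^ k * r * (b ^ k)⁻¹) * b ^ k = r by group]
    congr 1
    have := za_conj (B.C.inv_mem hbkC) hz
    rwa [inv_inv] at this
  have hR : g' ∈ B.R := by
    refine h.nat g' hgC fun u hu => ?_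
    obtain ⟨j, hj, m, -, rfl⟩ := R_cases h hr hrJ hu
    obtain ⟨z', hz', l, -, rfl⟩ := I_cases h hxJ hxR hx hj.1 hj.2
    rw [show g' * (z' * x ^ l * r ^ m) * g'⁻¹ =
        (g' * z' * g'⁻¹) * (g' * x ^ l * g'⁻¹) * (g' * r ^ m * g'⁻¹) by group, za_conj hgC hz',
      ← conj_pow, hgxx, ← conj_pow, hgr, (show Commute _ r from (za_comm (h.RC hr) hz).symm).mul_pow,
      show z' * x ^ l * (z ^ m * r ^ m) * (z' * x ^ l * r ^ m)⁻¹ =
        (z' * x ^ l) * z ^ m * (z' * x ^ l)⁻¹ by group,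
      za_conj (h.RC (B.R.mul_mem (za_le_R h hz') (B.R.pow_mem hxR l))) (B.Za.pow_mem hz m)]
    exact B.Za.pow_mem hz m
  have hJ' : g' ∈ B.J := by
    obtain ⟨j, hj, m, hm, rfl⟩ := R_cases h hr hrJ hR
    have h1 : qc x (j * r ^ m) = 1 := qc_eq_one.2 (mul_inv_eq_iff_eq_mul.1 hgxx).symm
    rw [qc_mul_right h hxR hj.2 (B.R.pow_mem hr m), qc_eq_one.2 (B.J_comm x hxJ j hj.1), one_mul,
      qc_pow_right h hxR hr] at h1
    have hne := nondeg h hxJ hxR hx hr hrJ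
    interval_cases m
    · simpa using hj.1
    · exact absurd (pow_one (qc x r) ▸ h1) hne
    · refine absurd ?_ hne
      have h3 := za_three (qc_mem h hxR hr)
      rw [pow_succ, h1, one_mul] at h3
      exact h3
  have : g = b ^ k * g' := by rw [hg']; group
  rw [this]
  exact B.J.mul_mem (B.J.pow_mem hb k) hJ'

theorem sl_cube_normal : ∀ y : Matrix.SpecialLinearGroup (Fin 2) (ZMod 3), y * y * y = 1 →
    (∀ k : Matrix.SpecialLinearGroup (Fin 2) (ZMod 3),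
      (y * (k * y * k⁻¹)) * (y * (k * y * k⁻¹)) * (y * (k * y * k⁻¹)) = 1) → y = 1 := by
  decide +kernel

include h in
theorem sl_R {ρ : G} (hρ : ρ ∈ B.R) : B.sl ⟨ρ, h.RC hρ⟩ = 1 := by
  obtain ⟨u, hu, he⟩ := B.sl_ker.ge hρ
  rw [show (⟨ρ, h.RC hρ⟩ : B.C) = u from Subtype.ext he.symm]
  exact hu

theorem mem_R_of_sl {g : G} (hg : g ∈ B.C) (hs : B.sl ⟨g, hg⟩ = 1) : g ∈ B.R :=
  B.sl_ker.le ⟨⟨g, hg⟩, hs, rfl⟩

include h in
/-- The normalizer of `⟨a⟩` normalises `R`. -/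
theorem norm_R {g : G} (hg : g * B.a * g⁻¹ = B.a ∨ g * B.a * g⁻¹ = B.a⁻¹) :
    g ∈ Subgroup.normalizer (B.R : Set G) := by
  have hC : ∀ c ∈ B.C, g * c * g⁻¹ ∈ B.C := by
    intro c hc
    rw [mem_C] at hc ⊢
    have h1 : g * c * g⁻¹ * (g * B.a * g⁻¹) = g * B.a * g⁻¹ * (g * c * g⁻¹) := by
      rw [show g * c * g⁻¹ * (g * B.a * g⁻¹) = g * (c * B.a) * g⁻¹ by group, hc]; group
    rcases hg with he | he <;> rw [he] at h1
    · exact h1
    · exact (Commute.inv_right_iff.1 (show Commute _ B.a⁻¹ from h1)).eq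
  have hC' : ∀ c ∈ B.C, g⁻¹ * c * g ∈ B.C := by
    intro c hc
    rw [mem_C] at hc ⊢
    have hz : g⁻¹ * B.a * g = B.a ∨ g⁻¹ * B.a * g = B.a⁻¹ := by
      rcases hg with he | he
      · left
        calc g⁻¹ * B.a * g = g⁻¹ * (g * B.a * g⁻¹) * g := by rw [he]
          _ = B.a := by group
      · right
        calc g⁻¹ * B.a * g = g⁻¹ * (g * B.a * g⁻¹)⁻¹ * g := by rw [he, inv_inv]
          _ = B.a⁻¹ := by group
    have h1 : g⁻¹ * c * g * (g⁻¹ * B.a * g) = g⁻¹ * B.a * g * (g⁻¹ * c * g) := by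
      rw [show g⁻¹ * c * g * (g⁻¹ * B.a * g) = g⁻¹ * (c * B.a) * g by group, hc]; group
    rcases hz with he | he <;> rw [he] at h1
    · exact h1
    · exact (Commute.inv_right_iff.1 (show Commute _ B.a⁻¹ from h1)).eq
  refine mem_normalizer_iff_map_conj_eq.2 (eq_of_le_of_card_ge ?_
    (card_map_of_injective (MulAut.conj g).injective).ge)
  rintro _ ⟨ρ, hρ, rfl⟩
  refine mem_R_of_sl (hC ρ (h.RC hρ)) (sl_cube_normal _ ?_ fun k => ?_)
  · rw [← map_mul, ← map_mul]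
    convert map_one B.sl
    refine Subtype.ext ?_
    show g * ρ * g⁻¹ * (g * ρ * g⁻¹) * (g * ρ * g⁻¹) = 1
    rw [show g * ρ * g⁻¹ * (g * ρ * g⁻¹) * (g * ρ * g⁻¹) = g * ρ ^ 3 * g⁻¹ by
      simp only [pow_succ, pow_zero, one_mul]; group, B.R_exp ρ hρ]
    group
  obtain ⟨⟨c, hc⟩, rfl⟩ := B.sl_surj k
  obtain ⟨ρ', hρ', hρe⟩ : ∃ ρ' ∈ B.R, ρ' = ρ * ((g⁻¹ * c * g) * ρ * (g⁻¹ * c * g)⁻¹) :=
    ⟨_, B.R.mul_mem hρ ((mem_normalizer_iff.1 (h.Cnorm (hC' c hc)) ρ).1 hρ), rfl⟩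
  have he : (⟨g * ρ * g⁻¹, hC ρ (h.RC hρ)⟩ : B.C) * (⟨c, hc⟩ * ⟨g * ρ * g⁻¹, hC ρ (h.RC hρ)⟩ *
      (⟨c, hc⟩ : B.C)⁻¹) = ⟨g * ρ' * g⁻¹, hC ρ' (h.RC hρ')⟩ := Subtype.ext (by
    show g * ρ * g⁻¹ * (c * (g * ρ * g⁻¹) * c⁻¹) = g * ρ' * g⁻¹
    rw [hρe]; group)
  rw [← map_inv, ← map_mul, ← map_mul, ← map_mul]
  erw [he]
  rw [← map_mul, ← map_mul]
  convert map_one B.sl
  refine Subtype.ext ?_
  show g * ρ' * g⁻¹ * (g * ρ' * g⁻¹) * (g * ρ' * g⁻¹) = 1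
  rw [show g * ρ' * g⁻¹ * (g * ρ' * g⁻¹) * (g * ρ' * g⁻¹) = g * ρ' ^ 3 * g⁻¹ by
    simp only [pow_succ, pow_zero, one_mul]; group, B.R_exp ρ' hρ']
  group

include h in
/-- An element inverting `a` moves the coset `b R`. -/
theorem no_invert {g b : G} (hga : g * B.a * g⁻¹ = B.a⁻¹) (hb : b ∈ B.J) (hbR : b ∉ B.R)
    (hgb : g * b * g⁻¹ * b⁻¹ ∈ B.R) : False := by
  obtain ⟨r, hr, hrJ⟩ := exists_r h
  obtain ⟨hvJ, hvR, hvZ⟩ := qc_b_r h hb hbR hr hrJ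
  obtain ⟨v, hv⟩ : ∃ v, v = qc b r := ⟨_, rfl⟩
  rw [← hv] at hvJ hvR hvZ
  have hgn := mem_normalizer_iff.1 (norm_R h (Or.inr hga))
  obtain ⟨i, hi, n, hn, hie⟩ := R_cases h hr hrJ ((hgn r).1 hr)
  obtain ⟨ρ, hρ, hρb⟩ : ∃ ρ ∈ B.R, g * b * g⁻¹ = ρ * b := ⟨_, hgb, by group⟩
  have hbi : b * i * b⁻¹ = i := by rw [B.J_comm b hb i hi.1, mul_inv_cancel_right]
  have hbr : b * r * b⁻¹ = v * r := by rw [hv]; unfold qc; group
  have hvn : ∃ z ∈ B.Za, b * r ^ n * b⁻¹ = z * v ^ n * r ^ n := by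
    rw [← conj_pow, hbr]
    interval_cases n
    · exact ⟨1, one_mem _, by simp⟩
    · exact ⟨1, one_mem _, by simp⟩
    · refine ⟨v * qc r v * v⁻¹, ?_, by unfold qc; simp only [pow_two]; group⟩
      rw [za_conj (h.RC hvR) (qc_mem h hr hvR)]
      exact qc_mem h hr hvR
  obtain ⟨z, hz, hzn⟩ := hvn
  have hy : ∃ w ∈ B.Za, g * v * g⁻¹ = w * v ^ n := by
    rw [hv, conj_qc, hρb, hie, qc_mul_left_id]
    have h1 : qc b (i * r ^ n) = z * v ^ n := by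
      show b * (i * r ^ n) * b⁻¹ * (i * r ^ n)⁻¹ = z * v ^ n
      rw [show b * (i * r ^ n) * b⁻¹ = (b * i * b⁻¹) * (b * r ^ n * b⁻¹) by group, hbi, hzn,
        show i * (z * v ^ n * r ^ n) * (i * r ^ n)⁻¹ = (i * z * i⁻¹) * (i * v ^ n * i⁻¹) by group,
        za_conj (h.RC hi.2) hz, B.J_comm i hi.1 _ (B.J.pow_mem hvJ n), mul_inv_cancel_right]
    have hu : i * r ^ n ∈ B.R := B.R.mul_mem hi.2 (B.R.pow_mem hr n)
    have hvnR : v ^ n ∈ B.R := B.R.pow_mem hvR n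
    refine ⟨z * qc ρ (v ^ n) * qc ρ (i * r ^ n), B.Za.mul_mem (B.Za.mul_mem hz
      (qc_mem h hρ hvnR)) (qc_mem h hρ hu), ?_⟩
    rw [← hv, h1, show ρ * (z * v ^ n) * ρ⁻¹ = (ρ * z * ρ⁻¹) * qc ρ (v ^ n) * v ^ n by unfold qc; group,
      za_conj (h.RC hρ) hz, mul_assoc (z * qc ρ (v ^ n)), za_comm (h.RC hvnR) (qc_mem h hρ hu),
      ← mul_assoc]
  obtain ⟨w, hw, hwe⟩ := hy
  rcases Nat.eq_zero_or_pos n with rfl | hn0
  · rw [pow_zero, mul_one] at hwe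
    refine hvZ ?_
    have h2 : v = g⁻¹ * w * g := by rw [← hwe]; group
    obtain ⟨k, rfl⟩ := mem_zpowers_iff.1 hw
    have h3 : g⁻¹ * B.a * g = B.a⁻¹ := by
      calc g⁻¹ * B.a * g = g⁻¹ * (g * B.a * g⁻¹)⁻¹ * g := by rw [hga, inv_inv]
        _ = B.a⁻¹ := by group
    have h4 : g⁻¹ * B.a ^ k * g = (g⁻¹ * B.a * g) ^ k := by
      have := (conj_zpow (i := k) (a := g⁻¹) (b := B.a)).symm
      rw [inv_inv] at this
      exact this
    rw [h2, h4, h3]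
    exact zpow_mem (inv_mem (mem_zpowers _)) k
  · have hc : qc v r ∈ B.Za := qc_mem h hvR hr
    have h1 : g * qc v r * g⁻¹ = (qc v r)⁻¹ := by
      obtain ⟨k, hk⟩ := mem_zpowers_iff.1 hc
      rw [← hk, ← conj_zpow, hga, inv_zpow]
    rw [conj_qc, hwe, hie, qc_mul_left h (za_le_R h hw) (B.R.pow_mem hvR n)
        (B.R.mul_mem hi.2 (B.R.pow_mem hr n)),
      qc_za_left hw (h.RC (B.R.mul_mem hi.2 (B.R.pow_mem hr n))), one_mul,
      qc_mul_right h (B.R.pow_mem hvR n) hi.2 (B.R.pow_mem hr n),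
      qc_eq_one.2 (B.J_comm _ (B.J.pow_mem hvJ n) i hi.1), one_mul,
      qc_pow_right h (B.R.pow_mem hvR n) hr, qc_pow_left h hvR hr, ← pow_mul] at h1
    refine nondeg h hvJ hvR hvZ hr hrJ ?_
    have h3 := za_three hc
    have h4 : qc v r ^ (n * n + 1) = 1 := by rw [pow_succ, h1, inv_mul_cancel]
    have h5 : (n * n + 1) % 3 = 2 := by interval_cases n <;> rfl
    rw [← Nat.mod_add_div (n * n + 1) 3, h5, pow_add, pow_mul, h3, one_pow, mul_one] at h4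
    rw [show 3 = 2 + 1 from rfl, pow_succ, h4, one_mul] at h3
    exact h3

include h in
/-- Some element of `C(a)` does not normalise `J ∩ R`. -/
theorem exists_move : ∃ c ∈ B.C, ∃ x ∈ B.J, x ∈ B.R ∧ c * x * c⁻¹ ∉ B.J := by
  by_contra hc
  push Not at hc
  obtain ⟨x, hxJ, hxR, hxZ⟩ := exists_x h
  have hCM : B.C ≤ B.M := by
    intro c hcC
    refine mem_normalizer_iff_map_conj_eq.2 (eq_of_le_of_card_ge ?_
      (card_map_of_injective (MulAut.conj c).injective).ge)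
    rintro _ ⟨j, hj, rfl⟩
    have hx' : c⁻¹ * x * c ∈ B.J := by
      have := hc c⁻¹ (B.C.inv_mem hcC) x hxJ hxR
      rwa [inv_inv] at this
    have hjx := B.J_comm j hj _ hx'
    refine cent_x h hxJ hxR hxZ (B.C.mul_mem (B.C.mul_mem hcC (J_C hj)) (B.C.inv_mem hcC)) ?_
    show c * j * c⁻¹ * x = x * (c * j * c⁻¹)
    calc c * j * c⁻¹ * x = c * (j * (c⁻¹ * x * c)) * c⁻¹ := by group
      _ = c * (c⁻¹ * x * c * j) * c⁻¹ := by rw [hjx]
      _ = _ := by group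
  have := h.cardCM
  rw [inf_eq_left.2 hCM, h.cardC] at this
  omega

include h in
/-- The elements of `R` are conjugate in `C(a)` to elements of `J`. -/
theorem R_into_J {u : G} (hu : u ∈ B.R) : ∃ c ∈ B.C, c * u * c⁻¹ ∈ B.J := by
  by_cases huJ : u ∈ B.J
  · exact ⟨1, one_mem _, by simpa using huJ⟩
  obtain ⟨c, hc, x, hxJ, hxR, hcx⟩ := exists_move h
  obtain ⟨y, hy⟩ : ∃ y, y = c * x * c⁻¹ := ⟨_, rfl⟩
  have hyR : y ∈ B.R := hy ▸ (mem_normalizer_iff.1 (h.Cnorm hc) x).1 hxR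
  have hyJ : y ∉ B.J := hy ▸ hcx
  obtain ⟨b, hb, hbR⟩ := exists_b h
  obtain ⟨hvJ, hvR, hvZ⟩ := qc_b_r h hb hbR hyR hyJ
  obtain ⟨i, hi, n, hn, rfl⟩ := R_cases h hyR hyJ hu
  -- it suffices to treat exponent one
  have key : ∀ i, i ∈ B.J → i ∈ B.R → ∃ c' ∈ B.C, c' * (i * y) * c'⁻¹ ∈ B.J := by
    intro i hiJ hiR
    obtain ⟨z, hz, k, -, rfl⟩ := I_cases h hvJ hvR hvZ hiJ hiR
    have hbk : b ^ k * y * (b ^ k)⁻¹ = qc b y ^ k * y := by
      clear hiJ hiR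
      induction k with
      | zero => simp
      | succ m ih =>
        rw [pow_succ', show b * b ^ m * y * (b * b ^ m)⁻¹ = b * (b ^ m * y * (b ^ m)⁻¹) * b⁻¹ by group,
          ih, show b * (qc b y ^ m * y) * b⁻¹ = (b * qc b y ^ m * b⁻¹) * (b * y * b⁻¹) by group,
          B.J_comm b hb _ (B.J.pow_mem hvJ m), mul_inv_cancel_right,
          show b * y * b⁻¹ = qc b y * y by unfold qc; group, ← mul_assoc, pow_succ]
    have hcC : c⁻¹ * (b ^ k)⁻¹ ∈ B.C := B.C.mul_mem (B.C.inv_mem hc) (B.C.inv_mem (B.C.pow_mem (J_C hb) k))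
    refine ⟨c⁻¹ * (b ^ k)⁻¹, hcC, ?_⟩
    rw [mul_assoc z, ← hbk, show c⁻¹ * (b ^ k)⁻¹ * (z * (b ^ k * y * (b ^ k)⁻¹)) * (c⁻¹ * (b ^ k)⁻¹)⁻¹ =
      (c⁻¹ * (b ^ k)⁻¹ * z * (c⁻¹ * (b ^ k)⁻¹)⁻¹) * (c⁻¹ * y * c) by group, za_conj hcC hz, hy,
      show c⁻¹ * (c * x * c⁻¹) * c = x by group]
    exact B.J.mul_mem (za_le_J h hz) hxJ
  interval_cases n
  · exact absurd (by simpa using hi.1) huJ
  · simpa using key i hi.1 hi.2
  · have hinv : (i * y ^ 2)⁻¹ = (y * i⁻¹ * y⁻¹) * y := by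
      have hy3 : y ^ 3 = 1 := B.R_exp y hyR
      rw [mul_inv_rev, inv_mul_cancel_right,
        inv_eq_of_mul_eq_one_right (a := y ^ 2) (b := y) (by rw [← pow_succ]; exact hy3)]
    obtain ⟨c', hc', hc''⟩ := key (y * i⁻¹ * y⁻¹)
      ((mem_normalizer_iff.1 (R_le_M h hyR) i⁻¹).1 (B.J.inv_mem hi.1))
      (B.R.mul_mem (B.R.mul_mem hyR (B.R.inv_mem hi.2)) (B.R.inv_mem hyR))
    refine ⟨c', hc', ?_⟩
    rw [← hinv] at hc''
    have := B.J.inv_mem hc''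
    simpa [mul_inv_rev, inv_inv, mul_assoc] using this

include h in
/-- The elements of order three of `C(a)` are conjugate in `C(a)` to elements of `J`. -/
theorem three_into_J {u : G} (hu : u ∈ B.C) (hu3 : u ^ 3 = 1) : ∃ c ∈ B.C, c * u * c⁻¹ ∈ B.J := by
  haveI : Fact (Nat.Prime 3) := ⟨Nat.prime_three⟩
  obtain ⟨P, hPC, hJP, hRP, hP⟩ := h.syl
  have hpu : IsPGroup 3 (zpowers (⟨u, hu⟩ : B.C)) := by
    intro g
    obtain ⟨k, hk⟩ := mem_zpowers_iff.1 g.2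
    refine ⟨1, Subtype.ext ?_⟩
    rw [SubgroupClass.coe_pow, pow_one, ← hk, ← zpow_natCast, ← zpow_mul, mul_comm, zpow_mul,
      zpow_natCast, show (⟨u, hu⟩ : B.C) ^ 3 = 1 from Subtype.ext hu3, one_zpow]
    rfl
  obtain ⟨S, hS⟩ := hpu.exists_le_sylow
  obtain ⟨c, hc⟩ := MulAction.exists_smul_eq B.C S (P.subtype hPC)
  have hm : (c : G) * u * (c : G)⁻¹ ∈ (P : Subgroup G) := by
    have h1 : c * ⟨u, hu⟩ * c⁻¹ ∈ ((c • S : Sylow 3 B.C) : Subgroup B.C) := by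
      rw [Sylow.coe_subgroup_smul]
      exact ⟨_, hS (mem_zpowers _), rfl⟩
    rw [hc] at h1
    exact h1
  obtain ⟨y, hy⟩ : ∃ y, y = (c : G) * u * (c : G)⁻¹ := ⟨_, rfl⟩
  rw [← hy] at hm
  have hy3 : y ^ 3 = 1 := by rw [hy, conj_pow, hu3, mul_one, mul_inv_cancel]
  obtain ⟨r, hr, hrJ⟩ := exists_r h
  obtain ⟨j, hj, n, hn, hye⟩ := three_cosets hJP (by rw [hP, B.J_card]) (hRP hr) hrJ (B.R_exp r hr) hm
  have hin : y ∈ B.J ∨ y ∈ B.R := by
    by_cases hjR : j ∈ B.R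
    · exact Or.inr (hye ▸ B.R.mul_mem hjR (B.R.pow_mem hr n))
    rcases Nat.eq_zero_or_pos n with rfl | hn0
    · exact Or.inl (by rw [hye, pow_zero, mul_one]; exact hj)
    exfalso
    obtain ⟨ρ, hρ, hρR, hρJ⟩ : ∃ ρ, ρ = r ^ n ∧ ρ ∈ B.R ∧ ρ ∉ B.J := by
      refine ⟨_, rfl, B.R.pow_mem hr n, fun hJ' => hrJ ?_⟩
      interval_cases n
      · simpa using hJ'
      · have h1 := B.J.inv_mem hJ'
        rwa [inv_eq_of_mul_eq_one_right (a := r ^ 2) (b := r) (by rw [← pow_succ]; exact B.R_exp r hr)] at h1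
    obtain ⟨hvJ, hvR, hvZ⟩ := qc_b_r h hj hjR hρR hρJ
    rw [← hρ] at hye
    obtain ⟨v, hv⟩ : ∃ v, v = qc j ρ := ⟨_, rfl⟩
    rw [← hv] at hvJ hvR hvZ
    have hcne : qc v ρ ≠ 1 := nondeg h hvJ hvR hvZ hρR hρJ
    obtain ⟨c', hc'⟩ : ∃ c', c' = qc v ρ := ⟨_, rfl⟩
    have hcJ : c' ∈ B.J := hc' ▸ za_le_J h (qc_mem h hvR hρR)
    have hρ3 : ρ ^ 3 = 1 := B.R_exp ρ hρR
    have e1 : ρ * j * ρ⁻¹ = v⁻¹ * j := by rw [hv]; unfold qc; group
    have e2 : ρ * v⁻¹ * ρ⁻¹ = v⁻¹ * c' := by rw [hc']; unfold qc; group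
    have e3 : y ^ 3 = j * (ρ * j * ρ⁻¹) * (ρ * (ρ * j * ρ⁻¹) * ρ⁻¹) * ρ ^ 3 := by
      rw [hye]; simp only [pow_succ, pow_zero, one_mul]; group
    rw [e1, show ρ * (v⁻¹ * j) * ρ⁻¹ = (ρ * v⁻¹ * ρ⁻¹) * (ρ * j * ρ⁻¹) by group, e1, e2, hρ3, mul_one,
      hy3] at e3
    have hjv : Commute j v⁻¹ := B.J_comm j hj _ (B.J.inv_mem hvJ)
    have hcv : Commute c' v⁻¹ := B.J_comm c' hcJ _ (B.J.inv_mem hvJ)
    have hcj : Commute c' j := B.J_comm c' hcJ j hj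
    have e4 : j * (v⁻¹ * j) * (v⁻¹ * c' * (v⁻¹ * j)) = j ^ 3 * (v⁻¹) ^ 3 * c' := by
      calc j * (v⁻¹ * j) * (v⁻¹ * c' * (v⁻¹ * j))
          = (j * v⁻¹) * ((j * v⁻¹) * (c' * (v⁻¹ * j))) := by group
        _ = (j * v⁻¹) * ((j * v⁻¹) * ((v⁻¹ * j) * c')) := by rw [(hcv.mul_right hcj).eq]
        _ = (j * v⁻¹) * ((j * v⁻¹) * ((j * v⁻¹) * c')) := by rw [hjv.eq]
        _ = (j * v⁻¹) ^ 3 * c' := by simp only [pow_succ, pow_zero, one_mul, mul_assoc]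
        _ = _ := by rw [hjv.mul_pow]
    rw [e4, B.J_exp j hj, B.J_exp v⁻¹ (B.J.inv_mem hvJ), one_mul, one_mul] at e3
    exact hcne (hc' ▸ e3.symm)
  rcases hin with h' | h'
  · exact ⟨c, c.2, hy ▸ h'⟩
  · obtain ⟨c', hc', hc''⟩ := R_into_J h h'
    refine ⟨c' * c, B.C.mul_mem hc' c.2, ?_⟩
    rw [show c' * c * u * (c' * c)⁻¹ = c' * ((c : G) * u * (c : G)⁻¹) * c'⁻¹ by group, ← hy]
    exact hc''

end Base

end CfsgLib.Recog.SpSixThree
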