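import Cfsg.Agent.Lib.Recog.SpSixThree.Cases

/-!
# `M/J` is `S₄` when `a` is not conjugate to its inverse
-/

set_option autoImplicit false
set_option linter.unusedSectionVars false

namespace CfsgLib.Recog.SpSixThree

open Subgroup

/-- The four isotropic vectors in the orbit of `(1,1,1)` under even signed permutations. -/
def quad (i : Fin 4) : Vec := fun j => if i.val = 0 ∨ j.val + 1 = i.val then 1 else 2

theorem quad_code : ∀ w : Code, (((w.1 0) ^^ (w.1 1)) ^^ (w.1 2)) = false →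
    ∃ π : Equiv.Perm (Fin 4), ∀ i, sact w (quad i) = quad (π i) := by decide +kernel

theorem quad_inj : ∀ i j : Fin 4, quad i = quad j → i = j := by decide +kernel

theorem quad_faithful : ∀ w : Code, (((w.1 0) ^^ (w.1 1)) ^^ (w.1 2)) = false →
    (∀ i, sact w (quad i) = quad i) → w = ((fun _ => false), 1) := by decide +kernel

theorem quad_surj : ∀ π : Equiv.Perm (Fin 4),
    ∃ w : Code, (((w.1 0) ^^ (w.1 1)) ^^ (w.1 2)) = false ∧ ∀ i, sact w (quad i) = quad (π i) := by
  decide +kernel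

namespace Frame

variable {G : Type*} [Group G] [Finite G] {B : Base G} (F : Frame B)

include F in
/-- For `a` not conjugate to its inverse, `M/J` is `S₄`. -/
theorem perm_four (h : ¬ B.Inv) : ∃ φ : ↥B.M →* Equiv.Perm (Fin 4),
    Function.Surjective φ ∧ φ.ker.map B.M.subtype = B.J := by
  classical
  have hex : ∀ g : ↥B.M, ∃ π : Equiv.Perm (Fin 4),
      ∀ i, (g : G) * F.el (quad i) * (g : G)⁻¹ = F.el (quad (π i)) := by
    intro g
    obtain ⟨w, hw⟩ := F.code g g.2
    obtain ⟨π, hπ⟩ := quad_code w (F.code_even_of_not_inv h g.2 hw)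
    exact ⟨π, fun i => by rw [← hπ i]; exact hw _⟩
  choose q hq using hex
  have hqu : ∀ (g : ↥B.M) (π : Equiv.Perm (Fin 4)),
      (∀ i, (g : G) * F.el (quad i) * (g : G)⁻¹ = F.el (quad (π i))) → q g = π := fun g π hπ =>
    Equiv.ext fun i => quad_inj _ _ (F.el_inj.1 ((hq g i).symm.trans (hπ i)))
  let φ : ↥B.M →* Equiv.Perm (Fin 4) := MonoidHom.mk' q fun g k => hqu _ _ fun i => by
    rw [Subgroup.coe_mul, show (g : G) * k * F.el (quad i) * ((g : G) * k)⁻¹ =
      (g : G) * ((k : G) * F.el (quad i) * (k : G)⁻¹) * (g : G)⁻¹ by group, hq, hq,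
      Equiv.Perm.mul_apply]
  refine ⟨φ, fun π => ?_, ?_⟩
  · obtain ⟨w, hw, hwπ⟩ := quad_surj π
    obtain ⟨g, hg, hga⟩ := F.lift w hw
    exact ⟨⟨g, hg⟩, hqu _ _ fun i => by rw [← hwπ i]; exact hga _⟩
  · ext x
    constructor
    · rintro ⟨g, hg, rfl⟩
      obtain ⟨w, hw⟩ := F.code g g.2
      refine F.mem_J_of_acts ?_
      rw [← quad_faithful w (F.code_even_of_not_inv h g.2 hw) fun i => F.el_inj.1 ((hw _).symm.trans ?_)]
      · exact hw
      · have h1 := hq g i
        rw [show q g = 1 from hg] at h1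
        exact h1
    · intro hx
      refine ⟨⟨x, B.J_le_P0.trans B.P0_le_M hx⟩, hqu _ 1 fun i => ?_, rfl⟩
      show x * F.el (quad i) * x⁻¹ = _
      rw [B.J_comm x hx _ (F.el_mem _), mul_inv_cancel_right]
      rfl

end Frame

end CfsgLib.Recog.SpSixThree
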