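import Cfsg.Agent.Lib.Recog.SpSixThree.Closed
import Cfsg.Agent.Lib.Comp.SFT.Main
import Cfsg.Agent.Lib.FT.OddOrder
import Mathlib.GroupTheory.SchurZassenhaus

/-!
Two commuting four-groups whose involutions are the members of a class in a Sylow subgroup: the centralisers
of their products lie in the normaliser, and the product is strongly closed.
-/

set_option autoImplicit false
set_option linter.style.haveILetI false
set_option linter.unusedSectionVars false

namespace CfsgLib.Recog.SpSixThree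

open Subgroup CfsgLib.Invol

universe u

variable {G : Type u} [Group G] [Finite G]

/-- The odd core of a centraliser. -/
def oc (a : G) : Subgroup G :=
  (Cfsg.oddCore (centralizer ({a} : Set G))).map (centralizer ({a} : Set G)).subtype

theorem oc_le (a : G) : oc a ≤ centralizer ({a} : Set G) := map_subtype_le _

theorem odd_oc (a : G) : Odd (Nat.card (oc a)) := by
  rw [oc, card_map_of_injective (centralizer ({a} : Set G)).subtype_injective]
  exact odd_card_oddCore _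

theorem oc_conj_mem {a g x : G} (hg : g * a = a * g) (hx : x ∈ oc a) : g * x * g⁻¹ ∈ oc a := by
  obtain ⟨w, hw, rfl⟩ := hx
  exact ⟨⟨g, mem_cent.2 hg⟩ * w * ⟨g, mem_cent.2 hg⟩⁻¹,
    (CfsgLib.Solvable.pPrimeCore_normal 2 _).conj_mem w hw _, rfl⟩

theorem le_oc {a : G} {X : Subgroup G} (hX : X ≤ centralizer ({a} : Set G)) (hodd : Odd (Nat.card X))
    (hn : ∀ g ∈ centralizer ({a} : Set G), ∀ x ∈ X, g * x * g⁻¹ ∈ X) : X ≤ oc a := by
  intro x hx
  have hnorm : (X.subgroupOf (centralizer ({a} : Set G))).Normal := ⟨fun u hu g => hn g g.2 u hu⟩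
  refine ⟨⟨x, hX hx⟩, le_oddCore hnorm ?_ (mem_subgroupOf.2 hx), rfl⟩
  rwa [Nat.card_congr (subgroupOfEquivOfLe hX).toEquiv]

theorem oc_map (g a : G) {x : G} (hx : x ∈ oc a) : g * x * g⁻¹ ∈ oc (g * a * g⁻¹) := by
  refine le_oc (X := (oc a).map (MulAut.conj g).toMonoidHom) ?_ ?_ ?_ ⟨x, hx, rfl⟩
  · rintro _ ⟨y, hy, rfl⟩
    rw [mem_cent, MulEquiv.coe_toMonoidHom, MulAut.conj_apply,
      show g * y * g⁻¹ * (g * a * g⁻¹) = g * (y * a) * g⁻¹ by group, mem_cent.1 (oc_le a hy)]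
    group
  · rw [card_map_of_injective (MulAut.conj g).injective]
    exact odd_oc a
  · rintro c hc _ ⟨y, hy, rfl⟩
    refine ⟨g⁻¹ * c * g * y * (g⁻¹ * c * g)⁻¹, oc_conj_mem ?_ hy, by simp [mul_assoc]⟩
    have := mem_cent.1 hc
    calc g⁻¹ * c * g * a = g⁻¹ * (c * (g * a * g⁻¹)) * g := by group
      _ = g⁻¹ * (g * a * g⁻¹ * c) * g := by rw [this]
      _ = a * (g⁻¹ * c * g) := by group

/-- An involution normalising a subgroup of odd order: each element is fixed up to an inverted one. -/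
theorem exists_fixed {R : Subgroup G} {e r : G} (hodd : Odd (Nat.card R)) (he : e * e = 1)
    (hn : ∀ x ∈ R, e * x * e ∈ R) (hr : r ∈ R) :
    ∃ t ∈ zpowers (r⁻¹ * (e * r * e)), e * (r * t) * e = r * t := by
  set w := r⁻¹ * (e * r * e) with hw
  have hei : e⁻¹ = e := inv_eq_of_mul_eq_one_right he
  have hinv : e * w * e = w⁻¹ := by
    rw [hw, mul_inv_rev, mul_inv_rev, mul_inv_rev, inv_inv, hei]
    calc e * (r⁻¹ * (e * r * e)) * e = e * r⁻¹ * e * r * (e * e) := by group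
      _ = e * (r⁻¹ * e) * r := by rw [he, mul_one]; group
  have hwR : w ∈ R := mul_mem (inv_mem hr) (hn r hr)
  obtain ⟨m, hm⟩ : ∃ m, orderOf w = 2 * m + 1 :=
    hodd.of_dvd_nat (Subgroup.orderOf_dvd_natCard _ hwR)
  refine ⟨w ^ (m + 1), Subgroup.pow_mem _ (mem_zpowers w) _, ?_⟩
  have h2 : w ^ (m + 1) * w ^ (m + 1) = w := by
    rw [← pow_add, show m + 1 + (m + 1) = (2 * m + 1) + 1 by omega, ← hm, pow_succ, pow_orderOf_eq_one,
      one_mul]
  have hp : e * w ^ (m + 1) * e = (w ^ (m + 1))⁻¹ := by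
    have := (conj_pow (i := m + 1) (a := e) (b := w))
    rw [hei, hinv, inv_pow] at this
    exact this.symm
  calc e * (r * w ^ (m + 1)) * e = e * r * (e * e) * w ^ (m + 1) * e := by rw [he, mul_one]; group
    _ = (e * r * e) * (e * w ^ (m + 1) * e) := by group
    _ = r * w * (w ^ (m + 1))⁻¹ := by
      rw [hp, show e * r * e = r * w by rw [hw, mul_inv_cancel_left]]
    _ = r * (w ^ (m + 1) * w ^ (m + 1)) * (w ^ (m + 1))⁻¹ := by rw [h2]
    _ = r * w ^ (m + 1) := by group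

/-- An involution of the normaliser fixes at least four of the sixteen. -/
theorem four_le_fixed {P : Subgroup G} {x : G} (hc : ∀ a ∈ P, ∀ b ∈ P, a * b = b * a)
    (he : ∀ a ∈ P, a * a = 1) (hcard : Nat.card P = 16) (hx : x ∈ normalizer (P : Set G))
    (hxx : ∀ p ∈ P, x * x * p = p * (x * x)) : 4 ≤ Nat.card ↥(P ⊓ centralizer ({x} : Set G)) := by
  have hxP : ∀ p ∈ P, x * p * x⁻¹ ∈ P := fun p hp => (mem_normalizer_iff.1 hx p).1 hp
  let f : P →* G := MonoidHom.mk' (fun p => (p : G) * (x * p * x⁻¹)) fun a b => by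
    show (a : G) * b * (x * (a * b) * x⁻¹) = a * (x * a * x⁻¹) * (b * (x * b * x⁻¹))
    have e1 := hc b b.2 _ (hxP a a.2)
    calc (a : G) * b * (x * (a * b) * x⁻¹) = a * ((b : G) * (x * a * x⁻¹)) * (x * b * x⁻¹) := by group
      _ = a * ((x * a * x⁻¹) * b) * (x * b * x⁻¹) := by rw [e1]
      _ = a * (x * a * x⁻¹) * (b * (x * b * x⁻¹)) := by group
  have hker : f.ker.map P.subtype ≤ P ⊓ centralizer ({x} : Set G) := by
    rintro _ ⟨p, hp, rfl⟩
    refine ⟨p.2, mem_cent.2 ?_⟩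
    have h1 : (p : G) * (x * p * x⁻¹) = 1 := hp
    have h2 : x * p * x⁻¹ = p := by
      have := congrArg (fun t => (p : G) * t) h1
      simpa [← mul_assoc, he p p.2] using this
    exact (conj_fix h2).symm
  have him : f.range ≤ P ⊓ centralizer ({x} : Set G) := by
    rintro _ ⟨p, rfl⟩
    refine ⟨mul_mem p.2 (hxP p p.2), mem_cent.2 (conj_fix ?_).symm⟩
    show x * ((p : G) * (x * p * x⁻¹)) * x⁻¹ = (p : G) * (x * p * x⁻¹)
    rw [show x * ((p : G) * (x * p * x⁻¹)) * x⁻¹ = (x * p * x⁻¹) * (x * x * p * (x * x)⁻¹) by group,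
      hxx p p.2, mul_inv_cancel_right, hc _ (hxP p p.2) p p.2]
  have h2 := Subgroup.card_eq_card_quotient_mul_card_subgroup f.ker
  rw [hcard, Nat.card_congr (QuotientGroup.quotientKerEquivRange f).toEquiv] at h2
  have h3 := card_le_of_le him
  have h4 := card_le_of_le hker
  rw [card_map_of_injective P.subtype_injective] at h4
  by_contra hlt
  push Not at hlt
  have h5 : Nat.card f.range * Nat.card f.ker ≤ 3 * 3 :=
    Nat.mul_le_mul (h3.trans (by omega)) (h4.trans (by omega))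
  omega

/-- Two commuting four-groups, their involutions being the members of a class in a Sylow subgroup. -/
structure Six (G : Type u) [Group G] [Finite G] where
  /-- The product of the two four-groups. -/
  P : Subgroup G
  /-- The first four-group. -/
  Va : Subgroup G
  /-- The second four-group. -/
  Vb : Subgroup G
  /-- The class. -/
  K : Set G
  /-- The Sylow subgroup. -/
  S : Sylow 2 G
  comm : ∀ a ∈ P, ∀ b ∈ P, a * b = b * a
  exp : ∀ a ∈ P, a * a = 1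
  card_P : Nat.card P = 16
  le_a : Va ≤ P
  le_b : Vb ≤ P
  card_a : Nat.card Va = 4
  card_b : Nat.card Vb = 4
  disj : ∀ x, x ∈ Va → x ∈ Vb → x = 1
  decomp : ∀ p ∈ P, ∃ a ∈ Va, ∃ b ∈ Vb, p = a * b
  conj_K : ∀ g : G, ∀ x ∈ K, g * x * g⁻¹ ∈ K
  P_le_S : P ≤ S
  mem_K : ∀ x ∈ (S : Subgroup G), x ∈ K ↔ x ≠ 1 ∧ (x ∈ Va ∨ x ∈ Vb)
  cent_a : centralizer (Va : Set G) ≤ normalizer (P : Set G)
  cent_b : centralizer (Vb : Set G) ≤ normalizer (P : Set G)
  odd_cent : ∀ x ∈ centralizer (P : Set G), Odd (orderOf x) → x = 1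
  signalizer : ∀ R : Subgroup G, Odd (Nat.card R) → normalizer (P : Set G) ≤ normalizer (R : Set G) → R = ⊥
  no_quad : ∀ x ∈ normalizer (P : Set G), ∀ y ∈ normalizer (P : Set G), x * x = 1 → y * y = 1 →
    x * y = y * x → x ∉ centralizer (P : Set G) → y ∉ centralizer (P : Set G) →
    x * y ∉ centralizer (P : Set G) → (∀ p ∈ P, p * x = x * p ↔ p * y = y * p) → False

namespace Six

variable (h : Six G)

/-- The normaliser. -/
abbrev N : Subgroup G := normalizer (h.P : Set G)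

theorem P_isPGroup : IsPGroup 2 h.P := h.S.isPGroup'.to_le h.P_le_S

/-- The two four-groups interchanged. -/
def swap : Six G :=
  { h with
    Va := h.Vb
    Vb := h.Va
    le_a := h.le_b
    le_b := h.le_a
    card_a := h.card_b
    card_b := h.card_a
    disj := fun x hb ha => h.disj x ha hb
    decomp := fun p hp => by
      obtain ⟨a, ha, b, hb, e⟩ := h.decomp p hp
      exact ⟨b, hb, a, ha, e.trans (h.comm a (h.le_a ha) b (h.le_b hb))⟩
    mem_K := fun x hx => (h.mem_K x hx).trans (and_congr_right fun _ => or_comm)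
    cent_a := h.cent_b
    cent_b := h.cent_a }

theorem six_K {x : G} (hx : x ≠ 1) (hm : x ∈ h.Va ∨ x ∈ h.Vb) : x ∈ h.K :=
  (h.mem_K x (h.P_le_S (hm.elim (fun e => h.le_a e) fun e => h.le_b e))).2 ⟨hx, hm⟩

theorem K_of_mem {x : G} (hx : x ∈ h.P) (hK : x ∈ h.K) : x ≠ 1 ∧ (x ∈ h.Va ∨ x ∈ h.Vb) :=
  (h.mem_K x (h.P_le_S hx)).1 hK

/-- In a `2`-group containing the sixteen, the class consists of the six. -/
theorem K_two {T : Subgroup G} (hT : IsPGroup 2 T) (hP : h.P ≤ T) {x : G} (hx : x ∈ T) (hK : x ∈ h.K) :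
    x ≠ 1 ∧ (x ∈ h.Va ∨ x ∈ h.Vb) := by
  haveI : Fact (Nat.Prime 2) := ⟨Nat.prime_two⟩
  obtain ⟨T', hT'⟩ := hT.exists_le_sylow
  obtain ⟨f, hf⟩ := MulAction.exists_smul_eq G h.S T'
  have key : ∀ y ∈ T, y ∈ h.K → f⁻¹ * y * f ≠ 1 ∧ (f⁻¹ * y * f ∈ h.Va ∨ f⁻¹ * y * f ∈ h.Vb) := by
    intro y hy hyK
    have hy' : y ∈ (T' : Subgroup G) := hT' hy
    rw [← hf, Sylow.coe_subgroup_smul] at hy'
    obtain ⟨s, hs, e⟩ := hy'
    have e' : f * s * f⁻¹ = y := e
    have hs2 : s = f⁻¹ * y * f := by rw [← e']; group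
    refine (h.mem_K _ (hs2 ▸ hs)).1 ?_
    simpa using h.conj_K f⁻¹ y hyK
  let X := {y : G // y ≠ 1 ∧ (y ∈ h.Va ∨ y ∈ h.Vb)}
  let F : X → X := fun y => ⟨f⁻¹ * y.1 * f,
    key y.1 (hP (y.2.2.elim (fun e => h.le_a e) fun e => h.le_b e)) (h.six_K y.2.1 y.2.2)⟩
  have hF : Function.Injective F := fun a b e =>
    Subtype.ext (mul_left_cancel (mul_right_cancel (congrArg Subtype.val e)))
  obtain ⟨y, hy⟩ := (Finite.injective_iff_surjective.1 hF) ⟨_, key x hx hK⟩
  have e : f⁻¹ * y.1 * f = f⁻¹ * x * f := congrArg Subtype.val hy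
  exact (mul_left_cancel (mul_right_cancel e)) ▸ y.2

theorem six_mem {x : G} (hm : x ≠ 1 ∧ (x ∈ h.Va ∨ x ∈ h.Vb)) : x ∈ h.P :=
  hm.2.elim (fun e => h.le_a e) fun e => h.le_b e

/-- Weak closure. -/
theorem weakly {T : Subgroup G} (hT : IsPGroup 2 T) (hP : h.P ≤ T) {g : G}
    (hg : ∀ p ∈ h.P, g * p * g⁻¹ ∈ T) : g ∈ h.N := by
  have hle : ∀ p ∈ h.P, g * p * g⁻¹ ∈ h.P := by
    have h1 : ∀ a, (a ∈ h.Va ∨ a ∈ h.Vb) → g * a * g⁻¹ ∈ h.P := by
      intro a ha
      by_cases e : a = 1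
      · simp [e]
      exact h.six_mem (h.K_two hT hP (hg a (ha.elim (fun e => h.le_a e) fun e => h.le_b e))
        (h.conj_K g a (h.six_K e ha)))
    intro p hp
    obtain ⟨a, ha, b, hb, rfl⟩ := h.decomp p hp
    rw [show g * (a * b) * g⁻¹ = g * a * g⁻¹ * (g * b * g⁻¹) by group]
    exact mul_mem (h1 a (Or.inl ha)) (h1 b (Or.inr hb))
  have he : h.P.map (MulAut.conj g).toMonoidHom = h.P := by
    refine eq_of_le_of_card_ge ?_
      (Nat.card_congr (h.P.equivMapOfInjective _ (MulAut.conj g).injective).toEquiv).le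
    rintro _ ⟨p, hp, rfl⟩
    exact hle p hp
  refine mem_normalizer_iff.2 fun x => ⟨fun hx => hle x hx, fun hx => ?_⟩
  rw [← he] at hx
  obtain ⟨p, hp, e⟩ := hx
  rw [MulEquiv.coe_toMonoidHom, MulAut.conj_apply] at e
  rwa [← mul_left_cancel (mul_right_cancel e)]

theorem mem_norm_of {g : G} (hg : ∀ p ∈ h.P, g * p * g⁻¹ ∈ h.N) : g ∈ h.N := by
  have hQ : h.P.map (MulAut.conj g).toMonoidHom ≤ h.N := by
    rintro _ ⟨p, hp, rfl⟩; exact hg p hp
  exact h.weakly (h.P_isPGroup.to_sup_of_normal_left' (h.P_isPGroup.map _) hQ) le_sup_left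
    fun p hp => le_sup_right (a := h.P) ⟨p, hp, rfl⟩

/-- Fusion inside the sixteen, in the centraliser of one of its elements. -/
theorem fuse {a x c : G} (ha : a ∈ h.P) (hx : x ∈ h.P) (hc : c * a = a * c) (hcx : c * x * c⁻¹ ∈ h.P) :
    ∃ n ∈ h.N, n * a = a * n ∧ n * x * n⁻¹ = c * x * c⁻¹ := by
  haveI : Fact (Nat.Prime 2) := ⟨Nat.prime_two⟩
  set y := c * x * c⁻¹ with hy
  let M : Subgroup G := centralizer ({a, y} : Set G)
  have hmem : ∀ g : G, g ∈ M ↔ g * a = a * g ∧ g * y = y * g := fun g => by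
    simp only [M, mem_centralizer_iff, Set.mem_insert_iff, Set.mem_singleton_iff, forall_eq_or_imp, forall_eq]
    exact ⟨fun e => ⟨e.1.symm, e.2.symm⟩, fun e => ⟨e.1.symm, e.2.symm⟩⟩
  have hPM : h.P ≤ M := fun p hp => (hmem p).2 ⟨h.comm p hp a ha, h.comm p hp y hcx⟩
  have hQM : h.P.map (MulAut.conj c).toMonoidHom ≤ M := by
    rintro _ ⟨p, hp, rfl⟩
    refine (hmem _).2 ⟨?_, ?_⟩
    · have e : c * a * c⁻¹ = a := by rw [hc, mul_inv_cancel_right]
      calc c * p * c⁻¹ * a = c * p * c⁻¹ * (c * a * c⁻¹) := by rw [e]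
        _ = c * (p * a) * c⁻¹ := by group
        _ = c * (a * p) * c⁻¹ := by rw [h.comm p hp a ha]
        _ = (c * a * c⁻¹) * (c * p * c⁻¹) := by group
        _ = a * (c * p * c⁻¹) := by rw [e]
    · show c * p * c⁻¹ * (c * x * c⁻¹) = c * x * c⁻¹ * (c * p * c⁻¹)
      rw [show c * p * c⁻¹ * (c * x * c⁻¹) = c * (p * x) * c⁻¹ by group, h.comm p hp x hx]
      group
  obtain ⟨T₁, hT₁⟩ := (h.P_isPGroup.comap_subtype (K := M)).exists_le_sylow
  obtain ⟨T₂, hT₂⟩ := ((h.P_isPGroup.map (MulAut.conj c).toMonoidHom).comap_subtype (K := M)).exists_le_sylow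
  obtain ⟨d, hd⟩ := MulAction.exists_smul_eq M T₂ T₁
  refine ⟨(d : G) * c, ?_, ?_, ?_⟩
  · refine h.weakly (T := (T₁ : Subgroup M).map M.subtype) (T₁.isPGroup'.map _)
      (fun p hp => ⟨⟨p, hPM hp⟩, hT₁ (mem_subgroupOf.2 hp), rfl⟩) fun p hp => ?_
    have hq : c * p * c⁻¹ ∈ h.P.map (MulAut.conj c).toMonoidHom := ⟨p, hp, rfl⟩
    rw [← hd, Sylow.coe_subgroup_smul]
    refine ⟨d * ⟨_, hQM hq⟩ * d⁻¹, ⟨_, hT₂ (mem_subgroupOf.2 hq), rfl⟩, ?_⟩
    simp [mul_assoc]
  · rw [mul_assoc, hc, ← mul_assoc, ((hmem _).1 d.2).1, mul_assoc]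
  · rw [mul_inv_rev, show (d : G) * c * x * (c⁻¹ * (d : G)⁻¹) = d * (c * x * c⁻¹) * (d : G)⁻¹ by group,
      ← hy, ((hmem _).1 d.2).2, mul_inv_cancel_right]

/-- An element of the six, isolated modulo `a` in the centraliser of `a`. -/
theorem iso_quot {a e g : G} (ha : a ∈ h.P) (ha1 : a ≠ 1) (he : e ∈ h.P) (heK : e ∈ h.K) (hne : e ≠ a)
    (hn : ∀ n ∈ h.N, n * a = a * n → n * e * n⁻¹ = e ∨ n * e * n⁻¹ = a * e) (hg : g * a = a * g) :
    e * g * e⁻¹ * g⁻¹ ∈ oc a ∨ a * (e * g * e⁻¹ * g⁻¹) ∈ oc a := by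
  haveI : Fact (Nat.Prime 2) := ⟨Nat.prime_two⟩
  set M := centralizer ({a} : Set G) with hM
  have haM : a ∈ M := mem_cent.2 rfl
  have heM : e ∈ M := mem_cent.2 (h.comm e he a ha)
  set A : Subgroup M := zpowers ⟨a, haM⟩ with hA
  have hcentral : ∀ m : M, m * ⟨a, haM⟩ = ⟨a, haM⟩ * m := fun m => Subtype.ext (mem_cent.1 m.2)
  haveI hAn : A.Normal := ⟨fun x hx m => by
    obtain ⟨k, rfl⟩ := mem_zpowers_iff.1 hx
    rw [(Commute.zpow_right (hcentral m) k).eq, mul_inv_cancel_right]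
    exact zpow_mem (mem_zpowers _) k⟩
  have hAcases : ∀ x ∈ A, (x : G) = 1 ∨ (x : G) = a := by
    intro x hx
    obtain ⟨k, rfl⟩ := mem_zpowers_iff.1 hx
    rw [Subgroup.coe_zpow]
    obtain ⟨j, rfl | rfl⟩ := Int.even_or_odd' k
    · exact Or.inl (by rw [zpow_mul, zpow_two, h.exp a ha, one_zpow])
    · exact Or.inr (by rw [zpow_add, zpow_mul, zpow_two, h.exp a ha, one_zpow, one_mul, zpow_one])
  have hA2 : IsPGroup 2 A := fun x => ⟨1, Subtype.ext (Subtype.ext (by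
    rcases hAcases x x.2 with e1 | e1 <;> simp [pow_two, e1, h.exp a ha]))⟩
  let f : M →* M ⧸ A := QuotientGroup.mk' A
  let e' : M := ⟨e, heM⟩
  have hfe : f e' ≠ 1 := fun e1 => by
    rcases hAcases _ ((QuotientGroup.eq_one_iff e').1 e1) with e2 | e2
    · exact (h.K_of_mem he heK).1 e2
    · exact hne e2
  have hf2 : f e' * f e' = 1 := by
    rw [← map_mul, show e' * e' = 1 from Subtype.ext (h.exp e he), map_one]
  have hiso : Cfsg.IsIsolatedInvolution (f e') := by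
    refine ⟨invol_of_mul_self hf2 hfe, fun kq hk => ?_⟩
    obtain ⟨k, rfl⟩ : ∃ k, f k = kq := QuotientGroup.mk'_surjective A kq
    set hh : M := k * e' * k⁻¹ with hhh
    have e0 : f k * f e' * (f k)⁻¹ = f hh := by simp [hhh, f]
    rw [e0] at hk ⊢
    have hh2 : f hh * f hh = 1 := by
      rw [← e0, show f k * f e' * (f k)⁻¹ * (f k * f e' * (f k)⁻¹) = f k * (f e' * f e') * (f k)⁻¹ by group,
        hf2, mul_one, mul_inv_cancel]
    have h2p : ∀ q : M ⧸ A, q * q = 1 → IsPGroup 2 (zpowers q) := fun q hq x => ⟨1, Subtype.ext (by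
      obtain ⟨j, hj⟩ := mem_zpowers_iff.1 x.2
      rw [Subgroup.coe_pow, Subgroup.coe_one, ← hj, pow_one, pow_two, ← (Commute.refl q).mul_zpow, hq,
        one_zpow])⟩
    have hnorm : zpowers (f hh) ≤ normalizer ((zpowers (f e') : Subgroup (M ⧸ A)) : Set (M ⧸ A)) := by
      refine le_trans ?_ (centralizer_le_normalizer _)
      rw [CfsgLib.Comp.centralizer_zpowers]
      exact zpowers_le.2 (mem_cent.2 hk.eq.symm)
    have hD : IsPGroup 2 ((zpowers (f e') ⊔ zpowers (f hh)).comap f) := by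
      refine IsPGroup.comap_of_ker_isPGroup ((h2p _ hf2).to_sup_of_normal_left' (h2p _ hh2) hnorm) f ?_
      rw [QuotientGroup.ker_mk']
      exact hA2
    obtain ⟨T, hT⟩ := (h.P_isPGroup.comap_subtype (K := M)).exists_le_sylow
    obtain ⟨T₁, hT₁⟩ := hD.exists_le_sylow
    obtain ⟨c, hc⟩ := MulAction.exists_smul_eq M T₁ T
    have hin : ∀ x ∈ (zpowers (f e') ⊔ zpowers (f hh)).comap f, c * x * c⁻¹ ∈ (T : Subgroup M) := by
      intro x hx
      rw [← hc, Sylow.coe_subgroup_smul]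
      exact ⟨x, hT₁ hx, rfl⟩
    have hTG : IsPGroup 2 ((T : Subgroup M).map M.subtype) := T.isPGroup'.map _
    have hPT : h.P ≤ (T : Subgroup M).map M.subtype := fun p hp =>
      ⟨⟨p, mem_cent.2 (h.comm p hp a ha)⟩, hT (mem_subgroupOf.2 hp), rfl⟩
    have main : ∀ x : M, (x : G) ∈ h.K → c * x * c⁻¹ ∈ (T : Subgroup M) →
        ((c * x * c⁻¹ : M) : G) ∈ h.P := fun x hxK hx =>
      h.six_mem (h.K_two hTG hPT ⟨_, hx, rfl⟩ (h.conj_K c x hxK))
    have h1 := main e' heK (hin e' (le_sup_left (a := zpowers (f e')) (mem_zpowers _)))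
    have h2 := main hh (h.conj_K k e heK) (hin hh (le_sup_right (a := zpowers (f e')) (mem_zpowers _)))
    have img : ∀ m : M, ((m * e' * m⁻¹ : M) : G) ∈ h.P → f (m * e' * m⁻¹) = f e' := by
      intro m hm
      obtain ⟨n, hnN, hna, hne'⟩ := h.fuse ha he (mem_cent.1 m.2) hm
      have hfa : f ⟨a, haM⟩ = 1 := (QuotientGroup.eq_one_iff _).2 (mem_zpowers _)
      rcases hn n hnN hna with e1 | e1
      · exact congrArg f (Subtype.ext (hne'.symm.trans e1))
      · rw [show m * e' * m⁻¹ = (⟨a, haM⟩ : M) * e' from Subtype.ext (hne'.symm.trans e1), map_mul, hfa,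
          one_mul]
    have h3 := img c h1
    have h4 := img (c * k) (by
      rw [show c * k * e' * (c * k)⁻¹ = c * hh * c⁻¹ by rw [hhh]; group]; exact h2)
    rw [show c * k * e' * (c * k)⁻¹ = c * hh * c⁻¹ by rw [hhh]; group, ← h3] at h4
    simp only [map_mul, map_inv] at h4
    exact mul_left_cancel (mul_right_cancel h4)
  have hz := zstar_of_centralInvol centralInvol (M ⧸ A) _ hiso (f ⟨g, mem_cent.2 hg⟩)
  rw [← map_inv, ← map_inv, ← map_mul, ← map_mul, ← map_mul] at hz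
  set x : M := e' * ⟨g, mem_cent.2 hg⟩ * e'⁻¹ * (⟨g, mem_cent.2 hg⟩)⁻¹ with hx
  have hxG : (x : G) = e * g * e⁻¹ * g⁻¹ := rfl
  set L := (Cfsg.oddCore (M ⧸ A)).comap f with hL
  haveI hLn : L.Normal := (CfsgLib.Solvable.pPrimeCore_normal 2 (M ⧸ A)).comap f
  have hAL : A ≤ L := fun y hy => by
    rw [hL, mem_comap, show f y = 1 from (QuotientGroup.eq_one_iff y).2 hy]; exact one_mem _
  haveI : (A.subgroupOf L).Normal := hAn.subgroupOf L
  have hidx : (A.subgroupOf L).index = Nat.card (Cfsg.oddCore (M ⧸ A)) := by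
    have h1 := Subgroup.relIndex_comap (Cfsg.oddCore (M ⧸ A)) (f := f) (K := ⊥)
    rw [← relIndex]
    have h2 : A = (⊥ : Subgroup (M ⧸ A)).comap f := by
      rw [MonoidHom.comap_bot, QuotientGroup.ker_mk']
    conv_lhs => rw [h2, hL, relIndex_comap, map_comap_eq_self_of_surjective (QuotientGroup.mk'_surjective A)]
    rw [relIndex_bot_left]
  obtain ⟨H, hH⟩ := exists_left_complement'_of_coprime (N := A.subgroupOf L) (by
    rw [hidx, Nat.card_congr (subgroupOfEquivOfLe hAL).toEquiv]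
    obtain ⟨k, hk⟩ := IsPGroup.iff_card.1 hA2
    rw [hk]
    exact Nat.Coprime.pow_left _ (Nat.coprime_two_left.2 (odd_card_oddCore _)))
  have hHodd : Odd (Nat.card H) := by
    rw [← hH.index_eq_card, hidx]
    exact odd_card_oddCore _
  have hsplit : ∀ y : L, ∃ u ∈ H, ((y : M) : G) = ((u : M) : G) ∨ ((y : M) : G) = a * ((u : M) : G) := by
    intro y
    obtain ⟨⟨z, u⟩, e1⟩ := hH.symm.surjective y
    have e2 : (z : L) * (u : L) = y := e1
    have e3 : ((y : M) : G) = (((z : L) : M) : G) * (((u : L) : M) : G) := by rw [← e2]; rfl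
    rcases hAcases _ (mem_subgroupOf.1 z.2) with e4 | e4
    · exact ⟨u, u.2, Or.inl (by rw [e3, e4, one_mul])⟩
    · exact ⟨u, u.2, Or.inr (by rw [e3, e4])⟩
  have hHn : (H.map L.subtype).Normal := by
    refine ⟨?_⟩
    rintro _ ⟨u, hu, rfl⟩ m
    let y : L := ⟨m * (u : M) * m⁻¹, hLn.conj_mem _ u.2 m⟩
    have hyodd : Odd (orderOf ((y : M) : G)) := by
      show Odd (orderOf ((m : G) * ((u : M) : G) * (m : G)⁻¹))
      rw [orderOf_conj_eq, Subgroup.orderOf_coe, Subgroup.orderOf_coe]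
      exact hHodd.of_dvd_nat (Subgroup.orderOf_dvd_natCard _ hu)
    obtain ⟨v, hv, e1 | e1⟩ := hsplit y
    · exact ⟨v, hv, Subtype.ext e1.symm⟩
    · exfalso
      have hvodd : Odd (orderOf ((v : M) : G)) := by
        rw [Subgroup.orderOf_coe, Subgroup.orderOf_coe]
        exact hHodd.of_dvd_nat (Subgroup.orderOf_dvd_natCard _ hv)
      have hva : Commute a ((v : M) : G) := (mem_cent.1 (v : M).2).symm
      have hae : ((y : M) : G) * ((v : M) : G)⁻¹ = a := by rw [e1, mul_inv_cancel_right]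
      have hodd : Odd (orderOf a) := by
        rw [← hae]
        refine (hyodd.mul hvodd).of_dvd_nat ?_
        have hcm : Commute ((y : M) : G) ((v : M) : G)⁻¹ := by
          rw [e1]
          exact (hva.mul_left (Commute.refl _)).inv_right
        simpa using hcm.orderOf_mul_dvd_mul_orderOf
      exact ha1 (eq_one_of_sq_of_odd (h.exp a ha) hodd)
  have hHle : H.map L.subtype ≤ Cfsg.oddCore M :=
    le_oddCore hHn (by rw [card_map_of_injective L.subtype_injective]; exact hHodd)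
  obtain ⟨v, hv, e1 | e1⟩ := hsplit ⟨x, hz⟩
  · exact Or.inl ⟨_, hHle ⟨v, hv, rfl⟩, (hxG.symm.trans e1).symm⟩
  · refine Or.inr ⟨_, hHle ⟨v, hv, rfl⟩, ?_⟩
    have e2 : e * g * e⁻¹ * g⁻¹ = a * ((v : M) : G) := hxG.symm.trans e1
    rw [e2, ← mul_assoc, h.exp a ha, one_mul]
    rfl

theorem four_cases {V : Subgroup G} (hV : Nat.card V = 4) (he : ∀ x ∈ V, x * x = 1) {u u' x : G} (hu : u ∈ V)
    (hu1 : u ≠ 1) (hu' : u' ∈ V) (hu'1 : u' ≠ 1) (hne : u' ≠ u) (hx : x ∈ V) :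
    x = 1 ∨ x = u ∨ x = u' ∨ x = u * u' := by
  classical
  haveI := Fintype.ofFinite V
  by_contra hcon
  push Not at hcon
  have h5 : ({⟨1, one_mem V⟩, ⟨u, hu⟩, ⟨u', hu'⟩, ⟨u * u', mul_mem hu hu'⟩, ⟨x, hx⟩} : Finset V).card = 5 := by
    have n1 : u * u' ≠ 1 := fun e =>
      hne ((eq_inv_of_mul_eq_one_right e).trans (inv_eq_of_mul_eq_one_right (he u hu)))
    have n2 : u * u' ≠ u := fun e => hu'1 (mul_eq_left.1 e)
    have n3 : u * u' ≠ u' := fun e => hu1 (mul_eq_right.1 e)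
    rw [Finset.card_insert_of_notMem, Finset.card_insert_of_notMem, Finset.card_insert_of_notMem,
      Finset.card_insert_of_notMem, Finset.card_singleton] <;>
      simp [Subtype.ext_iff, Ne.symm hu1, Ne.symm hu'1, Ne.symm n1, Ne.symm n2, Ne.symm n3, Ne.symm hne,
        Ne.symm hcon.1, Ne.symm hcon.2.1, Ne.symm hcon.2.2.1, Ne.symm hcon.2.2.2]
  have h6 := Finset.card_le_univ ({⟨1, one_mem V⟩, ⟨u, hu⟩, ⟨u', hu'⟩, ⟨u * u', mul_mem hu hu'⟩, ⟨x, hx⟩} : Finset V)
  rw [h5, ← Nat.card_eq_fintype_card, hV] at h6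
  omega

theorem exists_other {V : Subgroup G} (hV : Nat.card V = 4) (u : G) : ∃ u' ∈ V, u' ≠ 1 ∧ u' ≠ u := by
  classical
  haveI := Fintype.ofFinite V
  by_contra hcon
  push Not at hcon
  have h2 : (Finset.univ : Finset V).image Subtype.val ⊆ {1, u} := by
    intro y hy
    obtain ⟨⟨z, hz⟩, -, rfl⟩ := Finset.mem_image.1 hy
    by_cases e : z = 1
    · simp [e]
    · simp [hcon z hz e]
  have h3 := (Finset.card_le_card h2).trans Finset.card_le_two
  rw [Finset.card_image_of_injective _ Subtype.val_injective, Finset.card_univ, ← Nat.card_eq_fintype_card,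
    hV] at h3
  omega

theorem conj_P {n x : G} (hn : n ∈ h.N) (hx : x ∈ h.P) : n * x * n⁻¹ ∈ h.P :=
  (mem_normalizer_iff.1 hn x).1 hx

theorem conj_six {n x : G} (hn : n ∈ h.N) (hx : x ≠ 1) (hm : x ∈ h.Va ∨ x ∈ h.Vb) :
    n * x * n⁻¹ ∈ h.Va ∨ n * x * n⁻¹ ∈ h.Vb :=
  (h.K_of_mem (h.conj_P hn (h.six_mem ⟨hx, hm⟩)) (h.conj_K n x (h.six_K hx hm))).2

theorem mul_notMem {a b : G} (ha : a ∈ h.Va) (ha1 : a ≠ 1) (hb : b ∈ h.Vb) (hb1 : b ≠ 1) :
    a * b ∉ h.Va ∧ a * b ∉ h.Vb :=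
  ⟨fun e => hb1 (h.disj b ((mul_mem_cancel_left ha).1 e) hb),
    fun e => ha1 (h.disj a ha ((mul_mem_cancel_right hb).1 e))⟩

theorem decomp_unique {a a' b b' : G} (ha : a ∈ h.Va) (ha' : a' ∈ h.Va) (hb : b ∈ h.Vb) (hb' : b' ∈ h.Vb)
    (e : a * b = a' * b') : a = a' ∧ b = b' := by
  have e1 : a'⁻¹ * a = b' * b⁻¹ := by
    calc a'⁻¹ * a = a'⁻¹ * (a * b) * b⁻¹ := by group
      _ = b' * b⁻¹ := by rw [e]; group
  have h0 := h.disj _ (mul_mem (inv_mem ha') ha) (e1 ▸ mul_mem hb' (inv_mem hb))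
  have h1 : a = a' := (inv_mul_eq_one.1 h0).symm
  exact ⟨h1, by rw [h1] at e; exact mul_left_cancel e⟩

/-- An element of the normaliser fixing a member of the six fixes its four-group. -/
theorem block_fix {n u x : G} (hn : n ∈ h.N) (hu : u ∈ h.Va) (hu1 : u ≠ 1) (hnu : n * u = u * n)
    (hx : x ∈ h.Va) (hx1 : x ≠ 1) : n * x * n⁻¹ ∈ h.Va := by
  by_cases hxu : x = u
  · rw [hxu, hnu, mul_inv_cancel_right]; exact hu
  rcases h.conj_six hn hx1 (Or.inl hx) with h1 | h1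
  · exact h1
  exfalso
  have hp1 : n * x * n⁻¹ ≠ 1 := fun e => hx1 (by simpa using e)
  have hprod : n * (u * x) * n⁻¹ = u * (n * x * n⁻¹) := by
    rw [show n * (u * x) * n⁻¹ = n * u * (x * n⁻¹) by group, hnu]
    group
  have hux : u * x ≠ 1 := fun e =>
    hxu ((eq_inv_of_mul_eq_one_right e).trans (inv_eq_of_mul_eq_one_right (h.exp u (h.le_a hu))))
  have := h.conj_six hn hux (Or.inl (mul_mem hu hx))
  rw [hprod] at this
  exact this.elim (h.mul_notMem hu hu1 h1 hp1).1 (h.mul_notMem hu hu1 h1 hp1).2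

/-- A subgroup of odd order of the normaliser, normalised by the sixteen, is trivial. -/
theorem odd_in_norm {R : Subgroup G} (hodd : Odd (Nat.card R)) (hP : ∀ p ∈ h.P, ∀ r ∈ R, p * r * p⁻¹ ∈ R)
    {r : G} (hr : r ∈ R) (hrN : r ∈ h.N) : r = 1 := by
  refine h.odd_cent r (mem_centralizer_iff.2 fun p hp => ?_) (hodd.of_dvd_nat (Subgroup.orderOf_dvd_natCard _ hr))
  have h1 : p * r * p⁻¹ * r⁻¹ ∈ R := mul_mem (hP p hp r hr) (inv_mem hr)
  have h2 : p * r * p⁻¹ * r⁻¹ ∈ h.P := by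
    rw [show p * r * p⁻¹ * r⁻¹ = p * (r * p⁻¹ * r⁻¹) by group]
    exact mul_mem hp (h.conj_P hrN (inv_mem hp))
  have h3 := eq_one_of_sq_of_odd (h.exp _ h2) (hodd.of_dvd_nat (Subgroup.orderOf_dvd_natCard _ h1))
  calc p * r = p * r * p⁻¹ * r⁻¹ * (r * p) := by group
    _ = r * p := by rw [h3, one_mul]

/-- A subgroup of odd order in the centraliser of `a`, normalised by the sixteen, lies in the odd core, if its
elements commuting with the isolated element do. -/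
theorem le_oc_of {a e : G} (ha : a ∈ h.P) (ha1 : a ≠ 1) (he : e ∈ h.P) (heK : e ∈ h.K) (hne : e ≠ a)
    (hn : ∀ n ∈ h.N, n * a = a * n → n * e * n⁻¹ = e ∨ n * e * n⁻¹ = a * e)
    {R : Subgroup G} (hodd : Odd (Nat.card R)) (hP : ∀ p ∈ h.P, ∀ r ∈ R, p * r * p⁻¹ ∈ R)
    (hR : R ≤ centralizer ({a} : Set G)) (hsub : ∀ r ∈ R, r * e = e * r → r ∈ oc a) : R ≤ oc a := by
  intro r hr
  have he2 := h.exp e he
  have hei : e⁻¹ = e := inv_eq_of_mul_eq_one_right he2
  have heR : ∀ x ∈ R, e * x * e ∈ R := fun x hx => by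
    have := hP e he x hx; rwa [hei] at this
  obtain ⟨t, ht, hte⟩ := exists_fixed hodd he2 heR hr
  have hra := mem_cent.1 (hR hr)
  have hcm : e * r * e⁻¹ * r⁻¹ ∈ oc a := by
    rcases h.iso_quot ha ha1 he heK hne hn hra with h1 | h1
    · exact h1
    exfalso
    set w := e * r * e⁻¹ * r⁻¹ with hw
    have hwR : w ∈ R := mul_mem (hP e he r hr) (inv_mem hr)
    have hwa : Commute w a := mem_cent.1 (hR hwR)
    have hcm2 : Commute (a * w) w⁻¹ := (hwa.symm.mul_left (Commute.refl w)).inv_right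
    have h2 : Odd (orderOf a) := by
      rw [show a = a * w * w⁻¹ by group]
      refine (((odd_oc a).of_dvd_nat (Subgroup.orderOf_dvd_natCard _ h1)).mul
        (hodd.of_dvd_nat (Subgroup.orderOf_dvd_natCard _ (inv_mem hwR)))).of_dvd_nat ?_
      exact hcm2.orderOf_mul_dvd_mul_orderOf
    exact ha1 (eq_one_of_sq_of_odd (h.exp a ha) h2)
  have hw0 : r⁻¹ * (e * r * e) ∈ oc a := by
    have h5 := oc_conj_mem (a := a) (g := r⁻¹)
      (show r⁻¹ * a = a * r⁻¹ from ((show Commute r a from hra).inv_left).eq) hcm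
    convert h5 using 1
    rw [hei]
    group
  have htoc : t ∈ oc a := zpowers_le.2 hw0 ht
  have htR : t ∈ R := zpowers_le.2 (mul_mem (inv_mem hr) (heR r hr)) ht
  have hfix : r * t * e = e * (r * t) := by
    calc r * t * e = e * (r * t) * e * e := by rw [hte]
      _ = e * (r * t) := by rw [mul_assoc (e * (r * t)), he2, mul_one]
  have := mul_mem (hsub _ (mul_mem hr htR) hfix) (inv_mem htoc)
  rwa [mul_inv_cancel_right] at this

theorem le_oc_a {u : G} (hu : u ∈ h.Va) (hu1 : u ≠ 1) {R : Subgroup G} (hodd : Odd (Nat.card R))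
    (hP : ∀ p ∈ h.P, ∀ r ∈ R, p * r * p⁻¹ ∈ R) (hR : R ≤ centralizer ({u} : Set G)) : R ≤ oc u := by
  obtain ⟨u', hu', hu'1, hne⟩ := exists_other h.card_a u
  refine h.le_oc_of (h.le_a hu) hu1 (h.le_a hu') (h.six_K hu'1 (Or.inl hu')) hne (fun n hn hnu => ?_) hodd hP hR
    fun r hr hre => ?_
  · rcases four_cases h.card_a (fun x hx => h.exp x (h.le_a hx)) hu hu1 hu' hu'1 hne
      (h.block_fix hn hu hu1 hnu hu' hu'1) with e | e | e | e
    · exact absurd e fun e => hu'1 (by simpa using e)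
    · exfalso
      refine hne (mul_left_cancel (mul_right_cancel (b := n⁻¹) (e.trans ?_)))
      rw [hnu, mul_inv_cancel_right]
    · exact Or.inl e
    · exact Or.inr e
  · have hr1 : r = 1 := h.odd_in_norm hodd hP hr (h.cent_a (mem_centralizer_iff.2 fun x hx => ?_))
    · rw [hr1]; exact one_mem _
    · rcases four_cases h.card_a (fun x hx => h.exp x (h.le_a hx)) hu hu1 hu' hu'1 hne hx with e | e | e | e
      · rw [e, one_mul, mul_one]
      · rw [e]; exact (mem_cent.1 (hR hr)).symm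
      · rw [e]; exact hre.symm
      · rw [e, mul_assoc, ← hre, ← mul_assoc, ← mem_cent.1 (hR hr), mul_assoc]

/-- The part of the odd core of a member of the six fixed by another element of the sixteen. -/
theorem le_oc_mixed {v₁ v₂ : G} (h1 : v₁ ∈ h.Va) (h11 : v₁ ≠ 1) (h2 : v₂ ∈ h.Vb) (h21 : v₂ ≠ 1)
    {R : Subgroup G} (hodd : Odd (Nat.card R)) (hP : ∀ p ∈ h.P, ∀ r ∈ R, p * r * p⁻¹ ∈ R)
    (hR : R ≤ centralizer ({v₁ * v₂} : Set G)) : R ≤ oc (v₁ * v₂) := by
  set w := v₁ * v₂ with hw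
  have hwP : w ∈ h.P := mul_mem (h.le_a h1) (h.le_b h2)
  have hcomm12 := h.comm _ (h.le_a h1) _ (h.le_b h2)
  have hww : w * v₁ = v₂ := by
    rw [hw, hcomm12, mul_assoc, h.exp _ (h.le_a h1), mul_one]
  have hw1 : w ≠ 1 := fun e => (h.mul_notMem h1 h11 h2 h21).1 (by rw [← hw, e]; exact one_mem _)
  have hn : ∀ n ∈ h.N, n * w = w * n → n * v₁ * n⁻¹ = v₁ ∨ n * v₁ * n⁻¹ = w * v₁ := by
    intro n hn hnw
    have e : (n * v₁ * n⁻¹) * (n * v₂ * n⁻¹) = v₁ * v₂ := by
      rw [show n * v₁ * n⁻¹ * (n * v₂ * n⁻¹) = n * w * n⁻¹ by rw [hw]; group, hnw, mul_inv_cancel_right]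
    have x1 : n * v₁ * n⁻¹ ≠ 1 := fun e => h11 (by simpa using e)
    have x2 : n * v₂ * n⁻¹ ≠ 1 := fun e => h21 (by simpa using e)
    rcases h.conj_six hn h11 (Or.inl h1) with ha | hb <;> rcases h.conj_six hn h21 (Or.inr h2) with ha' | hb'
    · exact absurd (e ▸ mul_mem ha ha') (h.mul_notMem h1 h11 h2 h21).1
    · exact Or.inl (h.decomp_unique ha h1 hb' h2 e).1
    · refine Or.inr ?_
      rw [h.comm _ (h.le_b hb) _ (h.le_a ha')] at e
      rw [hww]
      exact (h.decomp_unique ha' h1 hb h2 e).2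
    · exact absurd (e ▸ mul_mem hb hb') (h.mul_notMem h1 h11 h2 h21).2
  refine h.le_oc_of hwP hw1 (h.le_a h1) (h.six_K h11 (Or.inl h1)) (fun e => h21 (mul_eq_left.1 e.symm))
    hn hodd hP hR ?_
  intro r hr hre
  set D := oc v₁ ⊓ oc v₂ with hD
  have hrv2 : r * v₂ = v₂ * r := by
    rw [← hww]
    exact ((show Commute r w from mem_cent.1 (hR hr)).mul_right (show Commute r v₁ from hre)).eq
  have hrD : r ∈ D := by
    set R₁ := R ⊓ centralizer ({v₁} : Set G) with hR₁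
    set R₂ := R ⊓ centralizer ({v₂} : Set G) with hR₂
    have hc : ∀ v ∈ h.P, ∀ p ∈ h.P, ∀ x ∈ R ⊓ centralizer ({v} : Set G),
        p * x * p⁻¹ ∈ R ⊓ centralizer ({v} : Set G) := by
      intro v hv p hp x hx
      refine ⟨hP p hp x hx.1, mem_cent.2 ?_⟩
      calc p * x * p⁻¹ * v = p * x * (p⁻¹ * v) := by group
        _ = p * x * (v * p⁻¹) := by rw [h.comm _ (inv_mem hp) v hv]
        _ = p * (x * v) * p⁻¹ := by group
        _ = p * (v * x) * p⁻¹ := by rw [mem_cent.1 hx.2]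
        _ = (p * v) * x * p⁻¹ := by group
        _ = v * (p * x * p⁻¹) := by rw [h.comm p hp v hv]; group
    exact ⟨h.le_oc_a h1 h11 (hodd.of_dvd_nat (card_dvd_of_le inf_le_left)) (hc v₁ (h.le_a h1)) inf_le_right
        ⟨hr, mem_cent.2 hre⟩,
      h.swap.le_oc_a h2 h21 (hodd.of_dvd_nat (card_dvd_of_le inf_le_left)) (hc v₂ (h.le_b h2)) inf_le_right
        ⟨hr, mem_cent.2 hrv2⟩⟩
  -- the intersection is normalised, modulo the core, by the whole centraliser
  have hDC : D ≤ centralizer ({w} : Set G) := fun x hx => mem_cent.2 (by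
    rw [hw, ← mul_assoc, mem_cent.1 (oc_le _ hx.1), mul_assoc, mem_cent.1 (oc_le _ hx.2), mul_assoc])
  have hDnorm : D ≤ normalizer (oc w : Set G) := fun x hx => mem_normalizer_iff.2 fun y =>
    ⟨fun hy => oc_conj_mem (mem_cent.1 (hDC hx)) hy, fun hy => by
      have := oc_conj_mem (a := w) (g := x⁻¹) (mem_cent.1 (hDC (inv_mem hx))) hy
      simpa [mul_assoc] using this⟩
  set X := oc w ⊔ D with hX
  have hXC : X ≤ centralizer ({w} : Set G) := sup_le (oc_le w) hDC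
  have hXodd : Odd (Nat.card X) := by
    refine ((odd_oc w).mul ((odd_oc v₁).of_dvd_nat (card_dvd_of_le (inf_le_left : D ≤ oc v₁)))).of_dvd_nat ?_
    exact CfsgLib.Comp.card_sup_dvd_mul hDnorm
  have hXn : ∀ g ∈ centralizer ({w} : Set G), ∀ x ∈ X, g * x * g⁻¹ ∈ X := by
    intro g hg
    have hgw := mem_cent.1 hg
    obtain ⟨t, ht, m, hm, hmv⟩ : ∃ t ∈ oc w, ∃ m, g = t * m ∧
        (m * v₁ * m⁻¹ = v₁ ∨ m * v₁ * m⁻¹ = v₂) := by
      have hcg := h.iso_quot hwP hw1 (h.le_a h1) (h.six_K h11 (Or.inl h1))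
        (fun e => h21 (mul_eq_left.1 e.symm)) hn hgw
      have hvv := h.exp _ (h.le_a h1)
      have hvi : v₁⁻¹ = v₁ := inv_eq_of_mul_eq_one_right hvv
      set o := v₁ * g * v₁⁻¹ * g⁻¹ with ho
      have e0 : g * v₁ * g⁻¹ = v₁ * o := by
        rw [ho, hvi, ← mul_assoc, ← mul_assoc, ← mul_assoc, hvv, one_mul]
      obtain ⟨b, hb, o', ho', e1⟩ : ∃ b, (b = v₁ ∨ b = v₂) ∧ ∃ o' ∈ oc w, g * v₁ * g⁻¹ = b * o' := by
        rcases hcg with h1' | h1'
        · exact ⟨v₁, Or.inl rfl, o, h1', e0⟩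
        · refine ⟨v₂, Or.inr rfl, w * o, h1', ?_⟩
          rw [e0, ← hww, h.comm w hwP v₁ (h.le_a h1), mul_assoc, ← mul_assoc w w, h.exp w hwP, one_mul]
      have hbb : b * b = 1 := hb.elim (fun e => e ▸ hvv) fun e => e ▸ h.exp _ (h.le_b h2)
      have hbi : b⁻¹ = b := inv_eq_of_mul_eq_one_right hbb
      have hinv : b * o' * b = o'⁻¹ := by
        refine eq_inv_of_mul_eq_one_right ?_
        have h0 : (g * v₁ * g⁻¹) * (g * v₁ * g⁻¹) = 1 := by
          rw [show g * v₁ * g⁻¹ * (g * v₁ * g⁻¹) = g * (v₁ * v₁) * g⁻¹ by group, hvv, mul_one, mul_inv_cancel]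
        rw [e1] at h0
        calc o' * (b * o' * b) = b⁻¹ * (b * o' * (b * o')) * b := by group
          _ = 1 := by rw [h0, mul_one, inv_mul_cancel]
      obtain ⟨k, hk⟩ : ∃ k, orderOf o' = 2 * k + 1 :=
        (odd_oc w).of_dvd_nat (Subgroup.orderOf_dvd_natCard _ ho')
      have hs : o' ^ (k + 1) * o' ^ (k + 1) = o' := by
        rw [← pow_add, show k + 1 + (k + 1) = (2 * k + 1) + 1 by omega, ← hk, pow_succ, pow_orderOf_eq_one,
          one_mul]
      set s := o' ^ (k + 1) with hs'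
      have hbs : b * s * b = s⁻¹ := by
        have := (conj_pow (i := k + 1) (a := b) (b := o'))
        rw [hbi, hinv, inv_pow] at this
        exact this.symm
      refine ⟨s⁻¹, inv_mem (Subgroup.pow_mem _ ho' _), s * g, by group, ?_⟩
      have : s * g * v₁ * (s * g)⁻¹ = b := by
        calc s * g * v₁ * (s * g)⁻¹ = s * (g * v₁ * g⁻¹) * s⁻¹ := by group
          _ = s * b * (s * s) * s⁻¹ := by rw [e1, hs]; group
          _ = s * (b * s * b) * b⁻¹ := by group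
          _ = b := by rw [hbs, mul_inv_cancel, one_mul, hbi]
      rw [this]
      exact hb
    have hmw : m * w = w * m := by
      have e : m = t⁻¹ * g := by rw [hm]; group
      rw [e]
      exact ((show Commute t w from mem_cent.1 (oc_le w ht)).inv_left.mul_left (show Commute g w from hgw)).eq
    have hwm : m * w * m⁻¹ = w := by rw [hmw, mul_inv_cancel_right]
    have hmD : ∀ x ∈ D, m * x * m⁻¹ ∈ D := by
      intro x hx
      rcases hmv with e | e
      · have e2 : m * v₂ * m⁻¹ = v₂ := by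
          rw [← hww, show m * (w * v₁) * m⁻¹ = (m * w * m⁻¹) * (m * v₁ * m⁻¹) by group, hwm, e]
        exact ⟨e ▸ oc_map m v₁ hx.1, e2 ▸ oc_map m v₂ hx.2⟩
      · have e2 : m * v₂ * m⁻¹ = v₁ := by
          rw [← hww, show m * (w * v₁) * m⁻¹ = (m * w * m⁻¹) * (m * v₁ * m⁻¹) by group, hwm, e, ← hww,
            ← mul_assoc, h.exp w hwP, one_mul]
        exact ⟨e2 ▸ oc_map m v₂ hx.2, e ▸ oc_map m v₁ hx.1⟩
    have hle : X.map (MulAut.conj g).toMonoidHom ≤ X := by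
      rw [hX, Subgroup.map_sup]
      refine sup_le ?_ ?_
      · rintro _ ⟨x, hx, rfl⟩
        exact le_sup_left (b := D) (oc_conj_mem hgw hx)
      · rintro _ ⟨x, hx, rfl⟩
        rw [MulEquiv.coe_toMonoidHom, MulAut.conj_apply, hm,
          show t * m * x * (t * m)⁻¹ = t * (m * x * m⁻¹) * t⁻¹ by group]
        exact mul_mem (mul_mem (le_sup_left (b := D) ht) (le_sup_right (a := oc w) (hmD x hx)))
          (inv_mem (le_sup_left (b := D) ht))
    exact fun x hx => hle ⟨x, hx, rfl⟩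
  exact le_oc hXC hXodd hXn (le_sup_right (a := oc w) hrD)

theorem cases_P {p : G} (hp : p ∈ h.P) (hp1 : p ≠ 1) :
    p ∈ h.Va ∨ p ∈ h.Vb ∨ ∃ a ∈ h.Va, a ≠ 1 ∧ ∃ b ∈ h.Vb, b ≠ 1 ∧ p = a * b := by
  obtain ⟨a, ha, b, hb, rfl⟩ := h.decomp p hp
  by_cases ea : a = 1
  · exact Or.inr (Or.inl (by rw [ea, one_mul]; exact hb))
  by_cases eb : b = 1
  · exact Or.inl (by rw [eb, mul_one]; exact ha)
  exact Or.inr (Or.inr ⟨a, ha, ea, b, hb, eb, rfl⟩)

theorem le_oc_all {a : G} (ha : a ∈ h.P) (ha1 : a ≠ 1) {R : Subgroup G} (hodd : Odd (Nat.card R))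
    (hP : ∀ p ∈ h.P, ∀ r ∈ R, p * r * p⁻¹ ∈ R) (hR : R ≤ centralizer ({a} : Set G)) : R ≤ oc a := by
  rcases h.cases_P ha ha1 with hm | hm | ⟨x, hx, hx1, y, hy, hy1, rfl⟩
  · exact h.le_oc_a hm ha1 hodd hP hR
  · exact h.swap.le_oc_a hm ha1 hodd hP hR
  · exact h.le_oc_mixed hx hx1 hy hy1 hodd hP hR

/-- The odd cores are trivial. -/
theorem oc_eq_bot {a : G} (ha : a ∈ h.P) (ha1 : a ≠ 1) : oc a = ⊥ := by
  have hcm : ∀ a ∈ h.P, ∀ b ∈ h.P, ∀ x ∈ oc a, b * x * b⁻¹ ∈ oc a := fun a ha b hb x hx =>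
    oc_conj_mem (h.comm b hb a ha) hx
  obtain ⟨hodd, hrec⟩ := CfsgLib.Comp.SFT.solvable_functor_two h.P h.comm
    (fun x hx => by rw [pow_two]; exact h.exp x hx) (by rw [h.card_P]; norm_num) oc
    (fun b _ _ => oc_le b) (fun b _ _ => odd_of_not_dvd (odd_oc b)) (fun b hb _ p hp => hcm b hb p hp)
    (fun b _ _ => CfsgLib.FT.odd_order_solvable (odd_oc b))
    (fun b hb hb1 c hc hc1 => by
      refine h.le_oc_all hc hc1 ((odd_oc b).of_dvd_nat (card_dvd_of_le inf_le_left)) (fun p hp x hx => ?_)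
        inf_le_right
      refine ⟨hcm b hb p hp x hx.1, mem_cent.2 ?_⟩
      have := mem_cent.1 hx.2
      calc p * x * p⁻¹ * c = p * x * (p⁻¹ * c) := by group
        _ = p * x * (c * p⁻¹) := by rw [h.comm _ (inv_mem hp) c hc]
        _ = p * (x * c) * p⁻¹ := by group
        _ = p * (c * x) * p⁻¹ := by rw [this]
        _ = (p * c) * x * p⁻¹ := by group
        _ = c * (p * x * p⁻¹) := by rw [h.comm p hp c hc]; group)
  set Θ := ⨆ b : {b : G // b ∈ h.P ∧ b ≠ 1}, oc (b : G) with hΘ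
  have hbot : Θ = ⊥ := by
    refine h.signalizer Θ (Nat.odd_iff.2 (by omega)) fun n hn => ?_
    have hmap : ∀ m ∈ h.N, ∀ x ∈ Θ, m * x * m⁻¹ ∈ Θ := by
      intro m hm x hx
      have hle : Θ.map (MulAut.conj m).toMonoidHom ≤ Θ := by
        rw [hΘ, Subgroup.map_iSup]
        refine iSup_le fun b => ?_
        rintro _ ⟨y, hy, rfl⟩
        exact le_iSup (fun b : {b : G // b ∈ h.P ∧ b ≠ 1} => oc (b : G))
          ⟨m * b * m⁻¹, h.conj_P hm b.2.1, fun e => b.2.2 (by simpa using e)⟩ (oc_map m b hy)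
      exact hle ⟨x, hx, rfl⟩
    refine mem_normalizer_iff.2 fun x => ⟨hmap n hn x, fun hx => ?_⟩
    have := hmap n⁻¹ (inv_mem hn) _ hx
    simpa [mul_assoc] using this
  rw [eq_bot_iff, ← hrec a ha ha1, hΘ] at *
  intro x hx
  exact hbot hx.1

/-- The centralisers of the elements of the sixteen lie in the normaliser. -/
theorem cent {a : G} (ha : a ∈ h.P) (ha1 : a ≠ 1) : centralizer ({a} : Set G) ≤ h.N := by
  have key : ∀ (k : Six G), ∀ u ∈ k.Va, u ≠ 1 → centralizer ({u} : Set G) ≤ k.N := by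
    intro k u hu hu1 g hg
    have hgu := mem_cent.1 hg
    obtain ⟨u', hu', hu'1, hne⟩ := exists_other k.card_a u
    have hfix : g * u' * g⁻¹ ∈ k.Va := by
      have hn : ∀ n ∈ k.N, n * u = u * n → n * u' * n⁻¹ = u' ∨ n * u' * n⁻¹ = u * u' := by
        intro n hn hnu
        rcases four_cases k.card_a (fun x hx => k.exp x (k.le_a hx)) hu hu1 hu' hu'1 hne
          (k.block_fix hn hu hu1 hnu hu' hu'1) with e | e | e | e
        · exact absurd e fun e => hu'1 (by simpa using e)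
        · exfalso
          refine hne (mul_left_cancel (mul_right_cancel (b := n⁻¹) (e.trans ?_)))
          rw [hnu, mul_inv_cancel_right]
        · exact Or.inl e
        · exact Or.inr e
      have hoc := k.oc_eq_bot (k.le_a hu) hu1
      have hu'i : u'⁻¹ = u' := inv_eq_of_mul_eq_one_right (k.exp u' (k.le_a hu'))
      rcases k.iso_quot (k.le_a hu) hu1 (k.le_a hu') (k.six_K hu'1 (Or.inl hu')) hne hn hgu with h1 | h1 <;>
        rw [hoc, mem_bot] at h1
      · rw [show g * u' * g⁻¹ = u' * (u' * g * u'⁻¹ * g⁻¹) by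
          rw [hu'i, ← mul_assoc, ← mul_assoc, ← mul_assoc, k.exp u' (k.le_a hu'), one_mul], h1, mul_one]
        exact hu'
      · have e2 : u' * g * u'⁻¹ * g⁻¹ = u := by
          rw [← inv_eq_of_mul_eq_one_right (k.exp u (k.le_a hu))]
          exact eq_inv_of_mul_eq_one_right h1
        have e3 : g * u' * g⁻¹ = u' * (u' * g * u'⁻¹ * g⁻¹) := by
          rw [hu'i, ← mul_assoc, ← mul_assoc, ← mul_assoc, k.exp u' (k.le_a hu'), one_mul]
        rw [e3, e2]
        exact mul_mem hu' hu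
    have hgg : ∀ y ∈ k.Va, ∃ x ∈ k.Va, g * x * g⁻¹ = y := by
      have hmem : ∀ x ∈ k.Va, g * x * g⁻¹ ∈ k.Va := by
        intro x hx
        rcases four_cases k.card_a (fun x hx => k.exp x (k.le_a hx)) hu hu1 hu' hu'1 hne hx with e | e | e | e
        · simp [e]
        · rw [e, hgu, mul_inv_cancel_right]; exact hu
        · rw [e]; exact hfix
        · rw [e, show g * (u * u') * g⁻¹ = g * u * g⁻¹ * (g * u' * g⁻¹) by group, hgu, mul_inv_cancel_right]
          exact mul_mem hu hfix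
      let F : k.Va → k.Va := fun x => ⟨g * x * g⁻¹, hmem x x.2⟩
      have hF : Function.Injective F := fun a b e =>
        Subtype.ext (mul_left_cancel (mul_right_cancel (congrArg Subtype.val e)))
      intro y hy
      obtain ⟨x, hx⟩ := Finite.injective_iff_surjective.1 hF ⟨y, hy⟩
      exact ⟨x, x.2, congrArg Subtype.val hx⟩
    refine k.mem_norm_of fun p hp => k.cent_a (mem_centralizer_iff.2 fun y hy => ?_)
    obtain ⟨x, hx, rfl⟩ := hgg y hy
    calc g * x * g⁻¹ * (g * p * g⁻¹) = g * (x * p) * g⁻¹ := by group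
      _ = g * (p * x) * g⁻¹ := by rw [k.comm x (k.le_a hx) p hp]
      _ = g * p * g⁻¹ * (g * x * g⁻¹) := by group
  rcases h.cases_P ha ha1 with hm | hm | ⟨v₁, h1, h11, v₂, h2, h21, rfl⟩
  · exact key h a hm ha1
  · exact key h.swap a hm ha1
  intro g hg
  have hgw := mem_cent.1 hg
  set w := v₁ * v₂ with hw
  have hww : w * v₁ = v₂ := by
    rw [hw, h.comm _ (h.le_a h1) _ (h.le_b h2), mul_assoc, h.exp _ (h.le_a h1), mul_one]
  have hn : ∀ n ∈ h.N, n * w = w * n → n * v₁ * n⁻¹ = v₁ ∨ n * v₁ * n⁻¹ = w * v₁ := by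
    intro n hn hnw
    have e : (n * v₁ * n⁻¹) * (n * v₂ * n⁻¹) = v₁ * v₂ := by
      rw [show n * v₁ * n⁻¹ * (n * v₂ * n⁻¹) = n * w * n⁻¹ by rw [hw]; group, hnw, mul_inv_cancel_right]
    rcases h.conj_six hn h11 (Or.inl h1) with ha | hb <;> rcases h.conj_six hn h21 (Or.inr h2) with ha' | hb'
    · exact absurd (e ▸ mul_mem ha ha') (h.mul_notMem h1 h11 h2 h21).1
    · exact Or.inl (h.decomp_unique ha h1 hb' h2 e).1
    · refine Or.inr ?_
      rw [h.comm _ (h.le_b hb) _ (h.le_a ha')] at e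
      rw [hww]
      exact (h.decomp_unique ha' h1 hb h2 e).2
    · exact absurd (e ▸ mul_mem hb hb') (h.mul_notMem h1 h11 h2 h21).2
  have hw1 : w ≠ 1 := fun e => (h.mul_notMem h1 h11 h2 h21).1 (by rw [← hw, e]; exact one_mem _)
  have hwP : w ∈ h.P := mul_mem (h.le_a h1) (h.le_b h2)
  have himg : g * v₁ * g⁻¹ = v₁ ∨ g * v₁ * g⁻¹ = v₂ := by
    have hvi : v₁⁻¹ = v₁ := inv_eq_of_mul_eq_one_right (h.exp _ (h.le_a h1))
    have e3 : g * v₁ * g⁻¹ = v₁ * (v₁ * g * v₁⁻¹ * g⁻¹) := by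
      rw [hvi, ← mul_assoc, ← mul_assoc, ← mul_assoc, h.exp _ (h.le_a h1), one_mul]
    rcases h.iso_quot hwP hw1 (h.le_a h1) (h.six_K h11 (Or.inl h1)) (fun e => h21 (mul_eq_left.1 e.symm))
      hn hgw with h1' | h1' <;> rw [h.oc_eq_bot hwP hw1, mem_bot] at h1'
    · exact Or.inl (by rw [e3, h1', mul_one])
    · refine Or.inr ?_
      rw [e3, eq_inv_of_mul_eq_one_right h1', inv_eq_of_mul_eq_one_right (h.exp w hwP),
        h.comm _ (h.le_a h1) w hwP, hww]
  refine h.mem_norm_of fun p hp => ?_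
  have hcp : g * p * g⁻¹ * (g * v₁ * g⁻¹) = g * v₁ * g⁻¹ * (g * p * g⁻¹) := by
    calc g * p * g⁻¹ * (g * v₁ * g⁻¹) = g * (p * v₁) * g⁻¹ := by group
      _ = g * (v₁ * p) * g⁻¹ := by rw [h.comm p hp v₁ (h.le_a h1)]
      _ = _ := by group
  rcases himg with e | e <;> rw [e] at hcp
  · exact key h v₁ h1 h11 (mem_cent.2 hcp)
  · exact key h.swap v₂ h2 h21 (mem_cent.2 hcp)

/-- Strong closure. -/
theorem closed : Closed h.P := by
  refine ⟨h.comm, h.exp, fun a ha g hga => ?_, fun a ha ha1 => h.cent ha ha1⟩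
  by_cases ha1 : a = 1
  · simp [ha1]
  by_contra hl
  set l := g * a * g⁻¹ with hl'
  have hl1 : l ≠ 1 := fun e => hl (e ▸ one_mem _)
  set N' := h.N.map (MulAut.conj g).toMonoidHom with hN'
  set Q := h.P.map (MulAut.conj g).toMonoidHom with hQ
  have memN' : ∀ x, x ∈ N' ↔ g⁻¹ * x * g ∈ h.N := fun x => by
    constructor
    · rintro ⟨y, hy, rfl⟩; simpa [mul_assoc] using hy
    · exact fun hx => ⟨_, hx, by simp [mul_assoc]⟩
  have memQ : ∀ x, x ∈ Q ↔ g⁻¹ * x * g ∈ h.P := fun x => by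
    constructor
    · rintro ⟨y, hy, rfl⟩; simpa [mul_assoc] using hy
    · exact fun hx => ⟨_, hx, by simp [mul_assoc]⟩
  have hgN : g ∉ h.N := fun hg => hl (h.conj_P hg ha)
  have hgN' : g⁻¹ ∉ h.N := fun hg => hgN (by simpa using inv_mem hg)
  have hQc : ∀ x ∈ Q, x ≠ 1 → centralizer ({x} : Set G) ≤ N' := by
    intro x hx hx1 y hy
    refine (memN' y).2 (h.cent ((memQ x).1 hx) (fun e => hx1 (by rw [show x = g * (g⁻¹ * x * g) * g⁻¹ by group, e]; group))
      (mem_cent.2 ?_))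
    calc g⁻¹ * y * g * (g⁻¹ * x * g) = g⁻¹ * (y * x) * g := by group
      _ = g⁻¹ * (x * y) * g := by rw [mem_cent.1 hy]
      _ = g⁻¹ * x * g * (g⁻¹ * y * g) := by group
  have hQcomm : ∀ x ∈ Q, ∀ y ∈ Q, x * y = y * x := by
    rintro _ ⟨x, hx, rfl⟩ _ ⟨y, hy, rfl⟩
    rw [← map_mul, h.comm x hx y hy, map_mul]
  have hQexp : ∀ x ∈ Q, x * x = 1 := by
    rintro _ ⟨x, hx, rfl⟩; rw [← map_mul, h.exp x hx, map_one]
  have hPQ : ∀ x ∈ h.P, x ∈ Q → x = 1 := by
    intro x hx hxQ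
    by_contra hx1
    refine hgN (h.mem_norm_of fun p hp => h.cent hx hx1 (mem_cent.2 ?_))
    exact hQcomm _ ⟨p, hp, rfl⟩ x hxQ
  set R := Q ⊓ h.N with hR
  set R' := h.P ⊓ N' with hR'
  have hcomm : ∀ r ∈ R, ∀ r' ∈ R', r * r' = r' * r := by
    intro r hr r' hr'
    have e1 : r * r' * r⁻¹ * r'⁻¹ ∈ h.P := mul_mem (h.conj_P hr.2 hr'.1) (inv_mem hr'.1)
    have e2 : r * r' * r⁻¹ * r'⁻¹ ∈ Q := by
      rw [show r * r' * r⁻¹ * r'⁻¹ = r * (r' * r⁻¹ * r'⁻¹) by group]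
      refine mul_mem hr.1 ((memQ _).2 ?_)
      have := h.conj_P ((memN' r').1 hr'.2) ((memQ _).1 (inv_mem hr.1))
      convert this using 1
      group
    have := hPQ _ e1 e2
    calc r * r' = r * r' * r⁻¹ * r'⁻¹ * (r' * r) := by group
      _ = r' * r := by rw [this, one_mul]
  have hfix : ∀ r ∈ R, r ≠ 1 → ∀ p ∈ h.P, p * r = r * p ↔ p ∈ R' := fun r hr hr1 p hp =>
    ⟨fun e => ⟨hp, hQc r hr.1 hr1 (mem_cent.2 e)⟩, fun hp' => (hcomm r hr p hp').symm⟩
  have hrnotC : ∀ r ∈ R, r ≠ 1 → r ∉ centralizer (h.P : Set G) := by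
    intro r hr hr1 hc
    refine hgN' (h.mem_norm_of fun p hp => ?_)
    rw [inv_inv]
    exact (memN' p).1 ((hfix r hr hr1 p hp).1 (mem_centralizer_iff.1 hc p hp)).2
  have h4 : 4 ≤ Nat.card R' := by
    refine le_trans (four_le_fixed h.comm h.exp h.card_P hga fun p _ => ?_) (card_le_of_le ?_)
    · rw [show l * l = 1 by rw [hl', show g * a * g⁻¹ * (g * a * g⁻¹) = g * (a * a) * g⁻¹ by group, h.exp a ha,
        mul_one, mul_inv_cancel], one_mul, mul_one]
    · exact fun p hp => (hfix l ⟨⟨a, ha, rfl⟩, hga⟩ hl1 p hp.1).1 (mem_cent.1 hp.2)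
  obtain ⟨r', hr', hr'1⟩ := CfsgLib.Comp.exists_mem_ne_one (B := R') fun e => by
    rw [e, card_bot] at h4; omega
  have hQcard : Nat.card Q = 16 := by
    rw [hQ, card_map_of_injective (MulAut.conj g).injective, h.card_P]
  have hr'Q : r' ∈ normalizer (Q : Set G) := by
    refine mem_normalizer_iff.2 fun x => ?_
    have hn := mem_normalizer_iff.1 ((memN' r').1 hr'.2) (g⁻¹ * x * g)
    rw [memQ, memQ]
    refine hn.trans (iff_of_eq ?_)
    congr 1
    group
  have h4' : 4 ≤ Nat.card R := by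
    refine le_trans (four_le_fixed hQcomm hQexp hQcard hr'Q fun p _ => ?_) (card_le_of_le ?_)
    · rw [h.exp r' hr'.1, one_mul, mul_one]
    · exact fun p hp => ⟨hp.1, h.cent hr'.1 hr'1 hp.2⟩
  obtain ⟨x, hx, hx1⟩ := CfsgLib.Comp.exists_mem_ne_one (B := R) fun e => by
    rw [e, card_bot] at h4'; omega
  obtain ⟨y, hy, hy1, hyx⟩ : ∃ y ∈ R, y ≠ 1 ∧ y ≠ x := by
    classical
    haveI := Fintype.ofFinite R
    by_contra hcon
    push Not at hcon
    have h2 : (Finset.univ : Finset R).image Subtype.val ⊆ {1, x} := by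
      intro y hy
      obtain ⟨⟨z, hz⟩, -, rfl⟩ := Finset.mem_image.1 hy
      by_cases e : z = 1
      · simp [e]
      · simp [hcon z hz e]
    have h3 := (Finset.card_le_card h2).trans Finset.card_le_two
    rw [Finset.card_image_of_injective _ Subtype.val_injective, Finset.card_univ,
      ← Nat.card_eq_fintype_card] at h3
    omega
  have hxy : x * y ≠ 1 := fun e =>
    hyx ((eq_inv_of_mul_eq_one_right e).trans (inv_eq_of_mul_eq_one_right (hQexp x hx.1)))
  exact h.no_quad x hx.2 y hy.2 (hQexp x hx.1) (hQexp y hy.1) (hQcomm x hx.1 y hy.1) (hrnotC x hx hx1)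
    (hrnotC y hy hy1) (hrnotC _ (mul_mem hx hy) hxy)
    fun p hp => (hfix x hx hx1 p hp).trans (hfix y hy hy1 p hp).symm

end Six

end CfsgLib.Recog.SpSixThree
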