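import Cfsg.Agent.Lib.Recog.SpSixThree.SmallH

/-!
# `C(z) ⊇ W = Q ∘ Q'`
-/

set_option autoImplicit false
set_option Elab.async false
set_option linter.unusedSectionVars false

namespace CfsgLib.Recog.SpSixThree

open Subgroup

namespace FullFrame

variable {G : Type*} [Group G] [Finite G] {B : Base G} (F : FullFrame B)

theorem r2_z : F.r 2 * F.z0 * F.r 2 = F.z0 := by rw [← F.z_r2, mul_assoc, F.r_sq, mul_one]

/-- The involution of `Q` is `z`. -/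
theorem Qa_invol {q : G} (hq : q ∈ F.Qa) (h2 : q * q = 1) : q = 1 ∨ q = F.z0 := by
  have hqC := F.Qa_spec.le_C hq
  by_cases h1 : q = 1
  · exact Or.inl h1
  refine Or.inr (F.Qa_spec.inj _ hq _ F.z_Qa ?_)
  rw [Base.slx_invol hqC h2 h1, Base.slx_invol F.z_C F.z_sq F.z_ne]

theorem Qa_of_slx {q : G} (hq : q ∈ F.Qa) :
    (B.slx q = 1 → q = 1) ∧ (B.slx q = -1 → q = F.z0) :=
  ⟨fun h => F.Qa_spec.inj _ hq _ F.Qa.one_mem (h.trans Base.slx_one.symm),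
    fun h => F.Qa_spec.inj _ hq _ F.z_Qa (h.trans (Base.slx_invol F.z_C F.z_sq F.z_ne).symm)⟩

theorem sl_mul_z {q : G} (hq : q ∈ F.Qa) : B.slx (F.z0 * q) = -1 * B.slx q := by
  rw [Base.slx_mul F.z_C (F.Qa_spec.le_C hq), Base.slx_invol F.z_C F.z_sq F.z_ne]

theorem s012_Qa {q : G} (hq : q ∈ F.Qa) : F.s012 * q * F.s012 ∈ F.Qa := by
  have hs : F.s012⁻¹ = F.s012 := inv_eq_of_mul_eq_one_right F.s012_sq
  refine (F.Qa_spec.mem_iff _).2 ⟨mem_centralizer_singleton_iff.2 ?_, ?_, ?_⟩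
  · have ha : F.s012 * B.a * F.s012⁻¹ = B.a⁻¹ := by rw [hs, F.s012_a]
    have hai : F.s012 * B.a⁻¹ * F.s012⁻¹ = B.a := by
      rw [show F.s012 * B.a⁻¹ * F.s012⁻¹ = (F.s012 * B.a * F.s012⁻¹)⁻¹ by group, ha, inv_inv]
    have hc : Commute (MulAut.conj F.s012 q) (MulAut.conj F.s012 B.a⁻¹) :=
      ((show Commute q B.a from F.Qa_spec.comm_a hq).inv_right).map _
    rw [MulAut.conj_apply, MulAut.conj_apply, hai, hs] at hc
    exact hc.eq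
  · exact (((show Commute F.s012 F.z0 from F.z_s012.symm).mul_left (F.Qa_spec.comm hq)).mul_left
      (show Commute F.s012 F.z0 from F.z_s012.symm)).eq
  · have h4 := congrArg (MulAut.conj F.s012) (F.Qa_spec.four hq)
    rw [map_mul, map_mul, map_one, MulAut.conj_apply, hs] at h4
    exact h4

theorem s01_Qa {q : G} (hq : q ∈ F.Qa) : F.s01 * q * F.s01 ∈ F.Qb := by
  have h : F.s01 * q * F.s01 = F.r 2 * (F.s012 * q * F.s012) * F.r 2 := by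
    show F.s01 * q * F.s01 = F.r 2 * (F.s01 * F.r 2 * q * (F.s01 * F.r 2)) * F.r 2
    rw [F.s01_r2, show F.r 2 * (F.r 2 * F.s01 * q * (F.r 2 * F.s01)) * F.r 2 =
      F.r 2 * (F.r 2 * (F.s01 * q) * F.r 2) * (F.s01 * F.r 2) by group, F.s01_r2,
      show F.r 2 * (F.r 2 * (F.s01 * q) * F.r 2) * (F.r 2 * F.s01) =
        (F.r 2 * F.r 2) * (F.s01 * q) * (F.r 2 * F.r 2) * F.s01 by group, F.r_sq, one_mul, mul_one]
  rw [h]
  exact F.r2_Qa (F.s012_Qa hq)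

theorem s01_Qb {q : G} (hq : q ∈ F.Qb) : F.s01 * q * F.s01 ∈ F.Qa := by
  have h : F.s01 * q * F.s01 = F.s012 * (F.r 2 * q * F.r 2) * F.s012 := by
    show F.s01 * q * F.s01 = F.s01 * F.r 2 * (F.r 2 * q * F.r 2) * (F.s01 * F.r 2)
    rw [F.s01_r2, show F.r 2 * F.s01 * (F.r 2 * q * F.r 2) * (F.r 2 * F.s01) =
      F.r 2 * F.s01 * F.r 2 * q * (F.r 2 * F.r 2) * F.s01 by group, F.r_sq, mul_one,
      ← F.s01_r2, show F.s01 * F.r 2 * F.r 2 * q = F.s01 * (F.r 2 * F.r 2) * q by group, F.r_sq, mul_one]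
  rw [h]
  exact F.s012_Qa (F.r2_Qb hq)

theorem r2_ne : F.r 2 ≠ F.z0 ∧ F.s01 ≠ F.z0 ∧ F.s012 ≠ F.z0 := by
  have key : ∀ {g : G} {w : Code}, F.toFrame.Acts g w → g = F.z0 → cperm (Equiv.swap 0 1) = w :=
    fun h e => Frame.Acts.unique F.toFrame (F.acts_p (Equiv.swap 0 1)) (by subst e; exact h)
  exact ⟨fun h => cswap_cases.2.1 (key (F.acts_r 2) h), fun h => cswap_cases.1 (key F.acts_s01 h),
    fun h => cswap_cases.2.2 (key F.acts_s012 h)⟩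

/-- `Q'` centralises `Q/⟨z⟩`. -/
theorem Qb_L (hS : F.Small) {q₀ : G} (hq₀ : q₀ ∈ F.Qb) : q₀ ∈ F.L := by
  classical
  haveI : Fact (Nat.Prime 2) := ⟨Nat.prime_two⟩
  by_contra hL
  have hzL : F.z0 ∈ F.L := F.Qa_L F.z_Qa
  have hbC : F.b0 ∈ B.C := B.J_le F.b_J
  have hQbL : ∀ p ∈ F.Qb, p ∈ F.L → p ∈ F.Qa := by
    intro p hp hpL
    obtain ⟨p', hp'e⟩ : ∃ p', p' = F.r 2 * p * F.r 2 := ⟨_, rfl⟩
    have hp' : p' ∈ F.Qa := hp'e ▸ F.r2_Qb hp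
    have hpe : p = F.r 2 * p' * F.r 2 := by rw [hp'e, F.r2_conj]
    rcases sl_four_cases _ (F.Qa_spec.slx_four hp') with h | h | h
    · rw [hpe, (F.Qa_of_slx hp').1 h, mul_one, F.r_sq]
      exact F.Qa.one_mem
    · rw [hpe, (F.Qa_of_slx hp').2 h, F.r2_z]
      exact F.z_Qa
    exfalso
    refine hL ?_
    obtain ⟨p₂, hp₂e⟩ : ∃ p₂, p₂ = F.b0 * p' * F.b0⁻¹ := ⟨_, rfl⟩
    have hp₂ : p₂ ∈ F.Qa := hp₂e ▸ F.Qa_spec.conj_mem hbC F.z_b.symm hp'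
    have hs₂ : B.slx p₂ = B.slx F.b0 * B.slx p' * (B.slx F.b0)⁻¹ := by
      rw [hp₂e, Base.slx_conj hbC (F.Qa_spec.le_C hp')]
    have hL₁ : F.r 2 * p' * F.r 2 ∈ F.L := hpe ▸ hpL
    have hL₂ : F.r 2 * p₂ * F.r 2 ∈ F.L := by
      have h2 : F.r 2 * p₂ * F.r 2 = B.a * p * B.a⁻¹ := by
        have hbi : F.r 2 * F.b0⁻¹ * F.r 2 = B.a⁻¹ := by
          rw [← F.r2_b, mul_inv_rev, mul_inv_rev, F.r_inv, ← mul_assoc]
        rw [hp₂e, F.r2_conj_mul, F.r2_conj_mul, F.r2_b, hbi, ← hpe]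
      rw [h2]
      exact F.L.mul_mem (F.L.mul_mem F.a_L hpL) (F.L.inv_mem F.a_L)
    have hsplit : ∀ x y : G, F.r 2 * x * F.r 2 ∈ F.L → F.r 2 * y * F.r 2 ∈ F.L →
        F.r 2 * (x * y) * F.r 2 ∈ F.L := fun x y hx hy => by
      rw [F.r2_conj_mul]
      exact F.L.mul_mem hx hy
    have hzz : F.r 2 * F.z0 * F.r 2 ∈ F.L := F.r2_z.symm ▸ hzL
    have hfin : ∀ x ∈ F.Qa, F.r 2 * x * F.r 2 ∈ F.L → B.slx (F.r 2 * q₀ * F.r 2) = B.slx x → q₀ ∈ F.L := by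
      intro x hx hxL he
      have := F.Qa_spec.inj _ (F.r2_Qb hq₀) _ hx he
      rw [← this, F.r2_conj] at hxL
      exact hxL
    rcases sl_orbit_gen (B.slx F.b0) (B.slx p') (B.slx (F.r 2 * q₀ * F.r 2)) F.slx_b.1 F.slx_b.2 h
      (F.Qa_spec.slx_four (F.r2_Qb hq₀)) with e | e | e | e | e | e | e | e
    · exact hfin 1 F.Qa.one_mem (by rw [mul_one, F.r_sq]; exact F.L.one_mem) (e.trans Base.slx_one.symm)
    · exact hfin _ F.z_Qa hzz (e.trans (Base.slx_invol F.z_C F.z_sq F.z_ne).symm)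
    · exact hfin _ hp' hL₁ e
    · exact hfin _ (F.Qa.mul_mem F.z_Qa hp') (hsplit _ _ hzz hL₁) (e.trans (F.sl_mul_z hp').symm)
    · exact hfin _ hp₂ hL₂ (e.trans hs₂.symm)
    · exact hfin _ (F.Qa.mul_mem F.z_Qa hp₂) (hsplit _ _ hzz hL₂) (by rw [e, F.sl_mul_z hp₂, hs₂])
    · exact hfin _ (F.Qa.mul_mem hp' hp₂) (hsplit _ _ hL₁ hL₂) (by
        rw [e, Base.slx_mul (F.Qa_spec.le_C hp') (F.Qa_spec.le_C hp₂), hs₂])
    · exact hfin _ (F.Qa.mul_mem F.z_Qa (F.Qa.mul_mem hp' hp₂))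
        (hsplit _ _ hzz (hsplit _ _ hL₁ hL₂)) (by
        rw [e, F.sl_mul_z (F.Qa.mul_mem hp' hp₂), Base.slx_mul (F.Qa_spec.le_C hp') (F.Qa_spec.le_C hp₂),
          hs₂])
  -- `L ≤ C(a)`
  obtain ⟨N, hNL, hNc, hNmem, hdec⟩ := F.exists_compl
  have hNQ : N ≤ F.Qa := F.inv_le hS hNc (F.E_norm_compl hNL hNc hNmem F.a_E)
    (F.E_norm_compl hNL hNc hNmem F.b_E) (fun n hn => (hNL hn).1) (fun _ _ h => h)
    (fun n hn h => hQbL n h (hNL hn))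
  have hLC : ∀ g ∈ F.L, g ∈ B.C := fun g hg => by
    obtain ⟨n, hn, c, hc, rfl⟩ := hdec g hg
    exact mul_mem (F.Qa_spec.le_C (hNQ hn)) (zpowers_le.2 B.a_mem_C hc)
  -- an element normalising `Q` normalises `⟨a⟩`
  have hnorm : ∀ g : G, g * F.z0 = F.z0 * g → (∀ q ∈ F.Qa, g⁻¹ * q * g ∈ F.Qa) →
      g * B.a * g⁻¹ = B.a ∨ g * B.a * g⁻¹ = B.a⁻¹ := by
    intro g hgz hgQ
    have hL' := F.L_conj hgz hgQ F.a_L
    obtain ⟨q, hq, j, -, he⟩ := F.L_C hL' (hLC _ hL')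
    have h1 := F.Qa_a_pow hq j (n := 1) (by
      rw [← he, pow_one, conj_pow, B.a_three, mul_one, mul_inv_cancel])
    rw [h1, one_mul] at he
    rcases Base.za_cases (show g * B.a * g⁻¹ ∈ B.Za from he ▸ pow_mem (mem_zpowers _) j) with h | h | h
    · exact absurd (conj_eq_one_iff.1 h) B.a_ne_one
    · exact Or.inl h
    · exact Or.inr h
  -- a Sylow subgroup of `C(z)` above `Q`
  obtain ⟨H, hH⟩ : ∃ H, H = centralizer ({F.z0} : Set G) := ⟨_, rfl⟩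
  have hzH : ∀ g ∈ H, g * F.z0 = F.z0 * g := fun g hg => mem_centralizer_singleton_iff.1 (hH.le hg)
  have hHz : ∀ g, g * F.z0 = F.z0 * g → g ∈ H := fun g hg =>
    hH.ge (mem_centralizer_singleton_iff.2 hg)
  have hQH : F.Qa ≤ H := fun q hq => hHz q (F.Qa_spec.comm hq)
  obtain ⟨T, hT⟩ := (F.Qa_spec.pgroup.of_equiv (subgroupOfEquivOfLe hQH).symm).exists_le_sylow
  obtain ⟨U, hU⟩ : ∃ U, U = (T : Subgroup H).map H.subtype := ⟨_, rfl⟩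
  have hUp : IsPGroup 2 U := hU ▸ T.isPGroup'.map _
  have hUH : U ≤ H := hU ▸ map_subtype_le _
  have hQU : F.Qa ≤ U := fun q hq => hU.ge ⟨⟨q, hQH hq⟩, hT (mem_subgroupOf.2 hq), rfl⟩
  have hUC : ∀ x ∈ U, x * B.a = B.a * x → x ∈ F.Qa := by
    intro x hx hxa
    refine F.Qa_spec.mem_of_coprime (mem_centralizer_singleton_iff.2 hxa) (hzH x (hUH hx)) ?_
    obtain ⟨k, hk⟩ := IsPGroup.iff_card.1 hUp
    refine Nat.Coprime.of_dvd_left ?_ (Nat.Coprime.pow_left k (by norm_num : Nat.Coprime 2 3))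
    exact hk ▸ Subgroup.orderOf_dvd_natCard _ hx
  have hU_norm : ∀ g ∈ U, ∀ q ∈ F.Qa, g⁻¹ * q * g ∈ F.Qa := by
    by_contra hcon
    obtain ⟨U0, hU0⟩ : ∃ U0, U0 = U ⊓ Subgroup.normalizer (F.Qa : Set G) := ⟨_, rfl⟩
    haveI := hUp.isNilpotent
    have hlt : U0.subgroupOf U < ⊤ := lt_top_iff_ne_top.2 fun h => hcon fun g hg q hq =>
      (mem_normalizer_iff''.1 (hU0.le (subgroupOf_eq_top.1 h hg)).2 q).1 hq
    obtain ⟨g, hgn, hg⟩ := SetLike.exists_of_lt (Group.normalizerCondition_of_isNilpotent _ hlt)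
    refine hg (mem_subgroupOf.2 (hU0.ge ⟨g.2, mem_normalizer_iff_map_conj_eq.2 (eq_of_le_of_card_ge ?_
      (card_map_of_injective (MulAut.conj _).injective).ge)⟩))
    rintro _ ⟨q, hq, rfl⟩
    show (g : G) * q * (g : G)⁻¹ ∈ F.Qa
    by_cases hq2 : q * q = 1
    · rcases F.Qa_invol hq hq2 with rfl | rfl
      · rw [mul_one, mul_inv_cancel]
        exact F.Qa.one_mem
      · rw [hzH _ (hUH g.2), mul_inv_cancel_right]
        exact F.z_Qa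
    obtain ⟨y, hy⟩ : ∃ y, y = (g : G) * q * (g : G)⁻¹ := ⟨_, rfl⟩
    rw [← hy]
    have hq0 : q ∈ U0 := hU0.ge ⟨hQU hq, le_normalizer hq⟩
    have hy0 : y ∈ U0 := hy ▸ mem_subgroupOf.1
      ((mem_normalizer_iff.1 hgn ⟨q, hQU hq⟩).1 (mem_subgroupOf.2 hq0))
    have hyU := hU0.le hy0
    rcases hnorm y (hzH y (hUH hyU.1)) (fun p hp => (mem_normalizer_iff''.1 hyU.2 p).1 hp) with h | h
    · exact hUC y hyU.1 (mul_inv_eq_iff_eq_mul.1 h)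
    exfalso
    refine Base.four_not_inv h ?_ ?_ ?_
    · refine mem_centralizer_singleton_iff.2 (mul_inv_eq_iff_eq_mul.1 ?_)
      rw [show y * y * B.a * (y * y)⁻¹ = y * (y * B.a * y⁻¹) * y⁻¹ by group, h,
        show y * B.a⁻¹ * y⁻¹ = (y * B.a * y⁻¹)⁻¹ by group, h, inv_inv]
    · rw [hy, show (g : G) * q * (g : G)⁻¹ * ((g : G) * q * (g : G)⁻¹) *
          ((g : G) * q * (g : G)⁻¹ * ((g : G) * q * (g : G)⁻¹)) =
          (g : G) * (q * q * (q * q)) * (g : G)⁻¹ by group, F.Qa_spec.four hq, mul_one, mul_inv_cancel]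
    · intro h2
      rw [hy, show (g : G) * q * (g : G)⁻¹ * ((g : G) * q * (g : G)⁻¹) =
        (g : G) * (q * q) * (g : G)⁻¹ by group, conj_eq_one_iff] at h2
      exact hq2 h2
  -- the elementary group of order eight does not fit
  have hsH : F.s01 ∈ H := hHz _ F.z_s01.symm
  have hrH : F.r 2 ∈ H := hHz _ F.z_r2.symm
  have hp2 : ∀ g : G, g * g = 1 → IsPGroup 2 (zpowers g) := fun g hg x => ⟨1, by
    obtain ⟨k, hk⟩ := mem_zpowers_iff.1 x.2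
    refine Subtype.ext ?_
    rw [SubgroupClass.coe_pow, pow_one, pow_two, ← hk, ← (Commute.refl g).mul_zpow, hg, one_zpow]
    rfl⟩
  have hV : IsPGroup 2 (zpowers F.s01 ⊔ zpowers (F.r 2) : Subgroup G) := by
    refine (hp2 _ F.s01_sq).to_sup_of_normal_right' (hp2 _ (F.r_sq 2)) ?_
    refine le_trans ?_ (centralizer_le_normalizer _)
    rw [zpowers_le]
    intro y hy
    obtain ⟨i, rfl⟩ := mem_zpowers_iff.1 hy
    exact ((show Commute F.s01 (F.r 2) from F.s01_r2).zpow_right i).eq.symm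
  have hVH : zpowers F.s01 ⊔ zpowers (F.r 2) ≤ H := sup_le (zpowers_le.2 hsH) (zpowers_le.2 hrH)
  obtain ⟨T', hT'⟩ := (hV.of_equiv (subgroupOfEquivOfLe hVH).symm).exists_le_sylow
  obtain ⟨h, hh⟩ := MulAction.exists_smul_eq H T' T
  have hm : ∀ v (hv : v ∈ zpowers F.s01 ⊔ zpowers (F.r 2)), (h : G) * v * (h : G)⁻¹ ∈ U := by
    intro v hv
    refine hU.ge ⟨h * ⟨v, hVH hv⟩ * h⁻¹, ?_, rfl⟩
    rw [← hh, Sylow.coe_subgroup_smul]
    exact ⟨_, hT' (mem_subgroupOf.2 hv), rfl⟩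
  have hcase : ∀ v ∈ zpowers F.s01 ⊔ zpowers (F.r 2), v * v = 1 → v ≠ 1 → v ≠ F.z0 →
      (h : G) * v * (h : G)⁻¹ * B.a * ((h : G) * v * (h : G)⁻¹)⁻¹ = B.a⁻¹ := by
    intro v hv hv2 hv1 hvz
    rcases hnorm _ (hzH _ (hUH (hm v hv))) (hU_norm _ (hm v hv)) with e | e
    · exfalso
      rcases F.Qa_invol (hUC _ (hm v hv) (mul_inv_eq_iff_eq_mul.1 e)) (by
        rw [show (h : G) * v * (h : G)⁻¹ * ((h : G) * v * (h : G)⁻¹) = (h : G) * (v * v) * (h : G)⁻¹ by group,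
          hv2, mul_one, mul_inv_cancel]) with e' | e'
      · exact hv1 (conj_eq_one_iff.1 e')
      · refine hvz (mul_left_cancel (mul_right_cancel (e'.trans ?_)) (a := (h : G)))
        rw [hzH _ h.2, mul_inv_cancel_right]
    · exact e
  obtain ⟨n1, n2, n3⟩ := F.r2_ne
  have h1 := hcase _ (mem_sup_left (mem_zpowers _)) F.s01_sq (fun e => by
    have := F.s01_a
    rw [e, one_mul, mul_one, ← F.el_a', ← F.toFrame.el_neg, F.toFrame.el_inj] at this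
    exact absurd this (by decide +kernel)) n2
  have h2 := hcase _ (mem_sup_right (mem_zpowers _)) (F.r_sq 2) (fun e => by
    have := F.r2_a
    rw [e, one_mul, mul_one, ← F.el_a', F.toFrame.el_inj] at this
    exact absurd this (by decide +kernel)) n1
  have h3 := hcase _ (mul_mem (mem_sup_left (mem_zpowers _)) (mem_sup_right (mem_zpowers _))) F.s012_sq
    (fun e => by
      have := F.s012_a
      rw [show F.s012 = 1 from e, one_mul, mul_one] at this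
      exact a_ne_inv this) n3
  obtain ⟨x, hx⟩ : ∃ x, x = (h : G) * F.s01 * (h : G)⁻¹ := ⟨_, rfl⟩
  obtain ⟨y, hy⟩ : ∃ y, y = (h : G) * F.r 2 * (h : G)⁻¹ := ⟨_, rfl⟩
  rw [← hx] at h1
  rw [← hy] at h2
  rw [show (h : G) * (F.s01 * F.r 2) * (h : G)⁻¹ = x * y by rw [hx, hy]; group,
    show x * y * B.a * (x * y)⁻¹ = x * (y * B.a * y⁻¹) * x⁻¹ by group, h2,
    show x * B.a⁻¹ * x⁻¹ = (x * B.a * x⁻¹)⁻¹ by group, h1, inv_inv] at h3
  exact a_ne_inv h3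

/-- `Q` and `Q'` commute elementwise. -/
theorem Qa_Qb_comm (hS : F.Small) {q p : G} (hq : q ∈ F.Qa) (hp : p ∈ F.Qb) : q * p = p * q := by
  have hpL := F.Qb_L hS hp
  rcases hpL.2 q hq with e | e
  · exact (mul_inv_eq_iff_eq_mul.1 e).symm
  exfalso
  have hbC : F.b0 ∈ B.C := B.J_le F.b_J
  obtain ⟨p', hp'e⟩ : ∃ p', p' = F.r 2 * p * F.r 2 := ⟨_, rfl⟩
  have hp' : p' ∈ F.Qa := hp'e ▸ F.r2_Qb hp
  have hpe : p = F.r 2 * p' * F.r 2 := by rw [hp'e, F.r2_conj]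
  obtain ⟨X, hX⟩ : ∃ X, X = p' * (F.b0 * p' * F.b0⁻¹) * (F.b0 * F.b0 * p' * (F.b0 * F.b0)⁻¹) :=
    ⟨_, rfl⟩
  have hb2 : F.b0 * F.b0 ∈ B.C := mul_mem hbC hbC
  have hzb2 : F.b0 * F.b0 * F.z0 = F.z0 * (F.b0 * F.b0) :=
    ((show Commute F.b0 F.z0 from F.z_b.symm).mul_left F.z_b.symm).eq
  have hXQ : X ∈ F.Qa := hX ▸ F.Qa.mul_mem (F.Qa.mul_mem hp' (F.Qa_spec.conj_mem hbC F.z_b.symm hp'))
    (F.Qa_spec.conj_mem hb2 hzb2 hp')
  have hsX : X = 1 ∨ X = F.z0 := by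
    have hs : B.slx X = B.slx p' * (B.slx F.b0 * B.slx p' * (B.slx F.b0)⁻¹) *
        (B.slx F.b0 * B.slx F.b0 * B.slx p' * (B.slx F.b0 * B.slx F.b0)⁻¹) := by
      have hc := F.Qa_spec.le_C hp'
      rw [hX, Base.slx_mul (mul_mem hc (mul_mem (mul_mem hbC hc) (inv_mem hbC)))
          (mul_mem (mul_mem hb2 hc) (inv_mem hb2)),
        Base.slx_mul hc (mul_mem (mul_mem hbC hc) (inv_mem hbC)), Base.slx_conj hbC hc,
        Base.slx_conj hb2 hc, Base.slx_mul hbC hbC]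
    rcases sl_avg _ _ F.slx_b.1 F.slx_b.2 (F.Qa_spec.slx_four hp') with h | h
    · exact Or.inl ((F.Qa_of_slx hXQ).1 (hs.trans h))
    · exact Or.inr ((F.Qa_of_slx hXQ).2 (hs.trans h))
  have hXY : F.r 2 * X * F.r 2 = p * (B.a * p * B.a⁻¹) * (B.a * B.a * p * (B.a * B.a)⁻¹) := by
    have hbi : F.r 2 * F.b0⁻¹ * F.r 2 = B.a⁻¹ := by
      rw [← F.r2_b, mul_inv_rev, mul_inv_rev, F.r_inv, ← mul_assoc]
    rw [hX, mul_inv_rev]
    simp only [F.r2_conj_mul, F.r2_b, hbi, ← hpe]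
    group
  obtain ⟨Y, hY⟩ : ∃ Y, Y = p * (B.a * p * B.a⁻¹) * (B.a * B.a * p * (B.a * B.a)⁻¹) := ⟨_, rfl⟩
  have hYc : Y = 1 ∨ Y = F.z0 := by
    rw [hY, ← hXY]
    rcases hsX with rfl | rfl
    · exact Or.inl (by rw [mul_one, F.r_sq])
    · exact Or.inr F.r2_z
  have hYq : Y * q * Y⁻¹ = q := by
    rcases hYc with rfl | rfl
    · group
    · rw [← F.Qa_spec.comm hq, mul_inv_cancel_right]
  have key : ∀ g : G, g * B.a = B.a * g → g * q * g⁻¹ = q →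
      g * p * g⁻¹ * q * (g * p * g⁻¹)⁻¹ = q * (g * F.z0 * g⁻¹) := by
    intro g _ hgq
    have hgq' : g⁻¹ * q * g = q := by nth_rewrite 1 [← hgq]; group
    calc g * p * g⁻¹ * q * (g * p * g⁻¹)⁻¹ = g * (p * (g⁻¹ * q * g) * p⁻¹) * g⁻¹ := by group
      _ = g * q * g⁻¹ * (g * F.z0 * g⁻¹) := by rw [hgq', e]; group
      _ = _ := by rw [hgq]
  have haq : B.a * q * B.a⁻¹ = q := mul_inv_eq_iff_eq_mul.2 (F.Qa_spec.comm_a hq).symm
  have haz : B.a * F.z0 * B.a⁻¹ = F.z0 := by rw [← F.z_a, mul_inv_cancel_right]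
  have hk1 := key B.a rfl haq
  have hk2 := key (B.a * B.a) (mul_assoc _ _ _) (by
    rw [show B.a * B.a * q * (B.a * B.a)⁻¹ = B.a * (B.a * q * B.a⁻¹) * B.a⁻¹ by group, haq, haq])
  rw [haz] at hk1
  rw [show B.a * B.a * F.z0 * (B.a * B.a)⁻¹ = B.a * (B.a * F.z0 * B.a⁻¹) * B.a⁻¹ by group, haz, haz] at hk2
  obtain ⟨p₁, hp₁⟩ : ∃ p₁, p₁ = B.a * p * B.a⁻¹ := ⟨_, rfl⟩
  obtain ⟨p₂, hp₂⟩ : ∃ p₂, p₂ = B.a * B.a * p * (B.a * B.a)⁻¹ := ⟨_, rfl⟩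
  rw [← hp₁] at hk1 hY
  rw [← hp₂] at hk2 hY
  have hzc : ∀ g : G, g * F.z0 = F.z0 * g → g * F.z0 * g⁻¹ = F.z0 := fun g hg =>
    mul_inv_eq_iff_eq_mul.2 hg
  have hp1z : p₁ * F.z0 = F.z0 * p₁ := hp₁ ▸ (((show Commute B.a F.z0 from F.z_a.symm).mul_left
    (F.Qb_comm_z hp)).mul_left (show Commute B.a F.z0 from F.z_a.symm).inv_left).eq
  have hfin : Y * q * Y⁻¹ = q * F.z0 := by
    calc Y * q * Y⁻¹ = p * (p₁ * (p₂ * q * p₂⁻¹) * p₁⁻¹) * p⁻¹ := by rw [hY]; group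
      _ = p * ((p₁ * q * p₁⁻¹) * (p₁ * F.z0 * p₁⁻¹)) * p⁻¹ := by rw [hk2]; group
      _ = p * q * p⁻¹ * ((p * F.z0 * p⁻¹) * (p * F.z0 * p⁻¹)) := by rw [hk1, hzc _ hp1z]; group
      _ = q * F.z0 := by rw [e, hzc _ (F.Qb_comm_z hp), F.z_sq, mul_one]
  rw [hYq, left_eq_mul] at hfin
  exact F.z_ne hfin

/-- The extraspecial group `W = Q ∘ Q'`. -/
noncomputable def W : Subgroup G := F.Qa ⊔ F.Qb

theorem mem_W (hS : F.Small) {g : G} : g ∈ F.W ↔ ∃ q ∈ F.Qa, ∃ p ∈ F.Qb, g = q * p := by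
  have hn : F.Qa ≤ Subgroup.normalizer (F.Qb : Set G) := fun q hq =>
    centralizer_le_normalizer _ fun p hp => (F.Qa_Qb_comm hS hq hp).symm
  rw [W, ← SetLike.mem_coe, Subgroup.coe_mul_of_left_le_normalizer_right F.Qa F.Qb hn]
  constructor
  · rintro ⟨q, hq, p, hp, rfl⟩
    exact ⟨q, hq, p, hp, rfl⟩
  · rintro ⟨q, hq, p, hp, rfl⟩
    exact ⟨q, hq, p, hp, rfl⟩

theorem inter (hS : F.Small) {g : G} (ha : g ∈ F.Qa) (hb : g ∈ F.Qb) : g = 1 ∨ g = F.z0 := by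
  refine F.Qa_invol ha ?_
  have hgC := F.Qa_spec.le_C ha
  refine F.Qa_spec.inj _ (F.Qa.mul_mem ha ha) _ F.Qa.one_mem ?_
  rw [Base.slx_mul hgC hgC, Base.slx_one]
  refine sl_cent_four _ fun y hy => ?_
  obtain ⟨q, hq, rfl⟩ := F.Qa_spec.img y hy
  rw [← Base.slx_mul hgC (F.Qa_spec.le_C hq), ← Base.slx_mul (F.Qa_spec.le_C hq) hgC,
    F.Qa_Qb_comm hS hq hb]

end FullFrame

end CfsgLib.Recog.SpSixThree
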