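import Cfsg.Agent.Lib.Recog.SpSixThree.SmallQuat
import Cfsg.Agent.Lib.Recog.SpSixThree.FrameCent

/-!
# Frame elements for the leg `C(e_k) ≤ M`

The involution `z` of `C(a)` interchanging the first two coordinates, the plane
`E = {v₀ = v₁}` of `J` it centralises, and the quaternion groups `Q`, `Q'` of `C(z)` in the
centralisers of `a = (1,1,1)` and `a' = (1,1,-1)`.
-/

set_option autoImplicit false
set_option Elab.async false
set_option linter.unusedSectionVars false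

namespace CfsgLib.Recog.SpSixThree

open Subgroup

/-- The vector `(1,1,-1)`. -/
def bvec : Vec := fun j => if j = 2 then 2 else 1

/-- The vector `(1,1,0)`. -/
def dvec : Vec := evec 0 + evec 1

theorem cone_bvec : sact (cone 2) avec = bvec ∧ sact (cone 2) bvec = avec := by decide +kernel

theorem cone_avec : sact (cmul (cone 0) (cone 1)) avec = -bvec ∧
    sact (cmul (cmul (cone 0) (cone 1)) (cone 2)) avec = -avec ∧
    sact (cmul (cmul (cone 0) (cone 1)) (cone 2)) bvec = -bvec := by decide +kernel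

theorem cswap_ne : cperm (Equiv.swap 0 1) ≠ ((fun _ => false), 1) := by decide +kernel

theorem cswap_fix : ∀ v : Vec, v 0 = v 1 → sact (cperm (Equiv.swap 0 1)) v = v := by decide +kernel

theorem bvec_ne : ∀ k : ZMod 3, bvec ≠ k • avec := by decide +kernel

theorem plane_line : ∀ v : Vec, v 0 = v 1 → v ≠ 0 →
    ∃ k : ZMod 3, k ≠ 0 ∧ (v = k • avec ∨ v = k • bvec ∨ v = k • evec 2 ∨ v = k • dvec) := by
  decide +kernel

theorem smul_smul_self : ∀ (k : ZMod 3) (p : Vec), k ≠ 0 → k • (k • p) = p := by decide +kernel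

theorem dvec_eq : dvec 0 = dvec 1 ∧ dvec ≠ 0 := by decide +kernel

theorem evec_two : evec 2 0 = evec 2 1 ∧ evec 2 ≠ 0 := by decide +kernel

namespace Frame

variable {G : Type*} [Group G] [Finite G] {B : Base G} (F : Frame B)

theorem comm_of_smul {k : ZMod 3} (hk : k ≠ 0) {p : Vec} {g : G}
    (h : g * F.el (k • p) = F.el (k • p) * g) : g * F.el p = F.el p * g := by
  rw [← smul_smul_self k p hk, F.el_smul k (k • p)]
  exact ((show Commute g (F.el (k • p)) from h).pow_right _).eq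

theorem acts_conj {g : G} {w : Code} (h : F.Acts g w) {g' : G} (hg : g' * g = 1) (v : Vec) :
    g * F.el v * g' = F.el (sact w v) := by
  rw [eq_inv_of_mul_eq_one_left hg]
  exact h v

/-- Fusion in `J` is by signed permutations. -/
theorem fusion_vec {g : G} {u v : Vec} (h : g * F.el u * g⁻¹ = F.el v) :
    ∃ w : Code, sact w u = v := by
  obtain ⟨m, hm, hme⟩ := B.fusion (F.el_mem u) (F.el_mem v) h
  obtain ⟨w, hw⟩ := F.code m hm
  exact ⟨w, F.el_inj.1 ((hw u).symm.trans hme)⟩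

end Frame

namespace FullFrame

variable {G : Type*} [Group G] [Finite G] {B : Base G} (F : FullFrame B)

/-- The involution `z`. -/
abbrev z0 : G := F.p (Equiv.swap 0 1)

/-- The sign change of the first two coordinates. -/
abbrev s01 : G := F.r 0 * F.r 1

/-- The element inverting `J`. -/
abbrev s012 : G := F.r 0 * F.r 1 * F.r 2

/-- The conjugate `(1,1,-1)` of `a`. -/
abbrev b0 : G := F.el bvec

theorem el_a' : F.el avec = B.a := F.toFrame.el_avec

theorem z_sq : F.z0 * F.z0 = 1 := by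
  rw [← map_mul, Equiv.swap_mul_self, map_one]

theorem z_inv : F.z0⁻¹ = F.z0 := inv_eq_of_mul_eq_one_right F.z_sq

theorem z_ne : F.z0 ≠ 1 := fun h =>
  cswap_ne (Frame.Acts.unique F.toFrame (F.acts_p (Equiv.swap 0 1)) (by
    rw [show F.p (Equiv.swap 0 1) = 1 from h]
    exact F.toFrame.acts_one))

theorem z_el {v : Vec} (hv : v 0 = v 1) : F.z0 * F.el v = F.el v * F.z0 := by
  rw [← mul_inv_eq_iff_eq_mul, F.acts_p _ v, cswap_fix v hv]

theorem z_a : F.z0 * B.a = B.a * F.z0 := by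
  rw [← F.el_a']
  exact F.z_el rfl

theorem z_b : F.z0 * F.b0 = F.b0 * F.z0 := F.z_el rfl

theorem z_C : F.z0 ∈ B.C := mem_centralizer_singleton_iff.2 F.z_a

theorem z_r (k : Fin 3) : F.z0 * F.r k = F.r (Equiv.swap 0 1 k) * F.z0 :=
  mul_inv_eq_iff_eq_mul.1 (F.p_r _ k)

theorem z_r2 : F.z0 * F.r 2 = F.r 2 * F.z0 := by
  rw [F.z_r, Equiv.swap_apply_of_ne_of_ne (by decide) (by decide)]

theorem z_s01 : F.z0 * F.s01 = F.s01 * F.z0 := by
  rw [← mul_assoc, F.z_r 0, Equiv.swap_apply_left, mul_assoc, F.z_r 1, Equiv.swap_apply_right,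
    ← mul_assoc, F.r_comm 1 0]

theorem z_s012 : F.z0 * F.s012 = F.s012 * F.z0 :=
  ((show Commute F.z0 F.s01 from F.z_s01).mul_right (show Commute F.z0 (F.r 2) from F.z_r2)).eq

theorem s01_sq : F.s01 * F.s01 = 1 := by
  rw [show F.s01 * F.s01 = F.r 0 * (F.r 1 * F.r 0) * F.r 1 by group, ← F.r_comm 0 1, ← mul_assoc,
    F.r_sq, one_mul, F.r_sq]

theorem s01_r2 : F.s01 * F.r 2 = F.r 2 * F.s01 := by
  rw [mul_assoc, F.r_comm 1 2, ← mul_assoc, F.r_comm 0 2, mul_assoc]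

theorem s012_r2 : F.s012 * F.r 2 = F.r 2 * F.s012 := by
  show F.s01 * F.r 2 * F.r 2 = F.r 2 * (F.s01 * F.r 2)
  rw [← mul_assoc, F.s01_r2]

theorem s012_sq : F.s012 * F.s012 = 1 := by
  show F.s01 * F.r 2 * (F.s01 * F.r 2) = 1
  rw [show F.s01 * F.r 2 * (F.s01 * F.r 2) = F.s01 * (F.r 2 * F.s01) * F.r 2 by group, ← F.s01_r2,
    ← mul_assoc, F.s01_sq, one_mul, F.r_sq]

theorem acts_s01 : F.toFrame.Acts F.s01 (cmul (cone 0) (cone 1)) :=
  Frame.Acts.mul _ (F.acts_r 0) (F.acts_r 1)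

theorem acts_s012 : F.toFrame.Acts F.s012 (cmul (cmul (cone 0) (cone 1)) (cone 2)) :=
  Frame.Acts.mul _ F.acts_s01 (F.acts_r 2)

theorem r2_a : F.r 2 * B.a * F.r 2 = F.b0 := by
  rw [← F.el_a', F.toFrame.acts_conj (F.acts_r 2) (F.r_sq 2), cone_bvec.1]

theorem r2_b : F.r 2 * F.b0 * F.r 2 = B.a := by
  rw [← F.el_a', F.toFrame.acts_conj (F.acts_r 2) (F.r_sq 2), cone_bvec.2]

theorem s01_a : F.s01 * B.a * F.s01 = F.b0⁻¹ := by
  rw [← F.el_a', F.toFrame.acts_conj F.acts_s01 F.s01_sq, cone_avec.1]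
  exact F.toFrame.el_neg _

theorem s012_a : F.s012 * B.a * F.s012 = B.a⁻¹ := by
  rw [← F.el_a', F.toFrame.acts_conj F.acts_s012 F.s012_sq, cone_avec.2.1]
  exact F.toFrame.el_neg _

theorem b_J : F.b0 ∈ B.J := F.toFrame.el_mem _

theorem b_not_za : F.b0 ∉ B.Za := by
  intro h
  rw [Base.Za, ← F.el_a'] at h
  obtain ⟨k, hk⟩ := F.toFrame.zpowers_iff.1 h
  exact bvec_ne k (F.toFrame.el_inj.1 hk)

theorem b_not_R : F.b0 ∉ B.R := by
  intro h
  have hJ := Base.cent_x (Base.nfacts B) F.b_J h F.b_not_za F.z_C F.z_b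
  have h3 := B.J_exp _ hJ
  rw [pow_succ, pow_two, F.z_sq, one_mul] at h3
  exact F.z_ne h3

/-- The quaternion group in `C(a) ∩ C(z)`. -/
noncomputable def Qa : Subgroup G :=
  Classical.choose (Base.exists_quat (B := B) F.z_C F.z_sq F.z_ne)

theorem Qa_spec : Base.IsQuat B F.z0 F.Qa :=
  Classical.choose_spec (Base.exists_quat (B := B) F.z_C F.z_sq F.z_ne)

theorem z_Qa : F.z0 ∈ F.Qa := F.Qa_spec.t_mem F.z_C F.z_sq

/-- The quaternion group in `C(a') ∩ C(z)`. -/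
noncomputable def Qb : Subgroup G := F.Qa.map (MulAut.conj (F.r 2)).toMonoidHom

theorem r2_conj (g : G) : F.r 2 * (F.r 2 * g * F.r 2) * F.r 2 = g := by
  rw [show F.r 2 * (F.r 2 * g * F.r 2) * F.r 2 = (F.r 2 * F.r 2) * g * (F.r 2 * F.r 2) by group,
    F.r_sq, one_mul, mul_one]

theorem r2_conj_mul (g h : G) :
    F.r 2 * (g * h) * F.r 2 = F.r 2 * g * F.r 2 * (F.r 2 * h * F.r 2) := by
  rw [show F.r 2 * g * F.r 2 * (F.r 2 * h * F.r 2) = F.r 2 * g * (F.r 2 * F.r 2) * h * F.r 2 by group,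
    F.r_sq, mul_one]
  group

theorem mem_Qb {g : G} : g ∈ F.Qb ↔ F.r 2 * g * F.r 2 ∈ F.Qa := by
  constructor
  · rintro ⟨q, hq, rfl⟩
    show F.r 2 * (F.r 2 * q * (F.r 2)⁻¹) * F.r 2 ∈ F.Qa
    rwa [F.r_inv, F.r2_conj]
  · intro h
    refine ⟨_, h, ?_⟩
    show F.r 2 * (F.r 2 * g * F.r 2) * (F.r 2)⁻¹ = g
    rw [F.r_inv, F.r2_conj]

theorem r2_Qa {q : G} (hq : q ∈ F.Qa) : F.r 2 * q * F.r 2 ∈ F.Qb := by
  rw [mem_Qb, F.r2_conj]
  exact hq

theorem r2_Qb {q : G} (hq : q ∈ F.Qb) : F.r 2 * q * F.r 2 ∈ F.Qa := F.mem_Qb.1 hq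

theorem z_Qb : F.z0 ∈ F.Qb := by
  rw [mem_Qb, ← F.z_r2, mul_assoc, F.r_sq, mul_one]
  exact F.z_Qa

theorem Qb_comm_z {q : G} (hq : q ∈ F.Qb) : q * F.z0 = F.z0 * q := by
  have h := F.Qa_spec.comm (F.r2_Qb hq)
  have hz : Commute (F.r 2) F.z0 := F.z_r2.symm
  have := ((hz.mul_left (show Commute (F.r 2 * q * F.r 2) F.z0 from h)).mul_left hz).eq
  rwa [F.r2_conj] at this

theorem Qb_comm_b {q : G} (hq : q ∈ F.Qb) : q * F.b0 = F.b0 * q := by
  have h := F.Qa_spec.comm_a (F.r2_Qb hq)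
  rw [← F.r2_a, ← F.r2_conj q, ← F.r2_conj_mul, ← F.r2_conj_mul, h]

/-- The plane `v₀ = v₁` of `J`. -/
def E : Subgroup G where
  carrier := {x | ∃ v : Vec, v 0 = v 1 ∧ F.el v = x}
  one_mem' := ⟨0, rfl, F.toFrame.el_zero⟩
  mul_mem' := by
    rintro _ _ ⟨v, hv, rfl⟩ ⟨w, hw, rfl⟩
    exact ⟨v + w, by simp [hv, hw], F.toFrame.el_add v w⟩
  inv_mem' := by
    rintro _ ⟨v, hv, rfl⟩
    exact ⟨-v, by simp [hv], F.toFrame.el_neg v⟩

theorem E_le_J : F.E ≤ B.J := by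
  rintro _ ⟨v, -, rfl⟩
  exact F.toFrame.el_mem v

theorem a_E : B.a ∈ F.E := ⟨avec, rfl, F.el_a'⟩

theorem b_E : F.b0 ∈ F.E := ⟨bvec, rfl, rfl⟩

theorem z_E {x : G} (hx : x ∈ F.E) : F.z0 * x = x * F.z0 := by
  obtain ⟨v, hv, rfl⟩ := hx
  exact F.z_el hv

end FullFrame

end CfsgLib.Recog.SpSixThree
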