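import Cfsg.Agent.Lib.Recog.SpSixThree.SmallFrame
import Cfsg.Agent.Lib.Comp.Signalizer

/-!
# `E`-invariant subgroups of `C(z)`: the two quaternion groups commute

With `C(e_k) ≤ M`, every `E`-invariant subgroup of `C(z)` of order prime to three is generated by
its intersections with `Q` and `Q'`; the group `L` of elements of `C(z)` centralising `Q/⟨z⟩` has
a normal `3`-complement, whence `[Q, Q'] = 1`.
-/

set_option autoImplicit false
set_option Elab.async false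
set_option linter.unusedSectionVars false

namespace CfsgLib.Recog.SpSixThree

open Subgroup

theorem sl_q_comm : ∀ x y : SLT, x * x * (x * x) = 1 → y * y * (y * y) = 1 →
    x * y * x⁻¹ = y ∨ x * y * x⁻¹ = y * -1 := by decide +kernel

theorem sl_orbit_gen : ∀ y p q : SLT, y * y * y = 1 → y ≠ 1 → p * p = -1 → q * q * (q * q) = 1 →
    q = 1 ∨ q = -1 ∨ q = p ∨ q = -1 * p ∨ q = y * p * y⁻¹ ∨ q = -1 * (y * p * y⁻¹) ∨
      q = p * (y * p * y⁻¹) ∨ q = -1 * (p * (y * p * y⁻¹)) := by decide +kernel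

theorem cswap_cases : cperm (Equiv.swap 0 1) ≠ cmul (cone 0) (cone 1) ∧
    cperm (Equiv.swap 0 1) ≠ cone 2 ∧
    cperm (Equiv.swap 0 1) ≠ cmul (cmul (cone 0) (cone 1)) (cone 2) := by decide +kernel

theorem dvec_span : dvec = -(avec + bvec) := by decide +kernel

theorem evec_span : evec 2 = -(avec + -bvec) := by decide +kernel

namespace FullFrame

variable {G : Type*} [Group G] [Finite G] {B : Base G} (F : FullFrame B)

theorem a_ne_inv : B.a ≠ B.a⁻¹ := fun h => by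
  have h3 := B.a_three
  rw [pow_succ, pow_two, mul_eq_one_iff_eq_inv.2 h, one_mul] at h3
  exact B.a_ne_one h3

theorem E_elem : Cfsg.IsElementaryAbelian 3 F.E :=
  ⟨⟨⟨fun x y => Subtype.ext (B.J_comm x (F.E_le_J x.2) y (F.E_le_J y.2))⟩⟩,
    fun x hx => B.J_exp x (F.E_le_J hx)⟩

theorem eq_one_of_coprime {W : Subgroup G} (hW : (Nat.card W).Coprime 3) {x : G} (hx : x ∈ W)
    (hxJ : x ∈ B.J) : x = 1 := by
  rw [← orderOf_eq_one_iff]
  exact Nat.eq_one_of_dvd_coprimes hW (Subgroup.orderOf_dvd_natCard _ hx)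
    (orderOf_dvd_of_pow_eq_one (B.J_exp x hxJ))

theorem smul_mem_plane {p : Vec} (hp : p 0 = p 1) : F.el p ∈ F.E := ⟨p, hp, rfl⟩

/-- The quaternion pieces of an element of an `E`-invariant group of order prime to three. -/
theorem inv_piece (hS : F.Small) {W : Subgroup G} (hW : (Nat.card W).Coprime 3)
    (hWa : B.a ∈ Subgroup.normalizer (W : Set G)) (hWz : ∀ w ∈ W, w * F.z0 = F.z0 * w)
    {p : Vec} (hp : p = avec ∨ p = bvec ∨ p = evec 2 ∨ p = dvec) {w : G} (hw : w ∈ W)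
    (hwp : w * F.el p = F.el p * w) : w ∈ F.Qa ∨ w ∈ F.Qb := by
  have hcop : (orderOf w).Coprime 3 :=
    Nat.Coprime.of_dvd_left (Subgroup.orderOf_dvd_natCard _ hw) hW
  have hmem : w * B.a = B.a * w → w ∈ F.Qa := fun h =>
    F.Qa_spec.mem_of_coprime (mem_centralizer_singleton_iff.2 h) (hWz w hw) hcop
  have hM : w ∈ B.M → w ∈ F.Qa := by
    intro hwM
    refine hmem ?_
    have h1 : B.a * w * B.a⁻¹ * w⁻¹ ∈ W :=
      W.mul_mem ((mem_normalizer_iff.1 hWa w).1 hw) (W.inv_mem hw)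
    have h2 : B.a * w * B.a⁻¹ * w⁻¹ ∈ B.J := by
      rw [show B.a * w * B.a⁻¹ * w⁻¹ = B.a * (w * B.a⁻¹ * w⁻¹) by group]
      exact B.J.mul_mem B.a_mem_J ((mem_normalizer_iff.1 hwM _).1 (B.J.inv_mem B.a_mem_J))
    have h3 := eq_one_of_coprime hW h1 h2
    rw [mul_inv_eq_one, mul_inv_eq_iff_eq_mul] at h3
    exact h3.symm
  rcases hp with rfl | rfl | rfl | rfl
  · left
    refine hmem ?_
    rwa [← F.el_a']
  · right
    rw [F.mem_Qb]
    refine F.Qa_spec.mem_of_coprime (mem_centralizer_singleton_iff.2 ?_) ?_ ?_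
    · have h1 : w * F.b0 = F.b0 * w := hwp
      rw [← F.r2_b, ← F.r2_conj_mul, ← F.r2_conj_mul, h1]
    · have h1 : Commute (F.r 2) F.z0 := F.z_r2.symm
      exact ((h1.mul_left (show Commute w F.z0 from hWz w hw)).mul_left h1).eq
    · have he : F.r 2 * w * F.r 2 = MulAut.conj (F.r 2) w := by
        rw [MulAut.conj_apply, F.r_inv]
      rw [he, MulEquiv.orderOf_eq]
      exact hcop
  · exact Or.inl (hM (hS 2 (mem_centralizer_singleton_iff.2 hwp)))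
  · refine Or.inl (hM (F.cent_d (mem_centralizer_singleton_iff.2 ?_)))
    show w * (F.el (evec 0) * F.el (evec 1)) = F.el (evec 0) * F.el (evec 1) * w
    rw [← F.toFrame.el_add]
    exact hwp

/-- An `E`-invariant subgroup of `C(z)` of order prime to three is generated by its parts in
`Q` and `Q'`. -/
theorem inv_le (hS : F.Small) {W K : Subgroup G} (hW : (Nat.card W).Coprime 3)
    (hWa : B.a ∈ Subgroup.normalizer (W : Set G)) (hWb : F.b0 ∈ Subgroup.normalizer (W : Set G))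
    (hWz : ∀ w ∈ W, w * F.z0 = F.z0 * w) (hKa : ∀ w ∈ W, w ∈ F.Qa → w ∈ K)
    (hKb : ∀ w ∈ W, w ∈ F.Qb → w ∈ K) : W ≤ K := by
  haveI : Fact (Nat.Prime 3) := ⟨Nat.prime_three⟩
  have hEle : F.E ≤ Subgroup.normalizer (W : Set G) := by
    rintro _ ⟨v, hv, rfl⟩
    by_cases hv0 : v = 0
    · rw [hv0, F.toFrame.el_zero]
      exact one_mem _
    have hd : F.el dvec ∈ Subgroup.normalizer (W : Set G) := by
      rw [dvec_span, F.toFrame.el_neg, F.toFrame.el_add, F.el_a']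
      exact inv_mem (mul_mem hWa hWb)
    have he : F.el (evec 2) ∈ Subgroup.normalizer (W : Set G) := by
      rw [evec_span, F.toFrame.el_neg, F.toFrame.el_add,
        F.toFrame.el_neg, F.el_a']
      exact inv_mem (mul_mem hWa (inv_mem hWb))
    obtain ⟨k, -, hk | hk | hk | hk⟩ := plane_line v hv hv0 <;> rw [hk, F.toFrame.el_smul]
    · exact pow_mem (F.el_a' ▸ hWa) _
    · exact pow_mem hWb _
    · exact pow_mem he _
    · exact pow_mem hd _
  have hne : F.E ≠ ⊥ := fun h => B.a_ne_one (by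
    have := F.a_E
    rwa [h, mem_bot] at this)
  rw [CfsgLib.Comp.eq_iSup_centralizer_hyperplane F.E_elem hne
    ((Nat.Prime.coprime_iff_not_dvd Nat.prime_three).1 hW.symm) hEle]
  refine iSup_le fun D => ?_
  obtain ⟨D, hDE, hDi⟩ := D
  obtain ⟨e, he, he1⟩ : ∃ e ∈ D, e ≠ 1 := by
    by_contra hc
    push Not at hc
    have hbot : D = ⊥ := (Subgroup.eq_bot_iff_forall D).2 hc
    rw [hbot, relIndex_bot_left] at hDi
    have hE' : zpowers B.a = F.E := eq_of_le_of_card_ge (zpowers_le.2 F.a_E)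
      (by rw [hDi, Nat.card_zpowers, B.ha])
    exact F.b_not_za (hE'.ge F.b_E)
  rintro w ⟨hw, hwD⟩
  obtain ⟨v, hv, rfl⟩ := hDE he
  have hv0 : v ≠ 0 := fun h => he1 (by rw [h, F.toFrame.el_zero])
  have hwe : w * F.el v = F.el v * w := (mem_centralizer_iff.1 hwD _ he).symm
  obtain ⟨k, hk, hkv⟩ := plane_line v hv hv0
  obtain ⟨p, hp, rfl⟩ : ∃ p, (p = avec ∨ p = bvec ∨ p = evec 2 ∨ p = dvec) ∧ v = k • p := by
    rcases hkv with h | h | h | h
    · exact ⟨_, Or.inl rfl, h⟩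
    · exact ⟨_, Or.inr (Or.inl rfl), h⟩
    · exact ⟨_, Or.inr (Or.inr (Or.inl rfl)), h⟩
    · exact ⟨_, Or.inr (Or.inr (Or.inr rfl)), h⟩
  rcases F.inv_piece hS hW hWa hWz hp hw (F.toFrame.comm_of_smul hk hwe) with h | h
  · exact hKa w hw h
  · exact hKb w hw h

/-- The elements of `C(z)` centralising `Q / ⟨z⟩`. -/
def L : Subgroup G where
  carrier := {g | g * F.z0 = F.z0 * g ∧ ∀ q ∈ F.Qa, g * q * g⁻¹ = q ∨ g * q * g⁻¹ = q * F.z0}
  one_mem' := ⟨by rw [one_mul, mul_one], fun q _ => Or.inl (by group)⟩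
  mul_mem' := by
    rintro g h ⟨hg, hgq⟩ ⟨hh, hhq⟩
    refine ⟨((show Commute g F.z0 from hg).mul_left hh).eq, fun q hq => ?_⟩
    rw [show g * h * q * (g * h)⁻¹ = g * (h * q * h⁻¹) * g⁻¹ by group]
    rcases hhq q hq with e | e <;> rw [e]
    · exact hgq q hq
    · rw [show g * (q * F.z0) * g⁻¹ = g * q * g⁻¹ * (g * F.z0 * g⁻¹) by group, hg, mul_inv_cancel_right]
      rcases hgq q hq with e' | e' <;> rw [e']
      · exact Or.inr rfl
      · exact Or.inl (by rw [mul_assoc, F.z_sq, mul_one])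
  inv_mem' := by
    rintro g ⟨hg, hgq⟩
    refine ⟨((show Commute g F.z0 from hg).inv_left).eq, fun q hq => ?_⟩
    rw [inv_inv]
    rcases hgq q hq with e | e
    · left
      nth_rewrite 1 [← e]
      group
    · right
      have h2 : g⁻¹ * F.z0 * g = F.z0 := by rw [mul_assoc, ← hg, inv_mul_cancel_left]
      calc g⁻¹ * q * g = g⁻¹ * (g * q * g⁻¹ * F.z0) * g := by rw [e, mul_assoc q, F.z_sq, mul_one]
        _ = q * (g⁻¹ * F.z0 * g) := by group
        _ = q * F.z0 := by rw [h2]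

theorem L_conj {e g : G} (hez : e * F.z0 = F.z0 * e) (he : ∀ q ∈ F.Qa, e⁻¹ * q * e ∈ F.Qa)
    (hg : g ∈ F.L) : e * g * e⁻¹ ∈ F.L := by
  refine ⟨(((show Commute e F.z0 from hez).mul_left hg.1).mul_left
    (show Commute e F.z0 from hez).inv_left).eq, fun q hq => ?_⟩
  rw [show e * g * e⁻¹ * q * (e * g * e⁻¹)⁻¹ = e * (g * (e⁻¹ * q * e) * g⁻¹) * e⁻¹ by group]
  rcases hg.2 _ (he q hq) with h | h <;> rw [h]
  · exact Or.inl (by group)
  · right
    rw [show e * (e⁻¹ * q * e * F.z0) * e⁻¹ = q * (e * F.z0 * e⁻¹) by group, hez, mul_inv_cancel_right]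

theorem Qa_L {q : G} (hq : q ∈ F.Qa) : q ∈ F.L := by
  refine ⟨F.Qa_spec.comm hq, fun p hp => ?_⟩
  have hc : q * p * q⁻¹ ∈ F.Qa := F.Qa.mul_mem (F.Qa.mul_mem hq hp) (F.Qa.inv_mem hq)
  have hqC := F.Qa_spec.le_C hq
  have hpC := F.Qa_spec.le_C hp
  rcases sl_q_comm (B.slx q) (B.slx p) (F.Qa_spec.slx_four hq) (F.Qa_spec.slx_four hp) with h | h
  · exact Or.inl (F.Qa_spec.inj _ hc _ hp (by rw [Base.slx_conj hqC hpC, h]))
  · exact Or.inr (F.Qa_spec.inj _ hc _ (F.Qa.mul_mem hp F.z_Qa) (by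
      rw [Base.slx_conj hqC hpC, h, Base.slx_mul hpC F.z_C, Base.slx_invol F.z_C F.z_sq F.z_ne]))

theorem a_L : B.a ∈ F.L :=
  ⟨F.z_a.symm, fun _ hq => Or.inl (mul_inv_eq_iff_eq_mul.2 (F.Qa_spec.comm_a hq).symm)⟩

theorem E_conj {e q : G} (he : e ∈ F.E) (hq : q ∈ F.Qa) : e⁻¹ * q * e ∈ F.Qa := by
  have h := F.Qa_spec.conj_mem (g := e⁻¹) (inv_mem (B.J_le (F.E_le_J he)))
    ((show Commute F.z0 e from F.z_E he).inv_right).symm.eq hq
  rwa [inv_inv] at h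

theorem slx_b : B.slx F.b0 * B.slx F.b0 * B.slx F.b0 = 1 ∧ B.slx F.b0 ≠ 1 := by
  have hb : F.b0 ∈ B.C := B.J_le F.b_J
  refine ⟨?_, fun h => F.b_not_R ((Base.slx_eq_one hb).1 h)⟩
  rw [← Base.slx_mul hb hb, ← Base.slx_mul (mul_mem hb hb) hb, ← pow_two, ← pow_succ,
    B.J_exp _ F.b_J, Base.slx_one]

theorem b_not_L : F.b0 ∉ F.L := by
  intro h
  obtain ⟨q, -, hy⟩ := sl_act_pm (B.slx F.b0) 1 F.slx_b.1 (by simp) fun y hy => by
    obtain ⟨q, hq, rfl⟩ := F.Qa_spec.img y hy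
    have hqC := F.Qa_spec.le_C hq
    rw [← Base.slx_conj (B.J_le F.b_J) hqC, one_mul, inv_one, mul_one]
    rcases h.2 q hq with e | e
    · exact Or.inl (by rw [e])
    · right
      rw [e, Base.slx_mul hqC F.z_C, Base.slx_invol F.z_C F.z_sq F.z_ne, sl_neg_comm]
  exact F.slx_b.2 (conj_eq_one_iff.1 hy)

theorem L_C {g : G} (hg : g ∈ F.L) (hgC : g ∈ B.C) :
    ∃ q ∈ F.Qa, ∃ j < 3, g = q * B.a ^ j := by
  obtain ⟨q, hq, i, j, hi, hj, rfl⟩ :=
    F.Qa_spec.decomp F.z_C F.z_sq F.z_ne F.b_J F.b_not_R F.z_b hgC hg.1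
  refine ⟨q, hq, j, hj, ?_⟩
  have hb : F.b0 ^ i ∈ F.L := by
    have h1 := F.L.mul_mem (F.L.mul_mem (F.L.inv_mem (F.Qa_L hq)) hg) (F.L.inv_mem (F.L.pow_mem F.a_L j))
    rwa [show q⁻¹ * (q * F.b0 ^ i * B.a ^ j) * (B.a ^ j)⁻¹ = F.b0 ^ i by group] at h1
  interval_cases i
  · rw [pow_zero, mul_one]
  · exact absurd (by simpa using hb) F.b_not_L
  · refine absurd ?_ F.b_not_L
    have h2 := F.L.inv_mem hb
    rwa [inv_eq_of_mul_eq_one_right (a := F.b0 ^ 2) (b := F.b0)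
      (by rw [← pow_succ]; exact B.J_exp _ F.b_J)] at h2

theorem Qa_a_pow {q : G} (hq : q ∈ F.Qa) (j : ℕ) {n : ℕ} (h : (q * B.a ^ j) ^ 3 ^ n = 1) : q = 1 := by
  have hc : Commute q (B.a ^ j) := (show Commute q B.a from F.Qa_spec.comm_a hq).pow_right j
  have ha : (B.a ^ j) ^ 3 ^ (n + 1) = 1 := by
    rw [← pow_mul, mul_comm, pow_succ', mul_assoc, pow_mul, B.a_three, one_pow]
  have h1 : q ^ 3 ^ (n + 1) = 1 := by
    have h' : (q * B.a ^ j) ^ 3 ^ (n + 1) = 1 := by rw [pow_succ, pow_mul, h, one_pow]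
    rwa [hc.mul_pow, ha, mul_one] at h'
  rw [← orderOf_eq_one_iff]
  refine Nat.eq_one_of_dvd_coprimes (Nat.Coprime.pow (n + 1) 3 (by norm_num : Nat.Coprime 3 2))
    (orderOf_dvd_of_pow_eq_one h1) ?_
  rw [show 2 ^ 3 = Nat.card F.Qa by rw [F.Qa_spec.card]; norm_num]
  exact Subgroup.orderOf_dvd_natCard _ hq

theorem L_no_inv {g : G} (hg : g ∈ F.L) (hga : g * B.a * g⁻¹ = B.a⁻¹) : False := by
  have hb : F.b0 ∈ B.C := B.J_le F.b_J
  have hwC : g * F.b0 * g⁻¹ ∈ B.C := Base.sl_inv_of_conj hga (Or.inr rfl) hb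
  have hw3 : B.slx (g * F.b0 * g⁻¹) * B.slx (g * F.b0 * g⁻¹) * B.slx (g * F.b0 * g⁻¹) = 1 := by
    rw [← Base.slx_mul hwC hwC, ← Base.slx_mul (mul_mem hwC hwC) hwC, ← pow_two, ← pow_succ, conj_pow,
      B.J_exp _ F.b_J, mul_one, mul_inv_cancel, Base.slx_one]
  obtain ⟨y, hy, hye⟩ := sl_act_pm _ _ hw3 F.slx_b.1 fun y hy => by
    obtain ⟨q, hq, rfl⟩ := F.Qa_spec.img y hy
    have hqC := F.Qa_spec.le_C hq
    rw [← Base.slx_conj hwC hqC, ← Base.slx_conj hb hqC]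
    obtain ⟨p, hp, hgp⟩ : ∃ p ∈ F.Qa, g * p * g⁻¹ = q ∧ (p = q ∨ p = q * F.z0) := by
      rcases hg.2 q hq with e | e
      · exact ⟨q, hq, e, Or.inl rfl⟩
      · refine ⟨q * F.z0, F.Qa.mul_mem hq F.z_Qa, ?_, Or.inr rfl⟩
        rw [show g * (q * F.z0) * g⁻¹ = g * q * g⁻¹ * (g * F.z0 * g⁻¹) by group, e, hg.1,
          mul_inv_cancel_right, mul_assoc, F.z_sq, mul_one]
    have hbp : F.b0 * p * F.b0⁻¹ ∈ F.Qa := F.Qa_spec.conj_mem hb F.z_b.symm hp
    have he : g * F.b0 * g⁻¹ * q * (g * F.b0 * g⁻¹)⁻¹ = g * (F.b0 * p * F.b0⁻¹) * g⁻¹ := by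
      rw [← hgp.1]; group
    have hbq : F.b0 * q * F.b0⁻¹ ∈ B.C := mul_mem (mul_mem hb hqC) (inv_mem hb)
    have hzb : F.b0 * (q * F.z0) * F.b0⁻¹ = F.b0 * q * F.b0⁻¹ * F.z0 := by
      rw [show F.b0 * (q * F.z0) * F.b0⁻¹ = F.b0 * q * F.b0⁻¹ * (F.b0 * F.z0 * F.b0⁻¹) by group,
        ← F.z_b, mul_inv_cancel_right]
    rw [he]
    rcases hgp.2 with rfl | rfl <;> rcases hg.2 _ hbp with e | e <;> rw [e]
    · exact Or.inl rfl
    · right
      rw [Base.slx_mul hbq F.z_C, Base.slx_invol F.z_C F.z_sq F.z_ne, sl_neg_comm]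
    · right
      rw [hzb, Base.slx_mul hbq F.z_C, Base.slx_invol F.z_C F.z_sq F.z_ne, sl_neg_comm]
    · left
      rw [hzb, mul_assoc, F.z_sq, mul_one]
  obtain ⟨q, hq, rfl⟩ := F.Qa_spec.img y hy
  have hqC := F.Qa_spec.le_C hq
  refine Base.no_invert (Base.nfacts B) (g := q * g) ?_ F.b_J F.b_not_R ?_
  · rw [show q * g * B.a * (q * g)⁻¹ = q * (g * B.a * g⁻¹) * q⁻¹ by group, hga,
      ((show Commute q B.a from F.Qa_spec.comm_a hq).inv_right).eq, mul_inv_cancel_right]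
  · have hc : q * g * F.b0 * (q * g)⁻¹ ∈ B.C := by
      rw [show q * g * F.b0 * (q * g)⁻¹ = q * (g * F.b0 * g⁻¹) * q⁻¹ by group]
      exact mul_mem (mul_mem hqC hwC) (inv_mem hqC)
    refine (Base.slx_eq_one (mul_mem hc (inv_mem hb))).1 ?_
    rw [Base.slx_mul hc (inv_mem hb), Base.slx_inv hb, mul_inv_eq_one,
      show q * g * F.b0 * (q * g)⁻¹ = q * (g * F.b0 * g⁻¹) * q⁻¹ by group, Base.slx_conj hqC hwC, hye]

/-- The normal 3-complement of `L`. -/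
theorem exists_compl : ∃ N : Subgroup G, N ≤ F.L ∧ (Nat.card N).Coprime 3 ∧
    (∀ g ∈ F.L, (orderOf g).Coprime 3 → g ∈ N) ∧ ∀ g ∈ F.L, ∃ n ∈ N, ∃ c ∈ B.Za, g = n * c := by
  classical
  haveI : Fact (Nat.Prime 3) := ⟨Nat.prime_three⟩
  have hZL : B.Za ≤ F.L := zpowers_le.2 F.a_L
  have hZp : IsPGroup 3 (B.Za.subgroupOf F.L) :=
    (IsPGroup.of_card (n := 1) (by rw [Base.card_za]; norm_num) : IsPGroup 3 B.Za).of_equiv
      (subgroupOfEquivOfLe hZL).symm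
  obtain ⟨P, hP⟩ := hZp.exists_le_sylow
  have hPZ : ∀ p : F.L, p ∈ (P : Subgroup F.L) → (p : G) ∈ B.Za := by
    by_contra hne
    push Not at hne
    obtain ⟨p₀, hp₀, hp₀Z⟩ := hne
    haveI := P.isPGroup'.isNilpotent
    have hlt : (B.Za.subgroupOf F.L).subgroupOf (P : Subgroup F.L) < ⊤ :=
      lt_top_iff_ne_top.2 fun h => hp₀Z (mem_subgroupOf.1 (subgroupOf_eq_top.1 h hp₀))
    obtain ⟨g, hgn, hgZ⟩ := SetLike.exists_of_lt (Group.normalizerCondition_of_isNilpotent _ hlt)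
    refine hgZ (mem_subgroupOf.2 (mem_subgroupOf.2 ?_))
    obtain ⟨k, hk⟩ := P.isPGroup' g
    have hk' : ((g : F.L) : G) ^ 3 ^ k = 1 := by
      simpa using congrArg (fun x : (P : Subgroup F.L) => ((x : F.L) : G)) hk
    have hc : ((g : F.L) : G) * B.a * ((g : F.L) : G)⁻¹ ∈ B.Za :=
      mem_subgroupOf.1 (mem_subgroupOf.1 ((mem_normalizer_iff.1 hgn
        ⟨⟨B.a, F.a_L⟩, hP (mem_subgroupOf.2 (mem_zpowers _))⟩).1
          (mem_subgroupOf.2 (mem_subgroupOf.2 (mem_zpowers _)))))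
    have hgC : ((g : F.L) : G) ∈ B.C := by
      rcases Base.za_cases hc with h | h | h
      · exact absurd (conj_eq_one_iff.1 h) B.a_ne_one
      · exact mem_centralizer_singleton_iff.2 (mul_inv_eq_iff_eq_mul.1 h)
      · exact (F.L_no_inv (g : F.L).2 h).elim
    obtain ⟨q, hq, j, -, he⟩ := F.L_C (g : F.L).2 hgC
    rw [F.Qa_a_pow hq j (n := k) (by rw [← he]; exact hk'), one_mul] at he
    rw [he]
    exact pow_mem (mem_zpowers _) j
  have hPn : Subgroup.normalizer ((P : Subgroup F.L) : Set F.L) ≤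
      Subgroup.centralizer ((P : Subgroup F.L) : Set F.L) := by
    intro g hg p hp
    refine Subtype.ext ?_
    show (p : G) * g = g * p
    suffices hgC : (g : G) ∈ B.C from (Base.za_comm hgC (hPZ p hp)).symm
    rcases Base.za_cases (hPZ _ ((mem_normalizer_iff.1 hg ⟨B.a, F.a_L⟩).1
      (hP (mem_subgroupOf.2 (mem_zpowers _))))) with h | h | h
    · exact absurd (conj_eq_one_iff.1 h) B.a_ne_one
    · exact mem_centralizer_singleton_iff.2 (mul_inv_eq_iff_eq_mul.1 h)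
    · exact (F.L_no_inv g.2 h).elim
  obtain ⟨N, hN⟩ : ∃ N, N = (MonoidHom.transferSylow P hPn).ker := ⟨_, rfl⟩
  have hcop : (Nat.card N).Coprime 3 := hN ▸ ((Nat.Prime.coprime_iff_not_dvd Nat.prime_three).2
    (MonoidHom.not_dvd_card_ker_transferSylow P hPn)).symm
  refine ⟨N.map F.L.subtype, map_subtype_le _, by rwa [card_map_of_injective F.L.subtype_injective],
    fun g hg hc => ⟨⟨g, hg⟩, hN.ge ?_, rfl⟩, fun g hg => ?_⟩
  · show MonoidHom.transferSylow P hPn ⟨g, hg⟩ = 1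
    obtain ⟨k, hk⟩ := P.isPGroup' (MonoidHom.transferSylow P hPn ⟨g, hg⟩)
    rw [← orderOf_eq_one_iff]
    refine Nat.eq_one_of_dvd_coprimes (hc.pow_right k)
      ((orderOf_map_dvd _ _).trans ?_) (orderOf_dvd_of_pow_eq_one hk)
    rw [← Subgroup.orderOf_coe]
  · obtain ⟨⟨n, p⟩, he, -⟩ :=
      (MonoidHom.ker_transferSylow_isComplement' P hPn).existsUnique (⟨g, hg⟩ : F.L)
    exact ⟨((n : F.L) : G), ⟨_, hN.ge n.2, rfl⟩, ((p : F.L) : G), hPZ p p.2,
      (congrArg Subtype.val he).symm⟩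

theorem E_norm_compl {N : Subgroup G} (hNL : N ≤ F.L) (hc : (Nat.card N).Coprime 3)
    (hmem : ∀ g ∈ F.L, (orderOf g).Coprime 3 → g ∈ N) {e : G} (he : e ∈ F.E) :
    e ∈ Subgroup.normalizer (N : Set G) := by
  refine mem_normalizer_iff_map_conj_eq.2 (eq_of_le_of_card_ge ?_
    (card_map_of_injective (MulAut.conj e).injective).ge)
  rintro _ ⟨n, hn, rfl⟩
  refine hmem _ (F.L_conj (F.z_E he).symm (fun q hq => F.E_conj he hq) (hNL hn)) ?_
  show (orderOf (MulAut.conj e n)).Coprime 3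
  rw [MulEquiv.orderOf_eq]
  exact hc.coprime_dvd_left (Subgroup.orderOf_dvd_natCard _ hn)

end FullFrame

end CfsgLib.Recog.SpSixThree
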