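import Cfsg.Agent.Lib.Recog.SpSixThree.SmallFrame
import Cfsg.Agent.Lib.Invol.Dihedral
import Cfsg.Agent.S3333

/-!
# The centralizer of a sign change `r₂`

`C(r₂)/⟨r₂⟩` has a self-centralising Sylow 3-subgroup `⟨e₀, e₁⟩` with dihedral automizer, so is a
`{2,3}`-group of order 72 or `S₆`; and `r₂` is not conjugate to `r₀r₁`, whose centralizer has
Sylow 3-subgroups of order three.
-/

set_option autoImplicit false
set_option Elab.async false
set_option linter.style.haveILetI false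
set_option linter.unusedSectionVars false
set_option maxRecDepth 100000

namespace CfsgLib.Recog.SpSixThree

open Subgroup

/-- The square of a signed permutation. -/
def csq (w : Code) : Code := cmul w w

theorem stab_eight : ∀ (k : Fin 3) (w : Code), sact w (evec k) = evec k →
    csq (csq (csq w)) = ((fun _ => false), 1) := by decide +kernel

theorem cone_cent_eight : ∀ w : Code, cmul w (cone 2) = cmul (cone 2) w →
    csq (csq (csq w)) = ((fun _ => false), 1) := by decide +kernel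

theorem cone_cent_perm : ∀ w : Code, cmul w (cone 2) = cmul (cone 2) w →
    w.2 = 1 ∨ w.2 = Equiv.swap 0 1 := by decide +kernel

theorem cone_cent_plane : ∀ w : Code, cmul w (cone 2) = cmul (cone 2) w →
    ∀ v : Vec, v 2 = 0 → (sact w v) 2 = 0 := by decide +kernel

theorem cone_fix : ∀ v : Vec, sact (cone 2) v = v ↔ v 2 = 0 := by decide +kernel

set_option synthInstance.maxSize 4096 in
theorem plane_pair : ∀ u v : Vec, u 2 = 0 → v 2 = 0 → (∃ w : Code, sact w (evec 0) = u) →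
    (∃ w : Code, sact w (evec 1) = v) → u ≠ v → u ≠ -v →
    ∃ w : Code, sact w (evec 0) = u ∧ sact w (evec 1) = v := by decide +kernel

set_option synthInstance.maxSize 4096 in
theorem plane_two_lines : ∀ v : Vec, v 2 = 0 → v ≠ 0 → ∃ k : ZMod 3, k ≠ 0 ∧
    (v = k • evec 0 ∨ v = k • evec 1 ∨ v = k • dvec ∨ v = k • sact (cone 1) dvec) := by decide +kernel

theorem evec_indep : evec 0 ≠ evec 1 ∧ evec 0 ≠ -evec 1 ∧ evec 0 ≠ 0 ∧
    (∀ k : ZMod 3, evec 1 ≠ k • evec 0) ∧ evec 0 2 = 0 ∧ evec 1 2 = 0 := by decide +kernel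

set_option synthInstance.maxSize 4096 in
theorem fix_pair : ∀ w : Code, sact w (evec 0) = evec 0 → sact w (evec 1) = evec 1 →
    w = ((fun _ => false), 1) ∨ w = cone 2 := by decide +kernel

theorem word_ne : cmul (cone 1) (cperm (Equiv.swap 0 1)) ≠ ((fun _ => false), 1) ∧
    cmul (cone 1) (cperm (Equiv.swap 0 1)) ≠ cone 2 ∧
    csq (cmul (cone 1) (cperm (Equiv.swap 0 1))) ≠ ((fun _ => false), 1) ∧
    csq (cmul (cone 1) (cperm (Equiv.swap 0 1))) ≠ cone 2 ∧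
    cone 1 ≠ ((fun _ => false), 1) ∧ cone 1 ≠ cone 2 := by decide +kernel

theorem s01_fix : ∀ v : Vec, sact (cmul (cone 0) (cone 1)) v = v → v = v 2 • evec 2 := by decide +kernel

theorem s01_evec : sact (cmul (cone 0) (cone 1)) (evec 2) = evec 2 := by decide +kernel

theorem card_plane : Fintype.card {v : Vec // v 2 = 0} = 9 := by decide +kernel

namespace Frame

variable {G : Type*} [Group G] [Finite G] {B : Base G} (F : Frame B)

theorem acts_eight {g : G} {w : Code} (h : F.Acts g w) :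
    F.Acts (g ^ 8) (csq (csq (csq w))) := by
  have h2 := Acts.mul F h h
  have h4 := Acts.mul F h2 h2
  have h8 := Acts.mul F h4 h4
  rw [show g ^ 8 = g * g * (g * g) * (g * g * (g * g)) by simp only [pow_succ, pow_zero, one_mul, mul_assoc]]
  exact h8

theorem three_mem_J_of {g : G} {w : Code} (h : F.Acts g w)
    (hw : csq (csq (csq w)) = ((fun _ => false), 1)) {n : ℕ} (hn : g ^ 3 ^ n = 1) : g ∈ B.J := by
  have h8 : g ^ 8 ∈ B.J := F.mem_J_of_acts (hw ▸ F.acts_eight h)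
  obtain ⟨m, hm⟩ := exists_pow_eq_self_of_coprime (n := 8) (x := g)
    ((Nat.Coprime.pow_left 3 (by norm_num : Nat.Coprime 2 3)).pow_right n |>.coprime_dvd_right
      (orderOf_dvd_of_pow_eq_one hn))
  rw [← hm]
  exact pow_mem h8 m

end Frame

namespace FullFrame

variable {G : Type*} [Group G] [Finite G] {B : Base G} (F : FullFrame B)

/-- The plane `v₂ = 0` of `J`. -/
def E2 : Subgroup G where
  carrier := {x | ∃ v : Vec, v 2 = 0 ∧ F.el v = x}
  one_mem' := ⟨0, rfl, F.toFrame.el_zero⟩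
  mul_mem' := by
    rintro _ _ ⟨v, hv, rfl⟩ ⟨w, hw, rfl⟩
    exact ⟨v + w, by simp [hv, hw], F.toFrame.el_add v w⟩
  inv_mem' := by
    rintro _ ⟨v, hv, rfl⟩
    exact ⟨-v, by simp [hv], F.toFrame.el_neg v⟩

theorem E2_le_J : F.E2 ≤ B.J := by
  rintro _ ⟨v, -, rfl⟩
  exact F.toFrame.el_mem v

theorem card_E2 : Nat.card F.E2 = 9 := by
  rw [← card_plane, ← Nat.card_eq_fintype_card]
  refine (Nat.card_congr (Equiv.ofBijective
    (fun v : {v : Vec // v 2 = 0} => (⟨F.el v, ⟨v, v.2, rfl⟩⟩ : F.E2)) ⟨fun u v h => ?_, ?_⟩)).symm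
  · exact Subtype.ext (F.toFrame.el_inj.1 (congrArg Subtype.val h))
  · rintro ⟨_, v, hv, rfl⟩
    exact ⟨⟨v, hv⟩, rfl⟩

theorem r2_el_iff {v : Vec} : F.r 2 * F.el v = F.el v * F.r 2 ↔ v 2 = 0 := by
  rw [← cone_fix v, ← mul_inv_eq_iff_eq_mul, F.acts_r 2 v, F.toFrame.el_inj]

theorem E2_comm {x : G} (hx : x ∈ F.E2) : F.r 2 * x = x * F.r 2 := by
  obtain ⟨v, hv, rfl⟩ := hx
  exact F.r2_el_iff.2 hv

theorem mem_E2_of {x : G} (hx : x ∈ B.J) (hc : F.r 2 * x = x * F.r 2) : x ∈ F.E2 := by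
  obtain ⟨v, rfl⟩ := F.toFrame.exists_el hx
  exact ⟨v, F.r2_el_iff.1 hc, rfl⟩

theorem code_comm {g : G} {w : Code} (h : F.toFrame.Acts g w) (hc : g * F.r 2 = F.r 2 * g) :
    cmul w (cone 2) = cmul (cone 2) w := by
  refine Frame.Acts.unique F.toFrame (Frame.Acts.mul _ h (F.acts_r 2)) ?_
  rw [hc]
  exact Frame.Acts.mul _ (F.acts_r 2) h

/-- An element normalising the plane lies in `M`. -/
theorem norm_E2_M {g : G} (hg : ∀ x ∈ F.E2, g * x * g⁻¹ ∈ F.E2) : g ∈ B.M := by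
  obtain ⟨h01, h01', h0, hk, h02, h12⟩ := evec_indep
  obtain ⟨u, hu, hue⟩ := hg _ ⟨evec 0, h02, rfl⟩
  obtain ⟨v, hv, hve⟩ := hg _ ⟨evec 1, h12, rfl⟩
  obtain ⟨w, hwu, hwv⟩ := plane_pair u v hu hv (F.toFrame.fusion_vec hue.symm)
    (F.toFrame.fusion_vec hve.symm)
    (fun h => h01 (F.toFrame.el_inj.1 (mul_left_cancel (mul_right_cancel
      ((hue.symm.trans (congrArg F.el h)).trans hve)))))
    (fun h => h01' (F.toFrame.el_inj.1 (mul_left_cancel (mul_right_cancel (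
      show g * F.el (evec 0) * g⁻¹ = g * F.el (-evec 1) * g⁻¹ by
        rw [← hue, h, F.toFrame.el_neg, hve, F.toFrame.el_neg]; group)))))
  obtain ⟨t, ht⟩ := F.exists_acts w
  have htM := F.toFrame.mem_M_of_acts ht
  have hm : t⁻¹ * g ∈ B.M := by
    refine F.toFrame.plane (F.toFrame.el_mem (evec 0)) (F.toFrame.el_mem (evec 1))
      (F.toFrame.el_ne_one h0) (fun h => ?_) ?_
    · obtain ⟨k, hk'⟩ := F.toFrame.zpowers_iff.1 h
      exact hk k (F.toFrame.el_inj.1 hk')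
    · rintro x (rfl | rfl)
      · have e1 : t * F.el (evec 0) * t⁻¹ = g * F.el (evec 0) * g⁻¹ := by
          rw [← hue, ← hwu]; exact ht _
        calc F.el (evec 0) * (t⁻¹ * g) = t⁻¹ * (t * F.el (evec 0) * t⁻¹) * g := by group
          _ = t⁻¹ * g * F.el (evec 0) := by rw [e1]; group
      · have e1 : t * F.el (evec 1) * t⁻¹ = g * F.el (evec 1) * g⁻¹ := by
          rw [← hve, ← hwv]; exact ht _
        calc F.el (evec 1) * (t⁻¹ * g) = t⁻¹ * (t * F.el (evec 1) * t⁻¹) * g := by group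
          _ = t⁻¹ * g * F.el (evec 1) := by rw [e1]; group
  have := mul_mem htM hm
  rwa [mul_inv_cancel_left] at this

theorem M_norm_E2 {g : G} (hg : g ∈ B.M) (hc : g * F.r 2 = F.r 2 * g) {x : G} (hx : x ∈ F.E2) :
    g * x * g⁻¹ ∈ F.E2 := by
  obtain ⟨w, hw⟩ := F.toFrame.code g hg
  obtain ⟨v, hv, rfl⟩ := hx
  exact ⟨sact w v, cone_cent_plane w (F.code_comm hw hc) v hv, (hw v).symm⟩

/-- `E2` is a maximal 3-subgroup of `C(r₂)`. -/
theorem sylow_r2 {Q : Subgroup G} (hQ : IsPGroup 3 Q) (hQD : Q ≤ centralizer ({F.r 2} : Set G))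
    (hle : F.E2 ≤ Q) : Q = F.E2 := by
  haveI : Fact (Nat.Prime 3) := ⟨Nat.prime_three⟩
  refine (le_antisymm hle ?_).symm
  by_contra hne
  haveI := hQ.isNilpotent
  have hlt : F.E2.subgroupOf Q < ⊤ := lt_top_iff_ne_top.2 fun h => hne (subgroupOf_eq_top.1 h)
  obtain ⟨g, hgn, hg⟩ := SetLike.exists_of_lt (Group.normalizerCondition_of_isNilpotent _ hlt)
  refine hg (mem_subgroupOf.2 ?_)
  have hgM : (g : G) ∈ B.M := F.norm_E2_M fun x hx =>
    mem_subgroupOf.1 ((mem_normalizer_iff.1 hgn ⟨x, hle hx⟩).1 (mem_subgroupOf.2 hx))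
  have hgc : (g : G) * F.r 2 = F.r 2 * g := mem_centralizer_singleton_iff.1 (hQD g.2)
  obtain ⟨w, hw⟩ := F.toFrame.code g hgM
  obtain ⟨n, hn⟩ := hQ g
  exact F.mem_E2_of (F.toFrame.three_mem_J_of hw (cone_cent_eight w (F.code_comm hw hgc))
    (by simpa using congrArg Subtype.val hn)) hgc.symm

theorem el_smul_comm {g : G} {k : ZMod 3} {p : Vec} (hk : k ≠ 0)
    (h : g * F.el (k • p) = F.el (k • p) * g) : g * F.el p = F.el p * g :=
  F.toFrame.comm_of_smul hk h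

/-- The centralizers of the elements of the plane lie in `M`. -/
theorem cent_E2 (hS : F.Small) {x g : G} (hx : x ∈ F.E2) (hx1 : x ≠ 1) (hg : g * x = x * g) :
    g ∈ B.M := by
  obtain ⟨v, hv, rfl⟩ := hx
  obtain ⟨k, hk, h | h | h | h⟩ :=
    plane_two_lines v hv (fun h => hx1 (by rw [h, F.toFrame.el_zero])) <;> rw [h] at hg
  · exact hS 0 (mem_centralizer_singleton_iff.2 (F.el_smul_comm hk hg))
  · exact hS 1 (mem_centralizer_singleton_iff.2 (F.el_smul_comm hk hg))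
  · refine F.cent_d (mem_centralizer_singleton_iff.2 ?_)
    show g * (F.el (evec 0) * F.el (evec 1)) = F.el (evec 0) * F.el (evec 1) * g
    rw [← F.toFrame.el_add]
    exact F.el_smul_comm hk hg
  · have hg' := F.el_smul_comm hk hg
    have hd : F.r 1 * F.el dvec * F.r 1 = F.el (sact (cone 1) dvec) :=
      F.toFrame.acts_conj (F.acts_r 1) (F.r_sq 1) dvec
    have h1 : F.r 1 * g * F.r 1 ∈ B.M := by
      refine F.cent_d (mem_centralizer_singleton_iff.2 ?_)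
      show F.r 1 * g * F.r 1 * (F.el (evec 0) * F.el (evec 1)) =
        F.el (evec 0) * F.el (evec 1) * (F.r 1 * g * F.r 1)
      rw [← F.toFrame.el_add]
      show F.r 1 * g * F.r 1 * F.el dvec = F.el dvec * (F.r 1 * g * F.r 1)
      rw [← hd] at hg'
      have h2 := congrArg (fun y => F.r 1 * y * F.r 1) hg'
      simp only [← mul_assoc] at h2 ⊢
      simp only [F.r_sq, one_mul] at h2
      simpa [mul_assoc, F.r_sq] using h2
    have hr : F.r 1 ∈ B.M := F.toFrame.mem_M_of_acts (F.acts_r 1)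
    have := mul_mem (mul_mem hr h1) hr
    rwa [show F.r 1 * (F.r 1 * g * F.r 1) * F.r 1 = F.r 1 * F.r 1 * g * (F.r 1 * F.r 1) by group,
      F.r_sq, one_mul, mul_one] at this

/-- `64` does not divide `|C(r₂)|`. -/
theorem card_cent_r2 (hS : F.Small) :
    ¬ 64 ∣ Nat.card (centralizer ({F.r 2} : Set G)) := by
  classical
  haveI : Fact (Nat.Prime 2) := ⟨Nat.prime_two⟩
  haveI : Fact (Nat.Prime 3) := ⟨Nat.prime_three⟩
  obtain ⟨D, hD⟩ : ∃ D, D = centralizer ({F.r 2} : Set G) := ⟨_, rfl⟩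
  rw [← hD]
  have hDc : ∀ g ∈ D, g * F.r 2 = F.r 2 * g := fun g hg =>
    mem_centralizer_singleton_iff.1 (hD.le hg)
  have hcD : ∀ g, g * F.r 2 = F.r 2 * g → g ∈ D := fun g hg =>
    hD.ge (mem_centralizer_singleton_iff.2 hg)
  have hr1 : F.r 2 ≠ 1 := fun h => by
    have := F.r2_el_iff (v := evec 2)
    rw [h, one_mul, mul_one] at this
    exact absurd (this.1 rfl) (by decide +kernel)
  obtain ⟨Z2, hZ2⟩ : ∃ Z2, Z2 = (zpowers (F.r 2)).subgroupOf D := ⟨_, rfl⟩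
  haveI hZn : Z2.Normal := ⟨fun u hu g => by
    rw [hZ2, mem_subgroupOf] at hu ⊢
    obtain ⟨n, hn⟩ := mem_zpowers_iff.1 hu
    simp only [Subgroup.coe_mul, Subgroup.coe_inv, ← hn,
      ((show Commute (g : G) (F.r 2) from hDc g g.2).zpow_right n).eq, mul_inv_cancel_right]
    exact zpow_mem_zpowers _ _⟩
  let π := QuotientGroup.mk' Z2
  have hπs : Function.Surjective π := QuotientGroup.mk'_surjective Z2
  have hzc : ∀ u ∈ zpowers (F.r 2), u = 1 ∨ u = F.r 2 := by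
    intro u hu
    obtain ⟨n, rfl⟩ := mem_zpowers_iff.1 hu
    rcases Int.even_or_odd' n with ⟨m, rfl | rfl⟩
    · exact Or.inl (by rw [zpow_mul, zpow_two, F.r_sq, one_zpow])
    · exact Or.inr (by rw [zpow_add, zpow_mul, zpow_two, F.r_sq, one_zpow, one_mul, zpow_one])
  have heq : ∀ x y : D, π x = π y → (x : G) = y ∨ (x : G) = y * F.r 2 := by
    intro x y h
    have h1 : (y⁻¹ * x : D) ∈ Z2 := QuotientGroup.eq.1 h.symm
    rw [hZ2, mem_subgroupOf, Subgroup.coe_mul, Subgroup.coe_inv] at h1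
    rcases hzc _ h1 with e | e
    · exact Or.inl (inv_mul_eq_one.1 e).symm
    · exact Or.inr (by rw [← e, mul_inv_cancel_left])
  have hE2D : F.E2 ≤ D := fun x hx => hcD x (F.E2_comm hx).symm
  have hE2three : ∀ x ∈ F.E2, x ^ 3 = 1 := fun x hx => B.J_exp x (F.E2_le_J hx)
  obtain ⟨Eb, hEb⟩ : ∃ Eb, Eb = (F.E2.subgroupOf D).map π := ⟨_, rfl⟩
  -- congruent elements of order three are equal
  have hlift : ∀ (x : D) (e : G), (x : G) ^ 3 = 1 → e ∈ F.E2 →
      ((x : G) = e ∨ (x : G) = e * F.r 2) → (x : G) = e := by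
    rintro x e hx he (h | h)
    · exact h
    exfalso
    rw [h, (show Commute e (F.r 2) from (F.E2_comm he).symm).mul_pow, hE2three e he, one_mul, pow_succ,
      pow_two, F.r_sq, one_mul] at hx
    exact hr1 hx
  have hconjE : ∀ (g : D), π g ∈ Subgroup.normalizer (Eb : Set (↥D ⧸ Z2)) →
      ∀ x ∈ F.E2, (g : G) * x * (g : G)⁻¹ ∈ F.E2 := by
    intro g hg x hx
    have h1 := (mem_normalizer_iff.1 hg (π ⟨x, hE2D hx⟩)).1
      (hEb.ge ⟨⟨x, hE2D hx⟩, mem_subgroupOf.2 hx, rfl⟩)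
    rw [← map_inv, ← map_mul, ← map_mul] at h1
    obtain ⟨e, he, hee⟩ := hEb.le h1
    have := hlift (g * ⟨x, hE2D hx⟩ * g⁻¹) e (by
      show ((g : G) * x * (g : G)⁻¹) ^ 3 = 1
      rw [conj_pow, hE2three x hx, mul_one, mul_inv_cancel]) (mem_subgroupOf.1 he) (heq _ _ hee.symm)
    rw [show (g : G) * x * (g : G)⁻¹ = (e : G) from this]
    exact mem_subgroupOf.1 he
  have hcard : Nat.card Eb = 9 := by
    rw [← F.card_E2, ← Nat.card_congr (subgroupOfEquivOfLe hE2D).toEquiv, hEb]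
    refine Nat.card_congr (Equiv.ofBijective (fun x : F.E2.subgroupOf D =>
      (⟨π x, ⟨x, x.2, rfl⟩⟩ : (F.E2.subgroupOf D).map π)) ⟨fun x y h => ?_, ?_⟩).symm
    · exact Subtype.ext (Subtype.ext (hlift (x : D) _ (hE2three _ (mem_subgroupOf.1 x.2))
        (mem_subgroupOf.1 y.2) (heq _ _ (congrArg Subtype.val h))))
    · rintro ⟨_, x, hx, rfl⟩
      exact ⟨⟨x, hx⟩, rfl⟩
  -- the Sylow subgroup
  have hE2p : IsPGroup 3 (F.E2.subgroupOf D) :=
    (IsPGroup.of_card (n := 2) (by rw [F.card_E2]; norm_num) : IsPGroup 3 F.E2).of_equiv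
      (subgroupOfEquivOfLe hE2D).symm
  obtain ⟨PD, hPD⟩ := hE2p.exists_le_sylow
  have hPDeq : (PD : Subgroup D) = F.E2.subgroupOf D := by
    refine le_antisymm (fun x hx => ?_) hPD
    have h := F.sylow_r2 (Q := (PD : Subgroup D).map D.subtype) (PD.isPGroup'.map _)
      (hD ▸ map_subtype_le _) (fun x hx => ⟨⟨x, hE2D hx⟩, hPD (mem_subgroupOf.2 hx), rfl⟩)
    exact mem_subgroupOf.2 (h.le ⟨x, hx, rfl⟩)
  have hsyl : Eb = (PD.mapSurjective hπs : Subgroup (↥D ⧸ Z2)) := by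
    rw [hEb, ← hPDeq]
    rfl
  -- `π g ∈ Ē`
  have hmemEb : ∀ g : D, π g ∈ Eb → ∃ e ∈ F.E2, (g : G) = e ∨ (g : G) = e * F.r 2 := by
    intro g hg
    obtain ⟨e, he, hee⟩ := hEb.le hg
    exact ⟨e, mem_subgroupOf.1 he, heq _ _ hee.symm⟩
  have hC : Subgroup.centralizer (Eb : Set (↥D ⧸ Z2)) = Eb := by
    refine le_antisymm (fun X hX => ?_) ?_
    · obtain ⟨g, rfl⟩ := hπs X
      have hfix : ∀ x ∈ F.E2, (g : G) * x = x * g := by
        intro x hx
        have h1 := mem_centralizer_iff.1 hX (π ⟨x, hE2D hx⟩) (hEb.ge ⟨_, mem_subgroupOf.2 hx, rfl⟩)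
        rw [← map_mul, ← map_mul] at h1
        rcases heq _ _ h1.symm with h | h
        · exact h
        · exfalso
          refine hr1 ?_
          have h2 : (g : G) * x * (g : G)⁻¹ = x * F.r 2 := by
            rw [mul_inv_eq_iff_eq_mul]
            calc (g : G) * x = x * (g : G) * F.r 2 := h
              _ = x * F.r 2 * g := by rw [mul_assoc x, hDc g g.2, mul_assoc]
          have h3 := congrArg (fun y => y ^ 3) h2
          simp only [conj_pow, (show Commute x (F.r 2) from (F.E2_comm hx).symm).mul_pow, hE2three x hx,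
            mul_one, mul_inv_cancel, one_mul] at h3
          rw [pow_succ, pow_two, F.r_sq, one_mul] at h3
          exact h3.symm
      obtain ⟨hk01, -, h0, hk, h02, h12⟩ := evec_indep
      have hgM : (g : G) ∈ B.M := F.norm_E2_M fun x hx => by
        rw [hfix x hx, mul_inv_cancel_right]; exact hx
      obtain ⟨w, hw⟩ := F.toFrame.code g hgM
      have hwfix : ∀ v : Vec, v 2 = 0 → sact w v = v := fun v hv => F.toFrame.el_inj.1 (by
        rw [← show (g : G) * F.el v * (g : G)⁻¹ = F.el (sact w v) from hw v, hfix _ ⟨v, hv, rfl⟩,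
          mul_inv_cancel_right])
      rcases fix_pair w (hwfix _ h02) (hwfix _ h12) with rfl | rfl
      · exact hEb.ge ⟨g, mem_subgroupOf.2 (F.mem_E2_of (F.toFrame.mem_J_of_acts hw) (hDc g g.2).symm), rfl⟩
      · obtain ⟨h, hh⟩ : ∃ h : D, h = g * ⟨F.r 2, hcD _ rfl⟩ := ⟨_, rfl⟩
        have hJ : (h : G) ∈ B.J := F.toFrame.mem_J_of_acts (by
          rw [hh, Subgroup.coe_mul]
          have := Frame.Acts.mul F.toFrame hw (F.acts_r 2)
          rwa [(cone_cone 2 2).2] at this)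
        refine hEb.ge ⟨h, mem_subgroupOf.2 (F.mem_E2_of hJ (hDc h h.2).symm), ?_⟩
        rw [hh, map_mul, show π ⟨F.r 2, hcD _ rfl⟩ = 1 from (QuotientGroup.eq_one_iff _).2
          (hZ2 ▸ mem_subgroupOf.2 (mem_zpowers _)), mul_one]
    · intro y hy z hz
      obtain ⟨a, ha, rfl⟩ := hEb.le hy
      obtain ⟨b, hb, rfl⟩ := hEb.le hz
      rw [← map_mul, ← map_mul]
      exact congrArg π (Subtype.ext (B.J_comm b (F.E2_le_J (mem_subgroupOf.1 hb)) a
        (F.E2_le_J (mem_subgroupOf.1 ha))))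
  have hnormπ : ∀ g : D, (∀ x ∈ F.E2, (g : G) * x * (g : G)⁻¹ ∈ F.E2) →
      π g ∈ Subgroup.normalizer (Eb : Set (↥D ⧸ Z2)) := by
    intro g hg
    refine mem_normalizer_iff_map_conj_eq.2 (eq_of_le_of_card_ge ?_
      (card_map_of_injective (MulAut.conj _).injective).ge)
    rintro _ ⟨y, hy, rfl⟩
    obtain ⟨a, ha, rfl⟩ := hEb.le hy
    show π g * π a * (π g)⁻¹ ∈ Eb
    rw [← map_inv, ← map_mul, ← map_mul]
    exact hEb.ge ⟨g * a * g⁻¹, mem_subgroupOf.2 (hg _ (mem_subgroupOf.1 ha)), rfl⟩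
  -- the automizer
  obtain ⟨N, hN⟩ : ∃ N, N = Subgroup.normalizer (Eb : Set (↥D ⧸ Z2)) := ⟨_, rfl⟩
  haveI hEn : (Eb.subgroupOf N).Normal := hN ▸ Subgroup.normal_in_normalizer
  have hMD : ∀ g ∈ B.M, ∀ hg : g ∈ D, π ⟨g, hg⟩ ∈ N := fun g hgM hg =>
    hN.ge (hnormπ _ fun x hx => F.M_norm_E2 hgM (hDc g hg) hx)
  obtain ⟨MD, hMDdef⟩ : ∃ MD, MD = B.M ⊓ D := ⟨_, rfl⟩
  let θ : MD →* (↥N ⧸ Eb.subgroupOf N) := (QuotientGroup.mk' _).comp
    (MonoidHom.mk' (fun g => (⟨π ⟨g, (hMDdef.le g.2).2⟩, hMD g (hMDdef.le g.2).1 _⟩ : N))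
      fun g h => Subtype.ext (map_mul π ⟨g, (hMDdef.le g.2).2⟩ ⟨h, (hMDdef.le h.2).2⟩))
  have hθ1 : ∀ g : MD, θ g = 1 ↔ π ⟨g, (hMDdef.le g.2).2⟩ ∈ Eb := fun g =>
    (QuotientGroup.eq_one_iff _).trans mem_subgroupOf
  have hθcode : ∀ (g : MD) (w : Code), F.toFrame.Acts (g : G) w → θ g = 1 →
      w = ((fun _ => false), 1) ∨ w = cone 2 := by
    intro g w hw hg
    obtain ⟨e, he, h | h⟩ := hmemEb _ ((hθ1 g).1 hg)
    · obtain ⟨u, -, rfl⟩ := he
      left
      exact Frame.Acts.unique F.toFrame hw (by rw [show (g : G) = F.el u from h]; exact F.toFrame.acts_el u)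
    · obtain ⟨u, -, rfl⟩ := he
      right
      refine Frame.Acts.unique F.toFrame hw ?_
      rw [show (g : G) = F.el u * F.r 2 from h]
      have := Frame.Acts.mul F.toFrame (F.toFrame.acts_el u) (F.acts_r 2)
      rwa [show cmul ((fun _ => false), 1) (cone 2) = cone 2 by decide +kernel] at this
  have hrMD : ∀ k, F.r k ∈ MD := fun k => hMDdef.ge ⟨F.toFrame.mem_M_of_acts (F.acts_r k),
    hcD _ (F.r_comm k 2)⟩
  have hzMD : F.z0 ∈ MD := hMDdef.ge ⟨F.toFrame.mem_M_of_acts (F.acts_p _), hcD _ F.z_r2⟩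
  obtain ⟨σ, hσ⟩ : ∃ σ, σ = θ ⟨F.r 1, hrMD 1⟩ := ⟨_, rfl⟩
  obtain ⟨ρ, hρ⟩ : ∃ ρ, ρ = θ (⟨F.r 1, hrMD 1⟩ * ⟨F.z0, hzMD⟩) := ⟨_, rfl⟩
  obtain ⟨m1, m2, m3, m4, m5, m6⟩ := word_ne
  have hρa : F.toFrame.Acts (F.r 1 * F.z0) (cmul (cone 1) (cperm (Equiv.swap 0 1))) :=
    Frame.Acts.mul _ (F.acts_r 1) (F.acts_p _)
  have hρρ : F.r 1 * F.z0 * (F.r 1 * F.z0) = F.r 0 * F.r 1 := by
    rw [show F.r 1 * F.z0 * (F.r 1 * F.z0) = F.r 1 * (F.z0 * F.r 1) * F.z0 by group, F.z_r 1,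
      Equiv.swap_apply_right, show F.r 1 * (F.r 0 * F.z0) * F.z0 = F.r 1 * F.r 0 * (F.z0 * F.z0) by group,
      F.z_sq, mul_one, F.r_comm]
  have hρ4 : ρ ^ 4 = 1 := by
    rw [hρ, ← map_pow, show (⟨F.r 1, hrMD 1⟩ * ⟨F.z0, hzMD⟩ : MD) ^ 4 = 1 from Subtype.ext (by
      show (F.r 1 * F.z0) ^ 4 = 1
      rw [pow_succ, pow_succ, pow_two, mul_assoc _ (F.r 1 * F.z0) (F.r 1 * F.z0), hρρ]
      exact F.s01_sq), map_one]
  have hρ2 : ρ ^ 2 ≠ 1 := by
    intro h
    rw [hρ, ← map_pow] at h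
    rcases hθcode _ (csq (cmul (cone 1) (cperm (Equiv.swap 0 1)))) (by
      show F.toFrame.Acts ((F.r 1 * F.z0) ^ 2) _
      rw [pow_two]
      exact Frame.Acts.mul _ hρa hρa) h with e | e
    · exact m3 e
    · exact m4 e
  have hρo : orderOf ρ = 4 := orderOf_eq_prime_pow (p := 2) (n := 1) (by rwa [pow_one]) hρ4
  have hσ2 : σ * σ = 1 := by
    rw [hσ, ← map_mul, show (⟨F.r 1, hrMD 1⟩ * ⟨F.r 1, hrMD 1⟩ : MD) = 1 from Subtype.ext (F.r_sq 1),
      map_one]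
  have hσ1 : σ ≠ 1 := fun h => by
    rcases hθcode _ (cone 1) (F.acts_r 1) (hσ ▸ h) with e | e
    · exact m5 e
    · exact m6 e
  have hσo : orderOf σ = 2 := orderOf_eq_prime (by rw [pow_two]; exact hσ2) hσ1
  have hinv : σ * ρ * σ⁻¹ = ρ⁻¹ := by
    refine eq_inv_of_mul_eq_one_left ?_
    rw [inv_eq_of_mul_eq_one_right hσ2, hσ, hρ, ← map_mul, ← map_mul, ← map_mul,
      show (⟨F.r 1, hrMD 1⟩ * (⟨F.r 1, hrMD 1⟩ * ⟨F.z0, hzMD⟩) * ⟨F.r 1, hrMD 1⟩ *
        (⟨F.r 1, hrMD 1⟩ * ⟨F.z0, hzMD⟩) : MD) = 1 from Subtype.ext (by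
        show F.r 1 * (F.r 1 * F.z0) * F.r 1 * (F.r 1 * F.z0) = 1
        rw [show F.r 1 * (F.r 1 * F.z0) * F.r 1 * (F.r 1 * F.z0) =
          F.r 1 * F.r 1 * F.z0 * (F.r 1 * F.r 1) * F.z0 by group, F.r_sq, one_mul, mul_one, F.z_sq]),
      map_one]
  have hnot : σ ∉ Subgroup.zpowers ρ := by
    intro h
    obtain ⟨n, hn⟩ := mem_zpowers_iff.1 h
    have hc : Commute σ ρ := hn ▸ (Commute.refl ρ).zpow_left n
    rw [hc.eq, mul_inv_cancel_right] at hinv
    exact hρ2 (by rw [pow_two]; exact mul_eq_one_iff_eq_inv.2 hinv)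
  obtain ⟨f⟩ := CfsgLib.Invol.exists_mulEquiv_dihedral hρo hσo hinv hnot
  have htop : Subgroup.closure ({ρ, σ} : Set (↥N ⧸ Eb.subgroupOf N)) = ⊤ := by
    obtain ⟨K, hK⟩ : ∃ K, K = Subgroup.closure ({ρ, σ} : Set (↥N ⧸ Eb.subgroupOf N)) := ⟨_, rfl⟩
    rw [← hK]
    have hρK : ρ ∈ K := hK.ge (Subgroup.subset_closure (Or.inl rfl))
    have hσK : σ ∈ K := hK.ge (Subgroup.subset_closure (Or.inr rfl))
    have hzK : θ ⟨F.z0, hzMD⟩ ∈ K := by
      have := K.mul_mem (K.inv_mem hσK) hρK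
      rwa [hσ, hρ, map_mul, inv_mul_cancel_left] at this
    have hr1K : θ ⟨F.r 1, hrMD 1⟩ ∈ K := hσ ▸ hσK
    have hr0K : θ ⟨F.r 0, hrMD 0⟩ ∈ K := by
      have := K.mul_mem (K.mul_mem hzK hr1K) hzK
      rwa [← map_mul, ← map_mul, show (⟨F.z0, hzMD⟩ * ⟨F.r 1, hrMD 1⟩ * ⟨F.z0, hzMD⟩ : MD) =
        ⟨F.r 0, hrMD 0⟩ from Subtype.ext (by
          show F.z0 * F.r 1 * F.z0 = F.r 0
          rw [F.z_r 1, Equiv.swap_apply_right, mul_assoc, F.z_sq, mul_one])] at this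
    have hr2K : θ ⟨F.r 2, hrMD 2⟩ ∈ K := by
      rw [(hθ1 _).2 (by
        rw [show π ⟨F.r 2, _⟩ = 1 from (QuotientGroup.eq_one_iff _).2
          (hZ2 ▸ mem_subgroupOf.2 (mem_zpowers _))]
        exact one_mem _)]
      exact one_mem _
    refine (eq_top_iff' K).2 fun q => ?_
    obtain ⟨⟨X, hX⟩, rfl⟩ := QuotientGroup.mk'_surjective (Eb.subgroupOf N) q
    obtain ⟨⟨g, hgD⟩, rfl⟩ := hπs X
    have hgM : g ∈ B.M := F.norm_E2_M (hconjE ⟨g, hgD⟩ (hN.le hX))
    have hgMD : g ∈ MD := hMDdef.ge ⟨hgM, hgD⟩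
    show θ ⟨g, hgMD⟩ ∈ K
    obtain ⟨v, s, p, hgn⟩ := F.norm g hgM
    obtain ⟨S0, hS0e⟩ : ∃ S0, S0 = (if s 0 then F.r 0 else 1) * (if s 1 then F.r 1 else 1) *
      (if s 2 then F.r 2 else 1) := ⟨_, rfl⟩
    rw [← hS0e] at hgn
    have hSmem : ∃ h : S0 ∈ MD, θ ⟨S0, h⟩ ∈ K := by
      have hone : ∀ (k : Fin 3), θ ⟨F.r k, hrMD k⟩ ∈ K → ∀ b : Bool,
          ∃ h : (if b then F.r k else 1) ∈ MD, θ ⟨_, h⟩ ∈ K := by
        intro k hk b
        cases b
        · exact ⟨one_mem MD, by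
            rw [show (⟨(if false = true then F.r k else 1), _⟩ : MD) = 1 from Subtype.ext (by simp),
              map_one]
            exact one_mem _⟩
        · exact ⟨hrMD k, hk⟩
      obtain ⟨m0, k0⟩ := hone 0 hr0K (s 0)
      obtain ⟨m1', k1⟩ := hone 1 hr1K (s 1)
      obtain ⟨m2', k2⟩ := hone 2 hr2K (s 2)
      refine ⟨hS0e ▸ mul_mem (mul_mem m0 m1') m2', ?_⟩
      rw [show (⟨S0, _⟩ : MD) = ⟨_, m0⟩ * ⟨_, m1'⟩ * ⟨_, m2'⟩ from Subtype.ext hS0e, map_mul, map_mul]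
      exact K.mul_mem (K.mul_mem k0 k1) k2
    obtain ⟨hSm, hSK⟩ := hSmem
    -- the permutation part
    obtain ⟨w, hw⟩ := F.toFrame.code g hgM
    obtain ⟨wS, hwS⟩ := F.toFrame.code S0 (hMDdef.le hSm).1
    have hp : p = 1 ∨ p = Equiv.swap 0 1 := by
      have h1 := cone_cent_perm w (F.code_comm hw (hDc g hgD))
      have h2 : F.toFrame.Acts g (cmul (cmul ((fun _ => false), 1) wS) (cperm p)) := by
        rw [hgn]
        exact Frame.Acts.mul _ (Frame.Acts.mul _ (F.toFrame.acts_el v) hwS) (F.acts_p p)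
      have hS1 : wS.2 = 1 := by
        have h3 : ∃ w' : Code, w'.2 = 1 ∧ F.toFrame.Acts S0 w' := by
          have hone' : ∀ (k : Fin 3) (b : Bool), ∃ w' : Code, w'.2 = 1 ∧
              F.toFrame.Acts (if b then F.r k else 1) w' := by
            intro k b
            cases b
            · exact ⟨_, rfl, by simpa using F.toFrame.acts_one⟩
            · exact ⟨cone k, rfl, F.acts_r k⟩
          obtain ⟨a, ha, ha'⟩ := hone' 0 (s 0)
          obtain ⟨b, hb, hb'⟩ := hone' 1 (s 1)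
          obtain ⟨c, hc, hc'⟩ := hone' 2 (s 2)
          exact ⟨_, by simp [cmul, ha, hb, hc], hS0e ▸ Frame.Acts.mul _ (Frame.Acts.mul _ ha' hb') hc'⟩
        obtain ⟨w', hw'1, hw'⟩ := h3
        rw [Frame.Acts.unique F.toFrame hwS hw']
        exact hw'1
      rw [Frame.Acts.unique F.toFrame hw h2] at h1
      simpa [cmul, cperm, hS1] using h1
    have hpm : ∃ h : F.p p ∈ MD, θ ⟨F.p p, h⟩ ∈ K := by
      rcases hp with rfl | rfl
      · refine ⟨by rw [map_one]; exact one_mem _, ?_⟩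
        rw [show (⟨F.p 1, _⟩ : MD) = 1 from Subtype.ext (map_one F.p), map_one]
        exact one_mem _
      · exact ⟨hzMD, hzK⟩
    obtain ⟨hpm, hpK⟩ := hpm
    have hvm : F.el v ∈ MD := by
      rw [show F.el v = g * (S0 * F.p p)⁻¹ by rw [hgn]; simp only [Frame.el]; group]
      exact mul_mem hgMD (inv_mem (mul_mem hSm hpm))
    have hvK : θ ⟨F.el v, hvm⟩ ∈ K := by
      rw [(hθ1 _).2 (hEb.ge ⟨⟨_, (hMDdef.le hvm).2⟩, mem_subgroupOf.2 (F.mem_E2_of (F.toFrame.el_mem v)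
        (hDc _ (hMDdef.le hvm).2).symm), rfl⟩)]
      exact one_mem _
    rw [show (⟨g, hgMD⟩ : MD) = ⟨F.el v, hvm⟩ * ⟨S0, hSm⟩ * ⟨F.p p, hpm⟩ from Subtype.ext hgn, map_mul,
      map_mul]
    exact K.mul_mem (K.mul_mem hvK hSK) hpK
  let eN : (↥N ⧸ Eb.subgroupOf N) ≃* DihedralGroup 4 :=
    (Subgroup.topEquiv.symm.trans (MulEquiv.subgroupCongr htop.symm)).trans f
  have hcent : ∀ x ∈ Eb, x ≠ 1 → Subgroup.centralizer ({x} : Set (↥D ⧸ Z2)) ≤ N := by
    intro x hx hx1 X hX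
    obtain ⟨g, rfl⟩ := hπs X
    obtain ⟨e, he, rfl⟩ := hEb.le hx
    have heE := mem_subgroupOf.1 he
    have h1 := mem_centralizer_singleton_iff.1 hX
    have hne : (e : G) ≠ 1 := fun h => hx1 (by rw [show e = 1 from Subtype.ext h, map_one])
    have hcomm : (g : G) * e = e * g := by
      rw [← map_mul, ← map_mul] at h1
      rcases heq _ _ h1 with h | h
      · exact h
      · exfalso
        refine hr1 ?_
        have h2 : (g : G) * e * (g : G)⁻¹ = e * F.r 2 := by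
          rw [mul_inv_eq_iff_eq_mul]
          calc (g : G) * e = e * (g : G) * F.r 2 := h
            _ = e * F.r 2 * g := by rw [mul_assoc (e : G), hDc g g.2, mul_assoc]
        have h3 := congrArg (fun y => y ^ 3) h2
        simp only [conj_pow, (show Commute (e : G) (F.r 2) from (F.E2_comm heE).symm).mul_pow,
          hE2three _ heE, mul_one, mul_inv_cancel, one_mul] at h3
        rw [pow_succ, pow_two, F.r_sq, one_mul] at h3
        exact h3.symm
    exact hN.ge (hnormπ g fun y hy => F.M_norm_E2 (F.cent_E2 hS heE hne hcomm) (hDc g g.2) hy)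
  subst hN
  have hcardD : Nat.card D = Nat.card (↥D ⧸ Z2) * 2 := by
    rw [Z2.card_eq_card_quotient_mul_card_subgroup, hZ2,
      Nat.card_congr (subgroupOfEquivOfLe (zpowers_le.2 (hcD _ rfl))).toEquiv, Nat.card_zpowers,
      orderOf_eq_prime (by rw [pow_two]; exact F.r_sq 2) hr1]
  rcases Cfsg.Agent.S3333.result (PD.mapSurjective hπs) Eb hsyl hcard hC eN hcent with h | ⟨⟨e6⟩⟩
  · intro h64
    have hN8 : Nat.card (↥(Subgroup.normalizer (Eb : Set (↥D ⧸ Z2))) ⧸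
        Eb.subgroupOf (Subgroup.normalizer (Eb : Set (↥D ⧸ Z2)))) = 8 := by
      rw [Nat.card_congr eN.toEquiv, DihedralGroup.nat_card]
    have hX : Nat.card (↥D ⧸ Z2) = 72 := by
      rw [← Subgroup.card_top (G := ↥D ⧸ Z2), ← Subgroup.normalizer_eq_top_iff.2 h,
        (Eb.subgroupOf (Subgroup.normalizer (Eb : Set (↥D ⧸ Z2)))).card_eq_card_quotient_mul_card_subgroup,
        hN8, Nat.card_congr (subgroupOfEquivOfLe le_normalizer).toEquiv, hcard]
    rw [hcardD, hX] at h64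
    norm_num at h64
  · intro h64
    rw [hcardD, Nat.card_congr e6.toEquiv, Nat.card_perm, Nat.card_fin] at h64
    norm_num [Nat.factorial] at h64

/-- A Sylow 3-subgroup of `C(r₀r₁)` has order three. -/
theorem three_s01 (hS : F.Small) {Q : Subgroup G} (hQ : IsPGroup 3 Q)
    (hQC : Q ≤ centralizer ({F.s01} : Set G)) : Nat.card Q ≤ 3 := by
  classical
  haveI : Fact (Nat.Prime 3) := ⟨Nat.prime_three⟩
  obtain ⟨D, hD⟩ : ∃ D, D = centralizer ({F.s01} : Set G) := ⟨_, rfl⟩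
  rw [← hD] at hQC
  have hfix := s01_fix
  have he2 := s01_evec
  have he2D : F.el (evec 2) ∈ D := hD.ge (mem_centralizer_singleton_iff.2
    (mul_inv_eq_iff_eq_mul.1 (show F.s01 * F.el (evec 2) * F.s01⁻¹ = F.el (evec 2) by
      rw [F.acts_s01, he2])).symm)
  have he2n : F.el (evec 2) ≠ 1 := F.toFrame.el_ne_one evec_two.2
  -- three-elements centralising `e₂`
  have hsmall : ∀ g : G, g * F.el (evec 2) = F.el (evec 2) * g → g * F.s01 = F.s01 * g →
      ∀ n : ℕ, g ^ 3 ^ n = 1 → g ∈ zpowers (F.el (evec 2)) := by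
    intro g hge hgs n hn
    have hgM : g ∈ B.M := hS 2 (mem_centralizer_singleton_iff.2 hge)
    obtain ⟨w, hw⟩ := F.toFrame.code g hgM
    have hgJ := F.toFrame.three_mem_J_of hw (stab_eight 2 w (F.toFrame.el_inj.1 (by
      rw [← show g * F.el (evec 2) * g⁻¹ = F.el (sact w (evec 2)) from hw _, hge, mul_inv_cancel_right]))) hn
    obtain ⟨v, rfl⟩ := F.toFrame.exists_el hgJ
    refine F.toFrame.zpowers_iff.2 ⟨v 2, congrArg F.el (hfix v (F.toFrame.el_inj.1 ?_))⟩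
    rw [← show F.s01 * F.el v * F.s01⁻¹ = F.el (sact (cmul (cone 0) (cone 1)) v) from F.acts_s01 v,
      ← hgs, mul_inv_cancel_right]
  have hp : IsPGroup 3 (zpowers (⟨_, he2D⟩ : D)) := IsPGroup.of_card (n := 1) (by
    rw [Nat.card_zpowers, ← Subgroup.orderOf_coe]
    exact orderOf_eq_prime (B.J_exp _ (F.toFrame.el_mem _)) he2n)
  obtain ⟨P, hP⟩ := hp.exists_le_sylow
  have hcD : ∀ g : D, (g : G) * F.s01 = F.s01 * g := fun g =>
    mem_centralizer_singleton_iff.1 (hD.le g.2)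
  have hpow : ∀ g : (P : Subgroup D), ∃ n : ℕ, ((g : D) : G) ^ 3 ^ n = 1 := fun g => by
    obtain ⟨n, hn⟩ := P.isPGroup' g
    exact ⟨n, by simpa using congrArg (fun x : (P : Subgroup D) => ((x : D) : G)) hn⟩
  have he2P : (⟨_, he2D⟩ : D) ∈ (P : Subgroup D) := hP (mem_zpowers _)
  haveI : Nontrivial (P : Subgroup D) := (Subgroup.nontrivial_iff_ne_bot _).2 fun h => he2n (by
    rw [h, mem_bot] at he2P
    exact congrArg Subtype.val he2P)
  haveI := P.isPGroup'.center_nontrivial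
  obtain ⟨⟨u, hu⟩, hu1⟩ := exists_ne (1 : center (P : Subgroup D))
  have huc : ∀ g : (P : Subgroup D), ((g : D) : G) * ((u : D) : G) = ((u : D) : G) * ((g : D) : G) :=
    fun g => congrArg (fun x : (P : Subgroup D) => ((x : D) : G)) (mem_center_iff.1 hu g)
  obtain ⟨nu, hnu⟩ := hpow u
  obtain ⟨k, hk⟩ := F.toFrame.zpowers_iff.1
    (hsmall _ (huc ⟨_, he2P⟩).symm (hcD _) nu hnu)
  have hk0 : k ≠ 0 := fun h => hu1 (Subtype.ext (Subtype.ext (Subtype.ext (by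
    rw [hk, h, zero_smul, F.toFrame.el_zero]; rfl))))
  have hPz : ∀ g : (P : Subgroup D), ((g : D) : G) ∈ zpowers (F.el (evec 2)) := fun g => by
    obtain ⟨n, hn⟩ := hpow g
    refine hsmall _ (F.toFrame.comm_of_smul hk0 ?_) (hcD _) n hn
    rw [← hk]
    exact huc g
  have hP3 : Nat.card (P : Subgroup D) ≤ 3 := by
    refine le_of_le_of_eq ?_ (show Nat.card (zpowers (F.el (evec 2))) = 3 by
      rw [Nat.card_zpowers, orderOf_eq_prime (B.J_exp _ (F.toFrame.el_mem _)) he2n])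
    exact Nat.card_le_card_of_injective
      (fun g : (P : Subgroup D) => (⟨_, hPz g⟩ : zpowers (F.el (evec 2))))
      fun g h e => Subtype.ext (Subtype.ext (congrArg (fun y : zpowers (F.el (evec 2)) => (y : G)) e))
  obtain ⟨P', hP'⟩ := (hQ.of_equiv (subgroupOfEquivOfLe hQC).symm).exists_le_sylow
  calc Nat.card Q = Nat.card (Q.subgroupOf D) := (Nat.card_congr (subgroupOfEquivOfLe hQC).toEquiv).symm
    _ ≤ Nat.card (P' : Subgroup D) := Subgroup.card_le_of_le hP'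
    _ = Nat.card (P : Subgroup D) := by rw [P'.card_eq_multiplicity, ← P.card_eq_multiplicity]
    _ ≤ 3 := hP3

/-- `r₂` is not conjugate to `r₀r₁`. -/
theorem r2_not_conj_s01 (hS : F.Small) (g : G) : g * F.r 2 * g⁻¹ ≠ F.s01 := by
  intro h
  have h1 := F.three_s01 hS (Q := F.E2.map (MulAut.conj g).toMonoidHom)
    (((IsPGroup.of_card (n := 2) (by rw [F.card_E2]; norm_num) : IsPGroup 3 F.E2)).map _) (by
      rintro _ ⟨x, hx, rfl⟩
      refine mem_centralizer_singleton_iff.2 ?_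
      show g * x * g⁻¹ * F.s01 = F.s01 * (g * x * g⁻¹)
      rw [← h, show g * x * g⁻¹ * (g * F.r 2 * g⁻¹) = g * (x * F.r 2) * g⁻¹ by group, ← F.E2_comm hx]
      group)
  rw [card_map_of_injective (MulAut.conj g).injective, F.card_E2] at h1
  omega

end FullFrame

end CfsgLib.Recog.SpSixThree
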