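import Cfsg.Agent.Lib.Recog.SpSixThree.SmallTwo
import Cfsg.Agent.Lib.Recog.SpSixThree.SmallR
import Cfsg.Agent.Lib.Recog.SpSixThree.First
import Cfsg.Agent.Lib.Transfer.Thompson
import Cfsg.Agent.S0814

/-!
# `C(e_k) ≤ M`: the group is the automorphism group of `PSp₄(3)`

Thompson transfer with the sign change `r₂` against `W⟨r₀r₁⟩` gives a normal subgroup of index
two in which `a` is not conjugate to its inverse; it is `PSp₄(3)` and has trivial centralizer.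
-/

set_option autoImplicit false
set_option Elab.async false
set_option linter.style.haveILetI false
set_option linter.unusedSectionVars false

namespace CfsgLib.Recog.SpSixThree

open Subgroup

theorem cent_signs : ∀ v : Vec, sact (cmul (cone 0) (cone 1)) v = v →
    sact (cmul (cone 1) (cone 2)) v = v → v = 0 := by decide +kernel

theorem avec_ne_neg_bvec : avec ≠ -bvec := by decide +kernel

namespace FullFrame

variable {G : Type*} [Group G] [Finite G] {B : Base G} (F : FullFrame B) (hS : F.Small)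

theorem r0_conj_z : F.r 0 * F.z0 * F.r 0 = F.s01 * F.z0 := by
  rw [mul_assoc, F.z_r 0, Equiv.swap_apply_left, ← mul_assoc]

include hS in
/-- The involutions of `W s`. -/
theorem T0_coset {q p : G} (hq : q ∈ F.Qa) (hp : p ∈ F.Qb)
    (h : q * p * F.s01 * (q * p * F.s01) = 1) :
    ∃ y, (q * p * F.s01 = y * F.s01 * y⁻¹) ∨ q * p * F.s01 = y * F.z0 * y⁻¹ := by
  have hzs : F.s01 * F.z0 * F.s01 = F.z0 := by rw [← F.z_s01, mul_assoc, F.s01_sq, mul_one]
  obtain ⟨u, hu, hpe, -⟩ := F.swap_root hS F.s01_sq (fun _ => F.s01_Qa) (fun _ => F.s01_Qb) hq hp hzs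
    (c := 1) (Or.inl rfl) h
  have he : q * p * F.s01 = q * (F.s01 * u) * q⁻¹ := by
    have huq : u * q⁻¹ = q⁻¹ * u := by
      rcases hu with rfl | rfl
      · group
      · exact ((show Commute q F.z0 from F.Qa_spec.comm hq).inv_left).eq.symm
    rw [hpe, show q * (F.s01 * (q⁻¹ * u) * F.s01) * F.s01 = q * (F.s01 * (q⁻¹ * u)) * (F.s01 * F.s01) by group,
      F.s01_sq, mul_one, ← huq]
    group
  rcases hu with rfl | rfl
  · exact ⟨q, Or.inl (by rw [he, mul_one])⟩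
  · refine ⟨q * F.r 0, Or.inr ?_⟩
    rw [he, ← F.r0_conj_z, mul_inv_rev, F.r_inv]
    group

include hS in
/-- A root of `z` in `Q` that `r₀r₁r₂` fixes modulo `⟨z⟩`. -/
theorem exists_fixed_root : ∃ p ∈ F.Qa, p * p = F.z0 ∧
    (F.s012 * p * F.s012 = p ∨ F.s012 * p * F.s012 = p * F.z0) := by
  obtain ⟨x, hx, hxz⟩ := F.exists_root
  obtain ⟨x', hx'e⟩ : ∃ x', x' = F.s012 * x * F.s012 := ⟨_, rfl⟩
  have hx' : x' ∈ F.Qa := hx'e ▸ F.s012_Qa hx
  have hss : ∀ y : G, F.s012 * (F.s012 * y * F.s012) * F.s012 = y := fun y => by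
    rw [show F.s012 * (F.s012 * y * F.s012) * F.s012 = F.s012 * F.s012 * y * (F.s012 * F.s012) by group,
      F.s012_sq, one_mul, mul_one]
  have hconj : ∀ u v : G, F.s012 * (u * v) * F.s012 = F.s012 * u * F.s012 * (F.s012 * v * F.s012) := by
    intro u v
    rw [show F.s012 * u * F.s012 * (F.s012 * v * F.s012) = F.s012 * u * (F.s012 * F.s012) * v * F.s012 by group,
      F.s012_sq, mul_one]
    group
  have hxz' : x' * x' = F.z0 := by
    rw [hx'e, ← hconj, hxz, ← F.z_s012, mul_assoc, F.s012_sq, mul_one]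
  have hsq : ∀ y ∈ F.Qa, y * y = F.z0 → B.slx y * B.slx y = -1 := fun y hy h => by
    rw [← Base.slx_mul (F.Qa_spec.le_C hy) (F.Qa_spec.le_C hy), h,
      Base.slx_invol F.z_C F.z_sq F.z_ne]
  rcases sl_fix_gen _ _ (hsq x hx hxz) (hsq x' hx' hxz') with h | h | ⟨h, h'⟩
  · exact ⟨x, hx, hxz, Or.inl (hx'e ▸ F.Qa_spec.inj _ hx' _ hx h)⟩
  · refine ⟨x, hx, hxz, Or.inr ?_⟩
    rw [← hx'e, F.Qa_spec.comm hx]
    exact F.Qa_spec.inj _ hx' _ (F.Qa.mul_mem F.z_Qa hx) (h.trans (F.sl_mul_z hx).symm)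
  · have hxC := F.Qa_spec.le_C hx
    have hx'C := F.Qa_spec.le_C hx'
    have hm : x * x' ∈ F.Qa := F.Qa.mul_mem hx hx'
    refine ⟨x * x', hm, (F.Qa_of_slx (F.Qa.mul_mem hm hm)).2 (by
      rw [Base.slx_mul (F.Qa_spec.le_C hm) (F.Qa_spec.le_C hm), Base.slx_mul hxC hx'C, h]), Or.inr ?_⟩
    rw [hconj, ← hx'e, show F.s012 * x' * F.s012 = x by rw [hx'e, hss], F.Qa_spec.comm hm]
    refine F.Qa_spec.inj _ (F.Qa.mul_mem hx' hx) _ (F.Qa.mul_mem F.z_Qa hm) ?_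
    rw [Base.slx_mul hx'C hxC, h', F.sl_mul_z hm, Base.slx_mul hxC hx'C]

include hS in
/-- No conjugate of `r₂` lies in `W⟨r₀r₁⟩`. -/
theorem r2_not_T0_conj (g : G) : g * F.r 2 * g⁻¹ ∉ F.T0 hS := by
  classical
  intro hg
  obtain ⟨x, hx⟩ : ∃ x, x = g * F.r 2 * g⁻¹ := ⟨_, rfl⟩
  rw [← hx] at hg
  have hx2 : x * x = 1 := by
    rw [hx, show g * F.r 2 * g⁻¹ * (g * F.r 2 * g⁻¹) = g * (F.r 2 * F.r 2) * g⁻¹ by group, F.r_sq,
      mul_one, mul_inv_cancel]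
  have hx1 : x ≠ 1 := by
    intro h
    refine F.r2_not_W hS ?_
    have h' : F.r 2 = 1 := conj_eq_one_iff.1 (hx.symm.trans h)
    rw [h']
    exact F.W.one_mem
  -- centralisers of conjugates
  have hcard : ∀ h y : G, h * F.r 2 * h⁻¹ = y → ¬ 64 ∣ Nat.card (centralizer ({y} : Set G)) := by
    intro h y hy hd
    refine F.card_cent_r2 hS ?_
    have e : centralizer ({y} : Set G) = (centralizer ({F.r 2} : Set G)).map (MulAut.conj h).toMonoidHom := by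
      ext u
      constructor
      · intro hu
        refine ⟨h⁻¹ * u * h, mem_centralizer_singleton_iff.2 ?_, by show h * (h⁻¹ * u * h) * h⁻¹ = u; group⟩
        have h1 := mem_centralizer_singleton_iff.1 hu
        rw [← hy] at h1
        calc h⁻¹ * u * h * F.r 2 = h⁻¹ * (u * (h * F.r 2 * h⁻¹)) * h := by group
          _ = _ := by rw [h1]; group
      · rintro ⟨v, hv, rfl⟩
        refine mem_centralizer_singleton_iff.2 ?_
        show h * v * h⁻¹ * y = y * (h * v * h⁻¹)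
        rw [← hy, show h * v * h⁻¹ * (h * F.r 2 * h⁻¹) = h * (v * F.r 2) * h⁻¹ by group,
          mem_centralizer_singleton_iff.1 hv]
        group
    rwa [e, card_map_of_injective (MulAut.conj h).injective] at hd
  have hz : ∀ h : G, h * F.r 2 * h⁻¹ ≠ F.z0 := by
    intro h hh
    refine hcard h _ hh ?_
    refine dvd_trans ?_ (card_dvd_of_le (H := F.S hS) fun y hy =>
      mem_centralizer_singleton_iff.2 (F.S_comm_z hS hy))
    rw [F.card_S hS]
    norm_num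
  -- the class of the products of two roots
  obtain ⟨p0, hp0, hp0z, hp0s⟩ := F.exists_fixed_root hS
  obtain ⟨p0', hp0'e⟩ : ∃ p0', p0' = F.r 2 * p0 * F.r 2 := ⟨_, rfl⟩
  have hp0' : p0' ∈ F.Qb := hp0'e ▸ F.r2_Qa hp0
  obtain ⟨w0, hw0⟩ : ∃ w0, w0 = p0 * p0' := ⟨_, rfl⟩
  have hw0z : w0 * F.z0 = F.z0 * w0 := F.W_comm_z (hw0 ▸ F.W.mul_mem (F.Qa_le_W hp0) (F.Qb_le_W hp0'))
  obtain ⟨K, hK⟩ : ∃ K : Subgroup G, K = centralizer ({w0} : Set G) ⊓ F.S hS := ⟨_, rfl⟩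
  have horb : ∀ y ∈ F.S hS, y * w0 * y⁻¹ = w0 ∨ y * w0 * y⁻¹ = w0 * F.z0 := by
    have hr2 : F.r 2 * w0 * F.r 2 = w0 := by
      rw [hw0, F.r2_conj_mul, hp0'e, F.r2_conj, ← hp0'e]
      exact (F.Qa_Qb_comm hS hp0 hp0').symm
    have hs : F.s012 * w0 * F.s012 = w0 := by
      have hm : F.s012 * p0' * F.s012 = F.r 2 * (F.s012 * p0 * F.s012) * F.r 2 := by
        have e : F.s012 * F.r 2 * p0 * (F.r 2 * F.s012) = F.r 2 * F.s012 * p0 * (F.s012 * F.r 2) := by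
          rw [F.s012_r2]
        rw [hp0'e, show F.s012 * (F.r 2 * p0 * F.r 2) * F.s012 =
          F.s012 * F.r 2 * p0 * (F.r 2 * F.s012) by group, e]
        group
      rw [hw0, show F.s012 * (p0 * p0') * F.s012 = F.s012 * p0 * 1 * p0' * F.s012 by group, ← F.s012_sq,
        show F.s012 * p0 * (F.s012 * F.s012) * p0' * F.s012 =
          F.s012 * p0 * F.s012 * (F.s012 * p0' * F.s012) by group, hm]
      rcases hp0s with e | e <;> rw [e]
      · rw [hp0'e]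
      · rw [F.r2_conj_mul, F.r2_z, ← hp0'e, show p0 * F.z0 * (p0' * F.z0) = p0 * (F.z0 * p0') * F.z0 by group,
          ← F.Qb_comm_z hp0', show p0 * (p0' * F.z0) * F.z0 = p0 * p0' * (F.z0 * F.z0) by group, F.z_sq, mul_one]
    have hmul : ∀ y v : G, y * F.z0 = F.z0 * y → (y * w0 * y⁻¹ = w0 ∨ y * w0 * y⁻¹ = w0 * F.z0) →
        (v * w0 * v⁻¹ = w0 ∨ v * w0 * v⁻¹ = w0 * F.z0) →
        (y * v * w0 * (y * v)⁻¹ = w0 ∨ y * v * w0 * (y * v)⁻¹ = w0 * F.z0) := by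
      intro y v hy hyw hvw
      rw [show y * v * w0 * (y * v)⁻¹ = y * (v * w0 * v⁻¹) * y⁻¹ by group]
      rcases hvw with e | e <;> rw [e]
      · exact hyw
      · rw [show y * (w0 * F.z0) * y⁻¹ = y * w0 * y⁻¹ * (y * F.z0 * y⁻¹) by group, hy, mul_inv_cancel_right]
        rcases hyw with e' | e' <;> rw [e']
        · exact Or.inr rfl
        · exact Or.inl (by rw [mul_assoc, F.z_sq, mul_one])
    have hQa : ∀ q ∈ F.Qa, q * w0 * q⁻¹ = w0 ∨ q * w0 * q⁻¹ = w0 * F.z0 := by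
      intro q hq
      have h1 : q * p0' * q⁻¹ = p0' := by rw [F.Qa_Qb_comm hS hq hp0', mul_inv_cancel_right]
      rw [hw0, show q * (p0 * p0') * q⁻¹ = q * p0 * q⁻¹ * (q * p0' * q⁻¹) by group, h1]
      rcases (F.Qa_L hq).2 p0 hp0 with e | e <;> rw [e]
      · exact Or.inl rfl
      · right
        rw [mul_assoc, ← F.Qb_comm_z hp0', ← mul_assoc]
    have hQb : ∀ q ∈ F.Qb, q * w0 * q⁻¹ = w0 ∨ q * w0 * q⁻¹ = w0 * F.z0 := by
      intro q hq
      have h := hQa _ (F.r2_Qb hq)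
      have e : ∀ c : G, F.r 2 * q * F.r 2 * w0 * (F.r 2 * q * F.r 2)⁻¹ = c →
          q * w0 * q⁻¹ = F.r 2 * c * F.r 2 := by
        intro c hc
        rw [← hc, mul_inv_rev, mul_inv_rev, F.r_inv,
          show F.r 2 * (F.r 2 * q * F.r 2 * w0 * (F.r 2 * (q⁻¹ * F.r 2))) * F.r 2 =
            F.r 2 * F.r 2 * q * (F.r 2 * w0 * F.r 2) * q⁻¹ * (F.r 2 * F.r 2) by group, F.r_sq, one_mul,
          mul_one, hr2]
      rcases h with h | h
      · exact Or.inl (by rw [e _ h, hr2])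
      · exact Or.inr (by rw [e _ h, F.r2_conj_mul, hr2, F.r2_z])
    have hW : ∀ v ∈ F.W, v * w0 * v⁻¹ = w0 ∨ v * w0 * v⁻¹ = w0 * F.z0 := by
      intro v hv
      obtain ⟨q, hq, p, hp, rfl⟩ := (F.mem_W hS).1 hv
      exact hmul q p (F.Qa_spec.comm hq) (hQa q hq) (hQb p hp)
    have hsr : F.r 2 * w0 * (F.r 2)⁻¹ = w0 := by rw [F.r_inv]; exact hr2
    have hss : F.s012 * w0 * F.s012⁻¹ = w0 := by rw [inv_eq_of_mul_eq_one_right F.s012_sq]; exact hs
    have hs01 : F.s01 * w0 * F.s01⁻¹ = w0 ∨ F.s01 * w0 * F.s01⁻¹ = w0 * F.z0 := by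
      have := hmul F.s012 (F.r 2) F.z_s012.symm (Or.inl hss) (Or.inl hsr)
      rwa [show F.s012 * F.r 2 = F.s01 by
        show F.s01 * F.r 2 * F.r 2 = F.s01
        rw [mul_assoc, F.r_sq, mul_one]] at this
    intro y hy
    have key : ∀ σ : G, σ * σ = 1 → (σ * w0 * σ⁻¹ = w0 ∨ σ * w0 * σ⁻¹ = w0 * F.z0) → y * σ ∈ F.W →
        y * w0 * y⁻¹ = w0 ∨ y * w0 * y⁻¹ = w0 * F.z0 := by
      intro σ h2 hσw h
      have := hmul (y * σ) σ (F.W_comm_z h) (hW _ h) hσw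
      rwa [mul_assoc y σ σ, h2, mul_one] at this
    rcases F.S_cases hS hy with h | h | h | h
    · exact hW y h
    · exact key _ F.s01_sq hs01 h
    · exact key _ (F.r_sq 2) (Or.inl hsr) h
    · exact key _ F.s012_sq (Or.inl hss) h
  have hK64 : 64 ∣ Nat.card (centralizer ({w0} : Set G)) := by
    refine dvd_trans ?_ (card_dvd_of_le (hK ▸ inf_le_left : K ≤ _))
    have hKS : K ≤ F.S hS := hK ▸ inf_le_right
    have hmem : ∀ y ∈ F.S hS, y * w0 * y⁻¹ = w0 → y ∈ K := fun y hy h =>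
      hK.ge ⟨mem_centralizer_singleton_iff.2 (mul_inv_eq_iff_eq_mul.1 h), hy⟩
    have hidx : (K.subgroupOf (F.S hS)).index ≤ 2 := by
      by_contra hgt
      push Not at hgt
      obtain ⟨y₁, y₂, y₃, h12, h13, h23⟩ : ∃ a b c : ↥(F.S hS) ⧸ K.subgroupOf (F.S hS),
          a ≠ b ∧ a ≠ c ∧ b ≠ c := by
        haveI := Fintype.ofFinite (↥(F.S hS) ⧸ K.subgroupOf (F.S hS))
        rw [Subgroup.index, Nat.card_eq_fintype_card] at hgt
        exact Fintype.two_lt_card_iff.1 hgt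
      obtain ⟨⟨u₁, hu₁⟩, rfl⟩ := Quotient.exists_rep y₁
      obtain ⟨⟨u₂, hu₂⟩, rfl⟩ := Quotient.exists_rep y₂
      obtain ⟨⟨u₃, hu₃⟩, rfl⟩ := Quotient.exists_rep y₃
      have hne : ∀ u v (hu : u ∈ F.S hS) (hv : v ∈ F.S hS), u * w0 * u⁻¹ = v * w0 * v⁻¹ →
          (⟦⟨u, hu⟩⟧ : ↥(F.S hS) ⧸ K.subgroupOf (F.S hS)) = ⟦⟨v, hv⟩⟧ := by
        intro u v hu hv h
        refine QuotientGroup.eq.2 (mem_subgroupOf.2 (hmem _ ((F.S hS).mul_mem ((F.S hS).inv_mem hu) hv) ?_))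
        show u⁻¹ * v * w0 * (u⁻¹ * v)⁻¹ = w0
        rw [show u⁻¹ * v * w0 * (u⁻¹ * v)⁻¹ = u⁻¹ * (v * w0 * v⁻¹) * u by group, ← h]
        group
      rcases horb u₁ hu₁ with e1 | e1 <;> rcases horb u₂ hu₂ with e2 | e2 <;>
        rcases horb u₃ hu₃ with e3 | e3
      all_goals first
        | exact h12 (hne _ _ _ _ (e1.trans e2.symm))
        | exact h13 (hne _ _ _ _ (e1.trans e3.symm))
        | exact h23 (hne _ _ _ _ (e2.trans e3.symm))
    have h := (K.subgroupOf (F.S hS)).card_mul_index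
    rw [Nat.card_congr (subgroupOfEquivOfLe hKS).toEquiv, F.card_S hS] at h
    have hpos : 0 < (K.subgroupOf (F.S hS)).index := Nat.pos_of_ne_zero index_ne_zero_of_finite
    interval_cases (K.subgroupOf (F.S hS)).index
    · exact ⟨2, by omega⟩
    · exact ⟨1, by omega⟩
  rcases hg with hgW | hgs
  · obtain ⟨q, hq, p, hp, hxe⟩ := (F.mem_W hS).1 hgW
    have hbC : F.b0 ∈ B.C := B.J_le F.b_J
    obtain ⟨p', hp'e⟩ : ∃ p', p' = F.r 2 * p * F.r 2 := ⟨_, rfl⟩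
    have hp' : p' ∈ F.Qa := hp'e ▸ F.r2_Qb hp
    have hcc : q * p * (q * p) = q * q * (p * p) := by
      rw [show q * p * (q * p) = q * (p * q) * p by group, ← F.Qa_Qb_comm hS hq hp]; group
    have htriv : (q = 1 ∨ q = F.z0) → (p = 1 ∨ p = F.z0) → False := by
      intro a b
      rcases a with rfl | rfl <;> rcases b with rfl | rfl
      · exact hx1 (by rw [hxe, mul_one])
      · exact hz g (by rw [← hx, hxe, one_mul])
      · exact hz g (by rw [← hx, hxe, mul_one])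
      · exact hx1 (by rw [hxe, F.z_sq])
    rw [hxe, hcc] at hx2
    rcases F.Qa_sq hq with hq1 | hq1
    · have hqq : q * q = 1 := by rcases hq1 with rfl | rfl <;> simp [F.z_sq]
      rw [hqq, one_mul] at hx2
      refine htriv hq1 ?_
      rcases F.Qb_sq hp with h | h
      · exact h
      · exact absurd (h.symm.trans hx2) F.z_ne
    rcases F.Qb_sq hp with hp1 | hp1
    · have hpp : p * p = 1 := by rcases hp1 with rfl | rfl <;> simp [F.z_sq]
      rw [hq1, hpp, mul_one] at hx2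
      exact F.z_ne hx2
    -- `x` is conjugate to `w₀`
    have hroot : ∀ u ∈ F.Qa, u * u = F.z0 → ∃ i : ℕ, u = F.b0 ^ i * p0 * (F.b0 ^ i)⁻¹ ∨
        u = F.z0 * (F.b0 ^ i * p0 * (F.b0 ^ i)⁻¹) := by
      intro u hu huz
      have hsq : ∀ y ∈ F.Qa, y * y = F.z0 → B.slx y * B.slx y = -1 := fun y hy h => by
        rw [← Base.slx_mul (F.Qa_spec.le_C hy) (F.Qa_spec.le_C hy), h,
          Base.slx_invol F.z_C F.z_sq F.z_ne]
      have hpC := F.Qa_spec.le_C hp0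
      have hm : ∀ i : ℕ, F.b0 ^ i * p0 * (F.b0 ^ i)⁻¹ ∈ F.Qa := fun i =>
        F.Qa_spec.conj_mem (pow_mem hbC i) ((show Commute F.b0 F.z0 from F.z_b.symm).pow_left i).eq hp0
      have hs : ∀ i : ℕ, B.slx (F.b0 ^ i * p0 * (F.b0 ^ i)⁻¹) =
          B.slx F.b0 ^ i * B.slx p0 * (B.slx F.b0 ^ i)⁻¹ := fun i => by
        rw [Base.slx_conj (pow_mem hbC i) hpC, Base.slx_pow hbC]
      have hinj : ∀ v ∈ F.Qa, B.slx u = B.slx v → u = v := fun v hv h => F.Qa_spec.inj _ hu _ hv h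
      rcases sl_orbit _ _ _ F.slx_b.1 F.slx_b.2 (hsq u hu huz) (hsq p0 hp0 hp0z) with
        h | h | h | h | h | h
      · exact ⟨0, Or.inl (hinj _ (hm 0) (by rw [hs, pow_zero, one_mul, inv_one, mul_one]; exact h))⟩
      · exact ⟨0, Or.inr (hinj _ (F.Qa.mul_mem F.z_Qa (hm 0)) (by
          rw [F.sl_mul_z (hm 0), hs, pow_zero, one_mul, inv_one, mul_one]; exact h))⟩
      · exact ⟨1, Or.inl (hinj _ (hm 1) (by rw [hs, pow_one]; exact h))⟩
      · exact ⟨1, Or.inr (hinj _ (F.Qa.mul_mem F.z_Qa (hm 1)) (by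
          rw [F.sl_mul_z (hm 1), hs, pow_one]; exact h))⟩
      · exact ⟨2, Or.inl (hinj _ (hm 2) (by rw [hs, pow_two]; exact h))⟩
      · exact ⟨2, Or.inr (hinj _ (F.Qa.mul_mem F.z_Qa (hm 2)) (by
          rw [F.sl_mul_z (hm 2), hs, pow_two]; exact h))⟩
    have hp'z : p' * p' = F.z0 := by rw [hp'e, ← F.r2_conj_mul, hp1, F.r2_z]
    obtain ⟨i, hi⟩ := hroot q hq hq1
    obtain ⟨j, hj⟩ := hroot p' hp' hp'z
    have hrb : F.r 2 * F.b0 ^ j * F.r 2 = B.a ^ j := by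
      have := conj_pow (i := j) (a := F.r 2) (b := F.b0)
      rw [F.r_inv, F.r2_b] at this
      exact this.symm
    have hrb' : F.r 2 * (F.b0 ^ j)⁻¹ * F.r 2 = (B.a ^ j)⁻¹ := by
      rw [← hrb, mul_inv_rev, mul_inv_rev, F.r_inv, ← mul_assoc]
    have hpe : p = B.a ^ j * p0' * (B.a ^ j)⁻¹ ∨ p = F.z0 * (B.a ^ j * p0' * (B.a ^ j)⁻¹) := by
      rcases hj with h | h
      · left
        rw [← F.r2_conj p, ← hp'e, h, F.r2_conj_mul, F.r2_conj_mul, hrb, hrb', ← hp0'e]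
      · right
        rw [← F.r2_conj p, ← hp'e, h, F.r2_conj_mul, F.r2_conj_mul, F.r2_conj_mul, hrb, hrb', ← hp0'e, F.r2_z]
    obtain ⟨γ, hγ⟩ : ∃ γ, γ = F.b0 ^ i * B.a ^ j := ⟨_, rfl⟩
    have hab : Commute (F.b0 ^ i) (B.a ^ j) :=
      (show Commute F.b0 B.a from mem_centralizer_singleton_iff.1 hbC).pow_pow i j
    have hγw : γ * w0 * γ⁻¹ = F.b0 ^ i * p0 * (F.b0 ^ i)⁻¹ * (B.a ^ j * p0' * (B.a ^ j)⁻¹) := by
      have c1 : B.a ^ j * p0 * (B.a ^ j)⁻¹ = p0 := by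
        rw [← ((show Commute p0 B.a from F.Qa_spec.comm_a hp0).pow_right j).eq, mul_inv_cancel_right]
      have c2 : F.b0 ^ i * p0' * (F.b0 ^ i)⁻¹ = p0' := by
        rw [← ((show Commute p0' F.b0 from F.Qb_comm_b hp0').pow_right i).eq, mul_inv_cancel_right]
      rw [hγ, hw0]
      calc F.b0 ^ i * B.a ^ j * (p0 * p0') * (F.b0 ^ i * B.a ^ j)⁻¹
          = F.b0 ^ i * (B.a ^ j * p0 * (B.a ^ j)⁻¹) * (B.a ^ j * p0' * (B.a ^ j)⁻¹) * (F.b0 ^ i)⁻¹ := by group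
        _ = F.b0 ^ i * p0 * (F.b0 ^ i)⁻¹ * ((F.b0 ^ i * B.a ^ j) * p0' * (F.b0 ^ i * B.a ^ j)⁻¹) := by
            rw [c1]; group
        _ = F.b0 ^ i * p0 * (F.b0 ^ i)⁻¹ * ((B.a ^ j * F.b0 ^ i) * p0' * (B.a ^ j * F.b0 ^ i)⁻¹) := by
            rw [hab.eq]
        _ = F.b0 ^ i * p0 * (F.b0 ^ i)⁻¹ * (B.a ^ j * (F.b0 ^ i * p0' * (F.b0 ^ i)⁻¹) * (B.a ^ j)⁻¹) := by
            group
        _ = _ := by rw [c2]
    have hγz : γ * F.z0 = F.z0 * γ := by
      rw [hγ]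
      exact (((show Commute F.b0 F.z0 from F.z_b.symm).pow_left i).mul_left
        ((show Commute B.a F.z0 from F.z_a.symm).pow_left j)).eq
    -- `w₀ z` is conjugate to `w₀`
    obtain ⟨d, hd⟩ : ∃ d : G, d * w0 * d⁻¹ = F.z0 * w0 := by
      have hsp : B.slx p0 * B.slx p0 = -1 := by
        rw [← Base.slx_mul (F.Qa_spec.le_C hp0) (F.Qa_spec.le_C hp0), hp0z,
          Base.slx_invol F.z_C F.z_sq F.z_ne]
      obtain ⟨y, hy4, hy⟩ := sl_anti _ hsp
      obtain ⟨d, hd, rfl⟩ := F.Qa_spec.img y hy4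
      refine ⟨d, ?_⟩
      have h1 : d * p0 * d⁻¹ = p0 * F.z0 := F.Qa_spec.inj _
        (F.Qa.mul_mem (F.Qa.mul_mem hd hp0) (F.Qa.inv_mem hd)) _ (F.Qa.mul_mem hp0 F.z_Qa) (by
          rw [Base.slx_conj (F.Qa_spec.le_C hd) (F.Qa_spec.le_C hp0), hy,
            Base.slx_mul (F.Qa_spec.le_C hp0) F.z_C, Base.slx_invol F.z_C F.z_sq F.z_ne])
      rw [hw0, show d * (p0 * p0') * d⁻¹ = d * p0 * d⁻¹ * (d * p0' * d⁻¹) by group, h1,
        F.Qa_Qb_comm hS hd hp0', mul_inv_cancel_right, F.Qa_spec.comm hp0, mul_assoc]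
    have hconj : ∃ δ : G, x = δ * w0 * δ⁻¹ := by
      have hgoal : x = γ * w0 * γ⁻¹ ∨ x = F.z0 * (γ * w0 * γ⁻¹) := by
        have hAz : F.b0 ^ i * p0 * (F.b0 ^ i)⁻¹ * F.z0 = F.z0 * (F.b0 ^ i * p0 * (F.b0 ^ i)⁻¹) :=
          F.Qa_spec.comm (F.Qa_spec.conj_mem (pow_mem hbC i)
            ((show Commute F.b0 F.z0 from F.z_b.symm).pow_left i).eq hp0)
        rw [hγw, hxe]
        rcases hi with hi | hi <;> rcases hpe with hpe | hpe <;> rw [hi, hpe]
        · exact Or.inl rfl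
        · exact Or.inr (by rw [← mul_assoc, hAz, mul_assoc])
        · exact Or.inr (mul_assoc _ _ _)
        · refine Or.inl ?_
          rw [← mul_assoc (F.z0 * _) F.z0, mul_assoc F.z0 _ F.z0, hAz, ← mul_assoc F.z0 F.z0, F.z_sq, one_mul]
      rcases hgoal with h | h
      · exact ⟨γ, h⟩
      · refine ⟨γ * d, ?_⟩
        rw [h, show γ * d * w0 * (γ * d)⁻¹ = γ * (d * w0 * d⁻¹) * γ⁻¹ by group, hd,
          show γ * (F.z0 * w0) * γ⁻¹ = γ * F.z0 * γ⁻¹ * (γ * w0 * γ⁻¹) by group, hγz, mul_inv_cancel_right]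
    obtain ⟨δ, hδ⟩ := hconj
    refine hcard (δ⁻¹ * g) w0 ?_ hK64
    rw [show δ⁻¹ * g * F.r 2 * (δ⁻¹ * g)⁻¹ = δ⁻¹ * (g * F.r 2 * g⁻¹) * δ by group, ← hx, hδ]
    group
  · obtain ⟨q, hq, p, hp, he⟩ := (F.mem_W hS).1 hgs
    have hxe : x = q * p * F.s01 := by rw [← he, mul_assoc, F.s01_sq, mul_one]
    obtain ⟨y, hy | hy⟩ := F.T0_coset hS hq hp (hxe ▸ hx2)
    · refine F.r2_not_conj_s01 hS (y⁻¹ * g) ?_
      rw [show y⁻¹ * g * F.r 2 * (y⁻¹ * g)⁻¹ = y⁻¹ * (g * F.r 2 * g⁻¹) * y by group, ← hx, hxe, hy]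
      group
    · refine hz (y⁻¹ * g) ?_
      rw [show y⁻¹ * g * F.r 2 * (y⁻¹ * g)⁻¹ = y⁻¹ * (g * F.r 2 * g⁻¹) * y by group, ← hx, hxe, hy]
      group

end FullFrame

/-- The leg `C(e_k) ≤ M`. -/
theorem FullFrame.small {G : Type*} [Group G] [Finite G] {B : Base G} (F : FullFrame B) (hS : F.Small)
    (K : Type*) [Field K] [Fintype K] (hK : Fintype.card K = 3) :
    Nonempty (G ≃* MulAut (Cfsg.PSp 2 K)) := by
  classical
  haveI : Fact (Nat.Prime 2) := ⟨Nat.prime_two⟩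
  haveI : Fact (Nat.Prime 3) := ⟨Nat.prime_three⟩
  obtain ⟨P, hP⟩ := F.exists_sylow_S hS
  obtain ⟨G1, hG1n, hG1i, hr⟩ := (CfsgLib.Transfer.thompson_transfer_involution P
    (hP.symm ▸ F.T0_le_S hS) (hP.symm ▸ F.T0_index hS) (u := F.r 2) (by rw [pow_two]; exact F.r_sq 2)
    (hP.symm ▸ F.r2_S hS)).resolve_right fun ⟨g, hg⟩ => F.r2_not_T0_conj hS g hg
  haveI := hG1n
  have hodd : ∀ g : G, Odd (orderOf g) → g ∈ G1 := by
    intro g hg
    obtain ⟨k, hk⟩ := hg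
    rw [show g = (g * g) ^ (k + 1) by
      rw [← pow_two, ← pow_mul, show 2 * (k + 1) = 2 * k + 1 + 1 by ring, ← hk, pow_succ,
        pow_orderOf_eq_one, one_mul]]
    exact pow_mem (Subgroup.mul_self_mem_of_index_two hG1i g) _
  have hthree : ∀ g : G, ∀ n : ℕ, g ^ 3 ^ n = 1 → g ∈ G1 := fun g n hn =>
    hodd g ((Odd.pow (by decide)).of_dvd_nat (orderOf_dvd_of_pow_eq_one hn))
  have hRG : ∀ x ∈ B.R, x ∈ G1 := fun x hx => hthree x 1 (by rw [pow_one]; exact B.R_exp x hx)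
  have hCG : B.C ≤ G1 := by
    intro g hg
    obtain ⟨u, v, w, hu, hv, hw, he⟩ := sl_three_gen (B.slx g)
    have hlift : ∀ u : SLT, u * u * u = 1 → ∃ x ∈ B.C, B.slx x = u ∧ x ∈ G1 := by
      intro u hu
      obtain ⟨x, hx, rfl⟩ := Base.slx_surj (B := B) u
      refine ⟨x, hx, rfl, hthree x 2 ?_⟩
      have h3 : x ^ 3 ∈ B.R := (Base.slx_eq_one (pow_mem hx 3)).1 (by
        rw [Base.slx_pow hx, pow_succ, pow_two, hu])
      rw [show 3 ^ 2 = 3 * 3 by norm_num, pow_mul, B.R_exp _ h3]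
    obtain ⟨x, hx, rfl, hxG⟩ := hlift u hu
    obtain ⟨y, hy, rfl, hyG⟩ := hlift v hv
    obtain ⟨t, ht, rfl, htG⟩ := hlift w hw
    have hR : (x * y * t)⁻¹ * g ∈ B.R := (Base.slx_eq_one (mul_mem (inv_mem (mul_mem (mul_mem hx hy) ht)) hg)).1 (by
      rw [Base.slx_mul (inv_mem (mul_mem (mul_mem hx hy) ht)) hg, Base.slx_inv (mul_mem (mul_mem hx hy) ht),
        Base.slx_mul (mul_mem hx hy) ht, Base.slx_mul hx hy, he, inv_mul_cancel])
    have := mul_mem (mul_mem (mul_mem hxG hyG) htG) (hRG _ hR)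
    rwa [mul_inv_cancel_left] at this
  have hJG : B.J ≤ G1 := fun x hx => hCG (B.J_le hx)
  -- the sign changes
  have hrk : ∀ k, F.r k ∉ G1 := by
    intro k h
    refine hr ?_
    have := hG1n.conj_mem _ h (F.p (Equiv.swap k 2))
    rwa [F.p_r, Equiv.swap_apply_left] at this
  have hpair : ∀ k l, F.r k * F.r l ∈ G1 := fun k l =>
    (Subgroup.mul_mem_iff_of_index_two hG1i).2 (by simp [hrk k, hrk l])
  have hs012 : F.s012 ∉ G1 := fun h => hrk 2 (by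
    have := G1.mul_mem (G1.inv_mem (hpair 0 1)) h
    rwa [inv_mul_cancel_left] at this)
  let a' : G1 := ⟨B.a, hCG B.a_mem_C⟩
  have hcent : ∀ x : G1, x ∈ centralizer ({a'} : Set G1) ↔ (x : G) ∈ B.C := fun x => by
    rw [mem_centralizer_singleton_iff, mem_centralizer_singleton_iff]
    exact ⟨fun h => congrArg Subtype.val h, fun h => Subtype.ext h⟩
  let ι : ↥(centralizer ({a'} : Set G1)) →* ↥B.C :=
    MonoidHom.mk' (fun x => ⟨((x : G1) : G), (hcent x).1 x.2⟩) fun x y => Subtype.ext rfl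
  let L : CfsgLib.SpSixThree.First.Local G1 := {
    a := a'
    ha := by rw [← Subgroup.orderOf_coe]; exact B.ha
    R := B.R.subgroupOf G1
    R_le := fun x hx => (hcent x).2 (B.R_le hx)
    R_card := by rw [Nat.card_congr (subgroupOfEquivOfLe hRG).toEquiv, B.R_card]
    R_exp := fun x hx => Subtype.ext (by rw [SubgroupClass.coe_pow]; exact B.R_exp _ hx)
    a_mem := B.a_mem_R
    center_R := fun x hx h => by
      have h1 : (x : G) ∈ Subgroup.zpowers B.a := B.R_center.le ⟨hx, fun y hy =>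
        (congrArg Subtype.val (h ⟨y, hRG y hy⟩ hy)).symm⟩
      obtain ⟨n, hn⟩ := mem_zpowers_iff.1 h1
      exact mem_zpowers_iff.2 ⟨n, Subtype.ext (by rw [SubgroupClass.coe_zpow]; exact hn)⟩
    φ := B.sl.comp ι
    φ_surj := fun y => by
      obtain ⟨c, rfl⟩ := B.sl_surj y
      exact ⟨⟨⟨c, hCG c.2⟩, (hcent _).2 c.2⟩, rfl⟩
    φ_ker := fun x => (B.mem_R_iff _).symm
    J := B.J.subgroupOf G1
    J_le := fun x hx => (hcent x).2 (B.J_le hx)
    J_comm := fun x hx y hy => Subtype.ext (B.J_comm _ hx _ hy)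
    J_exp := fun x hx => Subtype.ext (by rw [SubgroupClass.coe_pow]; exact B.J_exp _ hx)
    J_card := by rw [Nat.card_congr (subgroupOfEquivOfLe hJG).toEquiv, B.J_card]
    sig := fun K' hK' hn => by
      refine (map_eq_bot_iff_of_injective _ G1.subtype_injective).1 (B.sig _ ?_ fun j hj => ?_)
      · rwa [card_map_of_injective G1.subtype_injective]
      · refine mem_normalizer_iff_map_conj_eq.2 (eq_of_le_of_card_ge ?_
          (card_map_of_injective (MulAut.conj j).injective).ge)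
        rintro _ ⟨_, ⟨k, hk, rfl⟩, rfl⟩
        exact ⟨⟨j, hJG hj⟩ * k * ⟨j, hJG hj⟩⁻¹,
          (mem_normalizer_iff.1 (hn (show (⟨j, hJG hj⟩ : G1) ∈ B.J.subgroupOf G1 from hj)) k).1 hk, rfl⟩ }
  have hna : ∀ g : G1, g * L.a * g⁻¹ ≠ L.a⁻¹ := by
    intro g hg
    have hg' : (g : G) * B.a * (g : G)⁻¹ = B.a⁻¹ := congrArg Subtype.val hg
    refine hs012 ?_
    have hc : (g : G)⁻¹ * F.s012 ∈ B.C := mem_centralizer_singleton_iff.2 (mul_inv_eq_iff_eq_mul.1 (by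
      rw [mul_inv_rev, inv_inv, inv_eq_of_mul_eq_one_right F.s012_sq,
        show (g : G)⁻¹ * F.s012 * B.a * (F.s012 * (g : G)) =
          (g : G)⁻¹ * (F.s012 * B.a * F.s012) * g by group, F.s012_a, ← hg']
      group))
    have := mul_mem g.2 (hCG hc)
    rwa [mul_inv_cancel_left] at this
  have hM : ¬ L.M ≤ L.C := by
    intro h
    have hmem : (⟨F.s01, hpair 0 1⟩ : G1) ∈ L.M := by
      refine mem_normalizer_iff_map_conj_eq.2 (eq_of_le_of_card_ge ?_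
        (card_map_of_injective (MulAut.conj _).injective).ge)
      rintro _ ⟨x, hx, rfl⟩
      exact (mem_normalizer_iff.1 (F.toFrame.mem_M_of_acts F.acts_s01) _).1 hx
    have h1 : F.s01 * B.a = B.a * F.s01 := congrArg Subtype.val (mem_centralizer_singleton_iff.1 (h hmem))
    have h2 := F.s01_a
    rw [h1, mul_assoc, F.s01_sq, mul_one, ← F.el_a', ← F.toFrame.el_neg, F.toFrame.el_inj] at h2
    exact avec_ne_neg_bvec h2
  obtain ⟨f⟩ := L.iso_of_not_le hna hM K hK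
  -- conjugation
  let c : G →* MulAut G1 := MulAut.conjNormal
  have hc : Function.Injective c := by
    rw [← MonoidHom.ker_eq_bot_iff, eq_bot_iff_forall]
    intro g hg
    have hcomm : ∀ x ∈ G1, g * x = x * g := by
      intro x hx
      have h1 : ((c g ⟨x, hx⟩ : G1) : G) = g * x * g⁻¹ := MulAut.conjNormal_apply g ⟨x, hx⟩
      rw [MonoidHom.mem_ker.1 hg, MulAut.one_apply] at h1
      exact mul_inv_eq_iff_eq_mul.1 h1.symm
    have hgJ : g ∈ B.J := B.cent_J ▸ mem_centralizer_iff.2 fun x hx => (hcomm x (hJG hx)).symm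
    obtain ⟨v, rfl⟩ := F.toFrame.exists_el hgJ
    have hfix : ∀ w : Code, ∀ s ∈ G1, F.toFrame.Acts s w → sact w v = v := fun w s hs hw =>
      F.toFrame.el_inj.1 (by
        rw [← show s * F.el v * s⁻¹ = F.el (sact w v) from hw v, ← hcomm s hs, mul_inv_cancel_right])
    rw [cent_signs v (hfix _ _ (hpair 0 1) F.acts_s01)
      (hfix _ _ (hpair 1 2) (Frame.Acts.mul _ (F.acts_r 1) (F.acts_r 2))), F.toFrame.el_zero]
  haveI : Finite (Cfsg.PSp 2 K) := Finite.of_equiv _ f.toEquiv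
  haveI : Finite (MulAut (Cfsg.PSp 2 K)) :=
    Finite.of_injective MulEquiv.toEquiv MulEquiv.toEquiv_injective
  let Ψ : G →* MulAut (Cfsg.PSp 2 K) := (MulAut.congr f).toMonoidHom.comp c
  have hcard : Nat.card (MulAut (Cfsg.PSp 2 K)) = Nat.card G := by
    rw [Cfsg.Agent.S0814.result 3 1 le_rfl (by rw [pow_one]; exact hK) 2 le_rfl (fun _ => by norm_num),
      ← G1.card_mul_index, hG1i, ← Nat.card_congr f.toEquiv]
    norm_num [mul_comm]
  exact ⟨MulEquiv.ofBijective Ψ ((Nat.bijective_iff_injective_and_card Ψ).2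
    ⟨(MulAut.congr f).injective.comp hc, hcard.symm⟩)⟩

end CfsgLib.Recog.SpSixThree
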