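import Cfsg.Agent.Lib.Recog.SpSixThree.NormA

/-!
# The quaternion group of `C(a)` at an involution

For an involution `t` of `C(a)`, the elements of exponent four of `C(a) ∩ C(t)` form a quaternion
group `Q` mapped bijectively onto the Sylow 2-subgroup of `SL₂(3)`, and
`C(a) ∩ C(t) = Q ⟨b⟩ ⟨a⟩` for every element `b` of `J - R` centralised by `t`.
-/

set_option autoImplicit false
set_option Elab.async false
set_option linter.unusedSectionVars false

namespace CfsgLib.Recog.SpSixThree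

open Subgroup

theorem sl_act_pm : ∀ w y : SLT, w * w * w = 1 → y * y * y = 1 →
    (∀ q : SLT, q * q * (q * q) = 1 → w * q * w⁻¹ = y * q * y⁻¹ ∨ w * q * w⁻¹ = -1 * (y * q * y⁻¹)) →
    ∃ q : SLT, q * q * (q * q) = 1 ∧ q * w * q⁻¹ = y := by decide +kernel

theorem sl_avg : ∀ y q : SLT, y * y * y = 1 → y ≠ 1 → q * q * (q * q) = 1 →
    q * (y * q * y⁻¹) * (y * y * q * (y * y)⁻¹) = 1 ∨
    q * (y * q * y⁻¹) * (y * y * q * (y * y)⁻¹) = -1 := by decide +kernel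

set_option synthInstance.maxSize 1024 in
theorem sl_decomp : ∀ s y : SLT, s * s * s = 1 → s ≠ 1 →
    ∃ q : SLT, q * q * (q * q) = 1 ∧ (y = q ∨ y = q * s ∨ y = q * (s * s)) := by decide +kernel

theorem sl_three_gen : ∀ y : SLT, ∃ u v w : SLT,
    u * u * u = 1 ∧ v * v * v = 1 ∧ w * w * w = 1 ∧ y = u * v * w := by decide +kernel

theorem sl_orbit : ∀ y p p' : SLT, y * y * y = 1 → y ≠ 1 → p * p = -1 → p' * p' = -1 →
    p = p' ∨ p = -1 * p' ∨ p = y * p' * y⁻¹ ∨ p = -1 * (y * p' * y⁻¹) ∨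
      p = y * y * p' * (y * y)⁻¹ ∨ p = -1 * (y * y * p' * (y * y)⁻¹) := by decide +kernel

theorem sl_fix_gen : ∀ x y : SLT, x * x = -1 → y * y = -1 →
    y = x ∨ y = -1 * x ∨ (x * y * (x * y) = -1 ∧ y * x = -1 * (x * y)) := by decide +kernel

theorem sl_four_cases : ∀ y : SLT, y * y * (y * y) = 1 → y = 1 ∨ y = -1 ∨ y * y = -1 := by
  decide +kernel

namespace Base

variable {G : Type*} [Group G] [Finite G] {B : Base G}

/-- The map to `SL₂(3)`, extended by `1` outside `C(a)`. -/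
noncomputable def slx (B : Base G) (g : G) : SLT :=
  letI := Classical.propDecidable (g ∈ B.C)
  if h : g ∈ B.C then B.sl ⟨g, h⟩ else 1

theorem slx_eq {g : G} (h : g ∈ B.C) : B.slx g = B.sl ⟨g, h⟩ := by
  rw [slx, dif_pos h]

theorem slx_one : B.slx 1 = 1 := by
  rw [slx_eq (one_mem _)]
  exact map_one B.sl

theorem slx_mul {x y : G} (hx : x ∈ B.C) (hy : y ∈ B.C) : B.slx (x * y) = B.slx x * B.slx y := by
  rw [slx_eq hx, slx_eq hy, slx_eq (mul_mem hx hy), ← map_mul]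
  rfl

theorem slx_inv {x : G} (hx : x ∈ B.C) : B.slx x⁻¹ = (B.slx x)⁻¹ := by
  rw [slx_eq hx, slx_eq (inv_mem hx), ← map_inv]
  rfl

theorem slx_conj {x y : G} (hx : x ∈ B.C) (hy : y ∈ B.C) :
    B.slx (x * y * x⁻¹) = B.slx x * B.slx y * (B.slx x)⁻¹ := by
  rw [slx_mul (mul_mem hx hy) (inv_mem hx), slx_mul hx hy, slx_inv hx]

theorem slx_pow {x : G} (hx : x ∈ B.C) (n : ℕ) : B.slx (x ^ n) = B.slx x ^ n := by
  induction n with
  | zero => rw [pow_zero, pow_zero, slx_one]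
  | succ n ih => rw [pow_succ, pow_succ, slx_mul (pow_mem hx n) hx, ih]

theorem slx_eq_one {g : G} (hg : g ∈ B.C) : B.slx g = 1 ↔ g ∈ B.R := by
  rw [slx_eq hg, ← B.mem_R_iff hg]

theorem slx_surj (y : SLT) : ∃ g ∈ B.C, B.slx g = y := by
  obtain ⟨g, rfl⟩ := B.sl_surj y
  exact ⟨g, g.2, slx_eq g.2⟩

/-- An involution of `C(a)` maps to the central involution. -/
theorem slx_invol {t : G} (ht : t ∈ B.C) (ht2 : t * t = 1) (ht1 : t ≠ 1) : B.slx t = -1 := by
  refine sl_invol_unique _ _ ?_ sl_neg_sq (fun h => ?_) sl_neg_ne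
  · rw [← slx_mul ht ht, ht2, slx_one]
  · have h3 := B.R_exp t ((slx_eq_one ht).1 h)
    rw [pow_succ, pow_two, ht2, one_mul] at h3
    exact ht1 h3

/-- The quaternion group at the involution `t`. -/
structure IsQuat (B : Base G) (t : G) (Q : Subgroup G) : Prop where
  mem_iff : ∀ g, g ∈ Q ↔ g ∈ B.C ∧ g * t = t * g ∧ g * g * (g * g) = 1
  inj : ∀ p ∈ Q, ∀ q ∈ Q, B.slx p = B.slx q → p = q
  img : ∀ y : SLT, y * y * (y * y) = 1 → ∃ q ∈ Q, B.slx q = y

theorem exists_quat {t : G} (ht : t ∈ B.C) (ht2 : t * t = 1) (ht1 : t ≠ 1) :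
    ∃ Q, IsQuat B t Q := by
  classical
  haveI : Fact (Nat.Prime 2) := ⟨Nat.prime_two⟩
  have htpow : IsPGroup 2 (zpowers (⟨t, ht⟩ : B.C)) :=
    IsPGroup.of_card (n := 1) (by
      rw [Nat.card_zpowers]
      exact orderOf_eq_prime (Subtype.ext (by simpa [pow_two] using ht2)) fun h =>
        ht1 (congrArg Subtype.val h))
  obtain ⟨Qc, hQc⟩ := htpow.exists_le_sylow
  obtain ⟨Q, hQ⟩ : ∃ Q, Q = (Qc : Subgroup B.C).map B.C.subtype := ⟨_, rfl⟩
  have hQC : Q ≤ B.C := hQ ▸ map_subtype_le _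
  have htQ : t ∈ Q := hQ.ge ⟨⟨t, ht⟩, hQc (mem_zpowers _), rfl⟩
  have hQp : IsPGroup 2 Q := hQ ▸ Qc.isPGroup'.map _
  have hQ8 : Nat.card Qc = 8 := by
    rw [Sylow.card_eq_multiplicity, B.card_C, show (648 : ℕ) = 2 ^ 3 * 81 by norm_num,
      Nat.factorization_mul (by norm_num) (by norm_num), Finsupp.add_apply,
      Nat.Prime.factorization_pow Nat.prime_two, Finsupp.single_eq_same,
      Nat.factorization_eq_zero_of_not_dvd (by norm_num : ¬ 2 ∣ 81)]
    norm_num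
  have hinj : ∀ p ∈ Q, ∀ q ∈ Q, B.slx p = B.slx q → p = q := by
    intro p hp q hq he
    have hR : p * q⁻¹ ∈ B.R := (slx_eq_one (mul_mem (hQC hp) (inv_mem (hQC hq)))).1 (by
      rw [slx_mul (hQC hp) (inv_mem (hQC hq)), slx_inv (hQC hq), he, mul_inv_cancel])
    obtain ⟨k, hk⟩ := hQp ⟨p * q⁻¹, mul_mem hp (inv_mem hq)⟩
    exact mul_inv_eq_one.1 (eq_one_of_pow_two_three (k := k)
      (by simpa using congrArg Subtype.val hk) (B.R_exp _ hR))
  have himg : ∀ y : SLT, y * y * (y * y) = 1 → ∃ q ∈ Q, B.slx q = y := by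
    intro y hy
    have hc : Nat.card ((Qc : Subgroup B.C).map B.sl) = 8 := by
      rw [← hQ8]
      refine (Nat.card_congr (Equiv.ofBijective
        (fun q : (Qc : Subgroup B.C) => (⟨B.sl q, mem_map_of_mem _ q.2⟩ :
          (Qc : Subgroup B.C).map B.sl)) ⟨fun p q he => ?_, ?_⟩)).symm
      · refine Subtype.ext (Subtype.ext (hinj _ (hQ.ge ⟨_, p.2, rfl⟩) _ (hQ.ge ⟨_, q.2, rfl⟩) ?_))
        show B.slx ((p : B.C) : G) = B.slx ((q : B.C) : G)
        rw [slx_eq (p : B.C).2, slx_eq (q : B.C).2]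
        exact congrArg (fun z : (Qc : Subgroup B.C).map B.sl => (z : SLT)) he
      · rintro ⟨_, q, hq, rfl⟩
        exact ⟨⟨q, hq⟩, rfl⟩
    obtain ⟨q, hq, rfl⟩ := eight_of_two_pow hc hy
    exact ⟨q, hQ.ge ⟨q, hq, rfl⟩, slx_eq q.2⟩
  have hq4 : ∀ q ∈ Q, q * q * (q * q) = 1 := by
    intro q hq
    refine hinj _ (mul_mem (mul_mem hq hq) (mul_mem hq hq)) _ (one_mem _) ?_
    rw [slx_mul (mul_mem (hQC hq) (hQC hq)) (mul_mem (hQC hq) (hQC hq)), slx_mul (hQC hq) (hQC hq),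
      slx_one]
    refine sl_two_pow _ ?_
    have h8 : q ^ 8 = 1 := by
      have h : (⟨q, hq⟩ : Q) ^ Nat.card Q = 1 := pow_card_eq_one'
      rw [show Nat.card Q = 8 by rw [hQ, card_map_of_injective B.C.subtype_injective]; exact hQ8] at h
      simpa using congrArg Subtype.val h
    have h := congrArg B.slx h8
    rw [slx_pow (hQC hq), slx_one] at h
    simpa [pow_succ, mul_assoc] using h
  have hqt : ∀ q ∈ Q, q * t = t * q := by
    intro q hq
    refine hinj _ (mul_mem hq htQ) _ (mul_mem htQ hq) ?_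
    rw [slx_mul (hQC hq) ht, slx_mul ht (hQC hq), slx_invol ht ht2 ht1, sl_neg_comm (B.slx q)]
  refine ⟨Q, fun w => ⟨fun hw => ⟨hQC hw, hqt w hw, hq4 w hw⟩, ?_⟩, hinj, himg⟩
  rintro ⟨hw, hwt, hw4⟩
  obtain ⟨q, hq, he⟩ := himg (B.slx w) (by
    rw [← slx_mul hw hw, ← slx_mul (mul_mem hw hw) (mul_mem hw hw), hw4, slx_one])
  have hR : q⁻¹ * w ∈ B.R := (slx_eq_one (mul_mem (inv_mem (hQC hq)) hw)).1 (by
    rw [slx_mul (inv_mem (hQC hq)) hw, slx_inv (hQC hq), he, inv_mul_cancel])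
  have hz : q⁻¹ * w ∈ B.Za := cent_t_R ht ht2 ht1 hR
    (((show Commute t q from (hqt q hq).symm).inv_right).mul_right hwt.symm).eq
  have hc : Commute q (q⁻¹ * w) := za_comm (hQC hq) hz
  have h4 : (q * (q⁻¹ * w)) ^ 4 = 1 := by
    rw [mul_inv_cancel_left]
    simpa [pow_succ, mul_assoc] using hw4
  rw [hc.mul_pow, show q ^ 4 = 1 by simpa [pow_succ, mul_assoc] using hq4 q hq, one_mul,
    pow_succ, za_three hz, one_mul] at h4
  rw [inv_mul_eq_one] at h4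
  exact h4 ▸ hq

namespace IsQuat

variable {t : G} {Q : Subgroup G} (h : IsQuat B t Q)

include h

theorem le_C : Q ≤ B.C := fun _ hq => ((h.mem_iff _).1 hq).1

theorem comm {q : G} (hq : q ∈ Q) : q * t = t * q := ((h.mem_iff _).1 hq).2.1

theorem four {q : G} (hq : q ∈ Q) : q * q * (q * q) = 1 := ((h.mem_iff _).1 hq).2.2

theorem comm_a {q : G} (hq : q ∈ Q) : q * B.a = B.a * q := mem_C.1 (h.le_C hq)

theorem slx_four {q : G} (hq : q ∈ Q) : B.slx q * B.slx q * (B.slx q * B.slx q) = 1 := by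
  rw [← slx_mul (h.le_C hq) (h.le_C hq), ← slx_mul (mul_mem (h.le_C hq) (h.le_C hq))
    (mul_mem (h.le_C hq) (h.le_C hq)), h.four hq, slx_one]

theorem t_mem (ht : t ∈ B.C) (ht2 : t * t = 1) : t ∈ Q :=
  (h.mem_iff t).2 ⟨ht, rfl, by rw [ht2, one_mul]⟩

theorem card : Nat.card Q = 8 := by
  classical
  have hb : Function.Bijective (fun q : Q => (⟨B.slx q, h.slx_four q.2⟩ :
      {y : SLT // y * y * (y * y) = 1})) :=
    ⟨fun p q he => Subtype.ext (h.inj _ p.2 _ q.2 (congrArg Subtype.val he)), fun y =>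
      let ⟨q, hq, he⟩ := h.img y y.2
      ⟨⟨q, hq⟩, Subtype.ext he⟩⟩
  rw [Nat.card_congr (Equiv.ofBijective _ hb), Nat.card_eq_fintype_card, Fintype.card_subtype]
  exact sl_four_count

theorem pgroup : IsPGroup 2 Q := IsPGroup.of_card (n := 3) (by rw [h.card]; norm_num)

theorem conj_mem {g q : G} (hg : g ∈ B.C) (hgt : g * t = t * g) (hq : q ∈ Q) : g * q * g⁻¹ ∈ Q := by
  refine (h.mem_iff _).2 ⟨mul_mem (mul_mem hg (h.le_C hq)) (inv_mem hg), ?_, ?_⟩
  · exact (((show Commute g t from hgt).mul_left (h.comm hq)).mul_left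
      (show Commute g t from hgt).inv_left).eq
  · rw [show g * q * g⁻¹ * (g * q * g⁻¹) * (g * q * g⁻¹ * (g * q * g⁻¹)) =
      g * (q * q * (q * q)) * g⁻¹ by group, h.four hq, mul_one, mul_inv_cancel]

/-- The elements of order prime to three. -/
theorem mem_of_coprime {g : G} (hg : g ∈ B.C) (hgt : g * t = t * g)
    (hc : (orderOf g).Coprime 3) : g ∈ Q := by
  have hd : orderOf g ∣ 8 := by
    refine (Nat.Coprime.pow_right 4 hc).dvd_of_dvd_mul_right ?_
    rw [show (8 : ℕ) * 3 ^ 4 = 648 by norm_num, ← B.card_C]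
    exact Subgroup.orderOf_dvd_natCard _ hg
  have h8 := orderOf_dvd_iff_pow_eq_one.1 hd
  have h4R : g ^ 4 ∈ B.R := by
    refine (slx_eq_one (pow_mem hg 4)).1 ?_
    rw [slx_pow hg]
    have := congrArg B.slx h8
    rw [slx_pow hg, slx_one] at this
    have := sl_two_pow (B.slx g) (by simpa [pow_succ, mul_assoc] using this)
    simpa [pow_succ, mul_assoc] using this
  refine (h.mem_iff g).2 ⟨hg, hgt, ?_⟩
  have := eq_one_of_pow_two_three (k := 1) (g := g ^ 4) (by rw [← pow_mul]; exact h8) (B.R_exp _ h4R)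
  simpa [pow_succ, mul_assoc] using this

/-- `C(a) ∩ C(t) = Q ⟨b⟩ ⟨a⟩`. -/
theorem decomp (ht : t ∈ B.C) (ht2 : t * t = 1) (ht1 : t ≠ 1) {b : G} (hb : b ∈ B.J)
    (hbR : b ∉ B.R) (htb : t * b = b * t) {g : G} (hg : g ∈ B.C) (hgt : g * t = t * g) :
    ∃ q ∈ Q, ∃ i j : ℕ, i < 3 ∧ j < 3 ∧ g = q * b ^ i * B.a ^ j := by
  have hbC : b ∈ B.C := J_C hb
  have hs3 : B.slx b * B.slx b * B.slx b = 1 := by
    rw [← slx_mul hbC hbC, ← slx_mul (mul_mem hbC hbC) hbC, ← pow_two, ← pow_succ, B.J_exp b hb,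
      slx_one]
  obtain ⟨q', hq', hy⟩ := sl_decomp (B.slx b) (B.slx g) hs3 fun he => hbR ((slx_eq_one hbC).1 he)
  obtain ⟨q, hq, rfl⟩ := h.img q' hq'
  obtain ⟨i, hi, hy⟩ : ∃ i, i < 3 ∧ B.slx g = B.slx (q * b ^ i) := by
    rcases hy with hy | hy | hy
    · exact ⟨0, by norm_num, by rw [pow_zero, mul_one, hy]⟩
    · exact ⟨1, by norm_num, by rw [pow_one, slx_mul (h.le_C hq) hbC, hy]⟩
    · exact ⟨2, by norm_num, by rw [slx_mul (h.le_C hq) (pow_mem hbC 2), slx_pow hbC, pow_two, hy]⟩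
  have hm : q * b ^ i ∈ B.C := mul_mem (h.le_C hq) (pow_mem hbC i)
  have hR : (q * b ^ i)⁻¹ * g ∈ B.R := (slx_eq_one (mul_mem (inv_mem hm) hg)).1 (by
    rw [slx_mul (inv_mem hm) hg, slx_inv hm, hy, inv_mul_cancel])
  have hmt : Commute (q * b ^ i) t :=
    (show Commute q t from h.comm hq).mul_left ((show Commute t b from htb).symm.pow_left i)
  have hz := cent_t_R ht ht2 ht1 hR ((hmt.inv_left).mul_left hgt).symm.eq
  obtain ⟨z, hzZ, rfl⟩ : ∃ z ∈ B.Za, g = q * b ^ i * z := ⟨_, hz, by group⟩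
  rcases za_cases hzZ with he | he | he
  · exact ⟨q, hq, i, 0, hi, by norm_num, by rw [he, pow_zero]⟩
  · exact ⟨q, hq, i, 1, hi, by norm_num, by rw [he, pow_one]⟩
  · refine ⟨q, hq, i, 2, hi, by norm_num, ?_⟩
    rw [he, inv_eq_of_mul_eq_one_right (a := B.a) (b := B.a ^ 2)
      (by rw [← pow_succ']; exact B.a_three)]

end IsQuat

end Base

end CfsgLib.Recog.SpSixThree
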