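import Cfsg.Agent.Lib.Recog.SpSixThree.Base
import Cfsg.Agent.S0814

/-!
# The tail of the small case: an index two subgroup `PSp₄(3)` gives its automorphism group
-/

set_option autoImplicit false

namespace CfsgLib.Recog.SpSixThree

open Subgroup

universe u v

/-- A group with a self-centralising index two subgroup `≅ PSp₄(3)` is its automorphism group. -/
theorem aut_psp_of_index_two {G : Type u} [Group G] [Finite G] (G₁ : Subgroup G) (hidx : G₁.index = 2)
    (hc : Subgroup.centralizer (G₁ : Set G) = ⊥) (F : Type v) [Field F] [Fintype F]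
    (hF : Fintype.card F = 3) (e : ↥G₁ ≃* Cfsg.PSp 2 F) :
    Nonempty (G ≃* MulAut (Cfsg.PSp 2 F)) := by
  haveI : Fact (Nat.Prime 3) := ⟨by norm_num⟩
  haveI : G₁.Normal := Subgroup.normal_of_index_eq_two hidx
  haveI : Finite (Cfsg.PSp 2 F) := Finite.of_equiv _ e.toEquiv
  haveI : Finite (MulAut (Cfsg.PSp 2 F)) :=
    Finite.of_injective (fun e : MulAut (Cfsg.PSp 2 F) => (e : Cfsg.PSp 2 F → Cfsg.PSp 2 F))
      DFunLike.coe_injective
  let Φ : G →* MulAut (Cfsg.PSp 2 F) := (MulAut.congr e).toMonoidHom.comp (MulAut.conjNormal (H := G₁))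
  have hinj : Function.Injective Φ := by
    refine (injective_iff_map_eq_one _).2 fun g hg => Subgroup.mem_bot.1 (hc ▸ ?_)
    have h1 : (MulAut.conjNormal g : MulAut ↥G₁) = 1 := (MulAut.congr e).map_eq_one_iff.1 hg
    refine Subgroup.mem_centralizer_iff.2 fun x hx => ?_
    have h2 := congrArg Subtype.val (DFunLike.congr_fun h1 ⟨x, hx⟩)
    rw [MulAut.conjNormal_apply, MulAut.one_apply] at h2
    calc x * g = (g * x * g⁻¹) * g := by rw [h2]
      _ = g * x := by group
  have hA : Nat.card (MulAut (Cfsg.PSp 2 F)) = 2 * Nat.card (Cfsg.PSp 2 F) := by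
    rw [Cfsg.Agent.S0814.result 3 1 le_rfl (by simpa using hF) 2 le_rfl fun _ => by norm_num]
    norm_num
  have hG : Nat.card G = Nat.card (MulAut (Cfsg.PSp 2 F)) := by
    rw [hA, ← Subgroup.index_mul_card G₁, hidx, Nat.card_congr e.toEquiv]
  exact ⟨MulEquiv.ofBijective Φ ((Nat.bijective_iff_injective_and_card Φ).2 ⟨hinj, hG⟩)⟩

namespace Base

variable {G : Type u} [Group G] [Finite G]

/-- In the local situation the centraliser of such a subgroup is trivial. -/
theorem aut_of_index_two (B : Base G) (G₁ : Subgroup G) (hidx : G₁.index = 2) (F : Type v) [Field F]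
    [Fintype F] (hF : Fintype.card F = 3) (e : ↥G₁ ≃* Cfsg.PSp 2 F) :
    Nonempty (G ≃* MulAut (Cfsg.PSp 2 F)) := by
  haveI : G₁.Normal := Subgroup.normal_of_index_eq_two hidx
  refine aut_psp_of_index_two G₁ hidx ?_ F hF e
  set K := Subgroup.centralizer (G₁ : Set G) with hK
  have hKG : K ⊓ G₁ = ⊥ := by
    refine (Subgroup.eq_bot_iff_forall _).2 fun x hx => ?_
    have h1 : e ⟨x, hx.2⟩ = 1 := by
      refine CfsgLib.KnownC.conjHom_psp_injective (m := 2) le_rfl ?_
      rw [map_one]
      refine MulEquiv.ext fun y => ?_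
      rw [MulAut.conj_apply, MulAut.one_apply, mul_inv_eq_iff_eq_mul]
      have h2 : (⟨x, hx.2⟩ : ↥G₁) * e.symm y = e.symm y * ⟨x, hx.2⟩ := Subtype.ext
        (Subgroup.mem_centralizer_iff.1 hx.1 _ (e.symm y).2).symm
      simpa using congrArg e h2
    exact congrArg Subtype.val (e.map_eq_one_iff.1 h1)
  refine B.sig K ?_ (by rw [Subgroup.normalizer_eq_top]; exact le_top)
  have h2 : Nat.card ↥K ∣ 2 := by
    have hker : ((QuotientGroup.mk' G₁).comp K.subtype).ker = ⊥ := by
      refine (Subgroup.eq_bot_iff_forall _).2 fun x hx => Subtype.ext ?_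
      rw [MonoidHom.mem_ker] at hx
      exact (Subgroup.eq_bot_iff_forall _).1 hKG x ⟨x.2, (QuotientGroup.eq_one_iff _).1 hx⟩
    rw [← hidx]
    exact Subgroup.card_dvd_of_injective _ ((MonoidHom.ker_eq_bot_iff _).1 hker)
  exact Nat.Coprime.coprime_dvd_left h2 (by norm_num)

end Base

end CfsgLib.Recog.SpSixThree
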