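import Cfsg.Agent.Lib.Recog.SpSixThree.SmallComm

/-!
# The Sylow 2-subgroup `S = W⟨r₀r₁, r₂⟩` and its involutions
-/

set_option autoImplicit false
set_option Elab.async false
set_option linter.unusedSectionVars false

namespace CfsgLib.Recog.SpSixThree

open Subgroup

theorem sl_anti : ∀ x : SLT, x * x = -1 → ∃ y : SLT,
    y * y * (y * y) = 1 ∧ y * x * y⁻¹ = x * -1 := by decide +kernel

theorem sl_three_classes : ∀ x y q : SLT, x * x = -1 → y * y = -1 → x * y * (x * y) = -1 →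
    q * q * (q * q) = 1 → q = 1 ∨ q = -1 ∨ q = x ∨ q = -1 * x ∨ q = y ∨ q = -1 * y ∨ q = x * y ∨
      q = -1 * (x * y) := by decide +kernel

theorem sl_anti_prod : ∀ x y : SLT, x * x = -1 → y * y * (y * y) = 1 → y * x * y⁻¹ = x * -1 →
    x * y * (x * y) = -1 ∧ y * y = -1 ∧ x ≠ y ∧ x ≠ -1 * y ∧ x ≠ x * y ∧ x ≠ -1 * (x * y) ∧
      y ≠ x * y ∧ y ≠ -1 * (x * y) := by decide +kernel

/-- The extension of a subgroup by an involution normalising it. -/
def adj {G : Type*} [Group G] (K : Subgroup G) (σ : G) (h2 : σ * σ = 1)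
    (hn : ∀ k ∈ K, σ * k * σ ∈ K) : Subgroup G where
  carrier := {g | g ∈ K ∨ g * σ ∈ K}
  one_mem' := Or.inl K.one_mem
  mul_mem' := by
    have hc : ∀ k ∈ K, ∀ x, x * σ ∈ K → σ * k * σ ∈ K := fun k hk _ _ => hn k hk
    rintro g h (hg | hg) (hh | hh)
    · exact Or.inl (K.mul_mem hg hh)
    · exact Or.inr (by rw [mul_assoc]; exact K.mul_mem hg hh)
    · refine Or.inr ?_
      have := K.mul_mem hg (hc h hh g hg)
      rwa [show g * σ * (σ * h * σ) = g * (σ * σ) * h * σ by group, h2, mul_one] at this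
    · refine Or.inl ?_
      have := K.mul_mem hg (hn _ hh)
      rwa [show g * σ * (σ * (h * σ) * σ) = g * (σ * σ) * h * (σ * σ) by group, h2, mul_one, mul_one] at this
  inv_mem' := by
    rintro g (hg | hg)
    · exact Or.inl (K.inv_mem hg)
    · refine Or.inr ?_
      have := hn _ (K.inv_mem hg)
      rwa [mul_inv_rev, ← mul_assoc σ σ⁻¹, mul_inv_cancel, one_mul] at this

theorem mem_adj {G : Type*} [Group G] {K : Subgroup G} {σ : G} {h2 : σ * σ = 1}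
    {hn : ∀ k ∈ K, σ * k * σ ∈ K} {g : G} : g ∈ adj K σ h2 hn ↔ g ∈ K ∨ g * σ ∈ K := Iff.rfl

theorem le_adj {G : Type*} [Group G] {K : Subgroup G} {σ : G} {h2 : σ * σ = 1}
    {hn : ∀ k ∈ K, σ * k * σ ∈ K} : K ≤ adj K σ h2 hn := fun _ h => Or.inl h

theorem self_mem_adj {G : Type*} [Group G] {K : Subgroup G} {σ : G} {h2 : σ * σ = 1}
    {hn : ∀ k ∈ K, σ * k * σ ∈ K} : σ ∈ adj K σ h2 hn := Or.inr (h2.symm ▸ K.one_mem)

theorem relIndex_adj {G : Type*} [Group G] {K : Subgroup G} {σ : G} {h2 : σ * σ = 1}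
    {hn : ∀ k ∈ K, σ * k * σ ∈ K} (hσ : σ ∉ K) : K.relIndex (adj K σ h2 hn) = 2 := by
  rw [relIndex, index_eq_two_iff]
  refine ⟨⟨σ, self_mem_adj⟩, fun b => ?_⟩
  rcases b.2 with hb | hb
  · refine Or.inr ⟨mem_subgroupOf.2 hb, fun h => hσ ?_⟩
    have := K.mul_mem (K.inv_mem hb) (mem_subgroupOf.1 h)
    rwa [Subgroup.coe_mul, inv_mul_cancel_left] at this
  · refine Or.inl ⟨mem_subgroupOf.2 hb, fun h => hσ ?_⟩
    have := K.mul_mem (K.inv_mem (mem_subgroupOf.1 h)) hb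
    rwa [inv_mul_cancel_left] at this

theorem card_adj {G : Type*} [Group G] {K : Subgroup G} {σ : G} {h2 : σ * σ = 1}
    {hn : ∀ k ∈ K, σ * k * σ ∈ K} (hσ : σ ∉ K) : Nat.card (adj K σ h2 hn) = 2 * Nat.card K := by
  have h := (K.subgroupOf (adj K σ h2 hn)).card_mul_index
  rw [Nat.card_congr (subgroupOfEquivOfLe le_adj).toEquiv,
    show (K.subgroupOf (adj K σ h2 hn)).index = 2 from relIndex_adj hσ] at h
  omega

namespace FullFrame

variable {G : Type*} [Group G] [Finite G] {B : Base G} (F : FullFrame B) (hS : F.Small)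

theorem Qa_le_W : F.Qa ≤ F.W := le_sup_left

theorem Qb_le_W : F.Qb ≤ F.W := le_sup_right

theorem z_W : F.z0 ∈ F.W := F.Qa_le_W F.z_Qa

theorem W_comm_z {w : G} (hw : w ∈ F.W) : w * F.z0 = F.z0 * w := by
  have h : F.W ≤ centralizer ({F.z0} : Set G) :=
    sup_le (fun q hq => mem_centralizer_singleton_iff.2 (F.Qa_spec.comm hq))
      (fun q hq => mem_centralizer_singleton_iff.2 (F.Qb_comm_z hq))
  exact mem_centralizer_singleton_iff.1 (h hw)

include hS in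
theorem card_W : Nat.card F.W = 32 := by
  let ψ : F.Qa × F.Qb →* G := MonoidHom.mk' (fun x => (x.1 : G) * x.2) fun x y => by
    show (x.1 : G) * y.1 * ((x.2 : G) * y.2) = (x.1 : G) * x.2 * ((y.1 : G) * y.2)
    rw [show (x.1 : G) * y.1 * ((x.2 : G) * y.2) = (x.1 : G) * ((y.1 : G) * x.2) * y.2 by group,
      F.Qa_Qb_comm hS y.1.2 x.2.2]
    group
  have hr : ψ.range = F.W := by
    ext g
    rw [F.mem_W hS]
    constructor
    · rintro ⟨x, rfl⟩
      exact ⟨_, x.1.2, _, x.2.2, rfl⟩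
    · rintro ⟨q, hq, p, hp, rfl⟩
      exact ⟨(⟨q, hq⟩, ⟨p, hp⟩), rfl⟩
  have hk : Nat.card ψ.ker = 2 := by
    rw [Nat.card_eq_two_iff' (1 : ψ.ker)]
    refine ⟨⟨(⟨F.z0, F.z_Qa⟩, ⟨F.z0, F.z_Qb⟩), F.z_sq⟩, fun h => F.z_ne ?_, fun y hy => ?_⟩
    · exact congrArg (fun x : ψ.ker => (((x : F.Qa × F.Qb).1 : F.Qa) : G)) h
    · obtain ⟨⟨⟨q, hq⟩, ⟨p, hp⟩⟩, he⟩ := y
      have he' : q * p = 1 := he
      have hqb : q ∈ F.Qb := eq_inv_of_mul_eq_one_left he' ▸ F.Qb.inv_mem hp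
      rcases F.inter hS hq hqb with rfl | rfl
      · rw [one_mul] at he'
        subst he'
        exact absurd rfl hy
      · obtain rfl : p = F.z0 := mul_left_cancel (he'.trans F.z_sq.symm)
        rfl
  have h := ψ.ker.card_eq_card_quotient_mul_card_subgroup
  rw [Nat.card_congr (QuotientGroup.quotientKerEquivRange ψ).toEquiv, hk, hr, Nat.card_prod,
    F.Qa_spec.card, show Nat.card F.Qb = 8 from
      (card_map_of_injective (MulAut.conj _).injective).trans F.Qa_spec.card] at h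
  omega

include hS in
theorem W_pgroup : IsPGroup 2 F.W := IsPGroup.of_card (n := 5) (by rw [F.card_W hS]; norm_num)

include hS in
theorem W_swap {σ : G} (h2 : σ * σ = 1) (hab : ∀ q ∈ F.Qa, σ * q * σ ∈ F.Qb)
    (hba : ∀ q ∈ F.Qb, σ * q * σ ∈ F.Qa) {w : G} (hw : w ∈ F.W) : σ * w * σ ∈ F.W := by
  obtain ⟨q, hq, p, hp, rfl⟩ := (F.mem_W hS).1 hw
  rw [show σ * (q * p) * σ = σ * q * 1 * p * σ by group, ← h2,
    show σ * q * (σ * σ) * p * σ = σ * q * σ * (σ * p * σ) by group]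
  exact F.W.mul_mem (F.Qb_le_W (hab q hq)) (F.Qa_le_W (hba p hp))

include hS in
theorem s012_Qb {q : G} (hq : q ∈ F.Qb) : F.s012 * q * F.s012 ∈ F.Qb := by
  have := F.r2_Qa (F.s012_Qa (F.r2_Qb hq))
  rwa [show F.r 2 * (F.s012 * (F.r 2 * q * F.r 2) * F.s012) * F.r 2 =
    (F.r 2 * F.s012) * (F.r 2 * q * F.r 2) * (F.s012 * F.r 2) by group, ← F.s012_r2,
    show F.s012 * F.r 2 * (F.r 2 * q * F.r 2) * (F.s012 * F.r 2) =
      F.s012 * (F.r 2 * F.r 2) * q * (F.r 2 * (F.s012 * F.r 2)) by group, F.s012_r2,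
    ← mul_assoc (F.r 2) (F.r 2), F.r_sq, one_mul, mul_one] at this

include hS in
theorem W_s012 {w : G} (hw : w ∈ F.W) : F.s012 * w * F.s012 ∈ F.W := by
  obtain ⟨q, hq, p, hp, rfl⟩ := (F.mem_W hS).1 hw
  rw [show F.s012 * (q * p) * F.s012 = F.s012 * q * 1 * p * F.s012 by group, ← F.s012_sq,
    show F.s012 * q * (F.s012 * F.s012) * p * F.s012 =
      F.s012 * q * F.s012 * (F.s012 * p * F.s012) by group]
  exact F.W.mul_mem (F.Qa_le_W (F.s012_Qa hq)) (F.Qb_le_W (F.s012_Qb hS hp))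

include hS in
theorem W_norm_Qa {w q : G} (hw : w ∈ F.W) (hq : q ∈ F.Qa) : w * q * w⁻¹ ∈ F.Qa := by
  obtain ⟨x, hx, p, hp, rfl⟩ := (F.mem_W hS).1 hw
  rw [show x * p * q * (x * p)⁻¹ = x * (p * q) * p⁻¹ * x⁻¹ by group, ← F.Qa_Qb_comm hS hq hp,
    show x * (q * p) * p⁻¹ * x⁻¹ = x * q * x⁻¹ by group]
  exact F.Qa.mul_mem (F.Qa.mul_mem hx hq) (F.Qa.inv_mem hx)

theorem exists_root : ∃ q ∈ F.Qa, q * q = F.z0 := by
  obtain ⟨y, hy⟩ := sl_neg_sqrt
  obtain ⟨q, hq, rfl⟩ := F.Qa_spec.img y (by rw [hy]; exact sl_neg_sq)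
  exact ⟨q, hq, (F.Qa_of_slx (F.Qa.mul_mem hq hq)).2 (by
    rw [Base.slx_mul (F.Qa_spec.le_C hq) (F.Qa_spec.le_C hq), hy])⟩

include hS in
theorem swap_not_fix {σ : G} (hab : ∀ q ∈ F.Qa, σ * q * σ⁻¹ ∈ F.Qb) :
    ∃ q ∈ F.Qa, σ * q * σ⁻¹ ∉ F.Qa := by
  by_contra hc
  push Not at hc
  obtain ⟨q, hq, hq2⟩ := F.exists_root
  rcases F.inter hS (hc q hq) (hab q hq) with h | h
  · rw [conj_eq_one_iff] at h
    rw [h, mul_one] at hq2
    exact F.z_ne hq2.symm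
  · have h2 : σ * (q * q) * σ⁻¹ = 1 := by
      rw [show σ * (q * q) * σ⁻¹ = σ * q * σ⁻¹ * (σ * q * σ⁻¹) by group, h, F.z_sq]
    rw [conj_eq_one_iff, hq2] at h2
    exact F.z_ne h2

include hS in
theorem r2_not_W : F.r 2 ∉ F.W := fun h => by
  obtain ⟨q, hq, hn⟩ := F.swap_not_fix hS (σ := F.r 2) fun q hq => by
    rw [F.r_inv]; exact F.r2_Qa hq
  exact hn (F.W_norm_Qa hS h hq)

include hS in
theorem s01_not_W : F.s01 ∉ F.W := fun h => by
  obtain ⟨q, hq, hn⟩ := F.swap_not_fix hS (σ := F.s01) fun q hq => by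
    rw [inv_eq_of_mul_eq_one_right F.s01_sq]; exact F.s01_Qa hq
  exact hn (F.W_norm_Qa hS h hq)

include hS in
theorem s012_not_W : F.s012 ∉ F.W := fun h => by
  have h1 : B.a * F.s012 * B.a⁻¹ ∈ F.W := by
    obtain ⟨q, hq, p, hp, he⟩ := (F.mem_W hS).1 h
    rw [he, show B.a * (q * p) * B.a⁻¹ = B.a * q * B.a⁻¹ * (B.a * p * B.a⁻¹) by group,
      mul_inv_eq_iff_eq_mul.2 (F.Qa_spec.comm_a hq).symm]
    refine F.W.mul_mem (F.Qa_le_W hq) (F.Qb_le_W ?_)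
    have hai : F.r 2 * B.a⁻¹ * F.r 2 = F.b0⁻¹ := by
      rw [← F.r2_a, mul_inv_rev, mul_inv_rev, F.r_inv, ← mul_assoc]
    rw [F.mem_Qb, F.r2_conj_mul, F.r2_conj_mul, F.r2_a, hai]
    exact F.Qa_spec.conj_mem (B.J_le F.b_J) F.z_b.symm (F.r2_Qb hp)
  have hsa : B.a * F.s012 = F.s012 * B.a⁻¹ := by
    rw [← F.s012_a, show F.s012 * (F.s012 * B.a * F.s012) = F.s012 * F.s012 * B.a * F.s012 by group,
      F.s012_sq, one_mul]
  rw [hsa, mul_assoc] at h1
  have h2 := F.W.mul_mem (F.W.inv_mem h) h1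
  rw [inv_mul_cancel_left] at h2
  have h32 : (B.a⁻¹ * B.a⁻¹) ^ 2 ^ 5 = 1 := by
    refine orderOf_dvd_iff_pow_eq_one.1 ?_
    rw [show 2 ^ 5 = Nat.card F.W by rw [F.card_W hS]; norm_num]
    exact Subgroup.orderOf_dvd_natCard _ h2
  have h3 : B.a⁻¹ * B.a⁻¹ = 1 := Base.eq_one_of_pow_two_three h32 (by
    rw [← pow_two, ← pow_mul, show 2 * 3 = 3 * 2 from rfl, pow_mul, inv_pow, B.a_three, inv_one, one_pow])
  exact a_ne_inv ((inv_inv B.a).symm.trans (inv_eq_of_mul_eq_one_right h3))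

/-- The subgroup `W⟨r₀r₁⟩`. -/
noncomputable def T0 : Subgroup G :=
  adj F.W F.s01 F.s01_sq fun _ hw => F.W_swap hS F.s01_sq (fun _ => F.s01_Qa) (fun _ => F.s01_Qb) hw

theorem T0_norm {g : G} (hg : g ∈ F.T0 hS) : F.r 2 * g * F.r 2 ∈ F.T0 hS := by
  have hW : ∀ w ∈ F.W, F.r 2 * w * F.r 2 ∈ F.W :=
    fun w hw => F.W_swap hS (F.r_sq 2) (fun _ => F.r2_Qa) (fun _ => F.r2_Qb) hw
  rcases hg with hg | hg
  · exact Or.inl (hW g hg)
  · refine Or.inr ?_
    rw [mul_assoc, ← F.s01_r2, show F.r 2 * g * (F.s01 * F.r 2) = F.r 2 * (g * F.s01) * F.r 2 by group]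
    exact hW _ hg

/-- The Sylow 2-subgroup `W⟨r₀r₁, r₂⟩`. -/
noncomputable def S : Subgroup G := adj (F.T0 hS) (F.r 2) (F.r_sq 2) fun _ hg => F.T0_norm hS hg

theorem W_le_T0 : F.W ≤ F.T0 hS := le_adj

theorem W_le_S : F.W ≤ F.S hS := le_trans le_adj le_adj

theorem T0_le_S : F.T0 hS ≤ F.S hS := le_adj

theorem r2_S : F.r 2 ∈ F.S hS := self_mem_adj

theorem s01_S : F.s01 ∈ F.S hS := F.T0_le_S hS self_mem_adj

theorem r2_not_T0 : F.r 2 ∉ F.T0 hS := by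
  rintro (h | h)
  · exact F.r2_not_W hS h
  · rw [← F.s01_r2] at h
    exact F.s012_not_W hS h

theorem T0_index : (F.T0 hS).relIndex (F.S hS) = 2 := relIndex_adj (F.r2_not_T0 hS)

theorem card_S : Nat.card (F.S hS) = 128 := by
  rw [S, card_adj (F.r2_not_T0 hS), T0, card_adj (F.s01_not_W hS), F.card_W hS]

theorem S_cases {g : G} (hg : g ∈ F.S hS) :
    g ∈ F.W ∨ g * F.s01 ∈ F.W ∨ g * F.r 2 ∈ F.W ∨ g * F.s012 ∈ F.W := by
  rcases hg with (hg | hg) | (hg | hg)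
  · exact Or.inl hg
  · exact Or.inr (Or.inl hg)
  · exact Or.inr (Or.inr (Or.inl hg))
  · refine Or.inr (Or.inr (Or.inr ?_))
    show g * (F.s01 * F.r 2) ∈ F.W
    rwa [F.s01_r2, ← mul_assoc]

theorem S_comm_z {g : G} (hg : g ∈ F.S hS) : g * F.z0 = F.z0 * g := by
  have key : ∀ σ : G, σ * σ = 1 → F.z0 * σ = σ * F.z0 → g * σ ∈ F.W → g * F.z0 = F.z0 * g := by
    intro σ h2 hz h
    have := ((show Commute (g * σ) F.z0 from F.W_comm_z h).mul_left (show Commute F.z0 σ from hz).symm).eq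
    rwa [mul_assoc g σ σ, h2, mul_one] at this
  rcases F.S_cases hS hg with h | h | h | h
  · exact F.W_comm_z h
  · exact key _ F.s01_sq F.z_s01 h
  · exact key _ (F.r_sq 2) F.z_r2 h
  · exact key _ F.s012_sq F.z_s012 h

include hS in
theorem swap_sq {σ : G} (h2 : σ * σ = 1) (hab : ∀ q ∈ F.Qa, σ * q * σ ∈ F.Qb)
    (hba : ∀ q ∈ F.Qb, σ * q * σ ∈ F.Qa) {q p : G} (hq : q ∈ F.Qa) (hp : p ∈ F.Qb) :
    q * p * σ * (q * p * σ) = q * (σ * p * σ) * (σ * (σ * p * σ * q) * σ) := by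
  have e1 : q * p * σ * (q * p * σ) = q * (p * (σ * q * σ)) * (σ * p * σ) := by
    rw [show q * (p * (σ * q * σ)) * (σ * p * σ) = q * p * σ * q * (σ * σ) * p * σ by group, h2, mul_one]
    group
  have e2 : σ * (σ * p * σ * q) * σ = p * (σ * q * σ) := by
    rw [show σ * (σ * p * σ * q) * σ = (σ * σ) * p * (σ * q * σ) by group, h2, one_mul]
  rw [e1, e2, mul_assoc q, ← F.Qa_Qb_comm hS (hba p hp) (F.Qb.mul_mem hp (hab q hq)), ← mul_assoc]

include hS in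
theorem swap_root {σ : G} (h2 : σ * σ = 1) (hab : ∀ q ∈ F.Qa, σ * q * σ ∈ F.Qb)
    (hba : ∀ q ∈ F.Qb, σ * q * σ ∈ F.Qa) {q p c : G} (hq : q ∈ F.Qa) (hp : p ∈ F.Qb)
    (hσz : σ * F.z0 * σ = F.z0) (hc : c = 1 ∨ c = F.z0) (h : q * p * σ * (q * p * σ) = c) :
    ∃ u, (u = 1 ∨ u = F.z0) ∧ p = σ * (q⁻¹ * u) * σ ∧ c = 1 := by
  rw [F.swap_sq hS h2 hab hba hq hp] at h
  have hcb : c ∈ F.Qb := by
    rcases hc with rfl | rfl
    · exact F.Qb.one_mem
    · exact F.z_Qb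
  have hub : q * (σ * p * σ) ∈ F.Qb := by
    rw [eq_mul_inv_of_mul_eq h]
    exact F.Qb.mul_mem hcb (F.Qb.inv_mem (hab _ (F.Qa.mul_mem (hba p hp) hq)))
  obtain ⟨u, hu⟩ : ∃ u, u = q * (σ * p * σ) := ⟨_, rfl⟩
  have hu' : u = 1 ∨ u = F.z0 := hu ▸ F.inter hS (F.Qa.mul_mem hq (hba p hp)) hub
  have huq : q⁻¹ * u * q = u := by
    rcases hu' with rfl | rfl
    · group
    · rw [mul_assoc, ← F.Qa_spec.comm hq, inv_mul_cancel_left]
  have hpu : σ * p * σ = q⁻¹ * u := by rw [hu]; group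
  have hσu : σ * u * σ = u := by
    rcases hu' with rfl | rfl
    · rw [mul_one, h2]
    · exact hσz
  refine ⟨u, hu', ?_, ?_⟩
  · rw [← hpu, show σ * (σ * p * σ) * σ = (σ * σ) * p * (σ * σ) by group, h2, one_mul, mul_one]
  · rw [← hu, show σ * p * σ * q = u by rw [hpu, huq], hσu] at h
    rw [← h]
    rcases hu' with rfl | rfl
    · exact one_mul 1
    · exact F.z_sq

include hS in
theorem s012_no_root {q p : G} (hq : q ∈ F.Qa) (hp : p ∈ F.Qb)
    (h : q * p * F.s012 * (q * p * F.s012) = F.z0) : False := by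
  have hA := F.s012_Qa hq
  have hBm := F.s012_Qb hS hp
  have e1 : q * p * F.s012 * (q * p * F.s012) =
      q * (p * (F.s012 * q * F.s012)) * (F.s012 * p * F.s012) := by
    rw [show q * (p * (F.s012 * q * F.s012)) * (F.s012 * p * F.s012) =
      q * p * F.s012 * q * (F.s012 * F.s012) * p * F.s012 by group, F.s012_sq, mul_one]
    group
  rw [e1, ← F.Qa_Qb_comm hS hA hp] at h
  obtain ⟨u, hu⟩ : ∃ u, u = q * (F.s012 * q * F.s012) := ⟨_, rfl⟩
  obtain ⟨v, hv⟩ : ∃ v, v = p * (F.s012 * p * F.s012) := ⟨_, rfl⟩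
  have huv : u * v = F.z0 := by rw [← h, hu, hv]; group
  have huQ : u ∈ F.Qa := hu ▸ F.Qa.mul_mem hq hA
  have hvQ : v ∈ F.Qb := hv ▸ F.Qb.mul_mem hp hBm
  have hub : u ∈ F.Qb := by
    rw [eq_mul_inv_of_mul_eq huv]
    exact F.Qb.mul_mem F.z_Qb (F.Qb.inv_mem hvQ)
  have key : ∀ x ∈ F.Qa, x * (F.s012 * x * F.s012) = F.z0 → False := by
    intro x hx hxe
    have hy : x * F.s012 * B.a * (x * F.s012)⁻¹ = B.a⁻¹ := by
      rw [mul_inv_rev, inv_eq_of_mul_eq_one_right F.s012_sq,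
        show x * F.s012 * B.a * (F.s012 * x⁻¹) = x * (F.s012 * B.a * F.s012) * x⁻¹ by group, F.s012_a,
        ((show Commute x B.a from F.Qa_spec.comm_a hx).inv_right).eq, mul_inv_cancel_right]
    have hy2 : x * F.s012 * (x * F.s012) = F.z0 := by rw [← hxe]; group
    refine Base.four_not_inv hy ?_ ?_ ?_
    · rw [hy2]; exact F.z_C
    · rw [hy2, F.z_sq]
    · rw [hy2]; exact F.z_ne
  rcases F.inter hS huQ hub with hu1 | hu1
  · rw [hu1, one_mul] at huv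
    refine key _ (F.r2_Qb hp) ?_
    have := congrArg (fun x => F.r 2 * x * F.r 2) (hv.symm.trans huv)
    simp only [F.r2_z] at this
    rw [← this, F.r2_conj_mul]
    congr 1
    rw [show F.r 2 * (F.s012 * p * F.s012) * F.r 2 = (F.r 2 * F.s012) * p * (F.s012 * F.r 2) by group,
      F.s012_r2, show F.r 2 * F.s012 * p * (F.r 2 * F.s012) = F.r 2 * F.s012 * p * F.r 2 * F.s012 by group,
      ← F.s012_r2]
    group
  · exact key q hq (hu ▸ hu1)

include hS in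
theorem sq_z_W {g : G} (hg : g ∈ F.S hS) (h : g * g = F.z0) : g ∈ F.W := by
  have hswap : ∀ σ : G, σ * σ = 1 → (∀ q ∈ F.Qa, σ * q * σ ∈ F.Qb) → (∀ q ∈ F.Qb, σ * q * σ ∈ F.Qa) →
      F.z0 * σ = σ * F.z0 → g * σ ∈ F.W → False := by
    intro σ h2 hab hba hz hw
    obtain ⟨q, hq, p, hp, he⟩ := (F.mem_W hS).1 hw
    have hg' : g = q * p * σ := by rw [← he, mul_assoc, h2, mul_one]
    obtain ⟨_, -, -, hc⟩ := F.swap_root hS h2 hab hba hq hp (c := F.z0)
      (by rw [← hz, mul_assoc, h2, mul_one]) (Or.inr rfl) (hg' ▸ h)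
    exact F.z_ne hc
  rcases F.S_cases hS hg with h' | h' | h' | h'
  · exact h'
  · exact (hswap _ F.s01_sq (fun _ => F.s01_Qa) (fun _ => F.s01_Qb) F.z_s01 h').elim
  · exact (hswap _ (F.r_sq 2) (fun _ => F.r2_Qa) (fun _ => F.r2_Qb) F.z_r2 h').elim
  · obtain ⟨q, hq, p, hp, he⟩ := (F.mem_W hS).1 h'
    have hg' : g = q * p * F.s012 := by rw [← he, mul_assoc, F.s012_sq, mul_one]
    exact (F.s012_no_root hS hq hp (hg' ▸ h)).elim

theorem Qa_sq {q : G} (hq : q ∈ F.Qa) : (q = 1 ∨ q = F.z0) ∨ q * q = F.z0 := by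
  rcases F.Qa_invol (F.Qa.mul_mem hq hq) (F.Qa_spec.four hq) with h | h
  · exact Or.inl (F.Qa_invol hq h)
  · exact Or.inr h

theorem Qb_sq {p : G} (hp : p ∈ F.Qb) : (p = 1 ∨ p = F.z0) ∨ p * p = F.z0 := by
  have hb : p = F.r 2 * (F.r 2 * p * F.r 2) * F.r 2 := (F.r2_conj p).symm
  rcases F.Qa_sq (F.r2_Qb hp) with (h | h) | h
  · left; left; rw [hb, h, mul_one, F.r_sq]
  · left; right; rw [hb, h, F.r2_z]
  · right
    rw [← F.r2_conj_mul] at h
    rw [← F.r2_conj (p * p), h, F.r2_z]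

include hS in
theorem W_sq {x : G} (hx : x ∈ F.W) (h : x * x = F.z0) : x ∈ F.Qa ∨ x ∈ F.Qb := by
  obtain ⟨q, hq, p, hp, rfl⟩ := (F.mem_W hS).1 hx
  have hc : q * p * (q * p) = q * q * (p * p) := by
    rw [show q * p * (q * p) = q * (p * q) * p by group, ← F.Qa_Qb_comm hS hq hp]; group
  rcases F.Qa_sq hq with (h1 | h1) | h1
  · exact Or.inr (by rw [h1, one_mul]; exact hp)
  · exact Or.inr (by rw [h1]; exact F.Qb.mul_mem F.z_Qb hp)
  rcases F.Qb_sq hp with (h2 | h2) | h2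
  · exact Or.inl (by rw [h2, mul_one]; exact hq)
  · exact Or.inl (by rw [h2]; exact F.Qa.mul_mem hq F.z_Qa)
  rw [hc, h1, h2, F.z_sq] at h
  exact absurd h.symm F.z_ne

include hS in
theorem W_conj_of {g : G} (hgz : g * F.z0 = F.z0 * g)
    (h : ∀ x ∈ F.W, x * x = F.z0 → g * x * g⁻¹ ∈ F.W) {x : G} (hx : x ∈ F.W) : g * x * g⁻¹ ∈ F.W := by
  have hz1 : ∀ y, (y = 1 ∨ y = F.z0) → g * y * g⁻¹ ∈ F.W := by
    rintro y (rfl | rfl)
    · rw [mul_one, mul_inv_cancel]; exact F.W.one_mem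
    · rw [hgz, mul_inv_cancel_right]; exact F.z_W
  obtain ⟨q, hq, p, hp, rfl⟩ := (F.mem_W hS).1 hx
  rw [show g * (q * p) * g⁻¹ = g * q * g⁻¹ * (g * p * g⁻¹) by group]
  refine F.W.mul_mem ?_ ?_
  · exact (F.Qa_sq hq).elim (hz1 q) (h q (F.Qa_le_W hq))
  · exact (F.Qb_sq hp).elim (hz1 p) (h p (F.Qb_le_W hp))

include hS in
/-- A 2-element centralising `Q/⟨z⟩` lies in `W`. -/
theorem L_two {g : G} (hg : g ∈ F.L) {k : ℕ} (hk : g ^ 2 ^ k = 1) : g ∈ F.W := by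
  obtain ⟨N, hNL, hNc, hNmem, -⟩ := F.exists_compl
  have hN : N ≤ F.W := F.inv_le hS hNc (F.E_norm_compl hNL hNc hNmem F.a_E)
    (F.E_norm_compl hNL hNc hNmem F.b_E) (fun n hn => (hNL hn).1) (fun _ _ h => F.Qa_le_W h)
    (fun _ _ h => F.Qb_le_W h)
  exact hN (hNmem g hg (Nat.Coprime.of_dvd_left (orderOf_dvd_of_pow_eq_one hk)
    (Nat.Coprime.pow_left k (by norm_num))))

include hS in
/-- A 2-group in `C(z)` normalising `Q` lies in `W⟨r₀r₁r₂⟩`. -/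
theorem norm_Qa_le {U : Subgroup G} (hU : IsPGroup 2 U) (hUz : ∀ g ∈ U, g * F.z0 = F.z0 * g)
    (hUQ : ∀ g ∈ U, ∀ q ∈ F.Qa, g * q * g⁻¹ ∈ F.Qa) (hWU : F.W ≤ U) (hsU : F.s012 ∈ U) {g : G}
    (hg : g ∈ U) : g ∈ F.W ∨ g * F.s012 ∈ F.W := by
  classical
  haveI : Fact (Nat.Prime 2) := ⟨Nat.prime_two⟩
  obtain ⟨x0, hx0, hx0z⟩ := F.exists_root
  have hsx0 : B.slx x0 * B.slx x0 = -1 := by
    rw [← Base.slx_mul (F.Qa_spec.le_C hx0) (F.Qa_spec.le_C hx0), hx0z,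
      Base.slx_invol F.z_C F.z_sq F.z_ne]
  obtain ⟨y', hy'4, hy'x⟩ := sl_anti _ hsx0
  obtain ⟨x1, hx1, rfl⟩ := F.Qa_spec.img y' hy'4
  obtain ⟨hxy, hsx1, n01, n01', n02, n02', n12, n12'⟩ := sl_anti_prod _ _ hsx0 hy'4 hy'x
  let xs : Fin 3 → G := ![x0, x1, x0 * x1]
  have hxs : ∀ i, xs i ∈ F.Qa := by
    intro i; fin_cases i
    · exact hx0
    · exact hx1
    · exact F.Qa.mul_mem hx0 hx1
  have hsl : ∀ i, B.slx (xs i) = ![B.slx x0, B.slx x1, B.slx x0 * B.slx x1] i := by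
    intro i; fin_cases i
    · rfl
    · rfl
    · exact Base.slx_mul (F.Qa_spec.le_C hx0) (F.Qa_spec.le_C hx1)
  have hxs2 : ∀ i, B.slx (xs i) * B.slx (xs i) = -1 := by
    intro i; rw [hsl i]; fin_cases i
    · exact hsx0
    · exact hsx1
    · exact hxy
  have hne : ∀ i j, B.slx (xs i) = B.slx (xs j) ∨ B.slx (xs i) = -1 * B.slx (xs j) → i = j := by
    have hsym : ∀ u v : SLT, u = -1 * v → v = -1 * u := by
      intro u v h; rw [h, ← mul_assoc, sl_neg_sq, one_mul]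
    intro i j h
    rw [hsl i, hsl j] at h
    fin_cases i <;> fin_cases j
    all_goals first
      | rfl
      | (exfalso
         rcases h with h | h
         all_goals first
           | exact n01 h | exact n01 h.symm | exact n01' h | exact n01' (hsym _ _ h)
           | exact n02 h | exact n02 h.symm | exact n02' h | exact n02' (hsym _ _ h)
           | exact n12 h | exact n12 h.symm | exact n12' h | exact n12' (hsym _ _ h))
  have hcls : ∀ q ∈ F.Qa, q * q = F.z0 → ∃ i, q = xs i ∨ q = F.z0 * xs i := by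
    intro q hq hqz
    have hs : B.slx q * B.slx q = -1 := by
      rw [← Base.slx_mul (F.Qa_spec.le_C hq) (F.Qa_spec.le_C hq), hqz,
        Base.slx_invol F.z_C F.z_sq F.z_ne]
    have hinj : ∀ (x : G), x ∈ F.Qa → B.slx q = B.slx x → q = x := fun x hx h =>
      F.Qa_spec.inj _ hq _ hx h
    rcases sl_three_classes _ _ (B.slx q) hsx0 hsx1 hxy (F.Qa_spec.slx_four hq) with
      h | h | h | h | h | h | h | h
    · rw [h, one_mul] at hs
      exact absurd hs.symm sl_neg_ne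
    · rw [h, sl_neg_sq] at hs
      exact absurd hs.symm sl_neg_ne
    · exact ⟨0, Or.inl (hinj _ hx0 h)⟩
    · exact ⟨0, Or.inr (hinj _ (F.Qa.mul_mem F.z_Qa hx0) (h.trans (F.sl_mul_z hx0).symm))⟩
    · exact ⟨1, Or.inl (hinj _ hx1 h)⟩
    · exact ⟨1, Or.inr (hinj _ (F.Qa.mul_mem F.z_Qa hx1) (h.trans (F.sl_mul_z hx1).symm))⟩
    · exact ⟨2, Or.inl (hinj _ (hxs 2) (h.trans (hsl 2).symm))⟩
    · exact ⟨2, Or.inr (hinj _ (F.Qa.mul_mem F.z_Qa (hxs 2)) (by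
        rw [F.sl_mul_z (hxs 2), hsl 2]; exact h))⟩
  have hcl' : ∀ (u : U) (i : Fin 3), ∃ j, (u : G) * xs i * (u : G)⁻¹ = xs j ∨
      (u : G) * xs i * (u : G)⁻¹ = F.z0 * xs j := by
    intro u i
    refine hcls _ (hUQ u u.2 _ (hxs i)) ?_
    rw [show (u : G) * xs i * (u : G)⁻¹ * ((u : G) * xs i * (u : G)⁻¹) =
      (u : G) * (xs i * xs i) * (u : G)⁻¹ by group,
      show xs i * xs i = F.z0 from (F.Qa_of_slx (F.Qa.mul_mem (hxs i) (hxs i))).2 (by
        rw [Base.slx_mul (F.Qa_spec.le_C (hxs i)) (F.Qa_spec.le_C (hxs i)), hxs2 i]),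
      hUz u u.2, mul_inv_cancel_right]
  choose π hπ using hcl'
  have huniq : ∀ (x : G) i j, (x = xs i ∨ x = F.z0 * xs i) → (x = xs j ∨ x = F.z0 * xs j) → i = j := by
    intro x i j hi hj
    refine hne i j ?_
    rcases hi with hi | hi <;> rcases hj with hj | hj <;> rw [hi] at hj
    · exact Or.inl (by rw [hj])
    · exact Or.inr (by rw [hj, F.sl_mul_z (hxs j)])
    · refine Or.inr ?_
      rw [← hj, F.sl_mul_z (hxs i), ← mul_assoc, sl_neg_sq, one_mul]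
    · exact Or.inl (by rw [mul_left_cancel hj])
  have hπ1 : ∀ i, π 1 i = i := fun i =>
    huniq _ _ _ (hπ 1 i) (Or.inl (by rw [OneMemClass.coe_one]; group))
  have hπmul : ∀ u v i, π (u * v) i = π u (π v i) := by
    intro u v i
    refine huniq _ _ _ (hπ (u * v) i) ?_
    rw [Subgroup.coe_mul, show (u : G) * v * xs i * ((u : G) * v)⁻¹ =
      (u : G) * ((v : G) * xs i * (v : G)⁻¹) * (u : G)⁻¹ by group]
    rcases hπ v i with h | h <;> rw [h]
    · exact hπ u _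
    · rw [show (u : G) * (F.z0 * xs (π v i)) * (u : G)⁻¹ =
        (u : G) * F.z0 * (u : G)⁻¹ * ((u : G) * xs (π v i) * (u : G)⁻¹) by group, hUz u u.2,
        mul_inv_cancel_right]
      rcases hπ u (π v i) with h' | h' <;> rw [h']
      · exact Or.inr rfl
      · exact Or.inl (by rw [← mul_assoc, F.z_sq, one_mul])
  let φ : U →* Equiv.Perm (Fin 3) := MonoidHom.mk' (fun u =>
    ⟨π u, π u⁻¹, fun i => by rw [← hπmul, inv_mul_cancel, hπ1],
      fun i => by rw [← hπmul, mul_inv_cancel, hπ1]⟩) fun u v => Equiv.ext (hπmul u v)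
  have hker : φ.ker.map U.subtype ≤ F.W := by
    rintro _ ⟨u, hu, rfl⟩
    obtain ⟨k, hk⟩ := hU u
    refine F.L_two hS ?_ (k := k) (by simpa using congrArg Subtype.val hk)
    have hux : ∀ i, (u : G) * xs i * (u : G)⁻¹ = xs i ∨ (u : G) * xs i * (u : G)⁻¹ = xs i * F.z0 := by
      intro i
      have hi : π u i = i := Equiv.ext_iff.1 (show φ u = 1 from hu) i
      have := hπ u i
      rw [hi, ← F.Qa_spec.comm (hxs i)] at this
      exact this
    refine ⟨hUz u u.2, fun q hq => ?_⟩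
    rcases F.Qa_sq hq with h | h
    · refine Or.inl ?_
      rcases h with rfl | rfl
      · group
      · rw [U.coe_subtype, hUz u u.2, mul_inv_cancel_right]
    · obtain ⟨i, hi⟩ := hcls q hq h
      rcases hi with rfl | rfl
      · exact hux i
      · show (u : G) * (F.z0 * xs i) * (u : G)⁻¹ = F.z0 * xs i ∨
          (u : G) * (F.z0 * xs i) * (u : G)⁻¹ = F.z0 * xs i * F.z0
        rw [show (u : G) * (F.z0 * xs i) * (u : G)⁻¹ =
          (u : G) * F.z0 * (u : G)⁻¹ * ((u : G) * xs i * (u : G)⁻¹) by group, hUz u u.2,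
          mul_inv_cancel_right]
        rcases hux i with e | e <;> rw [e]
        · exact Or.inl rfl
        · exact Or.inr (mul_assoc _ _ _).symm
  have hcard : Nat.card U ≤ 64 := by
    have h := φ.ker.card_eq_card_quotient_mul_card_subgroup
    rw [Nat.card_congr (QuotientGroup.quotientKerEquivRange φ).toEquiv] at h
    have h6 : Nat.card φ.range ∣ 6 := by
      have := Subgroup.card_subgroup_dvd_card φ.range
      rwa [Nat.card_perm, Nat.card_fin] at this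
    obtain ⟨n, hn⟩ := IsPGroup.iff_card.1 (hU.of_surjective φ.rangeRestrict φ.rangeRestrict_surjective)
    have h2 : Nat.card φ.range ≤ 2 := by
      rw [hn] at h6 ⊢
      by_contra hc
      have h4 : 2 ≤ n := by
        by_contra hn2
        interval_cases n <;> simp at hc
      have := (pow_dvd_pow 2 h4).trans h6
      norm_num at this
    have h32 : Nat.card φ.ker ≤ 32 := by
      rw [← card_map_of_injective (K := φ.ker) U.subtype_injective, ← F.card_W hS]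
      exact Subgroup.card_le_of_le hker
    calc Nat.card U = Nat.card φ.range * Nat.card φ.ker := h
      _ ≤ 2 * 32 := Nat.mul_le_mul h2 h32
  obtain ⟨T1, hT1⟩ : ∃ T1, T1 = adj F.W F.s012 F.s012_sq fun _ hw => F.W_s012 hS hw := ⟨_, rfl⟩
  have hle : T1 ≤ U := by
    rw [hT1]
    rintro x (hx | hx)
    · exact hWU hx
    · have := U.mul_mem (hWU hx) hsU
      rwa [mul_assoc, F.s012_sq, mul_one] at this
  have h := (eq_of_le_of_card_ge hle (by
    rw [hT1, card_adj (F.s012_not_W hS), F.card_W hS]; exact hcard)).ge hg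
  exact hT1.le h

include hS in
theorem S_center {c : G} (hc : c ∈ F.S hS) (hcW : ∀ x ∈ F.W, c * x = x * c) : c = 1 ∨ c = F.z0 := by
  obtain ⟨k, hk⟩ : ∃ k, c ^ 2 ^ k = 1 := by
    obtain ⟨k, hk⟩ := (IsPGroup.of_card (n := 7) (p := 2) (by rw [F.card_S hS]; norm_num) :
      IsPGroup 2 (F.S hS)) ⟨c, hc⟩
    exact ⟨k, by simpa using congrArg Subtype.val hk⟩
  have hcL : c ∈ F.L := ⟨F.S_comm_z hS hc, fun q hq =>
    Or.inl (mul_inv_eq_iff_eq_mul.2 (hcW q (F.Qa_le_W hq)))⟩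
  have hcw := F.L_two hS hcL hk
  obtain ⟨q, hq, p, hp, rfl⟩ := (F.mem_W hS).1 hcw
  have hcent : ∀ x ∈ F.Qa, x * q = q * x := by
    intro x hx
    have h := hcW x (F.Qa_le_W hx)
    rw [mul_assoc, ← F.Qa_Qb_comm hS hx hp, ← mul_assoc, ← mul_assoc] at h
    exact (mul_right_cancel h).symm
  have hq1 : q = 1 ∨ q = F.z0 := by
    refine F.Qa_invol hq (F.Qa_spec.inj _ (F.Qa.mul_mem hq hq) _ F.Qa.one_mem ?_)
    rw [Base.slx_mul (F.Qa_spec.le_C hq) (F.Qa_spec.le_C hq), Base.slx_one]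
    refine sl_cent_four _ fun y hy => ?_
    obtain ⟨x, hx, rfl⟩ := F.Qa_spec.img y hy
    rw [← Base.slx_mul (F.Qa_spec.le_C hq) (F.Qa_spec.le_C hx),
      ← Base.slx_mul (F.Qa_spec.le_C hx) (F.Qa_spec.le_C hq), hcent x hx]
  have hp1 : p = 1 ∨ p = F.z0 := by
    have hqc : ∀ y : G, y * F.z0 = F.z0 * y → q * y = y * q := fun y hy => by
      rcases hq1 with rfl | rfl
      · group
      · exact hy.symm
    have hp' : ∀ y ∈ F.Qb, p * y = y * p := by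
      intro y hy
      have h := hcW y (F.Qb_le_W hy)
      rw [mul_assoc, ← mul_assoc y, ← hqc y (F.Qb_comm_z hy), mul_assoc] at h
      exact mul_left_cancel h
    have hp2 := F.r2_Qb hp
    have : F.r 2 * p * F.r 2 = 1 ∨ F.r 2 * p * F.r 2 = F.z0 := by
      refine F.Qa_invol hp2 (F.Qa_spec.inj _ (F.Qa.mul_mem hp2 hp2) _ F.Qa.one_mem ?_)
      rw [Base.slx_mul (F.Qa_spec.le_C hp2) (F.Qa_spec.le_C hp2), Base.slx_one]
      refine sl_cent_four _ fun y hy => ?_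
      obtain ⟨x, hx, rfl⟩ := F.Qa_spec.img y hy
      rw [← Base.slx_mul (F.Qa_spec.le_C hp2) (F.Qa_spec.le_C hx),
        ← Base.slx_mul (F.Qa_spec.le_C hx) (F.Qa_spec.le_C hp2), ← F.r2_conj x, ← F.r2_conj_mul,
        ← F.r2_conj_mul, hp' _ (F.r2_Qa hx)]
    rcases this with h | h
    · left; rw [← F.r2_conj p, h, mul_one, F.r_sq]
    · right; rw [← F.r2_conj p, h, F.r2_z]
  rcases hq1 with rfl | rfl <;> rcases hp1 with rfl | rfl
  · exact Or.inl (one_mul 1)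
  · exact Or.inr (one_mul _)
  · exact Or.inr (mul_one _)
  · exact Or.inl F.z_sq

/-- `S` is a Sylow 2-subgroup of `G`. -/
theorem exists_sylow_S : ∃ P : Sylow 2 G, (P : Subgroup G) = F.S hS := by
  classical
  haveI : Fact (Nat.Prime 2) := ⟨Nat.prime_two⟩
  obtain ⟨P, hP⟩ := (IsPGroup.of_card (n := 7) (p := 2) (by rw [F.card_S hS]; norm_num) :
    IsPGroup 2 (F.S hS)).exists_le_sylow
  refine ⟨P, (le_antisymm hP ?_).symm⟩
  by_contra hcon
  haveI := P.isPGroup'.isNilpotent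
  have hlt : (F.S hS).subgroupOf (P : Subgroup G) < ⊤ :=
    lt_top_iff_ne_top.2 fun h => hcon (subgroupOf_eq_top.1 h)
  obtain ⟨g, hgn, hg⟩ := SetLike.exists_of_lt (Group.normalizerCondition_of_isNilpotent _ hlt)
  have hconj : ∀ x ∈ F.S hS, (g : G) * x * (g : G)⁻¹ ∈ F.S hS := fun x hx =>
    mem_subgroupOf.1 ((mem_normalizer_iff.1 hgn ⟨x, hP hx⟩).1 (mem_subgroupOf.2 hx))
  have hconj' : ∀ x ∈ F.S hS, (g : G)⁻¹ * x * g ∈ F.S hS := fun x hx =>
    mem_subgroupOf.1 ((mem_normalizer_iff''.1 hgn ⟨x, hP hx⟩).1 (mem_subgroupOf.2 hx))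
  have hgz : (g : G) * F.z0 = F.z0 * g := by
    rcases F.S_center hS (hconj _ (F.W_le_S hS F.z_W)) (fun x hx => by
      have := F.S_comm_z hS (hconj' x (F.W_le_S hS hx))
      calc (g : G) * F.z0 * (g : G)⁻¹ * x = (g : G) * (F.z0 * ((g : G)⁻¹ * x * g)) * (g : G)⁻¹ := by group
        _ = _ := by rw [← this]; group) with h | h
    · exact absurd (conj_eq_one_iff.1 h) F.z_ne
    · exact mul_inv_eq_iff_eq_mul.1 h
  have hgW : ∀ x ∈ F.W, (g : G) * x * (g : G)⁻¹ ∈ F.W := fun x hx =>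
    F.W_conj_of hS hgz (fun y hy hyz => F.sq_z_W hS (hconj y (F.W_le_S hS hy)) (by
      rw [show (g : G) * y * (g : G)⁻¹ * ((g : G) * y * (g : G)⁻¹) = (g : G) * (y * y) * (g : G)⁻¹ by group,
        hyz, hgz, mul_inv_cancel_right])) hx
  obtain ⟨U, hU⟩ : ∃ U, U = (P : Subgroup G) ⊓ centralizer ({F.z0} : Set G) ⊓
      Subgroup.normalizer (F.Qa : Set G) := ⟨_, rfl⟩
  have hnQ : ∀ h : G, (∀ q ∈ F.Qa, h * q * h⁻¹ ∈ F.Qa) → h ∈ Subgroup.normalizer (F.Qa : Set G) :=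
    fun h hh => mem_normalizer_iff_map_conj_eq.2 (eq_of_le_of_card_ge
      (by rintro _ ⟨q, hq, rfl⟩; exact hh q hq) (card_map_of_injective (MulAut.conj h).injective).ge)
  have hUle : ∀ h ∈ U, h ∈ F.S hS := by
    intro h hh
    rcases F.norm_Qa_le hS (P.isPGroup'.to_le (hU.trans_le (inf_le_left.trans inf_le_left)))
      (fun x hx => mem_centralizer_singleton_iff.1 (hU.le hx).1.2)
      (fun x hx q hq => (mem_normalizer_iff.1 (hU.le hx).2 q).1 hq)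
      (fun w hw => hU.ge ⟨⟨hP (F.W_le_S hS hw), mem_centralizer_singleton_iff.2 (F.W_comm_z hw)⟩,
        hnQ w fun q hq => F.W_norm_Qa hS hw hq⟩)
      (hU.ge ⟨⟨hP ((F.S hS).mul_mem (F.s01_S hS) (F.r2_S hS)),
        mem_centralizer_singleton_iff.2 F.z_s012.symm⟩,
        hnQ _ fun q hq => by rw [inv_eq_of_mul_eq_one_right F.s012_sq]; exact F.s012_Qa hq⟩) hh with h' | h'
    · exact F.W_le_S hS h'
    · have := (F.S hS).mul_mem (F.W_le_S hS h') ((F.S hS).mul_mem (F.s01_S hS) (F.r2_S hS))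
      rwa [mul_assoc h, show F.s01 * F.r 2 = F.s012 from rfl, F.s012_sq, mul_one] at this
  have hside : (∀ q ∈ F.Qa, (g : G) * q * (g : G)⁻¹ ∈ F.Qa) ∨
      ∀ q ∈ F.Qa, (g : G) * q * (g : G)⁻¹ ∈ F.Qb := by
    by_contra hh
    push Not at hh
    obtain ⟨⟨q₁, hq₁, h1⟩, ⟨q₂, hq₂, h2⟩⟩ := hh
    have hcase : ∀ q ∈ F.Qa, (g : G) * q * (g : G)⁻¹ ∈ F.Qa ∨ (g : G) * q * (g : G)⁻¹ ∈ F.Qb := by
      intro q hq
      rcases F.Qa_sq hq with (h | h) | h
      · left; rw [h, mul_one, mul_inv_cancel]; exact F.Qa.one_mem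
      · left; rw [h, hgz, mul_inv_cancel_right]; exact F.z_Qa
      · refine F.W_sq hS (hgW q (F.Qa_le_W hq)) ?_
        rw [show (g : G) * q * (g : G)⁻¹ * ((g : G) * q * (g : G)⁻¹) = (g : G) * (q * q) * (g : G)⁻¹ by group,
          h, hgz, mul_inv_cancel_right]
    have h1' := (hcase q₁ hq₁).resolve_left h1
    have h2' := (hcase q₂ hq₂).resolve_right h2
    have he : (g : G) * (q₁ * q₂) * (g : G)⁻¹ = (g : G) * q₁ * (g : G)⁻¹ * ((g : G) * q₂ * (g : G)⁻¹) := by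
      group
    rcases hcase _ (F.Qa.mul_mem hq₁ hq₂) with h | h <;> rw [he] at h
    · exact h1 ((Subgroup.mul_mem_cancel_right F.Qa h2').1 h)
    · exact h2 ((Subgroup.mul_mem_cancel_left F.Qb h1').1 h)
  refine hg (mem_subgroupOf.2 ?_)
  rcases hside with h | h
  · exact hUle _ (hU.ge ⟨⟨g.2, mem_centralizer_singleton_iff.2 hgz⟩, hnQ _ h⟩)
  · have hg' : F.r 2 * (g : G) ∈ U := hU.ge ⟨⟨(P : Subgroup G).mul_mem (hP (F.r2_S hS)) g.2,
      mem_centralizer_singleton_iff.2 (((show Commute (F.r 2) F.z0 from F.z_r2.symm)).mul_left hgz).eq⟩,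
      hnQ _ fun q hq => by
        rw [mul_inv_rev, F.r_inv, show F.r 2 * (g : G) * q * ((g : G)⁻¹ * F.r 2) =
          F.r 2 * ((g : G) * q * (g : G)⁻¹) * F.r 2 by group]
        exact F.r2_Qb (h q hq)⟩
    have := (F.S hS).mul_mem (F.r2_S hS) (hUle _ hg')
    rwa [← mul_assoc, F.r_sq, one_mul] at this

end FullFrame

end CfsgLib.Recog.SpSixThree
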